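import Mathlib
import Cfsg.Agent.Lib.Helper48.CoprimeGen

/-!
# Fixed points of hyperplanes in coprime action (helper50)

If a noncyclic elementary abelian `p`-group `U` normalizes a nontrivial `p'`-subgroup `R`, then
some subgroup `Y` of index `p` in `U` has nontrivial centralizer in `R`.
-/

set_option autoImplicit false

namespace Cfsg.Agent.Helper50

open Subgroup

variable {G : Type*} [Group G]

/-- If `K` normalizes `H` then `|HK|` divides `|H| |K|`. -/
theorem card_sup_dvd_of_le_normalizer [Finite G] (H K : Subgroup G)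
    (hK : K ≤ normalizer (H : Set G)) :
    Nat.card ↥(H ⊔ K) ∣ Nat.card H * Nat.card K := by
  set N := normalizer (H : Set G) with hN
  have hHN : H ≤ N := le_normalizer
  have : (H.subgroupOf N).Normal := normal_in_normalizer
  have hKH : K ⊔ H ≤ N := sup_le hK hHN
  have h1 : (H.subgroupOf N).relIndex (K.subgroupOf N ⊔ H.subgroupOf N) =
      (H.subgroupOf N).relIndex (K.subgroupOf N) := Subgroup.relIndex_sup_right _ _
  rw [← Subgroup.subgroupOf_sup hK hHN, Subgroup.relIndex_subgroupOf hKH,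
    Subgroup.relIndex_subgroupOf hK] at h1
  have h2 : H.relIndex (K ⊔ H) * Nat.card H = Nat.card ↥(K ⊔ H) := by
    have := Subgroup.relIndex_mul_relIndex (⊥ : Subgroup G) H (K ⊔ H) bot_le le_sup_right
    rw [Subgroup.relIndex_bot_left, Subgroup.relIndex_bot_left] at this
    rw [mul_comm]; exact this
  have h3 : H.relIndex K ∣ Nat.card K := Subgroup.relIndex_dvd_card H K
  rw [sup_comm, ← h2, h1, mul_comm (Nat.card H)]
  exact Nat.mul_dvd_mul_right h3 _

/-- A subgroup of prime index is a coatom, relative form. -/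
theorem isCoatom_subgroupOf_of_card [Finite G] {p : ℕ} (hp : p.Prime) {Y U : Subgroup G}
    (hYU : Y ≤ U) (hcard : Nat.card Y * p = Nat.card U) : IsCoatom (Y.subgroupOf U) := by
  have hidx : (Y.subgroupOf U).index = p := by
    have h1 : Y.relIndex U * Nat.card Y = Nat.card U := by
      have := Subgroup.relIndex_mul_relIndex (⊥ : Subgroup G) Y U bot_le hYU
      rw [Subgroup.relIndex_bot_left, Subgroup.relIndex_bot_left] at this
      rw [mul_comm]; exact this
    have h2 : Y.relIndex U * Nat.card Y = p * Nat.card Y := by rw [h1, ← hcard, mul_comm]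
    exact Nat.eq_of_mul_eq_mul_right Nat.card_pos h2
  refine ⟨?_, fun L hL => ?_⟩
  · intro h
    rw [h, Subgroup.index_top] at hidx
    exact hp.one_lt.ne hidx
  · have h1 := Subgroup.relIndex_mul_index hL.le
    rw [hidx] at h1
    rcases (Nat.Prime.eq_one_or_self_of_dvd hp _ (Dvd.intro_left _ h1)) with h2 | h2
    · exact Subgroup.index_eq_one.mp h2
    · exfalso
      have h3 : (Y.subgroupOf U).relIndex L = 1 := by
        rw [h2] at h1
        exact Nat.eq_of_mul_eq_mul_right hp.pos (by rw [h1, one_mul])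
      have := Subgroup.relIndex_eq_one.mp h3
      exact absurd (le_antisymm hL.le this) (ne_of_lt hL)

/-- If `b ^ p = 1` and `p ∤ i` then `b` is a power of `b ^ i`. -/
theorem mem_zpowers_pow_of_not_dvd [Finite G] {p : ℕ} (hp : p.Prime) {b : G} (hb : b ^ p = 1)
    {i : ℕ} (hi : ¬ p ∣ i) : b ∈ zpowers (b ^ i) := by
  have hcop : (orderOf b).Coprime i :=
    Nat.Coprime.coprime_dvd_left (orderOf_dvd_of_pow_eq_one hb) ((Nat.Prime.coprime_iff_not_dvd hp).mpr hi)
  have hle : zpowers (b ^ i) ≤ zpowers b := zpowers_le.mpr (pow_mem (mem_zpowers b) i)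
  have : zpowers (b ^ i) = zpowers b := by
    apply Subgroup.eq_of_le_of_card_ge hle
    rw [Nat.card_zpowers, Nat.card_zpowers, hcop.orderOf_pow]
  rw [this]
  exact mem_zpowers b

/-- **Hyperplane fixed points, abelian case.** A noncyclic elementary abelian `p`-group `U`
normalizing a nontrivial abelian `p'`-subgroup `W` has a subgroup `Y` of index `p` with
`C_W(Y) ≠ 1`. -/
theorem exists_hyperplane_fixed_abelian [Finite G] {p : ℕ} [hp : Fact p.Prime] (U W : Subgroup G)
    (hUc : ∀ x ∈ U, ∀ y ∈ U, x * y = y * x) (hUp : ∀ x ∈ U, x ^ p = 1)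
    (hcard : p ^ 2 ≤ Nat.card U) (hUW : U ≤ normalizer (W : Set G))
    (hWc : ∀ x ∈ W, ∀ y ∈ W, x * y = y * x) (hW : (Nat.card W).Coprime p) (hW1 : W ≠ ⊥) :
    ∃ Y : Subgroup G, Y ≤ U ∧ Nat.card Y * p = Nat.card U ∧
      W ⊓ centralizer (Y : Set G) ≠ ⊥ := by
  have hp1 : 1 < p := hp.out.one_lt
  have hUpg : IsPGroup p U := by
    intro x
    refine ⟨1, ?_⟩
    apply Subtype.ext
    simpa using hUp x.1 x.2
  obtain ⟨k, hk⟩ := IsPGroup.iff_card.mp hUpg
  -- choose `Y` of maximal order among proper subgroups with nontrivial fixed points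
  let S : Set (Subgroup G) :=
    {Y | Y ≤ U ∧ Nat.card Y * p ≤ Nat.card U ∧ W ⊓ centralizer (Y : Set G) ≠ ⊥}
  have hSne : S.Nonempty := by
    refine ⟨⊥, bot_le, ?_, ?_⟩
    · rw [Subgroup.card_bot, one_mul]
      nlinarith
    · rw [Subgroup.coe_bot, Subgroup.centralizer_eq_top_iff_subset.mpr (by simp), inf_top_eq]
      exact hW1
  obtain ⟨Y, ⟨hYU, hYcard, hYfix⟩, hYmax⟩ :=
    Set.exists_max_image S (fun Y => Nat.card Y) (Set.toFinite S) hSne
  refine ⟨Y, hYU, ?_, hYfix⟩
  by_contra hne
  have hlt : Nat.card Y * p < Nat.card U := lt_of_le_of_ne hYcard hne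
  have hYpg : IsPGroup p Y := hUpg.to_le hYU
  obtain ⟨l, hl⟩ := IsPGroup.iff_card.mp hYpg
  have hpp : Nat.card Y * p * p ≤ Nat.card U := by
    have hlt' : p ^ (l + 1) < p ^ k := by
      rw [pow_succ, ← hl, ← hk]; exact hlt
    have h1 : l + 1 < k := (Nat.pow_lt_pow_iff_right hp1).mp hlt'
    have h2 : p ^ (l + 2) ≤ p ^ k := Nat.pow_le_pow_right hp.out.pos h1
    rw [hl, hk, ← pow_succ, ← pow_succ]
    exact h2
  -- adding an element outside `Y` kills all fixed points
  have hsup : ∀ c ∈ U, c ∉ Y → Nat.card ↥(Y ⊔ zpowers c) ≤ Nat.card Y * p := by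
    intro c hcU hcY
    have hc1 : c ≠ 1 := fun h => hcY (h ▸ Y.one_mem)
    have hco : orderOf c = p := orderOf_eq_prime (hUp c hcU) hc1
    have hnorm : zpowers c ≤ normalizer (Y : Set G) := by
      rw [zpowers_le]
      apply mem_normalizer_fintype
      intro y hy
      have : c * y * c⁻¹ = y := by
        rw [hUc c hcU y (hYU hy)]; group
      rw [this]; exact hy
    have h1 := card_sup_dvd_of_le_normalizer Y (zpowers c) hnorm
    rw [Nat.card_zpowers, hco] at h1
    exact Nat.le_of_dvd (Nat.mul_pos Nat.card_pos hp.out.pos) h1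
  have hkey : ∀ c ∈ U, c ∉ Y → ∀ v ∈ W ⊓ centralizer (Y : Set G), c * v = v * c → v = 1 := by
    intro c hcU hcY v hv hcv
    have hY'U : Y ⊔ zpowers c ≤ U := sup_le hYU (zpowers_le.mpr hcU)
    have hY'card : Nat.card ↥(Y ⊔ zpowers c) * p ≤ Nat.card U :=
      le_trans (Nat.mul_le_mul_right p (hsup c hcU hcY)) hpp
    have hY'lt : Nat.card Y < Nat.card ↥(Y ⊔ zpowers c) := by
      apply Helper48.card_lt_of_le_of_ne le_sup_left
      intro h
      apply hcY
      rw [h]
      exact le_sup_right (a := Y) (mem_zpowers c)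
    have hnot : Y ⊔ zpowers c ∉ S := fun h => absurd (hYmax _ h) (not_le.mpr hY'lt)
    have hbot : W ⊓ centralizer ((Y ⊔ zpowers c : Subgroup G) : Set G) = ⊥ := by
      by_contra h
      exact hnot ⟨hY'U, hY'card, h⟩
    have hvmem : v ∈ W ⊓ centralizer ((Y ⊔ zpowers c : Subgroup G) : Set G) := by
      refine ⟨hv.1, ?_⟩
      have hle : Y ⊔ zpowers c ≤ centralizer ({v} : Set G) := by
        apply sup_le
        · intro y hy
          rw [mem_centralizer_singleton_iff]
          exact hv.2 y hy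
        · rw [zpowers_le, mem_centralizer_singleton_iff]
          exact hcv
      intro g hg
      have := hle hg
      rw [mem_centralizer_singleton_iff] at this
      exact this
    rw [hbot] at hvmem
    exact Subgroup.mem_bot.mp hvmem
  -- two independent elements modulo `Y`
  have hYltU : Y < U := by
    refine lt_of_le_of_ne hYU ?_
    intro h
    rw [h] at hlt
    nlinarith [Nat.card_pos (α := U)]
  obtain ⟨b, hbU, hbY⟩ := SetLike.exists_of_lt hYltU
  have hYb : Y ⊔ zpowers b < U := by
    refine lt_of_le_of_ne (sup_le hYU (zpowers_le.mpr hbU)) ?_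
    intro h
    have h1 := hsup b hbU hbY
    rw [h] at h1
    omega
  obtain ⟨a, haU, haYb⟩ := SetLike.exists_of_lt hYb
  have habj : ∀ j : ℕ, a * b ^ j ∉ Y := by
    intro j hj
    apply haYb
    have h1 : a = (a * b ^ j) * (b ^ j)⁻¹ := by group
    rw [h1]
    exact Subgroup.mul_mem _ (le_sup_left (b := zpowers b) hj)
      (Subgroup.inv_mem _ (le_sup_right (a := Y) (pow_mem (mem_zpowers b) j)))
  have hbi : ∀ i : ℕ, 0 < i → i < p → b ^ i ∉ Y := by
    intro i hi hip hmem
    apply hbY
    have h1 : b ∈ zpowers (b ^ i) :=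
      mem_zpowers_pow_of_not_dvd hp.out (hUp b hbU) (Nat.not_dvd_of_pos_of_lt hi hip)
    exact (zpowers_le.mpr hmem) h1
  -- the action on `V = C_W(Y)`
  set V : Subgroup G := W ⊓ centralizer (Y : Set G) with hV
  have hUV : U ≤ normalizer (V : Set G) := by
    intro x hx
    apply Helper48.mem_normalizer_inf' (hUW hx)
    apply le_normalizer
    intro y hy
    exact (hUc x hx y (hYU hy)).symm
  have hVcomm : ∀ v w : V, v * w = w * v := by
    rintro ⟨v, hv⟩ ⟨w, hw⟩
    apply Subtype.ext
    exact hWc v hv.1 w hw.1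
  letI : CommGroup V := { (inferInstance : Group V) with mul_comm := hVcomm }
  have hVcop : (Nat.card V).Coprime p :=
    Nat.Coprime.coprime_dvd_left (Subgroup.card_dvd_of_le inf_le_left) hW
  let a' : normalizer (V : Set G) := ⟨a, hUV haU⟩
  let b' : normalizer (V : Set G) := ⟨b, hUV hbU⟩
  have hab' : Commute a' b' := Subtype.ext (hUc a haU b hbU)
  have hfix : ∀ (c : normalizer (V : Set G)) (v : V), c • v = v → (c : G) * (v : G) = (v : G) * (c : G) := by
    intro c v h
    have h1 : (c : G) * (v : G) * (c : G)⁻¹ = (v : G) := congrArg Subtype.val h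
    calc (c : G) * (v : G) = ((c : G) * (v : G) * (c : G)⁻¹) * (c : G) := by group
      _ = (v : G) * (c : G) := by rw [h1]
  have hall : ∀ v : V, v = 1 := by
    intro v
    refine Helper48.eq_one_of_fixedPointFree hVcop a' b' hab' ?_ ?_ ?_ ?_ v
    · intro w
      have : a' ^ p = 1 := Subtype.ext (by simpa using hUp a haU)
      rw [this, one_smul]
    · intro w
      have : b' ^ p = 1 := Subtype.ext (by simpa using hUp b hbU)
      rw [this, one_smul]
    · intro j w hw
      have h1 := hfix _ w hw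
      have h2 : ((a' * b' ^ j : normalizer (V : Set G)) : G) = a * b ^ j := by simp [a', b']
      rw [h2] at h1
      have := hkey (a * b ^ j) (U.mul_mem haU (U.pow_mem hbU j)) (habj j) w.1 w.2 h1
      exact Subtype.ext this
    · intro i hi hip w hw
      have h1 := hfix _ w hw
      have h2 : ((b' ^ i : normalizer (V : Set G)) : G) = b ^ i := by simp [b']
      rw [h2] at h1
      have := hkey (b ^ i) (U.pow_mem hbU i) (hbi i hi hip) w.1 w.2 h1
      exact Subtype.ext this
  apply hYfix
  rw [Subgroup.eq_bot_iff_forall]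
  intro x hx
  exact congrArg Subtype.val (hall ⟨x, hx⟩)

/-- **Hyperplane fixed points.** A noncyclic elementary abelian `p`-group `U` normalizing a
nontrivial `p'`-subgroup `R` has a subgroup `Y` of index `p` with `C_R(Y) ≠ 1`. -/
theorem exists_hyperplane_fixed [Finite G] {p : ℕ} [hp : Fact p.Prime] (U R : Subgroup G)
    (hUc : ∀ x ∈ U, ∀ y ∈ U, x * y = y * x) (hUp : ∀ x ∈ U, x ^ p = 1)
    (hcard : p ^ 2 ≤ Nat.card U) (hUR : U ≤ normalizer (R : Set G))
    (hR : (Nat.card R).Coprime p) (hR1 : R ≠ ⊥) :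
    ∃ Y : Subgroup G, Y ≤ U ∧ Nat.card Y * p = Nat.card U ∧
      R ⊓ centralizer (Y : Set G) ≠ ⊥ := by
  have hUpg : IsPGroup p U := by
    intro x
    refine ⟨1, ?_⟩
    apply Subtype.ext
    simpa using hUp x.1 x.2
  have hRcard : Nat.card R ≠ 1 := fun h => hR1 (Subgroup.card_eq_one.mp h)
  obtain ⟨q, hqp, hqdvd⟩ := Nat.exists_prime_and_dvd hRcard
  haveI := Fact.mk hqp
  obtain ⟨S, hS⟩ := Helper48.exists_sylow_normalized_by q U R hUpg hUR hR
  set S' : Subgroup G := (S : Subgroup R).map R.subtype with hS'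
  have hS'R : S' ≤ R := map_subtype_le _
  have hS'q : IsPGroup q S' := S.2.map _
  have hSne : (S : Subgroup R) ≠ ⊥ := Sylow.ne_bot_of_dvd_card S hqdvd
  have hS'ne : S' ≠ ⊥ := by
    intro h
    apply hSne
    rw [hS', Subgroup.map_eq_bot_iff_of_injective _ R.subtype_injective] at h
    exact h
  haveI : Nontrivial S' := (Subgroup.nontrivial_iff_ne_bot S').mpr hS'ne
  haveI : Nontrivial (Subgroup.center S') := hS'q.center_nontrivial
  obtain ⟨z, hz⟩ := exists_ne (1 : Subgroup.center S')
  set W : Subgroup G := S' ⊓ centralizer (S' : Set G) with hW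
  have hzW : ((z : S') : G) ∈ W := by
    refine ⟨(z : S').2, ?_⟩
    intro s hs
    have := (Subgroup.mem_center_iff.mp z.2) ⟨s, hs⟩
    exact congrArg Subtype.val this
  have hW1 : W ≠ ⊥ := by
    intro h
    rw [h, Subgroup.mem_bot] at hzW
    apply hz
    apply Subtype.ext
    apply Subtype.ext
    exact hzW
  have hWR : W ≤ R := inf_le_left.trans hS'R
  have hUW : U ≤ normalizer (W : Set G) := by
    intro x hx
    have hxS : x ∈ normalizer (S' : Set G) := hS x hx
    apply Helper48.mem_normalizer_inf' hxS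
    apply mem_normalizer_fintype
    intro c hc s hs
    -- `x c x⁻¹` commutes with `s`
    have hs' : x⁻¹ * s * x ∈ S' := by
      have := (mem_normalizer_iff.mp (Subgroup.inv_mem _ hxS) s).mp hs
      simpa using this
    have h1 := hc (x⁻¹ * s * x) hs'
    calc s * (x * c * x⁻¹) = x * ((x⁻¹ * s * x) * c) * x⁻¹ := by group
      _ = x * (c * (x⁻¹ * s * x)) * x⁻¹ := by rw [h1]
      _ = x * c * x⁻¹ * s := by group
  have hWc : ∀ x ∈ W, ∀ y ∈ W, x * y = y * x := fun x hx y hy => (hx.2 y hy.1).symm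
  have hWcop : (Nat.card W).Coprime p :=
    Nat.Coprime.coprime_dvd_left (Subgroup.card_dvd_of_le hWR) hR
  obtain ⟨Y, hYU, hYcard, hYfix⟩ :=
    exists_hyperplane_fixed_abelian U W hUc hUp hcard hUW hWc hWcop hW1
  refine ⟨Y, hYU, hYcard, ?_⟩
  intro h
  apply hYfix
  rw [eq_bot_iff, ← h]
  exact inf_le_inf_right _ hWR

end Cfsg.Agent.Helper50
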