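import Mathlib.GroupTheory.Sylow
import Mathlib.GroupTheory.Nilpotent
import Cfsg.Prelude.Def_SubgroupEmbedding

set_option autoImplicit false

namespace Cfsg.Agent.Helper50

variable {G : Type*} [Group G]

/-- In a finite `p`-group `T`, a subgroup `H ≤ T` with `N_T(H) ≤ H` is all of `T`. -/
theorem pgroup_le_of_normalizer_le [Finite G] {p : ℕ} [Fact p.Prime] {H T : Subgroup G}
    (hT : IsPGroup p T) (hHT : H ≤ T) (h : T ⊓ Subgroup.normalizer (H : Set G) ≤ H) : T ≤ H := by
  have : Group.IsNilpotent T := hT.isNilpotent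
  have hnc : NormalizerCondition T := Group.normalizerCondition_of_isNilpotent
  by_contra hne
  have hlt : H.subgroupOf T < ⊤ := by
    rw [lt_top_iff_ne_top]
    intro htop
    rw [Subgroup.subgroupOf_eq_top] at htop
    exact hne htop
  have h2 := hnc _ hlt
  obtain ⟨x, hx1, hx2⟩ := SetLike.exists_of_lt h2
  apply hx2
  rw [Subgroup.mem_subgroupOf]
  apply h
  refine ⟨x.2, ?_⟩
  show (x : G) ∈ Subgroup.normalizer (H : Set G)
  rw [Subgroup.mem_normalizer_iff]
  intro y
  rw [Subgroup.mem_normalizer_iff] at hx1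
  constructor
  · intro hy
    have := (hx1 ⟨y, hHT hy⟩).mp (by rw [Subgroup.mem_subgroupOf]; exact hy)
    rw [Subgroup.mem_subgroupOf] at this
    simpa using this
  · intro hy
    have hyT : y ∈ T := by
      have h1 : (x : G)⁻¹ * ((x : G) * y * (x : G)⁻¹) * (x : G) ∈ T :=
        T.mul_mem (T.mul_mem (T.inv_mem x.2) (hHT hy)) x.2
      have h2 : (x : G)⁻¹ * ((x : G) * y * (x : G)⁻¹) * (x : G) = y := by group
      rwa [h2] at h1
    have := (hx1 ⟨y, hyT⟩).mpr (by rw [Subgroup.mem_subgroupOf]; simpa using hy)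
    rw [Subgroup.mem_subgroupOf] at this
    exact this

theorem map_conj_le_iff_mem [Finite G] {H : Subgroup G} {g : G}
    (h : H.map (MulAut.conj g).toMonoidHom ≤ H) : g ∈ Subgroup.normalizer (H : Set G) := by
  rw [Subgroup.mem_normalizer_iff_map_conj_eq]
  have hcard : Nat.card (H.map (MulAut.conj g).toMonoidHom) = Nat.card H :=
    Subgroup.card_map_of_injective (MulAut.conj g).injective
  exact Subgroup.eq_of_le_of_card_ge h (le_of_eq hcard.symm)

/-- An extremely closed `p`-subgroup `H`: if a conjugate of `H` lies in a `p`-group containing `H`,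
the conjugating element normalizes `H`. -/
theorem extClosed_conj_mem [Finite G] {p : ℕ} [Fact p.Prime] {H Q : Subgroup G}
    (hcl : Cfsg.IsExtremelyClosed H) (hQ : IsPGroup p Q) (hHQ : H ≤ Q) {g : G}
    (hg : H.map (MulAut.conj g).toMonoidHom ≤ Q) : g ∈ Subgroup.normalizer (H : Set G) := by
  apply map_conj_le_iff_mem
  set T := H ⊔ H.map (MulAut.conj g).toMonoidHom with hTdef
  have hTQ : T ≤ Q := sup_le hHQ hg
  have hT : IsPGroup p T := hQ.to_le hTQ
  have h1 : T ≤ H := pgroup_le_of_normalizer_le hT le_sup_left (le_of_eq (hcl g))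
  exact le_sup_right.trans h1

end Cfsg.Agent.Helper50
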