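import Mathlib.GroupTheory.Sylow
import Mathlib.GroupTheory.Index
import Cfsg.Agent.Lib.Helper50.ExtClosed

set_option autoImplicit false
open scoped Pointwise

namespace Cfsg.Agent.Helper50

variable {G : Type*} [Group G] [Finite G]

omit [Finite G] in
theorem relIndex_mul_card_le' {K L : Subgroup G} (h : K ≤ L) :
    K.relIndex L * Nat.card K = Nat.card L := by
  have := Subgroup.relIndex_mul_relIndex (⊥ : Subgroup G) K L bot_le h
  rw [Subgroup.relIndex_bot_left, Subgroup.relIndex_bot_left] at this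
  rw [mul_comm]; exact this

/-- second isomorphism theorem, index form -/
theorem relIndex_sup_normal_eq (H N : Subgroup G) [N.Normal] :
    H.relIndex (H ⊔ N) = H.relIndex N := by
  have h1 : N.relIndex (H ⊔ N) = N.relIndex H := Subgroup.relIndex_sup_right H N
  have c1 : N.relIndex (H ⊔ N) * Nat.card N = Nat.card ↥(H ⊔ N) := relIndex_mul_card_le' le_sup_right
  have c2 : N.relIndex H * Nat.card ↥(H ⊓ N) = Nat.card H := by
    rw [← Subgroup.inf_relIndex_left]; exact relIndex_mul_card_le' inf_le_left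
  have c3 : H.relIndex (H ⊔ N) * Nat.card H = Nat.card ↥(H ⊔ N) := relIndex_mul_card_le' le_sup_left
  have c4 : H.relIndex N * Nat.card ↥(H ⊓ N) = Nat.card N := by
    rw [← Subgroup.inf_relIndex_right]; exact relIndex_mul_card_le' inf_le_right
  have hpos : 0 < Nat.card H * Nat.card ↥(H ⊓ N) := Nat.mul_pos Nat.card_pos Nat.card_pos
  have key : H.relIndex (H ⊔ N) * (Nat.card H * Nat.card ↥(H ⊓ N)) =
      H.relIndex N * (Nat.card H * Nat.card ↥(H ⊓ N)) := by
    calc H.relIndex (H ⊔ N) * (Nat.card H * Nat.card ↥(H ⊓ N))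
        = (H.relIndex (H ⊔ N) * Nat.card H) * Nat.card ↥(H ⊓ N) := by ring
      _ = Nat.card ↥(H ⊔ N) * Nat.card ↥(H ⊓ N) := by rw [c3]
      _ = N.relIndex (H ⊔ N) * Nat.card N * Nat.card ↥(H ⊓ N) := by rw [c1]
      _ = (N.relIndex H * Nat.card ↥(H ⊓ N)) * Nat.card N := by rw [h1]; ring
      _ = Nat.card H * Nat.card N := by rw [c2]
      _ = Nat.card H * (H.relIndex N * Nat.card ↥(H ⊓ N)) := by rw [c4]
      _ = H.relIndex N * (Nat.card H * Nat.card ↥(H ⊓ N)) := by ring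
  exact Nat.eq_of_mul_eq_mul_right hpos key

theorem relIndex_normal_dvd_index (H N : Subgroup G) [N.Normal] : H.relIndex N ∣ H.index := by
  rw [← relIndex_sup_normal_eq]
  exact Subgroup.relIndex_dvd_index_of_le le_sup_left

/-- Frattini argument, elementwise form: if `R₀` is a Sylow `p`-subgroup of `M` then every element
normalizing `M` is a product of an element of `M` and an element normalizing `R₀`. -/
theorem exists_mul_mem_normalizer_of_sylow {p : ℕ} [Fact p.Prime] {M R₀ : Subgroup G}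
    (hR₀M : R₀ ≤ M) (hp : IsPGroup p R₀) (hidx : ¬ p ∣ R₀.relIndex M) {g : G}
    (hg : g ∈ Subgroup.normalizer (M : Set G)) :
    ∃ m ∈ M, m⁻¹ * g ∈ Subgroup.normalizer (R₀ : Set G) := by
  have hp' : IsPGroup p (R₀.subgroupOf M) := hp.comap_subtype
  have hidx' : ¬ p ∣ (R₀.subgroupOf M).index := hidx
  set P₀ : Sylow p ↥M := hp'.toSylow hidx' with hP₀
  set R₁ := R₀.map (MulAut.conj g).toMonoidHom with hR₁
  have hR₁M : R₁ ≤ M := by
    rintro _ ⟨y, hy, rfl⟩
    exact (Subgroup.mem_normalizer_iff.mp hg y).mp (hR₀M hy)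
  have hR₁p : IsPGroup p R₁ := hp.map _
  have hR₁p' : IsPGroup p (R₁.subgroupOf M) := hR₁p.comap_subtype
  obtain ⟨Q, hQ⟩ := hR₁p'.exists_le_sylow
  obtain ⟨m, hm⟩ := MulAction.exists_smul_eq ↥M P₀ Q
  refine ⟨m, m.2, ?_⟩
  apply map_conj_le_iff_mem
  rintro _ ⟨y, hy, rfl⟩
  simp only [MulEquiv.coe_toMonoidHom, MulAut.conj_apply]
  have hy1 : g * y * g⁻¹ ∈ R₁ := ⟨y, hy, by simp [MulAut.conj_apply]⟩
  have hy2 : (⟨g * y * g⁻¹, hR₁M hy1⟩ : ↥M) ∈ (Q : Subgroup ↥M) := hQ hy1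
  rw [← hm, Sylow.coe_subgroup_smul, Subgroup.mem_pointwise_smul_iff_inv_smul_mem] at hy2
  have hy3 : (MulAut.conj m)⁻¹ • (⟨g * y * g⁻¹, hR₁M hy1⟩ : ↥M) ∈ R₀.subgroupOf M := by
    have := hy2
    rw [hP₀] at this
    exact (IsPGroup.mem_toSylow hp' hidx').mp this
  rw [Subgroup.mem_subgroupOf] at hy3
  have e : (((MulAut.conj m)⁻¹ • (⟨g * y * g⁻¹, hR₁M hy1⟩ : ↥M) : ↥M) : G) =
      (m : G)⁻¹ * g * y * ((m : G)⁻¹ * g)⁻¹ := by
    simp only [MulAut.smul_def, MulAut.conj_inv_apply, Subgroup.coe_mul, Subgroup.coe_inv]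
    group
  rwa [e] at hy3

end Cfsg.Agent.Helper50
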