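import Mathlib
import Cfsg.Agent.Lib.Helper50.SylowLemmas
import Cfsg.Agent.Lib.Helper50.Hyperplane
import Cfsg.Agent.Lib.Helper9.SubnormalJoin
import Cfsg.Agent.Lib.Helper62.MinNormal

/-!
# Sylow subgroups and subnormal subgroups (helper50)

* `not_dvd_relIndex_of_isSubnormal`: a Sylow subgroup meets a subnormal subgroup in a Sylow subgroup.
* `sup_inf_sylow_le`: `(A ⊔ B) ⊓ S ≤ (A ⊓ S) ⊔ (B ⊓ S)` for subnormal `A`, `B` (Wielandt).
-/

set_option autoImplicit false

namespace Cfsg.Agent.Helper50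

open Subgroup

section basics

variable {G : Type*} [Group G]

/-- product formula: if `K` normalizes `H` then `|HK| |H ∩ K| = |H| |K|`. -/
theorem card_sup_mul_card_inf_of_le_normalizer [Finite G] (H K : Subgroup G)
    (hK : K ≤ normalizer (H : Set G)) :
    Nat.card ↥(H ⊔ K) * Nat.card ↥(H ⊓ K) = Nat.card H * Nat.card K := by
  set N := normalizer (H : Set G) with hN
  have hHN : H ≤ N := le_normalizer
  have : (H.subgroupOf N).Normal := normal_in_normalizer
  have hKH : K ⊔ H ≤ N := sup_le hK hHN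
  have h1 : (H.subgroupOf N).relIndex (K.subgroupOf N ⊔ H.subgroupOf N) =
      (H.subgroupOf N).relIndex (K.subgroupOf N) := Subgroup.relIndex_sup_right _ _
  rw [← Subgroup.subgroupOf_sup hK hHN, Subgroup.relIndex_subgroupOf hKH,
    Subgroup.relIndex_subgroupOf hK] at h1
  have h2 : H.relIndex (K ⊔ H) * Nat.card H = Nat.card ↥(K ⊔ H) :=
    relIndex_mul_card_le' le_sup_right
  have h3 : H.relIndex K * Nat.card ↥(H ⊓ K) = Nat.card K := by
    rw [← Subgroup.inf_relIndex_right]; exact relIndex_mul_card_le' inf_le_right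
  rw [sup_comm, ← h2, ← h3, h1]; ring

/-- A Sylow `p`-subgroup of `G` meets every subnormal subgroup `A` in a Sylow `p`-subgroup of `A`
(index form). -/
theorem not_dvd_relIndex_of_isSubnormal [Finite G] {p : ℕ} [Fact p.Prime] (S : Sylow p G)
    {A : Subgroup G} (hA : A.IsSubnormal) : ¬ p ∣ (S : Subgroup G).relIndex A := by
  induction hA with
  | top =>
    rw [Subgroup.relIndex_top_right]
    exact S.not_dvd_index
  | step H K h_le hSubn hN ih =>
    intro hdvd
    apply ih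
    have h1 : ((S : Subgroup G).subgroupOf K).relIndex (H.subgroupOf K) ∣
        ((S : Subgroup G).subgroupOf K).index :=
      relIndex_normal_dvd_index _ _
    rw [Subgroup.relIndex_subgroupOf h_le] at h1
    exact hdvd.trans h1

/-- The order of `X ⊓ S` for subnormal `X` is the `p`-part of `|X|`. -/
theorem card_inf_sylow_of_isSubnormal [Finite G] {p : ℕ} [hp : Fact p.Prime] (S : Sylow p G)
    {X : Subgroup G} (hX : X.IsSubnormal) :
    Nat.card ↥(X ⊓ (S : Subgroup G)) = p ^ (Nat.card X).factorization p := by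
  have hQ : IsPGroup p ↥(X ⊓ (S : Subgroup G)) := S.isPGroup'.to_le inf_le_right
  obtain ⟨k, hk⟩ := IsPGroup.iff_card.mp hQ
  have h1 : ((S : Subgroup G) ⊓ X).relIndex X * Nat.card ↥((S : Subgroup G) ⊓ X) = Nat.card X :=
    relIndex_mul_card_le' inf_le_right
  rw [Subgroup.inf_relIndex_right, inf_comm, hk] at h1
  have hnd := not_dvd_relIndex_of_isSubnormal S hX
  have hne : (S : Subgroup G).relIndex X ≠ 0 := fun h => hnd (h ▸ dvd_zero p)
  have h2 : (Nat.card X).factorization p = k := by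
    rw [← h1, Nat.factorization_mul hne (pow_ne_zero k hp.out.ne_zero),
      Nat.Prime.factorization_pow hp.out]
    simp [Nat.factorization_eq_zero_of_not_dvd hnd]
  rw [hk, h2]

/-- **Normal case**: for `N` normal and `A` subnormal, `(A ⊔ N) ⊓ S = (A ⊓ S) ⊔ (N ⊓ S)`. -/
theorem sup_normal_inf_sylow_le [Finite G] {p : ℕ} [hp : Fact p.Prime] (S : Sylow p G)
    {A N : Subgroup G} (hA : A.IsSubnormal) [hN : N.Normal] :
    (A ⊔ N) ⊓ (S : Subgroup G) ≤ (A ⊓ (S : Subgroup G)) ⊔ (N ⊓ (S : Subgroup G)) := by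
  have hNs : N.IsSubnormal := hN.isSubnormal
  have hAN : (A ⊓ N).IsSubnormal := hA.inf hNs
  have hAN' : (A ⊔ N).IsSubnormal := Helper9.isSubnormal_sup A N hA hNs
  have c1 := card_inf_sylow_of_isSubnormal S hA
  have c2 := card_inf_sylow_of_isSubnormal S hNs
  have c3 := card_inf_sylow_of_isSubnormal S hAN
  have c4 := card_inf_sylow_of_isSubnormal S hAN'
  -- product formula in `G`
  have pf1 : Nat.card ↥(N ⊔ A) * Nat.card ↥(N ⊓ A) = Nat.card N * Nat.card A :=
    card_sup_mul_card_inf_of_le_normalizer N A (by rw [Subgroup.normalizer_eq_top]; exact le_top)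
  rw [sup_comm, inf_comm] at pf1
  have hv : (Nat.card ↥(A ⊔ N)).factorization p + (Nat.card ↥(A ⊓ N)).factorization p =
      (Nat.card N).factorization p + (Nat.card A).factorization p := by
    have := congrArg (fun n => n.factorization p) pf1
    rw [Nat.factorization_mul Nat.card_pos.ne' Nat.card_pos.ne',
      Nat.factorization_mul Nat.card_pos.ne' Nat.card_pos.ne'] at this
    simpa using this
  -- product formula in `S`
  have hnorm : A ⊓ (S : Subgroup G) ≤ normalizer ((N ⊓ (S : Subgroup G) : Subgroup G) : Set G) := by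
    intro x hx
    apply Helper48.mem_normalizer_inf'
    · rw [Subgroup.normalizer_eq_top]; exact Subgroup.mem_top x
    · exact le_normalizer hx.2
  have pf2 := card_sup_mul_card_inf_of_le_normalizer (N ⊓ (S : Subgroup G)) (A ⊓ (S : Subgroup G))
    hnorm
  have hinf : (N ⊓ (S : Subgroup G)) ⊓ (A ⊓ (S : Subgroup G)) = (A ⊓ N) ⊓ (S : Subgroup G) := by
    ext x
    simp only [Subgroup.mem_inf]
    tauto
  rw [hinf, c3, c2, c1, sup_comm] at pf2
  have hU : Nat.card ↥((A ⊓ (S : Subgroup G)) ⊔ (N ⊓ (S : Subgroup G))) =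
      p ^ (Nat.card ↥(A ⊔ N)).factorization p := by
    have h5 : Nat.card ↥((A ⊓ (S : Subgroup G)) ⊔ (N ⊓ (S : Subgroup G))) *
        p ^ (Nat.card ↥(A ⊓ N)).factorization p =
        p ^ (Nat.card ↥(A ⊔ N)).factorization p * p ^ (Nat.card ↥(A ⊓ N)).factorization p := by
      rw [pf2, ← pow_add, ← pow_add, hv]
    exact Nat.eq_of_mul_eq_mul_right (pow_pos hp.out.pos _) h5
  have hle : (A ⊓ (S : Subgroup G)) ⊔ (N ⊓ (S : Subgroup G)) ≤ (A ⊔ N) ⊓ (S : Subgroup G) :=
    sup_le (inf_le_inf_right _ le_sup_left) (inf_le_inf_right _ le_sup_right)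
  have heq := Subgroup.eq_of_le_of_card_ge hle (by rw [hU, c4])
  exact le_of_eq heq.symm

/-- The statement of the join theorem for a fixed group. -/
def JoinProp (p : ℕ) (H : Type*) [Group H] : Prop :=
  ∀ (S : Sylow p H) (A B : Subgroup H), A.IsSubnormal → B.IsSubnormal →
    (A ⊔ B) ⊓ (S : Subgroup H) ≤ (A ⊓ (S : Subgroup H)) ⊔ (B ⊓ (S : Subgroup H))

/-- Transport of the join property from a subnormal subgroup `J` to subgroups of `J`. -/
theorem joinProp_transport [Finite G] {p : ℕ} [Fact p.Prime] (S : Sylow p G) {J : Subgroup G}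
    (hJ : J.IsSubnormal) (hP : JoinProp p ↥J) {A B : Subgroup G} (hA : A.IsSubnormal)
    (hB : B.IsSubnormal) (hAJ : A ≤ J) (hBJ : B ≤ J) :
    (A ⊔ B) ⊓ (S : Subgroup G) ≤ (A ⊓ (S : Subgroup G)) ⊔ (B ⊓ (S : Subgroup G)) := by
  have hpg : IsPGroup p ((S : Subgroup G).subgroupOf J) := S.isPGroup'.comap_subtype
  have hidx : ¬ p ∣ ((S : Subgroup G).subgroupOf J).index := not_dvd_relIndex_of_isSubnormal S hJ
  set SJ : Sylow p ↥J := hpg.toSylow hidx with hSJ
  have hSJc : (SJ : Subgroup ↥J) = (S : Subgroup G).subgroupOf J := IsPGroup.toSylow_coe hpg hidx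
  have ih := hP SJ (A.subgroupOf J) (B.subgroupOf J) hA.subgroupOf hB.subgroupOf
  intro x hx
  have hxJ : x ∈ J := (sup_le hAJ hBJ) hx.1
  have hx' : (⟨x, hxJ⟩ : J) ∈ (A.subgroupOf J ⊔ B.subgroupOf J) ⊓ (SJ : Subgroup ↥J) := by
    have e1 : (⟨x, hxJ⟩ : J) ∈ (A ⊔ B).subgroupOf J := Subgroup.mem_subgroupOf.mpr hx.1
    rw [Subgroup.subgroupOf_sup hAJ hBJ] at e1
    have e2 : (⟨x, hxJ⟩ : J) ∈ (SJ : Subgroup ↥J) := by
      rw [hSJc]; exact Subgroup.mem_subgroupOf.mpr hx.2
    exact ⟨e1, e2⟩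
  have h1 := ih hx'
  have h2 : (J.subtype ⟨x, hxJ⟩) ∈ ((A.subgroupOf J ⊓ (SJ : Subgroup ↥J)) ⊔
      (B.subgroupOf J ⊓ (SJ : Subgroup ↥J))).map J.subtype := Subgroup.mem_map_of_mem _ h1
  rw [Subgroup.map_sup] at h2
  have h3 : ∀ C : Subgroup G, (C.subgroupOf J ⊓ (SJ : Subgroup ↥J)).map J.subtype ≤
      C ⊓ (S : Subgroup G) := by
    intro C
    rintro _ ⟨y, hy, rfl⟩
    refine ⟨Subgroup.mem_subgroupOf.mp hy.1, ?_⟩
    have e3 : y ∈ (SJ : Subgroup ↥J) := hy.2
    rw [hSJc] at e3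
    exact Subgroup.mem_subgroupOf.mp e3
  exact (sup_le_sup (h3 A) (h3 B)) h2

/-- Quotient step: if the join property holds in `G ⧸ N` and `A ⊔ B = ⊤`, then `S ≤ T N` with
`T = (A ⊓ S) ⊔ (B ⊓ S)`. -/
theorem le_sup_of_joinProp_quotient [Finite G] {p : ℕ} [Fact p.Prime] (S : Sylow p G)
    (N : Subgroup G) [N.Normal] (hP : JoinProp p (G ⧸ N)) {A B : Subgroup G}
    (hA : A.IsSubnormal) (hB : B.IsSubnormal) (hAB : A ⊔ B = ⊤) :
    (S : Subgroup G) ≤ ((A ⊓ (S : Subgroup G)) ⊔ (B ⊓ (S : Subgroup G))) ⊔ N := by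
  have hπ : Function.Surjective (QuotientGroup.mk' N) := QuotientGroup.mk'_surjective N
  set π := QuotientGroup.mk' N with hπdef
  have ih := hP (S.mapSurjective hπ) (A.map π) (B.map π) (hA.map hπ) (hB.map hπ)
  rw [Sylow.coe_mapSurjective, ← Subgroup.map_sup, hAB, Subgroup.map_top_of_surjective π hπ,
    top_inf_eq] at ih
  have key : ∀ C : Subgroup G, C.IsSubnormal →
      C.map π ⊓ (S : Subgroup G).map π ≤ (C ⊓ (S : Subgroup G)).map π := by
    intro C hC
    rintro _ ⟨⟨c, hc, rfl⟩, ⟨s, hs, hsc⟩⟩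
    have hker : c⁻¹ * s ∈ N := by
      rw [← QuotientGroup.ker_mk' N, MonoidHom.mem_ker, map_mul, map_inv, hsc, inv_mul_cancel]
    have hsCN : s ∈ (C ⊔ N) ⊓ (S : Subgroup G) := by
      refine ⟨?_, hs⟩
      have : s = c * (c⁻¹ * s) := by group
      rw [this]
      exact Subgroup.mul_mem _ (le_sup_left (b := N) hc) (le_sup_right (a := C) hker)
    have h1 := sup_normal_inf_sylow_le S hC (N := N) hsCN
    have h2 : π s ∈ ((C ⊓ (S : Subgroup G)) ⊔ (N ⊓ (S : Subgroup G))).map π :=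
      Subgroup.mem_map_of_mem _ h1
    rw [Subgroup.map_sup] at h2
    have h3 : (N ⊓ (S : Subgroup G)).map π = ⊥ := by
      rw [eq_bot_iff]
      rintro _ ⟨y, hy, rfl⟩
      rw [Subgroup.mem_bot]
      exact (QuotientGroup.eq_one_iff y).mpr hy.1
    rw [h3, sup_bot_eq] at h2
    rw [← hsc]
    exact h2
  have h4 : (S : Subgroup G).map π ≤
      ((A ⊓ (S : Subgroup G)) ⊔ (B ⊓ (S : Subgroup G))).map π := by
    rw [Subgroup.map_sup]
    exact ih.trans (sup_le_sup (key A hA) (key B hB))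
  have h5 := Subgroup.comap_mono (f := π) h4
  rw [Subgroup.comap_map_eq, Subgroup.comap_map_eq, QuotientGroup.ker_mk'] at h5
  exact le_sup_left.trans h5

/-- Transfer step: a central subgroup `N` of order `p` with a complement `T` in a Sylow
`p`-subgroup gives a normal subgroup of index `p`. -/
theorem exists_normal_index_of_central_split [Finite G] {p : ℕ} [hp : Fact p.Prime]
    (S : Sylow p G) (N T : Subgroup G) (hN : N ≤ center G) (hNp : Nat.card N = p)
    (hNS : N ≤ (S : Subgroup G)) (hTS : T ≤ (S : Subgroup G)) (hTN : T ⊓ N = ⊥)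
    (hS : (S : Subgroup G) ≤ T ⊔ N) : ∃ K : Subgroup G, K.Normal ∧ K.index = p := by
  classical
  set H : Subgroup G := (S : Subgroup G) with hH
  have hNnorm : N ≤ normalizer (T : Set G) := by
    intro z hz
    apply mem_normalizer_fintype
    intro t ht
    have hzc := Subgroup.mem_center_iff.mp (hN hz)
    have : z * t * z⁻¹ = t := by rw [← hzc t]; group
    rw [this]; exact ht
  have hnormT : H ≤ normalizer (T : Set G) := hS.trans (sup_le le_normalizer hNnorm)
  have hTn : (T.subgroupOf H).Normal := (Subgroup.normal_subgroupOf_iff_le_normalizer hTS).mpr hnormT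
  have hSeq : T ⊔ N = H := le_antisymm (sup_le hTS hNS) hS
  have hidx : (T.subgroupOf H).index = p := by
    have pf := card_sup_mul_card_inf_of_le_normalizer T N hNnorm
    rw [hTN, Subgroup.card_bot, mul_one, hSeq, hNp] at pf
    have h1 : T.relIndex H * Nat.card T = Nat.card H := relIndex_mul_card_le' hTS
    rw [pf, mul_comm] at h1
    exact Nat.eq_of_mul_eq_mul_left Nat.card_pos h1
  have hcardQ : Nat.card (H ⧸ T.subgroupOf H) = p := by
    rw [← Subgroup.index_eq_card]; exact hidx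
  have hcyc : IsCyclic (H ⧸ T.subgroupOf H) := isCyclic_of_prime_card hcardQ
  letI : CommGroup (H ⧸ T.subgroupOf H) := IsCyclic.commGroup
  let ϕ : H →* (H ⧸ T.subgroupOf H) := QuotientGroup.mk' (T.subgroupOf H)
  let τ : G →* (H ⧸ T.subgroupOf H) := MonoidHom.transfer ϕ
  -- a nontrivial element of `N`
  have hNne : N ≠ ⊥ := by
    intro h
    rw [h, Subgroup.card_bot] at hNp
    exact hp.out.one_lt.ne hNp
  obtain ⟨z', hz'⟩ := (Subgroup.ne_bot_iff_exists_ne_one).mp hNne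
  obtain ⟨z, hzN, hz1⟩ : ∃ z ∈ N, z ≠ 1 := ⟨z'.1, z'.2, fun h => hz' (Subtype.ext h)⟩
  have hzc := Subgroup.mem_center_iff.mp (hN hzN)
  have key : ∀ (k : ℕ) (g₀ : G), g₀⁻¹ * z ^ k * g₀ ∈ H → g₀⁻¹ * z ^ k * g₀ = z ^ k := by
    intro k g₀ _
    have hc : Commute g₀ (z ^ k) := (Commute.pow_right (hzc g₀) k)
    calc g₀⁻¹ * z ^ k * g₀ = g₀⁻¹ * (z ^ k * g₀) := by group
      _ = g₀⁻¹ * (g₀ * z ^ k) := by rw [hc.eq]
      _ = z ^ k := by group
  have hτz : τ z = ϕ ⟨z ^ H.index, MonoidHom.transfer_eq_pow_aux z key⟩ :=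
    MonoidHom.transfer_eq_pow ϕ z key
  have hzo : orderOf z = p := by
    have h1 : orderOf (⟨z, hzN⟩ : N) ∣ p := hNp ▸ orderOf_dvd_natCard _
    have h2 : orderOf (⟨z, hzN⟩ : N) = orderOf z := Subgroup.orderOf_mk z hzN
    rw [h2] at h1
    rcases (Nat.dvd_prime hp.out).mp h1 with h3 | h3
    · exact absurd (orderOf_eq_one_iff.mp h3) hz1
    · exact h3
  have hτz1 : τ z ≠ 1 := by
    rw [hτz]
    intro h1
    have h2 : (⟨z ^ H.index, MonoidHom.transfer_eq_pow_aux z key⟩ : H) ∈ T.subgroupOf H :=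
      (QuotientGroup.eq_one_iff _).mp h1
    rw [Subgroup.mem_subgroupOf] at h2
    have h3 : z ^ H.index ∈ T ⊓ N := ⟨h2, N.pow_mem hzN _⟩
    rw [hTN, Subgroup.mem_bot] at h3
    have h4 : p ∣ H.index := hzo ▸ orderOf_dvd_of_pow_eq_one h3
    exact S.not_dvd_index h4
  refine ⟨τ.ker, inferInstance, ?_⟩
  rw [Subgroup.index_ker]
  have h1 : Nat.card τ.range ∣ p := hcardQ ▸ Subgroup.card_subgroup_dvd_card τ.range
  rcases (Nat.dvd_prime hp.out).mp h1 with h2 | h2
  · exfalso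
    apply hτz1
    have h3 : τ.range = ⊥ := Subgroup.card_eq_one.mp h2
    have h4 : τ z ∈ τ.range := ⟨z, rfl⟩
    rw [h3, Subgroup.mem_bot] at h4
    exact h4
  · exact h2

/-- A property of subgroups holding for `⊥` and closed under binary joins holds for finite
indexed joins. -/
theorem iSup_induction_finite {ι : Type*} [Finite ι] (P : Subgroup G → Prop) (hbot : P ⊥)
    (hsup : ∀ X, P X → ∀ Y, P Y → P (X ⊔ Y)) (f : ι → Subgroup G) (hf : ∀ i, P (f i)) :
    P (⨆ i, f i) := by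
  classical
  letI := Fintype.ofFinite ι
  rw [← Finset.sup_univ_eq_iSup]
  exact Finset.sup_induction hbot hsup (fun i _ => hf i)

/-- Index-`p` step: if `G = ⟨A, B⟩` has a normal subgroup `K` of index `p` inside which the join
property holds, then `S = ⟨A ∩ S, B ∩ S⟩`. -/
theorem le_of_normal_index_p [Finite G] {p : ℕ} [hp : Fact p.Prime] (S : Sylow p G)
    {A B K : Subgroup G} (hA : A.IsSubnormal) (hB : B.IsSubnormal) (hAB : A ⊔ B = ⊤)
    [hKn : K.Normal] (hKidx : K.index = p)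
    (hPK : ∀ X Y : Subgroup G, X.IsSubnormal → Y.IsSubnormal → X ≤ K → Y ≤ K →
      (X ⊔ Y) ⊓ (S : Subgroup G) ≤ (X ⊓ (S : Subgroup G)) ⊔ (Y ⊓ (S : Subgroup G))) :
    (S : Subgroup G) ≤ (A ⊓ (S : Subgroup G)) ⊔ (B ⊓ (S : Subgroup G)) := by
  have hAT0 : A ⊓ (S : Subgroup G) ≤ (A ⊓ (S : Subgroup G)) ⊔ (B ⊓ (S : Subgroup G)) := le_sup_left
  have hBT0 : B ⊓ (S : Subgroup G) ≤ (A ⊓ (S : Subgroup G)) ⊔ (B ⊓ (S : Subgroup G)) := le_sup_right
  have hTS0 : (A ⊓ (S : Subgroup G)) ⊔ (B ⊓ (S : Subgroup G)) ≤ (S : Subgroup G) :=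
    sup_le inf_le_right inf_le_right
  revert hAT0 hBT0 hTS0
  generalize (A ⊓ (S : Subgroup G)) ⊔ (B ⊓ (S : Subgroup G)) = T
  intro hAT hBT hTS
  have hKs : K.IsSubnormal := hKn.isSubnormal
  -- Claim 1
  have claim1 : ∀ C : Subgroup G, C.IsSubnormal → C ≤ (C ⊓ K) ⊔ (C ⊓ (S : Subgroup G)) := by
    intro C hC
    rw [← Subgroup.relIndex_eq_one]
    set d := ((C ⊓ K) ⊔ (C ⊓ (S : Subgroup G))).relIndex C with hd
    have h1 : d ∣ (K ⊓ C).relIndex C := by
      rw [inf_comm]; exact Subgroup.relIndex_dvd_of_le_left C le_sup_left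
    rw [Subgroup.inf_relIndex_right] at h1
    have h2 : d ∣ p := by
      have := h1.trans (Subgroup.relIndex_dvd_index_of_normal K C)
      rwa [hKidx] at this
    have h3 : d ∣ ((S : Subgroup G) ⊓ C).relIndex C := by
      rw [inf_comm]; exact Subgroup.relIndex_dvd_of_le_left C le_sup_right
    rw [Subgroup.inf_relIndex_right] at h3
    rcases (Nat.dvd_prime hp.out).mp h2 with h4 | h4
    · exact h4
    · rw [h4] at h3
      exact absurd h3 (not_dvd_relIndex_of_isSubnormal S hC)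
  -- the family
  let f : T → Subgroup G := fun t =>
    (A ⊓ K).map (MulAut.conj (t : G)).toMonoidHom ⊔ (B ⊓ K).map (MulAut.conj (t : G)).toMonoidHom
  set K₀ : Subgroup G := ⨆ t : T, f t with hK₀
  -- Claim 2a
  let P : Subgroup G → Prop := fun X => X.IsSubnormal ∧ X ≤ K ∧ X ⊓ (S : Subgroup G) ≤ T
  have hPbot : P ⊥ := ⟨Subgroup.IsSubnormal.bot, bot_le, inf_le_left.trans bot_le⟩
  have hPsup : ∀ X, P X → ∀ Y, P Y → P (X ⊔ Y) := by
    rintro X ⟨hX1, hX2, hX3⟩ Y ⟨hY1, hY2, hY3⟩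
    exact ⟨Helper9.isSubnormal_sup X Y hX1 hY1, sup_le hX2 hY2,
      (hPK X Y hX1 hY1 hX2 hY2).trans (sup_le hX3 hY3)⟩
  have hPconj : ∀ C : Subgroup G, C.IsSubnormal → C ⊓ (S : Subgroup G) ≤ T → ∀ t : T,
      P ((C ⊓ K).map (MulAut.conj (t : G)).toMonoidHom) := by
    intro C hC hCT t
    refine ⟨(hC.inf hKs).map (MulAut.conj (t : G)).surjective, ?_, ?_⟩
    · rintro _ ⟨x, hx, rfl⟩
      exact hKn.conj_mem x hx.2 t
    · rintro y ⟨⟨x, hx, rfl⟩, hyS⟩
      have htS : (t : G) ∈ (S : Subgroup G) := hTS t.2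
      have hxS : x ∈ (S : Subgroup G) := by
        have h1 : (t : G)⁻¹ * ((MulAut.conj (t : G)).toMonoidHom x) * (t : G) ∈ (S : Subgroup G) :=
          Subgroup.mul_mem _ (Subgroup.mul_mem _ (Subgroup.inv_mem _ htS) hyS) htS
        have h2 : (t : G)⁻¹ * ((MulAut.conj (t : G)).toMonoidHom x) * (t : G) = x := by
          show (t : G)⁻¹ * ((t : G) * x * (t : G)⁻¹) * (t : G) = x
          group
        rwa [h2] at h1
      have hxT : x ∈ T := hCT ⟨hx.1, hxS⟩
      show (t : G) * x * (t : G)⁻¹ ∈ T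
      exact T.mul_mem (T.mul_mem t.2 hxT) (T.inv_mem t.2)
  have hPK₀ : P K₀ := by
    apply iSup_induction_finite P hPbot hPsup f
    intro t
    exact hPsup _ (hPconj A hA hAT t) _ (hPconj B hB hBT t)
  have hK₀S : K₀ ⊓ (S : Subgroup G) ≤ T := hPK₀.2.2
  -- Claim 2b: `T` normalizes `K₀`
  have hTnorm : T ≤ normalizer (K₀ : Set G) := by
    intro s hs
    apply map_conj_le_iff_mem
    rw [hK₀, Subgroup.map_iSup]
    apply iSup_le
    intro t
    have h1 : (f t).map (MulAut.conj s).toMonoidHom = f ⟨s * t, T.mul_mem hs t.2⟩ := by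
      simp only [f, Subgroup.map_sup, Subgroup.map_map]
      congr 2 <;>
      · ext x
        simp [MulAut.conj_apply]
    rw [h1]
    exact le_iSup f _
  -- `C ⊓ K ≤ K₀`
  have hle0 : ∀ t : T, f t ≤ K₀ := fun t => le_iSup f t
  have hAK : A ⊓ K ≤ K₀ := by
    intro x hx
    apply hle0 ⟨1, T.one_mem⟩
    apply Subgroup.mem_sup_left
    exact ⟨x, hx, by simp⟩
  have hBK : B ⊓ K ≤ K₀ := by
    intro x hx
    apply hle0 ⟨1, T.one_mem⟩
    apply Subgroup.mem_sup_right
    exact ⟨x, hx, by simp⟩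
  -- Claim 3: `K₀` is normal
  have hAle : A ≤ K₀ ⊔ T := (claim1 A hA).trans (sup_le_sup hAK hAT)
  have hBle : B ≤ K₀ ⊔ T := (claim1 B hB).trans (sup_le_sup hBK hBT)
  have htop : K₀ ⊔ T = ⊤ := by
    rw [eq_top_iff, ← hAB]; exact sup_le hAle hBle
  have hK₀n : K₀.Normal := by
    rw [← Subgroup.normalizer_eq_top_iff, eq_top_iff, ← htop]
    exact sup_le le_normalizer hTnorm
  -- Claim 5
  intro x hx
  have hx' : x ∈ ((K₀ ⊔ T : Subgroup G) : Set G) := by rw [htop]; exact Set.mem_univ x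
  rw [Subgroup.normal_mul] at hx'
  obtain ⟨k, hk, t, ht, rfl⟩ := Set.mem_mul.mp hx'
  have hkS : k ∈ (S : Subgroup G) := by
    have h1 : k * t * t⁻¹ ∈ (S : Subgroup G) := Subgroup.mul_mem _ hx (Subgroup.inv_mem _ (hTS ht))
    have h2 : k * t * t⁻¹ = k := by group
    rwa [h2] at h1
  exact T.mul_mem (hK₀S ⟨hk, hkS⟩) ht

/-- conjugating `N ∩ B` by an element of `A` stays inside `(N ∩ A)(N ∩ B)` when `N` is normal
and normalizes `A`. -/
theorem conj_mem_inf_sup_inf {N A B : Subgroup G} [hN : N.Normal]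
    (hNA : N ≤ normalizer (A : Set G)) {a : G} (ha : a ∈ A) {x : G} (hx : x ∈ N ⊓ B) :
    a * x * a⁻¹ ∈ (N ⊓ A) ⊔ (N ⊓ B) := by
  have h1 : a * x * a⁻¹ * x⁻¹ ∈ N ⊓ A := by
    refine ⟨N.mul_mem (hN.conj_mem x hx.1 a) (N.inv_mem hx.1), ?_⟩
    have h2 : x * a⁻¹ * x⁻¹ ∈ A := (mem_normalizer_iff.mp (hNA hx.1) a⁻¹).mp (A.inv_mem ha)
    have h3 : a * x * a⁻¹ * x⁻¹ = a * (x * a⁻¹ * x⁻¹) := by group
    rw [h3]
    exact A.mul_mem ha h2
  have h4 : a * x * a⁻¹ = (a * x * a⁻¹ * x⁻¹) * x := by group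
  rw [h4]
  exact Subgroup.mul_mem _ (Subgroup.mem_sup_left h1) (Subgroup.mem_sup_right hx)

end basics

section main

universe u

theorem joinProp_aux (p : ℕ) [hp : Fact p.Prime] : ∀ (n : ℕ) (G : Type u) [Group G] [Finite G],
    Nat.card G = n → JoinProp p G := by
  intro n
  induction n using Nat.strong_induction_on with
  | _ n ih =>
  intro G _ _ hn S A B hA hB
  have ihJ : ∀ J : Subgroup G, J ≠ ⊤ → JoinProp p ↥J := by
    intro J hJ
    have hlt : Nat.card J < n := by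
      rw [← hn]
      exact lt_of_le_of_ne (Subgroup.card_le_card_group J) (mt (Subgroup.card_eq_iff_eq_top J).mp hJ)
    exact ih _ hlt ↥J rfl
  have ihQ : ∀ (N : Subgroup G) [N.Normal], N ≠ ⊥ → JoinProp p (G ⧸ N) := by
    intro N _ hN
    have hlt : Nat.card (G ⧸ N) < n := by
      rw [← hn, Subgroup.card_eq_card_quotient_mul_card_subgroup N]
      have h1 : 1 < Nat.card N := (Subgroup.one_lt_card_iff_ne_bot N).mpr hN
      have h2 : 0 < Nat.card (G ⧸ N) := Nat.card_pos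
      nlinarith
    exact ih _ hlt (G ⧸ N) rfl
  -- reduction to `A ⊔ B = ⊤`
  by_cases hJ : A ⊔ B = ⊤
  swap
  · exact joinProp_transport S (Helper9.isSubnormal_sup A B hA hB) (ihJ _ hJ) hA hB
      le_sup_left le_sup_right
  rw [hJ, top_inf_eq]
  by_cases hAtop : A = ⊤
  · rw [hAtop, top_inf_eq]; exact le_sup_left
  by_cases hBtop : B = ⊤
  · rw [hBtop, top_inf_eq]; exact le_sup_right
  have hTS : (A ⊓ (S : Subgroup G)) ⊔ (B ⊓ (S : Subgroup G)) ≤ (S : Subgroup G) :=
    sup_le inf_le_right inf_le_right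
  have hAT : A ⊓ (S : Subgroup G) ≤ (A ⊓ (S : Subgroup G)) ⊔ (B ⊓ (S : Subgroup G)) := le_sup_left
  have hBT : B ⊓ (S : Subgroup G) ≤ (A ⊓ (S : Subgroup G)) ⊔ (B ⊓ (S : Subgroup G)) := le_sup_right
  -- the join property inside proper normal subgroups
  have hPK : ∀ K : Subgroup G, K.Normal → K ≠ ⊤ → ∀ X Y : Subgroup G, X.IsSubnormal →
      Y.IsSubnormal → X ≤ K → Y ≤ K →
      (X ⊔ Y) ⊓ (S : Subgroup G) ≤ (X ⊓ (S : Subgroup G)) ⊔ (Y ⊓ (S : Subgroup G)) :=
    fun K hKn hK X Y hX hY hXK hYK =>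
      joinProp_transport S hKn.isSubnormal (ihJ K hK) hX hY hXK hYK
  have hidxp : (∃ K : Subgroup G, K.Normal ∧ K.index = p) →
      (S : Subgroup G) ≤ (A ⊓ (S : Subgroup G)) ⊔ (B ⊓ (S : Subgroup G)) := by
    rintro ⟨K, hKn, hKidx⟩
    have hK : K ≠ ⊤ := by
      intro h
      rw [h, Subgroup.index_top] at hKidx
      exact hp.out.one_lt.ne hKidx
    exact le_of_normal_index_p S hA hB hJ hKidx (hPK K hKn hK)
  have hnt : Nontrivial G := by
    by_contra h
    rw [not_nontrivial_iff_subsingleton] at h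
    exact hAtop (Subsingleton.elim _ _)
  obtain ⟨N, hNmin⟩ := Helper62.exists_isMinNormal (G := G)
  have hNn : N.Normal := hNmin.1
  have hN1 : N ≠ ⊥ := hNmin.2.1
  have hNmin' := hNmin.2.2
  have hST := le_sup_of_joinProp_quotient S N (ihQ N hN1) hA hB hJ
  revert hST hidxp hTS hAT hBT
  generalize (A ⊓ (S : Subgroup G)) ⊔ (B ⊓ (S : Subgroup G)) = T
  intro hTS hAT hBT hidxp hST
  -- Dedekind
  have hded : N ⊓ (S : Subgroup G) ≤ T → (S : Subgroup G) ≤ T := by
    intro h x hx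
    have hx' : x ∈ ((T ⊔ N : Subgroup G) : Set G) := hST hx
    rw [Subgroup.mul_normal] at hx'
    obtain ⟨t, ht, k, hk, rfl⟩ := Set.mem_mul.mp hx'
    have hkS : k ∈ (S : Subgroup G) := by
      have h1 : t⁻¹ * (t * k) ∈ (S : Subgroup G) :=
        Subgroup.mul_mem _ (Subgroup.inv_mem _ (hTS ht)) hx
      have h2 : t⁻¹ * (t * k) = k := by group
      rwa [h2] at h1
    exact T.mul_mem ht (h ⟨hk, hkS⟩)
  have hNA : N ≤ normalizer (A : Set G) := hNmin.le_normalizer_of_isSubnormal hA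
  have hNB : N ≤ normalizer (B : Set G) := hNmin.le_normalizer_of_isSubnormal hB
  -- `M = (N ⊓ A) ⊔ (N ⊓ B)` is normal
  have hMn : ((N ⊓ A) ⊔ (N ⊓ B)).Normal := by
    rw [← Subgroup.normalizer_eq_top_iff, eq_top_iff, ← hJ]
    apply sup_le
    · intro a ha
      apply map_conj_le_iff_mem
      rw [Subgroup.map_sup]
      apply sup_le
      · rintro _ ⟨x, hx, rfl⟩
        apply Subgroup.mem_sup_left
        exact ⟨hNn.conj_mem x hx.1 a, A.mul_mem (A.mul_mem ha hx.2) (A.inv_mem ha)⟩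
      · rintro _ ⟨x, hx, rfl⟩
        exact conj_mem_inf_sup_inf hNA ha hx
    · intro b hb
      apply map_conj_le_iff_mem
      rw [Subgroup.map_sup]
      apply sup_le
      · rintro _ ⟨x, hx, rfl⟩
        have := conj_mem_inf_sup_inf hNB hb hx
        rwa [sup_comm] at this
      · rintro _ ⟨x, hx, rfl⟩
        apply Subgroup.mem_sup_right
        exact ⟨hNn.conj_mem x hx.1 b, B.mul_mem (B.mul_mem hb hx.2) (B.inv_mem hb)⟩
  rcases hNmin' _ hMn (sup_le inf_le_left inf_le_left) with hM | hM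
  swap
  · -- `N = (N ⊓ A) ⊔ (N ⊓ B)`
    by_cases hNtop : N = ⊤
    · exfalso
      have hbot : ∀ C : Subgroup G, C.IsSubnormal → C ≠ ⊤ → C = ⊥ := by
        intro C hC hCtop
        obtain ⟨K, hKn, hCK, hKlt⟩ := hC.exists_normal_and_le_and_lt_top_of_ne hCtop
        rcases hNmin' K hKn (hNtop ▸ le_top) with hK | hK
        · rw [eq_bot_iff, ← hK]; exact hCK
        · rw [hK, hNtop] at hKlt; exact absurd hKlt (lt_irrefl _)
      rw [hbot A hA hAtop, hbot B hB hBtop, sup_bot_eq] at hJ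
      exact bot_ne_top hJ
    · apply hded
      have h1 := hPK N hNn hNtop (N ⊓ A) (N ⊓ B) (hNn.isSubnormal.inf hA) (hNn.isSubnormal.inf hB)
        inf_le_left inf_le_left
      rw [hM] at h1
      refine h1.trans (sup_le ?_ ?_)
      · exact le_trans (inf_le_inf_right _ inf_le_right) hAT
      · exact le_trans (inf_le_inf_right _ inf_le_right) hBT
  · -- `N ⊓ A = ⊥ = N ⊓ B`: `N` is central
    have hNAbot : N ⊓ A = ⊥ := by rw [eq_bot_iff, ← hM]; exact le_sup_left
    have hNBbot : N ⊓ B = ⊥ := by rw [eq_bot_iff, ← hM]; exact le_sup_right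
    have hcent : ∀ C : Subgroup G, N ≤ normalizer (C : Set G) → N ⊓ C = ⊥ →
        N ≤ centralizer (C : Set G) := by
      intro C hNC hbot x hx c hc
      have h1 : c * x * c⁻¹ * x⁻¹ ∈ N ⊓ C := by
        refine ⟨N.mul_mem (hNn.conj_mem x hx c) (N.inv_mem hx), ?_⟩
        have h2 : x * c⁻¹ * x⁻¹ ∈ C := (mem_normalizer_iff.mp (hNC hx) c⁻¹).mp (C.inv_mem hc)
        have h3 : c * x * c⁻¹ * x⁻¹ = c * (x * c⁻¹ * x⁻¹) := by group
        rw [h3]
        exact C.mul_mem hc h2
      rw [hbot, Subgroup.mem_bot] at h1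
      calc c * x = (c * x * c⁻¹ * x⁻¹) * (x * c) := by group
        _ = x * c := by rw [h1, one_mul]
    have hNZ : N ≤ center G := by
      have h0 : A ⊔ B ≤ centralizer (N : Set G) :=
        sup_le (Subgroup.le_centralizer_iff.mp (hcent A hNA hNAbot))
          (Subgroup.le_centralizer_iff.mp (hcent B hNB hNBbot))
      rw [hJ] at h0
      have h1 : N ≤ centralizer ((⊤ : Subgroup G) : Set G) := Subgroup.le_centralizer_iff.mp h0
      rw [Subgroup.coe_top, Subgroup.centralizer_univ] at h1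
      exact h1
    -- subgroups of `N` are normal in `G`
    have hsub : ∀ L : Subgroup G, L ≤ N → L = ⊥ ∨ L = N := by
      intro L hL
      have hLn : L.Normal := by
        constructor
        intro x hx g
        have := Subgroup.mem_center_iff.mp (hNZ (hL hx)) g
        have h2 : g * x * g⁻¹ = x := by rw [this]; group
        rw [h2]; exact hx
      exact hNmin' L hLn hL
    -- `N` has prime order
    have hNcard : Nat.card N ≠ 1 := fun h => hN1 (Subgroup.card_eq_one.mp h)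
    obtain ⟨q, hq, hqdvd⟩ := Nat.exists_prime_and_dvd hNcard
    haveI := Fact.mk hq
    obtain ⟨y, hy⟩ := exists_prime_orderOf_dvd_card' q hqdvd
    have hyo : orderOf (y : G) = q := by rw [Subgroup.orderOf_coe]; exact hy
    have hNq : Nat.card N = q := by
      have hzle : zpowers (y : G) ≤ N := zpowers_le.mpr y.2
      rcases hsub _ hzle with h | h
      · exfalso
        have : (y : G) = 1 := zpowers_eq_bot.mp h
        rw [this, orderOf_one] at hyo
        exact hq.one_lt.ne hyo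
      · rw [← h, Nat.card_zpowers, hyo]
    by_cases hqp : q = p
    · -- transfer case
      rw [hqp] at hNq
      have hNp : IsPGroup p N := IsPGroup.of_card (n := 1) (by rw [hNq, pow_one])
      have hNS : N ≤ (S : Subgroup G) := by
        have h1 : IsPGroup p ((S : Subgroup G) ⊔ N : Subgroup G) :=
          IsPGroup.to_sup_of_normal_right S.2 hNp
        have h2 := S.is_maximal' h1 le_sup_left
        calc N ≤ (S : Subgroup G) ⊔ N := le_sup_right
          _ = S := h2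
      rcases hsub (T ⊓ N) inf_le_right with h | h
      · exact hidxp (exists_normal_index_of_central_split S N T hNZ hNq hNS hTS h hST)
      · apply hded
        rw [← h]
        exact inf_le_left.trans inf_le_left
    · -- coprime case
      apply hded
      have hcop : (Nat.card N).Coprime (Nat.card (S : Subgroup G)) := by
        obtain ⟨k, hk⟩ := IsPGroup.iff_card.mp S.2
        rw [hNq, hk]
        exact Nat.Coprime.pow_right k ((Nat.coprime_primes hq hp.out).mpr hqp)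
      rw [(Subgroup.disjoint_of_coprime_natCard hcop).eq_bot]
      exact bot_le

/-- **Wielandt**: for subnormal subgroups `A`, `B` and a Sylow `p`-subgroup `S`,
`(A ⊔ B) ⊓ S = (A ⊓ S) ⊔ (B ⊓ S)`. -/
theorem sup_inf_sylow_eq {G : Type u} [Group G] [Finite G] {p : ℕ} [Fact p.Prime] (S : Sylow p G)
    {A B : Subgroup G} (hA : A.IsSubnormal) (hB : B.IsSubnormal) :
    (A ⊔ B) ⊓ (S : Subgroup G) = (A ⊓ (S : Subgroup G)) ⊔ (B ⊓ (S : Subgroup G)) :=
  le_antisymm (joinProp_aux p (Nat.card G) G rfl S A B hA hB)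
    (sup_le (inf_le_inf_right _ le_sup_left) (inf_le_inf_right _ le_sup_right))

end main

end Cfsg.Agent.Helper50
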