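import Mathlib.GroupTheory.Sylow
import Mathlib.Algebra.Group.Subgroup.Pointwise
import Mathlib.GroupTheory.Index
import Mathlib.GroupTheory.Subgroup.Centralizer

set_option autoImplicit false
open scoped Pointwise

namespace Cfsg.Agent.Helper50

variable {G : Type*} [Group G]

/-- The Chermak–Delgado measure of a subgroup. -/
noncomputable def cdm (H : Subgroup G) : ℕ :=
  Nat.card H * Nat.card (Subgroup.centralizer (H : Set G))

theorem relIndex_mul_card_of_le {K L : Subgroup G} (h : K ≤ L) :
    K.relIndex L * Nat.card K = Nat.card L := by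
  have := Subgroup.relIndex_mul_relIndex (⊥ : Subgroup G) K L bot_le h
  rw [Subgroup.relIndex_bot_left, Subgroup.relIndex_bot_left] at this
  rw [mul_comm]; exact this

section fin
variable [Finite G]

theorem card_mul_card_le (H K : Subgroup G) :
    Nat.card H * Nat.card K ≤ Nat.card ↥(H ⊔ K) * Nat.card ↥(H ⊓ K) := by
  have h1 : K.relIndex H * Nat.card ↥(H ⊓ K) = Nat.card H := by
    rw [← Subgroup.inf_relIndex_left]; exact relIndex_mul_card_of_le inf_le_left
  have h2 : K.relIndex (H ⊔ K) * Nat.card K = Nat.card ↥(H ⊔ K) :=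
    relIndex_mul_card_of_le le_sup_right
  have h3 : K.relIndex H ≤ K.relIndex (H ⊔ K) :=
    Subgroup.relIndex_le_of_le_right le_sup_left
      (by have : K.IsFiniteRelIndex (H ⊔ K) := Subgroup.isFiniteRelIndex_of_finiteIndex
          exact Subgroup.relIndex_ne_zero)
  calc Nat.card H * Nat.card K = K.relIndex H * Nat.card ↥(H ⊓ K) * Nat.card K := by rw [h1]
    _ ≤ K.relIndex (H ⊔ K) * Nat.card ↥(H ⊓ K) * Nat.card K := by gcongr
    _ = Nat.card ↥(H ⊔ K) * Nat.card ↥(H ⊓ K) := by rw [← h2]; ring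

theorem coe_sup_eq_mul_of_card (H K : Subgroup G)
    (h : Nat.card H * Nat.card K = Nat.card ↥(H ⊔ K) * Nat.card ↥(H ⊓ K)) :
    ((H ⊔ K : Subgroup G) : Set G) = (H : Set G) * (K : Set G) := by
  have h1 : K.relIndex H * Nat.card ↥(H ⊓ K) = Nat.card H := by
    rw [← Subgroup.inf_relIndex_left]; exact relIndex_mul_card_of_le inf_le_left
  have h2 : K.relIndex (H ⊔ K) * Nat.card K = Nat.card ↥(H ⊔ K) :=
    relIndex_mul_card_of_le le_sup_right
  have hpos1 : 0 < Nat.card ↥(H ⊓ K) := Nat.card_pos
  have hpos2 : 0 < Nat.card K := Nat.card_pos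
  have h3 : K.relIndex H = K.relIndex (H ⊔ K) := by
    rw [← h1, ← h2] at h
    have : K.relIndex H * (Nat.card ↥(H ⊓ K) * Nat.card K) =
        K.relIndex (H ⊔ K) * (Nat.card ↥(H ⊓ K) * Nat.card K) := by
      rw [← mul_assoc, h]; ring
    exact Nat.eq_of_mul_eq_mul_right (Nat.mul_pos hpos1 hpos2) this
  apply Set.Subset.antisymm
  · intro l hl
    have hl' : l ∈ H ⊔ K := hl
    let e := Subgroup.quotientSubgroupOfEmbeddingOfLE K (le_sup_left : H ≤ H ⊔ K)
    have hcard : Nat.card (↥(H ⊔ K) ⧸ K.subgroupOf (H ⊔ K)) ≤ Nat.card (↥H ⧸ K.subgroupOf H) := by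
      have e1 : Nat.card (↥(H ⊔ K) ⧸ K.subgroupOf (H ⊔ K)) = K.relIndex (H ⊔ K) := by
        rw [Subgroup.relIndex, Subgroup.index_eq_card]
      have e2 : Nat.card (↥H ⧸ K.subgroupOf H) = K.relIndex H := by
        rw [Subgroup.relIndex, Subgroup.index_eq_card]
      rw [e1, e2, h3]
    have hsurj : Function.Surjective e :=
      (Function.Injective.bijective_of_nat_card_le e.injective hcard).surjective
    obtain ⟨q, hq⟩ := hsurj (QuotientGroup.mk (⟨l, hl'⟩ : ↥(H ⊔ K)))
    obtain ⟨x, rfl⟩ := QuotientGroup.mk_surjective q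
    rw [Subgroup.quotientSubgroupOfEmbeddingOfLE_apply_mk] at hq
    rw [QuotientGroup.eq] at hq
    rw [Subgroup.mem_subgroupOf] at hq
    simp only [Subgroup.coe_mul, Subgroup.coe_inv, Subgroup.coe_inclusion] at hq
    refine Set.mem_mul.mpr ⟨(x : G), x.2, (x : G)⁻¹ * l, hq, ?_⟩
    group
  · intro l hl
    obtain ⟨a, ha, b, hb, rfl⟩ := Set.mem_mul.mp hl
    exact (H ⊔ K).mul_mem ((le_sup_left : H ≤ H ⊔ K) ha) ((le_sup_right : K ≤ H ⊔ K) hb)

omit [Finite G] in
theorem centralizer_sup_eq (H K : Subgroup G) :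
    Subgroup.centralizer ((H ⊔ K : Subgroup G) : Set G) =
      Subgroup.centralizer (H : Set G) ⊓ Subgroup.centralizer (K : Set G) := by
  apply le_antisymm
  · exact le_inf (Subgroup.centralizer_le (by exact_mod_cast (le_sup_left : H ≤ H ⊔ K)))
      (Subgroup.centralizer_le (by exact_mod_cast (le_sup_right : K ≤ H ⊔ K)))
  · intro g hg
    rw [Subgroup.mem_inf] at hg
    have h1 : H ≤ Subgroup.centralizer ({g} : Set G) := by
      intro h hh
      rw [Subgroup.mem_centralizer_singleton_iff]
      exact (Subgroup.mem_centralizer_iff.mp hg.1 h hh)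
    have h2 : K ≤ Subgroup.centralizer ({g} : Set G) := by
      intro h hh
      rw [Subgroup.mem_centralizer_singleton_iff]
      exact (Subgroup.mem_centralizer_iff.mp hg.2 h hh)
    have h3 : H ⊔ K ≤ Subgroup.centralizer ({g} : Set G) := sup_le h1 h2
    rw [Subgroup.mem_centralizer_iff]
    intro x hx
    have := h3 hx
    rw [Subgroup.mem_centralizer_singleton_iff] at this
    exact this

omit [Finite G] in
theorem centralizer_sup_le_centralizer_inf (H K : Subgroup G) :
    Subgroup.centralizer (H : Set G) ⊔ Subgroup.centralizer (K : Set G) ≤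
      Subgroup.centralizer ((H ⊓ K : Subgroup G) : Set G) :=
  sup_le (Subgroup.centralizer_le (by exact_mod_cast (inf_le_left : H ⊓ K ≤ H)))
    (Subgroup.centralizer_le (by exact_mod_cast (inf_le_right : H ⊓ K ≤ K)))

theorem card_centralizer_mul_le (H K : Subgroup G) :
    Nat.card (Subgroup.centralizer (H : Set G)) * Nat.card (Subgroup.centralizer (K : Set G)) ≤
      Nat.card (Subgroup.centralizer ((H ⊔ K : Subgroup G) : Set G)) *
        Nat.card (Subgroup.centralizer ((H ⊓ K : Subgroup G) : Set G)) := by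
  have h1 := card_mul_card_le (Subgroup.centralizer (H : Set G)) (Subgroup.centralizer (K : Set G))
  have h2 : Nat.card ↥(Subgroup.centralizer (H : Set G) ⊔ Subgroup.centralizer (K : Set G)) ≤
      Nat.card (Subgroup.centralizer ((H ⊓ K : Subgroup G) : Set G)) :=
    Subgroup.card_le_of_le (centralizer_sup_le_centralizer_inf H K)
  rw [centralizer_sup_eq]
  calc _ ≤ _ := h1
    _ ≤ _ := by rw [mul_comm]; gcongr

theorem cdm_mul_le (H K : Subgroup G) : cdm H * cdm K ≤ cdm (H ⊔ K) * cdm (H ⊓ K) := by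
  unfold cdm
  have h1 := card_mul_card_le H K
  have h2 := card_centralizer_mul_le H K
  calc Nat.card H * Nat.card (Subgroup.centralizer (H : Set G)) *
        (Nat.card K * Nat.card (Subgroup.centralizer (K : Set G)))
      = (Nat.card H * Nat.card K) * (Nat.card (Subgroup.centralizer (H : Set G)) *
          Nat.card (Subgroup.centralizer (K : Set G))) := by ring
    _ ≤ (Nat.card ↥(H ⊔ K) * Nat.card ↥(H ⊓ K)) *
        (Nat.card (Subgroup.centralizer ((H ⊔ K : Subgroup G) : Set G)) *
        Nat.card (Subgroup.centralizer ((H ⊓ K : Subgroup G) : Set G))) := Nat.mul_le_mul h1 h2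
    _ = _ := by ring

theorem cdm_pos (H : Subgroup G) : 0 < cdm H := Nat.mul_pos Nat.card_pos Nat.card_pos

/-- Key structure theorem: if `M` bounds the measure and `H`, `K` attain it, then so do the join and the meet,
and all the inequalities are equalities. -/
theorem cdm_max_sup_inf {M : ℕ} (hM : ∀ L : Subgroup G, cdm L ≤ M) (H K : Subgroup G)
    (hH : cdm H = M) (hK : cdm K = M) :
    cdm (H ⊔ K) = M ∧ cdm (H ⊓ K) = M ∧
      Nat.card H * Nat.card K = Nat.card ↥(H ⊔ K) * Nat.card ↥(H ⊓ K) ∧
      Nat.card (Subgroup.centralizer (H : Set G)) * Nat.card (Subgroup.centralizer (K : Set G)) =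
        Nat.card (Subgroup.centralizer ((H ⊔ K : Subgroup G) : Set G)) *
          Nat.card (Subgroup.centralizer ((H ⊓ K : Subgroup G) : Set G)) := by
  have hMpos : 0 < M := hH ▸ cdm_pos H
  have h1 := cdm_mul_le H K
  rw [hH, hK] at h1
  have h2 := hM (H ⊔ K)
  have h3 := hM (H ⊓ K)
  have h4 : cdm (H ⊔ K) = M := by
    by_contra hne
    have hlt : cdm (H ⊔ K) < M := lt_of_le_of_ne h2 hne
    have : cdm (H ⊔ K) * cdm (H ⊓ K) < M * M := by
      calc cdm (H ⊔ K) * cdm (H ⊓ K) ≤ cdm (H ⊔ K) * M := Nat.mul_le_mul_left _ h3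
        _ < M * M := Nat.mul_lt_mul_of_pos_right hlt hMpos
    omega
  have h5 : cdm (H ⊓ K) = M := by
    by_contra hne
    have hlt : cdm (H ⊓ K) < M := lt_of_le_of_ne h3 hne
    have : cdm (H ⊔ K) * cdm (H ⊓ K) < M * M := by
      rw [h4]; exact Nat.mul_lt_mul_of_pos_left hlt hMpos
    omega
  refine ⟨h4, h5, ?_, ?_⟩
  · have a1 := card_mul_card_le H K
    have a2 := card_centralizer_mul_le H K
    by_contra hne
    have hlt := lt_of_le_of_ne a1 hne
    have e1 : cdm H * cdm K = cdm (H ⊔ K) * cdm (H ⊓ K) := by rw [hH, hK, h4, h5]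
    unfold cdm at e1
    have hpos : 0 < Nat.card (Subgroup.centralizer (H : Set G)) *
        Nat.card (Subgroup.centralizer (K : Set G)) := Nat.mul_pos Nat.card_pos Nat.card_pos
    have : (Nat.card H * Nat.card K) * (Nat.card (Subgroup.centralizer (H : Set G)) *
          Nat.card (Subgroup.centralizer (K : Set G))) <
        (Nat.card ↥(H ⊔ K) * Nat.card ↥(H ⊓ K)) *
        (Nat.card (Subgroup.centralizer ((H ⊔ K : Subgroup G) : Set G)) *
        Nat.card (Subgroup.centralizer ((H ⊓ K : Subgroup G) : Set G))) :=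
      calc _ < (Nat.card ↥(H ⊔ K) * Nat.card ↥(H ⊓ K)) * (Nat.card (Subgroup.centralizer (H : Set G)) *
          Nat.card (Subgroup.centralizer (K : Set G))) := Nat.mul_lt_mul_of_pos_right hlt hpos
        _ ≤ _ := Nat.mul_le_mul_left _ a2
    have e2 : (Nat.card H * Nat.card K) * (Nat.card (Subgroup.centralizer (H : Set G)) *
          Nat.card (Subgroup.centralizer (K : Set G))) =
        (Nat.card ↥(H ⊔ K) * Nat.card ↥(H ⊓ K)) *
        (Nat.card (Subgroup.centralizer ((H ⊔ K : Subgroup G) : Set G)) *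
        Nat.card (Subgroup.centralizer ((H ⊓ K : Subgroup G) : Set G))) := by
      calc _ = Nat.card H * Nat.card (Subgroup.centralizer (H : Set G)) *
        (Nat.card K * Nat.card (Subgroup.centralizer (K : Set G))) := by ring
        _ = _ := e1
        _ = _ := by ring
    omega
  · have a1 := card_mul_card_le H K
    have a2 := card_centralizer_mul_le H K
    by_contra hne
    have hlt := lt_of_le_of_ne a2 hne
    have e1 : cdm H * cdm K = cdm (H ⊔ K) * cdm (H ⊓ K) := by rw [hH, hK, h4, h5]
    unfold cdm at e1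
    have hpos : 0 < Nat.card H * Nat.card K := Nat.mul_pos Nat.card_pos Nat.card_pos
    have : (Nat.card H * Nat.card K) * (Nat.card (Subgroup.centralizer (H : Set G)) *
          Nat.card (Subgroup.centralizer (K : Set G))) <
        (Nat.card ↥(H ⊔ K) * Nat.card ↥(H ⊓ K)) *
        (Nat.card (Subgroup.centralizer ((H ⊔ K : Subgroup G) : Set G)) *
        Nat.card (Subgroup.centralizer ((H ⊓ K : Subgroup G) : Set G))) :=
      calc _ < (Nat.card H * Nat.card K) *
        (Nat.card (Subgroup.centralizer ((H ⊔ K : Subgroup G) : Set G)) *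
        Nat.card (Subgroup.centralizer ((H ⊓ K : Subgroup G) : Set G))) :=
            Nat.mul_lt_mul_of_pos_left hlt hpos
        _ ≤ _ := Nat.mul_le_mul_right _ a1
    have e2 : (Nat.card H * Nat.card K) * (Nat.card (Subgroup.centralizer (H : Set G)) *
          Nat.card (Subgroup.centralizer (K : Set G))) =
        (Nat.card ↥(H ⊔ K) * Nat.card ↥(H ⊓ K)) *
        (Nat.card (Subgroup.centralizer ((H ⊔ K : Subgroup G) : Set G)) *
        Nat.card (Subgroup.centralizer ((H ⊓ K : Subgroup G) : Set G))) := by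
      calc _ = Nat.card H * Nat.card (Subgroup.centralizer (H : Set G)) *
        (Nat.card K * Nat.card (Subgroup.centralizer (K : Set G))) := by ring
        _ = _ := e1
        _ = _ := by ring
    omega

theorem cdm_centralizer_max {M : ℕ} (hM : ∀ L : Subgroup G, cdm L ≤ M) (H : Subgroup G)
    (hH : cdm H = M) :
    cdm (Subgroup.centralizer (H : Set G)) = M ∧
      H = Subgroup.centralizer ((Subgroup.centralizer (H : Set G) : Subgroup G) : Set G) := by
  have hle : H ≤ Subgroup.centralizer ((Subgroup.centralizer (H : Set G) : Subgroup G) : Set G) :=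
    Subgroup.le_centralizer_iff.mp le_rfl
  have h1 : cdm H ≤ cdm (Subgroup.centralizer (H : Set G)) := by
    unfold cdm
    rw [mul_comm]
    exact Nat.mul_le_mul_left _ (Subgroup.card_le_of_le hle)
  have h2 : cdm (Subgroup.centralizer (H : Set G)) = M := le_antisymm (hM _) (hH ▸ h1)
  refine ⟨h2, ?_⟩
  have h3 : cdm H = cdm (Subgroup.centralizer (H : Set G)) := by rw [hH, h2]
  unfold cdm at h3
  rw [mul_comm] at h3
  have h4 : Nat.card H =
      Nat.card (Subgroup.centralizer ((Subgroup.centralizer (H : Set G) : Subgroup G) : Set G)) :=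
    Nat.eq_of_mul_eq_mul_left Nat.card_pos h3
  exact Subgroup.eq_of_le_of_card_ge hle (le_of_eq h4.symm)

theorem centralizer_sup_mul_of_max {M : ℕ} (hM : ∀ L : Subgroup G, cdm L ≤ M) (H K : Subgroup G)
    (hH : cdm H = M) (hK : cdm K = M) :
    ((Subgroup.centralizer (H : Set G) ⊔ Subgroup.centralizer (K : Set G) : Subgroup G) : Set G) =
        (Subgroup.centralizer (H : Set G) : Set G) * (Subgroup.centralizer (K : Set G) : Set G) ∧
      Subgroup.centralizer ((H ⊓ K : Subgroup G) : Set G) =
        Subgroup.centralizer (H : Set G) ⊔ Subgroup.centralizer (K : Set G) := by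
  obtain ⟨-, -, -, h4⟩ := cdm_max_sup_inf hM H K hH hK
  have a1 := card_mul_card_le (Subgroup.centralizer (H : Set G)) (Subgroup.centralizer (K : Set G))
  have a2 : Nat.card ↥(Subgroup.centralizer (H : Set G) ⊔ Subgroup.centralizer (K : Set G)) ≤
      Nat.card (Subgroup.centralizer ((H ⊓ K : Subgroup G) : Set G)) :=
    Subgroup.card_le_of_le (centralizer_sup_le_centralizer_inf H K)
  rw [centralizer_sup_eq] at h4
  have hpos : 0 < Nat.card ↥(Subgroup.centralizer (H : Set G) ⊓ Subgroup.centralizer (K : Set G)) :=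
    Nat.card_pos
  have a3 : Nat.card ↥(Subgroup.centralizer (H : Set G) ⊔ Subgroup.centralizer (K : Set G)) =
      Nat.card (Subgroup.centralizer ((H ⊓ K : Subgroup G) : Set G)) := by
    apply le_antisymm a2
    rw [h4, mul_comm] at a1
    exact Nat.le_of_mul_le_mul_right a1 hpos
  have a4 : Subgroup.centralizer (H : Set G) ⊔ Subgroup.centralizer (K : Set G) =
      Subgroup.centralizer ((H ⊓ K : Subgroup G) : Set G) :=
    Subgroup.eq_of_le_of_card_ge (centralizer_sup_le_centralizer_inf H K) (le_of_eq a3.symm)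
  refine ⟨?_, a4.symm⟩
  apply coe_sup_eq_mul_of_card
  rw [h4, a3, mul_comm]

end fin

end Cfsg.Agent.Helper50
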