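import Mathlib
import Cfsg.Agent.Lib.Helper5.SL2Sylow

set_option autoImplicit false

/-!
Matrix identities in `SL₂(F)` used for the recognition of the natural module.
-/

namespace Cfsg.Agent.Helper50

open Matrix
open scoped Classical

section
variable {F : Type*} [Field F]

/-- upper unitriangular element -/
def nS (a : F) : Matrix.SpecialLinearGroup (Fin 2) F :=
  ⟨!![1, a; 0, 1], by simp [Matrix.det_fin_two]⟩

/-- Weyl element -/
def nW : Matrix.SpecialLinearGroup (Fin 2) F :=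
  ⟨!![0, 1; -1, 0], by simp [Matrix.det_fin_two]⟩

/-- diagonal element `diag(t, t⁻¹)` (junk value `1` for `t = 0`) -/
noncomputable def nH (t : F) : Matrix.SpecialLinearGroup (Fin 2) F :=
  if ht : t = 0 then 1 else ⟨!![t, 0; 0, t⁻¹], by simp [Matrix.det_fin_two, ht]⟩

theorem nH_coe (t : F) (ht : t ≠ 0) :
    ((nH t : Matrix.SpecialLinearGroup (Fin 2) F) : Matrix (Fin 2) (Fin 2) F) =
      !![t, 0; 0, t⁻¹] := by
  simp [nH, ht]

theorem nS_coe (a : F) :
    ((nS a : Matrix.SpecialLinearGroup (Fin 2) F) : Matrix (Fin 2) (Fin 2) F) =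
      !![1, a; 0, 1] := rfl

theorem nW_coe :
    ((nW : Matrix.SpecialLinearGroup (Fin 2) F) : Matrix (Fin 2) (Fin 2) F) =
      !![0, 1; -1, 0] := rfl

theorem nS_add (a b : F) : nS a * nS b = nS (a + b) := by
  apply Subtype.ext
  rw [Matrix.SpecialLinearGroup.coe_mul]
  ext i j
  fin_cases i <;> fin_cases j <;> simp [nS, Matrix.mul_apply, Fin.sum_univ_two, add_comm]

theorem nS_zero : nS (0 : F) = 1 := by
  apply Subtype.ext
  ext i j
  fin_cases i <;> fin_cases j <;> simp [nS]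

theorem nS_inv (a : F) : (nS a)⁻¹ = nS (-a) := by
  rw [inv_eq_iff_mul_eq_one, nS_add, add_neg_cancel, nS_zero]

theorem nH_one : nH (1 : F) = 1 := by
  apply Subtype.ext
  rw [nH_coe 1 one_ne_zero]
  ext i j
  fin_cases i <;> fin_cases j <;> simp

theorem nH_mul (s t : F) (hs : s ≠ 0) (ht : t ≠ 0) : nH s * nH t = nH (s * t) := by
  apply Subtype.ext
  rw [Matrix.SpecialLinearGroup.coe_mul, nH_coe s hs, nH_coe t ht,
    nH_coe (s * t) (mul_ne_zero hs ht)]
  ext i j
  fin_cases i <;> fin_cases j <;> simp [Matrix.mul_apply, Fin.sum_univ_two, mul_comm]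

theorem nW_mul_nW : (nW : Matrix.SpecialLinearGroup (Fin 2) F) * nW = nH (-1) := by
  apply Subtype.ext
  rw [Matrix.SpecialLinearGroup.coe_mul, nH_coe (-1) (neg_ne_zero.mpr one_ne_zero)]
  ext i j
  fin_cases i <;> fin_cases j <;> simp [nW, Matrix.mul_apply, Fin.sum_univ_two, inv_neg]

theorem nH_inv_mul_nW (t : F) (ht : t ≠ 0) : nH t⁻¹ * nW = nW * nH t := by
  apply Subtype.ext
  rw [Matrix.SpecialLinearGroup.coe_mul, Matrix.SpecialLinearGroup.coe_mul,
    nH_coe t ht, nH_coe t⁻¹ (inv_ne_zero ht)]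
  ext i j
  fin_cases i <;> fin_cases j <;> simp [nW, Matrix.mul_apply, Fin.sum_univ_two]

theorem nS_mul_nH (a t : F) (ht : t ≠ 0) : nS a * nH t = nH t * nS (t⁻¹ * t⁻¹ * a) := by
  apply Subtype.ext
  rw [Matrix.SpecialLinearGroup.coe_mul, Matrix.SpecialLinearGroup.coe_mul, nH_coe t ht]
  ext i j
  fin_cases i <;> fin_cases j <;> simp [nS, Matrix.mul_apply, Fin.sum_univ_two]
  field_simp

theorem nS_mul_nW (a : F) (ha : a ≠ 0) :
    nS a * nW = nW * nS (-a⁻¹) * nH a⁻¹ * nW * nS (-a⁻¹) := by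
  apply Subtype.ext
  simp only [Matrix.SpecialLinearGroup.coe_mul]
  rw [nH_coe a⁻¹ (inv_ne_zero ha)]
  ext i j
  fin_cases i <;> fin_cases j <;> simp [nS, nW, Matrix.mul_apply, Fin.sum_univ_two, ha]

theorem nW_inv : (nW : Matrix.SpecialLinearGroup (Fin 2) F)⁻¹ = nW * nW * nW := by
  rw [inv_eq_iff_mul_eq_one]
  apply Subtype.ext
  simp only [Matrix.SpecialLinearGroup.coe_mul]
  ext i j
  fin_cases i <;> fin_cases j <;> simp [nW, Matrix.mul_apply, Fin.sum_univ_two]

theorem transvection_eq_nS (x : F) :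
    SpecialLinearGroup.transvection (zero_ne_one (α := Fin 2)) x = nS x := by
  apply Subtype.ext
  ext i j
  fin_cases i <;> fin_cases j <;>
    simp [nS, SpecialLinearGroup.transvection_coe, Matrix.add_apply]

/-- `SL₂(F)` is generated by the upper unitriangular elements and the Weyl element. -/
theorem sl2_eq_top_of_nS_nW (T : Subgroup (Matrix.SpecialLinearGroup (Fin 2) F))
    (hS : ∀ a : F, nS a ∈ T) (hW : nW ∈ T) : T = ⊤ := by
  apply Cfsg.Agent.Helper5.sl_eq_top_of_slU_of_conj T nW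
  · simp [nW]
  · intro x
    rw [transvection_eq_nS]
    exact hS x
  · intro x
    rw [transvection_eq_nS]
    exact T.mul_mem (T.mul_mem hW (hS x)) (T.inv_mem hW)

theorem mem_slU_iff_nS (g : Matrix.SpecialLinearGroup (Fin 2) F) :
    g ∈ Cfsg.Agent.Helper5.slU F ↔ ∃ a : F, g = nS a := by
  rw [Cfsg.Agent.Helper5.mem_slU_iff]
  constructor
  · rintro ⟨x, rfl⟩
    exact ⟨x, transvection_eq_nS x⟩
  · rintro ⟨a, rfl⟩
    exact ⟨a, transvection_eq_nS a⟩

theorem nS_mulVec (a : F) (u : Fin 2 → F) :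
    ((nS a : Matrix.SpecialLinearGroup (Fin 2) F) : Matrix (Fin 2) (Fin 2) F).mulVec u =
      ![u 0 + a * u 1, u 1] := by
  ext i
  fin_cases i <;> simp [nS, Matrix.mulVec, dotProduct, Fin.sum_univ_two]

theorem nW_mulVec (u : Fin 2 → F) :
    ((nW : Matrix.SpecialLinearGroup (Fin 2) F) : Matrix (Fin 2) (Fin 2) F).mulVec u =
      ![u 1, - u 0] := by
  ext i
  fin_cases i <;> simp [nW, Matrix.mulVec, dotProduct, Fin.sum_univ_two]

end

end Cfsg.Agent.Helper50
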