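import Mathlib
import Cfsg.Agent.Lib.Helper50.SL2Nat1

set_option autoImplicit false

/-!
Elements of `SL₂(K)` in characteristic two, used in the proof of Higman's theorem on
`2`-groups acted on by `SL₂(2ⁿ)` with a fixed point free element of order three.
-/

namespace Cfsg.Agent.Helper50.Higman

open Matrix

section
variable {K : Type*} [Field K]

/-- upper unitriangular element -/
def tU (c : K) : Matrix.SpecialLinearGroup (Fin 2) K :=
  ⟨!![1, c; 0, 1], by simp [Matrix.det_fin_two]⟩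

/-- lower unitriangular element -/
def tL (c : K) : Matrix.SpecialLinearGroup (Fin 2) K :=
  ⟨!![1, 0; c, 1], by simp [Matrix.det_fin_two]⟩

theorem tU_coe (c : K) :
    ((tU c : Matrix.SpecialLinearGroup (Fin 2) K) : Matrix (Fin 2) (Fin 2) K) = !![1, c; 0, 1] :=
  rfl

theorem tL_coe (c : K) :
    ((tL c : Matrix.SpecialLinearGroup (Fin 2) K) : Matrix (Fin 2) (Fin 2) K) = !![1, 0; c, 1] :=
  rfl

theorem tU_add (a b : K) : tU a * tU b = tU (a + b) := by
  apply Subtype.ext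
  rw [Matrix.SpecialLinearGroup.coe_mul, tU_coe, tU_coe, tU_coe, Matrix.mul_fin_two]
  simp [add_comm]

theorem tL_add (a b : K) : tL a * tL b = tL (a + b) := by
  apply Subtype.ext
  rw [Matrix.SpecialLinearGroup.coe_mul, tL_coe, tL_coe, tL_coe, Matrix.mul_fin_two]
  simp [add_comm]

theorem tU_zero : tU (0 : K) = 1 := by
  apply Subtype.ext
  rw [tU_coe, Matrix.SpecialLinearGroup.coe_one, Matrix.one_fin_two]

theorem tL_zero : tL (0 : K) = 1 := by
  apply Subtype.ext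
  rw [tL_coe, Matrix.SpecialLinearGroup.coe_one, Matrix.one_fin_two]

theorem tU_eq_nS (c : K) : tU c = nS c := rfl

/-- `SL₂(K)` is generated by the upper and lower unitriangular elements. -/
theorem eq_top_of_tU_tL (T : Subgroup (Matrix.SpecialLinearGroup (Fin 2) K))
    (hU : ∀ c : K, tU c ∈ T) (hL : ∀ c : K, tL c ∈ T) : T = ⊤ := by
  apply sl2_eq_top_of_nS_nW T hU
  have : (nW : Matrix.SpecialLinearGroup (Fin 2) K) = tU 1 * tL (-1) * tU 1 := by
    apply Subtype.ext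
    rw [Matrix.SpecialLinearGroup.coe_mul, Matrix.SpecialLinearGroup.coe_mul, tU_coe, tL_coe,
      nW_coe, Matrix.mul_fin_two, Matrix.mul_fin_two]
    simp
  rw [this]
  exact T.mul_mem (T.mul_mem (hU 1) (hL (-1))) (hU 1)

end

section char2
variable {K : Type*} [Field K] [CharP K 2]

theorem tU_mul_self (c : K) : tU c * tU c = 1 := by
  rw [tU_add, CharTwo.add_self_eq_zero, tU_zero]

theorem tL_mul_self (c : K) : tL c * tL c = 1 := by
  rw [tL_add, CharTwo.add_self_eq_zero, tL_zero]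

theorem tU_inv (c : K) : (tU c)⁻¹ = tU c := inv_eq_of_mul_eq_one_left (tU_mul_self c)

theorem tL_inv (c : K) : (tL c)⁻¹ = tL c := inv_eq_of_mul_eq_one_left (tL_mul_self c)

/-- the element of order three `[[0,1],[1,1]]` -/
def D0 : Matrix.SpecialLinearGroup (Fin 2) K := tU 1 * tL 1

/-- the Weyl element `[[0,1],[1,0]]` -/
def wE : Matrix.SpecialLinearGroup (Fin 2) K := tU 1 * tL 1 * tU 1

/-- the monomial element `[[0,s],[s⁻¹,0]]` -/
def wL (s : K) : Matrix.SpecialLinearGroup (Fin 2) K := tU s * tL s⁻¹ * tU s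

/-- the diagonal element `diag(s, s⁻¹)` -/
def hD (s : K) : Matrix.SpecialLinearGroup (Fin 2) K := wL s * wE

theorem D0_coe :
    ((D0 : Matrix.SpecialLinearGroup (Fin 2) K) : Matrix (Fin 2) (Fin 2) K) = !![0, 1; 1, 1] := by
  rw [D0, Matrix.SpecialLinearGroup.coe_mul, tU_coe, tL_coe, Matrix.mul_fin_two]
  simp [CharTwo.add_self_eq_zero]

theorem wE_coe :
    ((wE : Matrix.SpecialLinearGroup (Fin 2) K) : Matrix (Fin 2) (Fin 2) K) = !![0, 1; 1, 0] := by
  rw [wE, Matrix.SpecialLinearGroup.coe_mul, ← D0, D0_coe, tU_coe, Matrix.mul_fin_two]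
  simp [CharTwo.add_self_eq_zero]

theorem wL_coe (s : K) (hs : s ≠ 0) :
    ((wL s : Matrix.SpecialLinearGroup (Fin 2) K) : Matrix (Fin 2) (Fin 2) K) =
      !![0, s; s⁻¹, 0] := by
  rw [wL, Matrix.SpecialLinearGroup.coe_mul, Matrix.SpecialLinearGroup.coe_mul, tU_coe, tL_coe,
    Matrix.mul_fin_two, Matrix.mul_fin_two]
  simp [CharTwo.add_self_eq_zero, hs]

theorem hD_coe (s : K) (hs : s ≠ 0) :
    ((hD s : Matrix.SpecialLinearGroup (Fin 2) K) : Matrix (Fin 2) (Fin 2) K) =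
      !![s, 0; 0, s⁻¹] := by
  rw [hD, Matrix.SpecialLinearGroup.coe_mul, wL_coe s hs, wE_coe, Matrix.mul_fin_two]
  simp

theorem D0_inv : (D0 : Matrix.SpecialLinearGroup (Fin 2) K)⁻¹ = tL 1 * tU 1 := by
  rw [D0, _root_.mul_inv_rev, tU_inv, tL_inv]

theorem wE_mul_self : (wE : Matrix.SpecialLinearGroup (Fin 2) K) * wE = 1 := by
  apply Subtype.ext
  rw [Matrix.SpecialLinearGroup.coe_mul, wE_coe, Matrix.mul_fin_two,
    Matrix.SpecialLinearGroup.coe_one, Matrix.one_fin_two]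
  simp

theorem wE_inv : (wE : Matrix.SpecialLinearGroup (Fin 2) K)⁻¹ = wE :=
  inv_eq_of_mul_eq_one_left wE_mul_self

theorem wE_tU_wE (c : K) : wE * tU c * wE = tL c := by
  apply Subtype.ext
  rw [Matrix.SpecialLinearGroup.coe_mul, Matrix.SpecialLinearGroup.coe_mul, wE_coe, tU_coe,
    tL_coe, Matrix.mul_fin_two, Matrix.mul_fin_two]
  simp

theorem D0_pow_three : (D0 : Matrix.SpecialLinearGroup (Fin 2) K) ^ 3 = 1 := by
  apply Subtype.ext
  rw [pow_succ, pow_two, Matrix.SpecialLinearGroup.coe_mul, Matrix.SpecialLinearGroup.coe_mul,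
    D0_coe, Matrix.mul_fin_two, Matrix.mul_fin_two, Matrix.SpecialLinearGroup.coe_one,
    Matrix.one_fin_two]
  simp [CharTwo.add_self_eq_zero]

theorem D0_ne_one : (D0 : Matrix.SpecialLinearGroup (Fin 2) K) ≠ 1 := by
  intro h
  have h1 := congrArg (fun g : Matrix.SpecialLinearGroup (Fin 2) K =>
    (g : Matrix (Fin 2) (Fin 2) K) 0 0) h
  simp only [D0_coe, Matrix.SpecialLinearGroup.coe_one] at h1
  simp at h1

theorem hD_mul_tU (s x : K) (hs : s ≠ 0) : hD s * tU x = tU (s * s * x) * hD s := by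
  apply Subtype.ext
  rw [Matrix.SpecialLinearGroup.coe_mul, Matrix.SpecialLinearGroup.coe_mul, hD_coe s hs, tU_coe,
    tU_coe, Matrix.mul_fin_two, Matrix.mul_fin_two]
  simp [hs, mul_assoc, mul_comm x]

theorem hD_mul_tL (s x : K) (hs : s ≠ 0) : hD s * tL x = tL (s⁻¹ * s⁻¹ * x) * hD s := by
  apply Subtype.ext
  rw [Matrix.SpecialLinearGroup.coe_mul, Matrix.SpecialLinearGroup.coe_mul, hD_coe s hs, tL_coe,
    tL_coe, Matrix.mul_fin_two, Matrix.mul_fin_two]
  simp [hs, mul_assoc, mul_comm x]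

theorem hD_mul_hD (s r : K) (hs : s ≠ 0) (hr : r ≠ 0) : hD s * hD r = hD (s * r) := by
  apply Subtype.ext
  rw [Matrix.SpecialLinearGroup.coe_mul, hD_coe s hs, hD_coe r hr, hD_coe _ (mul_ne_zero hs hr),
    Matrix.mul_fin_two]
  simp [mul_comm]

/-- `t(c) t'(c⁻¹)` is conjugate to `D0`. -/
theorem hD_conj_D0 (s : K) (hs : s ≠ 0) :
    hD s * D0 * (hD s)⁻¹ = tU (s * s) * tL (s * s)⁻¹ := by
  rw [mul_inv_eq_iff_eq_mul, D0, ← mul_assoc, hD_mul_tU s 1 hs, mul_assoc, hD_mul_tL s 1 hs,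
    ← mul_assoc, mul_one, mul_one, mul_inv]

theorem hD_conj_D0_inv (s : K) (hs : s ≠ 0) :
    hD s * D0⁻¹ * (hD s)⁻¹ = tL (s * s)⁻¹ * tU (s * s) := by
  rw [mul_inv_eq_iff_eq_mul, D0_inv, ← mul_assoc, hD_mul_tL s 1 hs, mul_assoc, hD_mul_tU s 1 hs,
    ← mul_assoc, mul_one, mul_one, mul_inv]

end char2

end Cfsg.Agent.Helper50.Higman
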