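import Mathlib
import Cfsg.Agent.Lib.Helper50.Higman1

set_option autoImplicit false

/-!
The core computation for Higman's theorem: a representation of `SL₂(K)` (char `K` = 2, `K`
perfect) by `2 × 2` matrices over a (noncommutative) ring of characteristic two, normalised on
`t(1)`, `t'(1)` and with fixed point free elements of order three, is "natural".
-/

namespace Cfsg.Agent.Helper50.Higman

open Matrix

theorem mat_eq_iff {R : Type*} {a b c d a' b' c' d' : R} :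
    !![a, b; c, d] = !![a', b'; c', d'] ↔ a = a' ∧ b = b' ∧ c = c' ∧ d = d' := by
  constructor
  · intro h
    refine ⟨?_, ?_, ?_, ?_⟩
    · simpa using congrFun (congrFun h 0) 0
    · simpa using congrFun (congrFun h 0) 1
    · simpa using congrFun (congrFun h 1) 0
    · simpa using congrFun (congrFun h 1) 1
  · rintro ⟨rfl, rfl, rfl, rfl⟩
    rfl

section core
variable {K : Type*} [Field K] [CharP K 2]
variable {R : Type*} [Ring R]

/-- hypotheses of the core lemma -/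
structure CoreHyp (ρ : Matrix.SpecialLinearGroup (Fin 2) K →* Matrix (Fin 2) (Fin 2) R) :
    Prop where
  two : (2 : R) = 0
  hT : ρ (tU 1) = !![1, 1; 0, 1]
  hT' : ρ (tL 1) = !![1, 0; 1, 1]
  fpf : ∀ g, ρ (g * D0 * g⁻¹) + ρ (g * D0⁻¹ * g⁻¹) = 1
  sq : ∀ c : K, ∃ s : K, s * s = c

variable {ρ : Matrix.SpecialLinearGroup (Fin 2) K →* Matrix (Fin 2) (Fin 2) R}

/-- diagonal entry of `ρ (t c)` -/
def cP (ρ : Matrix.SpecialLinearGroup (Fin 2) K →* Matrix (Fin 2) (Fin 2) R) (c : K) : R :=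
  ρ (tU c) 0 0

/-- off-diagonal entry of `ρ (t c)` -/
def cA (ρ : Matrix.SpecialLinearGroup (Fin 2) K →* Matrix (Fin 2) (Fin 2) R) (c : K) : R :=
  ρ (tU c) 0 1

namespace CoreHyp

theorem add_self (h : CoreHyp ρ) (x : R) : x + x = 0 := by
  rw [← two_mul, h.two, zero_mul]

theorem eq_add_of_add_eq (h : CoreHyp ρ) {x y z : R} (e : x + y = z) : x = z + y := by
  calc x = x + (y + y) := by rw [h.add_self, add_zero]
    _ = (x + y) + y := by rw [add_assoc]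
    _ = z + y := by rw [e]

theorem eq_of_add_eq_zero (h : CoreHyp ρ) {x y : R} (e : x + y = 0) : x = y := by
  have := h.eq_add_of_add_eq e
  rwa [zero_add] at this

theorem rho_wE (h : CoreHyp ρ) : ρ wE = !![0, 1; 1, 0] := by
  rw [wE, map_mul, map_mul, h.hT, h.hT', Matrix.mul_fin_two, Matrix.mul_fin_two]
  simp [h.add_self]

theorem rho_tU (h : CoreHyp ρ) (c : K) : ρ (tU c) = !![cP ρ c, cA ρ c; 0, cP ρ c] := by
  have hc : ρ (tU c) * ρ (tU 1) = ρ (tU 1) * ρ (tU c) := by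
    rw [← map_mul, ← map_mul, tU_add, tU_add, add_comm]
  rw [h.hT] at hc
  unfold cP cA
  obtain ⟨p, q, r, s, hX⟩ : ∃ p q r s, ρ (tU c) = !![p, q; r, s] :=
    ⟨_, _, _, _, Matrix.eta_fin_two _⟩
  rw [hX] at hc ⊢
  rw [Matrix.mul_fin_two, Matrix.mul_fin_two, mat_eq_iff] at hc
  obtain ⟨h00, h01, -, -⟩ := hc
  simp only [mul_one, mul_zero, add_zero, one_mul, zero_mul] at h00 h01
  have hr : r = 0 := by simpa using h00
  have hs : p = s := by
    rw [add_comm] at h01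
    exact add_left_cancel h01
  simp [hr, hs]

theorem rho_tL (h : CoreHyp ρ) (c : K) : ρ (tL c) = !![cP ρ c, 0; cA ρ c, cP ρ c] := by
  rw [← wE_tU_wE, map_mul, map_mul, h.rho_wE, h.rho_tU, Matrix.mul_fin_two, Matrix.mul_fin_two]
  simp

theorem P_zero (h : CoreHyp ρ) : cP ρ (0 : K) = 1 := by
  unfold cP
  rw [tU_zero, map_one]
  simp

theorem A_zero (h : CoreHyp ρ) : cA ρ (0 : K) = 0 := by
  unfold cA
  rw [tU_zero, map_one]
  simp

theorem P_one (h : CoreHyp ρ) : cP ρ (1 : K) = 1 := by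
  unfold cP
  rw [h.hT]
  simp

theorem A_one (h : CoreHyp ρ) : cA ρ (1 : K) = 1 := by
  unfold cA
  rw [h.hT]
  simp

theorem PA_add (h : CoreHyp ρ) (a b : K) :
    cP ρ (a + b) = cP ρ a * cP ρ b ∧ cA ρ (a + b) = cP ρ a * cA ρ b + cA ρ a * cP ρ b := by
  have h1 : ρ (tU (a + b)) = ρ (tU a) * ρ (tU b) := by rw [← map_mul, tU_add]
  rw [h.rho_tU, h.rho_tU, h.rho_tU, Matrix.mul_fin_two, mat_eq_iff] at h1
  obtain ⟨h00, h01, -, -⟩ := h1
  simp only [mul_zero, add_zero] at h00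
  exact ⟨h00, h01⟩

theorem P_add (h : CoreHyp ρ) (a b : K) : cP ρ (a + b) = cP ρ a * cP ρ b := (h.PA_add a b).1

theorem A_add (h : CoreHyp ρ) (a b : K) :
    cA ρ (a + b) = cP ρ a * cA ρ b + cA ρ a * cP ρ b := (h.PA_add a b).2

theorem P_mul_self (h : CoreHyp ρ) (c : K) : cP ρ c * cP ρ c = 1 := by
  rw [← h.P_add, CharTwo.add_self_eq_zero, h.P_zero]

theorem PA_comm (h : CoreHyp ρ) (c : K) : cP ρ c * cA ρ c = cA ρ c * cP ρ c := by
  apply h.eq_of_add_eq_zero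
  rw [← h.A_add, CharTwo.add_self_eq_zero, h.A_zero]

theorem P_comm (h : CoreHyp ρ) (a b : K) : cP ρ a * cP ρ b = cP ρ b * cP ρ a := by
  rw [← h.P_add, ← h.P_add, add_comm]

theorem add_add_cancel_right (h : CoreHyp ρ) (x y : R) : x + y + y = x := by
  rw [add_assoc, h.add_self, add_zero]

theorem add_add_cancel_left (h : CoreHyp ρ) (x y : R) : x + (x + y) = y := by
  rw [← add_assoc, h.add_self, zero_add]

theorem inv_rel (h : CoreHyp ρ) (c : K) (hc : c ≠ 0) :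
    cA ρ c * cA ρ c⁻¹ = 1 ∧ cA ρ c⁻¹ * cA ρ c = 1 ∧
      cA ρ c * cP ρ c⁻¹ = cP ρ c⁻¹ * cA ρ c ∧ cP ρ c * cA ρ c⁻¹ = cA ρ c⁻¹ * cP ρ c := by
  obtain ⟨s, hs⟩ := h.sq c
  have hs0 : s ≠ 0 := by
    rintro rfl
    exact hc (by rw [← hs, mul_zero])
  have h1 := h.fpf (hD s)
  rw [hD_conj_D0 s hs0, hD_conj_D0_inv s hs0, hs, map_mul, map_mul, h.rho_tU, h.rho_tL,
    Matrix.mul_fin_two, Matrix.mul_fin_two, Matrix.one_fin_two] at h1
  have e00 := congrFun (congrFun h1 0) 0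
  have e01 := congrFun (congrFun h1 0) 1
  have e10 := congrFun (congrFun h1 1) 0
  have e11 := congrFun (congrFun h1 1) 1
  simp only [Matrix.add_apply, Matrix.of_apply, Matrix.cons_val_zero, Matrix.cons_val_one,
    Matrix.cons_val', Matrix.cons_val_fin_one, mul_zero, zero_mul, add_zero,
    zero_add] at e00 e01 e10 e11
  refine ⟨?_, ?_, ?_, ?_⟩
  · rw [h.P_comm c⁻¹ c, add_comm (cP ρ c * cP ρ c⁻¹), h.add_add_cancel_right] at e00
    exact e00
  · rw [h.P_comm c⁻¹ c, add_comm (cA ρ c⁻¹ * cA ρ c), h.add_add_cancel_left] at e11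
    exact e11
  · exact h.eq_of_add_eq_zero e01
  · exact h.eq_of_add_eq_zero e10

theorem rho_wL (h : CoreHyp ρ) (c : K) (hc : c ≠ 0) :
    ρ (wL c) = !![cP ρ c + cP ρ c⁻¹, cA ρ c; cA ρ c⁻¹, cP ρ c + cP ρ c⁻¹] := by
  obtain ⟨hAA', hA'A, hAP', hPA'⟩ := h.inv_rel c hc
  have hPP' := h.P_comm c c⁻¹
  have hPP := h.P_mul_self c
  have hPA := h.PA_comm c
  rw [wL, map_mul, map_mul, h.rho_tU, h.rho_tL, Matrix.mul_fin_two, Matrix.mul_fin_two,
    mat_eq_iff]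
  simp only [mul_zero, zero_mul, add_zero, zero_add]
  generalize cP ρ c = P at *
  generalize cP ρ c⁻¹ = P' at *
  generalize cA ρ c = A at *
  generalize cA ρ c⁻¹ = A' at *
  refine ⟨?_, ?_, ?_, ?_⟩
  · rw [hAA', add_mul, one_mul, hPP', mul_assoc, hPP, mul_one, add_comm]
  · have e1 : P * P' * A = A * P * P' := by rw [mul_assoc, ← hAP', ← mul_assoc, hPA]
    have e2 : A * P' * P = A * P * P' := by rw [mul_assoc, ← hPP', ← mul_assoc]
    rw [hAA', add_mul, one_mul, e1, e2, add_comm (A * P * P') A, h.add_add_cancel_right]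
  · rw [hPA', mul_assoc, hPP, mul_one]
  · rw [mul_assoc P A' A, hA'A, mul_one, hPP', mul_assoc, hPP, mul_one]

theorem rho_hD (h : CoreHyp ρ) (c : K) (hc : c ≠ 0) :
    ρ (hD c) = !![cA ρ c, cP ρ c + cP ρ c⁻¹; cP ρ c + cP ρ c⁻¹, cA ρ c⁻¹] := by
  rw [hD, map_mul, h.rho_wL c hc, h.rho_wE, Matrix.mul_fin_two]
  simp

theorem star1 (h : CoreHyp ρ) (c : K) (hc : c ≠ 0) :
    cP ρ c + cP ρ c⁻¹ = (cP ρ (c * c) + 1) * cA ρ c⁻¹ ∧ cA ρ (c * c) = cA ρ c * cA ρ c := by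
  obtain ⟨hAA', hA'A, -, -⟩ := h.inv_rel c hc
  have h1 : ρ (hD c) * ρ (tU 1) = ρ (tU (c * c)) * ρ (hD c) := by
    rw [← map_mul, ← map_mul, hD_mul_tU c 1 hc, mul_one]
  rw [h.rho_hD c hc, h.hT, h.rho_tU, Matrix.mul_fin_two, Matrix.mul_fin_two, mat_eq_iff] at h1
  simp only [mul_one, mul_zero, add_zero, zero_mul, zero_add] at h1
  obtain ⟨-, e01, e10, e11⟩ := h1
  constructor
  · rw [add_mul, one_mul]
    exact h.eq_add_of_add_eq e11
  · rw [← e10, add_comm] at e01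
    have e := add_left_cancel e01
    calc cA ρ (c * c) = cA ρ (c * c) * (cA ρ c⁻¹ * cA ρ c) := by rw [hA'A, mul_one]
      _ = cA ρ (c * c) * cA ρ c⁻¹ * cA ρ c := by rw [mul_assoc]
      _ = cA ρ c * cA ρ c := by rw [← e]

theorem star2 (h : CoreHyp ρ) (c : K) (hc : c ≠ 0) :
    cP ρ c + cP ρ c⁻¹ = (cP ρ (c⁻¹ * c⁻¹) + 1) * cA ρ c := by
  have h1 : ρ (hD c) * ρ (tL 1) = ρ (tL (c⁻¹ * c⁻¹)) * ρ (hD c) := by
    rw [← map_mul, ← map_mul, hD_mul_tL c 1 hc, mul_one]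
  rw [h.rho_hD c hc, h.hT', h.rho_tL, Matrix.mul_fin_two, Matrix.mul_fin_two, mat_eq_iff] at h1
  simp only [mul_one, mul_zero, add_zero, zero_mul, zero_add] at h1
  obtain ⟨e00, -, -, -⟩ := h1
  rw [add_mul, one_mul]
  rw [add_comm] at e00
  exact h.eq_add_of_add_eq e00

/-- `(◇)`: `N μ = N μ⁻¹ * A μ` -/
theorem diamond (h : CoreHyp ρ) (c : K) (hc : c ≠ 0) :
    cP ρ c + 1 = (cP ρ c⁻¹ + 1) * cA ρ c := by
  obtain ⟨s, hs⟩ := h.sq c
  have hs0 : s ≠ 0 := by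
    rintro rfl
    exact hc (by rw [← hs, mul_zero])
  obtain ⟨e1, e2⟩ := h.star1 s hs0
  have e3 := h.star2 s hs0
  obtain ⟨-, hA'A, -, -⟩ := h.inv_rel s hs0
  rw [← mul_inv, hs] at e3
  rw [hs] at e1 e2
  calc cP ρ c + 1 = (cP ρ c + 1) * (cA ρ s⁻¹ * cA ρ s) := by rw [hA'A, mul_one]
    _ = (cP ρ c + 1) * cA ρ s⁻¹ * cA ρ s := by rw [mul_assoc]
    _ = (cP ρ c⁻¹ + 1) * cA ρ s * cA ρ s := by rw [← e1, e3]
    _ = (cP ρ c⁻¹ + 1) * cA ρ c := by rw [mul_assoc, ← e2]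

/-- `(♠)`: `N (λ²) = N λ * (A λ + 1)` -/
theorem spade (h : CoreHyp ρ) (c : K) (hc : c ≠ 0) :
    cP ρ (c * c) + 1 = (cP ρ c + 1) * (cA ρ c + 1) := by
  obtain ⟨e1, -⟩ := h.star1 c hc
  obtain ⟨-, hA'A, -, -⟩ := h.inv_rel c hc
  have e2 := h.diamond c⁻¹ (inv_ne_zero hc)
  rw [inv_inv] at e2
  have e3 : cP ρ c + cP ρ c⁻¹ = (cP ρ c + 1) * (1 + cA ρ c⁻¹) := by
    rw [mul_add, mul_one, ← e2]
    calc cP ρ c + cP ρ c⁻¹ = cP ρ c + cP ρ c⁻¹ + (1 + 1) := by rw [h.add_self, add_zero]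
      _ = cP ρ c + 1 + (cP ρ c⁻¹ + 1) := by abel
  calc cP ρ (c * c) + 1 = (cP ρ (c * c) + 1) * (cA ρ c⁻¹ * cA ρ c) := by rw [hA'A, mul_one]
    _ = (cP ρ (c * c) + 1) * cA ρ c⁻¹ * cA ρ c := by rw [mul_assoc]
    _ = (cP ρ c + 1) * (1 + cA ρ c⁻¹) * cA ρ c := by rw [← e1, e3]
    _ = (cP ρ c + 1) * (cA ρ c + 1) := by
        rw [mul_assoc]
        congr 1
        rw [add_mul, one_mul, hA'A]

/-- `(♥)`: `N (λ² + λ) = N λ * A λ` -/
theorem heart (h : CoreHyp ρ) (c : K) (hc : c ≠ 0) :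
    cP ρ (c * c + c) + 1 = (cP ρ c + 1) * cA ρ c := by
  have e1 := h.spade c hc
  have hPP := h.P_mul_self c
  have hPA := h.PA_comm c
  have e2 : cP ρ (c * c) = (cP ρ c + 1) * (cA ρ c + 1) + 1 := h.eq_add_of_add_eq e1
  rw [h.P_add, e2]
  generalize cP ρ c = P at *
  generalize cA ρ c = A at *
  have e3 : (A + 1) * P = P * (A + 1) := by
    rw [add_mul, mul_add, one_mul, mul_one, hPA]
  have e4 : (P + 1) * P = P + 1 := by
    rw [add_mul, one_mul, hPP, add_comm]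
  calc ((P + 1) * (A + 1) + 1) * P + 1 = (P + 1) * ((A + 1) * P) + (P + 1) := by
        rw [add_mul, one_mul, mul_assoc, add_assoc]
    _ = (P + 1) * P * (A + 1) + (P + 1) := by rw [e3, mul_assoc]
    _ = (P + 1) * A + ((P + 1) + (P + 1)) := by rw [e4, mul_add, mul_one, add_assoc]
    _ = (P + 1) * A := by rw [h.add_self, add_zero]

theorem N_eq_zero (h : CoreHyp ρ) (c : K) (hc : c ≠ 0) (hc1 : c + 1 ≠ 0) :
    cP ρ c + 1 = 0 := by
  have e1 := h.heart c hc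
  have e2 := h.heart (c + 1) hc1
  have hidx : (c + 1) * (c + 1) + (c + 1) = c * c + c := by
    linear_combination (c + 1) * (CharTwo.two_eq_zero : (2 : K) = 0)
  have hP1 : cP ρ (c + 1) = cP ρ c := by rw [h.P_add, h.P_one, mul_one]
  have hA1 : cA ρ (c + 1) = cP ρ c + cA ρ c := by
    rw [h.A_add, h.P_one, h.A_one, mul_one, mul_one]
  have hPP := h.P_mul_self c
  rw [hidx, hP1, hA1, e1, mul_add] at e2
  have e4 : (cP ρ c + 1) * cP ρ c = cP ρ c + 1 := by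
    rw [add_mul, one_mul, hPP, add_comm]
  rw [e4] at e2
  -- e2 : N * A = N + N * A
  have := h.eq_add_of_add_eq e2.symm
  rw [h.add_self] at this
  exact this

theorem P_eq_one (h : CoreHyp ρ) (c : K) : cP ρ c = 1 := by
  by_cases hc : c = 0
  · rw [hc, h.P_zero]
  by_cases hc1 : c + 1 = 0
  · have : c = 1 := by
      have := eq_neg_of_add_eq_zero_left hc1
      rwa [CharTwo.neg_eq] at this
    rw [this, h.P_one]
  · exact h.eq_of_add_eq_zero (h.N_eq_zero c hc hc1)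

theorem A_add' (h : CoreHyp ρ) (a b : K) : cA ρ (a + b) = cA ρ a + cA ρ b := by
  rw [h.A_add, h.P_eq_one, h.P_eq_one, one_mul, mul_one, add_comm]

theorem A_mul (h : CoreHyp ρ) (a b : K) : cA ρ (a * b) = cA ρ a * cA ρ b := by
  by_cases ha : a = 0
  · rw [ha, zero_mul, h.A_zero, zero_mul]
  by_cases hb : b = 0
  · rw [hb, mul_zero, h.A_zero, mul_zero]
  have h1 : ρ (hD (a * b)) = ρ (hD a) * ρ (hD b) := by rw [← map_mul, hD_mul_hD a b ha hb]
  rw [h.rho_hD _ (mul_ne_zero ha hb), h.rho_hD a ha, h.rho_hD b hb, Matrix.mul_fin_two,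
    mat_eq_iff] at h1
  obtain ⟨e00, -, -, -⟩ := h1
  simp only [h.P_eq_one, h.add_self, mul_zero, zero_mul, add_zero] at e00
  exact e00

/-- the ring homomorphism `K → R` given by the off-diagonal entry -/
def ringHom (h : CoreHyp ρ) : K →+* R where
  toFun := cA ρ
  map_one' := h.A_one
  map_mul' := h.A_mul
  map_zero' := h.A_zero
  map_add' := h.A_add'

theorem ringHom_apply (h : CoreHyp ρ) (c : K) : h.ringHom c = cA ρ c := rfl

theorem rho_tU' (h : CoreHyp ρ) (c : K) : ρ (tU c) = !![1, h.ringHom c; 0, 1] := by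
  rw [h.rho_tU, h.P_eq_one, ringHom_apply]

theorem rho_tL' (h : CoreHyp ρ) (c : K) : ρ (tL c) = !![1, 0; h.ringHom c, 1] := by
  rw [h.rho_tL, h.P_eq_one, ringHom_apply]

end CoreHyp

end core

end Cfsg.Agent.Helper50.Higman
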