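import Mathlib
import Cfsg.Agent.Lib.Helper50.Higman2

set_option autoImplicit false

/-!
Matrix units `a, b` with `a² = b² = 0`, `ab + ba = 1` in a ring of characteristic two give a ring
homomorphism `R → M₂(R)`; combined with the core lemma this yields the structure of
representations of `SL₂(K)` with fixed point free elements of order three.
-/

namespace Cfsg.Agent.Helper50.Higman

open Matrix

section units
variable {R : Type*} [Ring R]

/-- a pair of "matrix units" in a ring of characteristic two -/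
structure UnitsHyp (a b : R) : Prop where
  two : (2 : R) = 0
  aa : a * a = 0
  bb : b * b = 0
  ab : a * b + b * a = 1

/-- the involutive matrix `[[ab, b],[a, ba]]` -/
def uMat (a b : R) : Matrix (Fin 2) (Fin 2) R := !![a * b, b; a, b * a]

theorem scalar_fin_two (Z : R) : Matrix.scalar (Fin 2) Z = !![Z, 0; 0, Z] := by
  ext i j
  fin_cases i <;> fin_cases j <;> simp

namespace UnitsHyp
variable {a b : R}

theorem add_self (h : UnitsHyp a b) (x : R) : x + x = 0 := by
  rw [← two_mul, h.two, zero_mul]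

theorem ba_eq (h : UnitsHyp a b) : b * a = 1 + a * b := by
  have := h.ab
  calc b * a = a * b + b * a + a * b := by
        rw [add_comm (a * b), add_assoc, h.add_self, add_zero]
    _ = 1 + a * b := by rw [this]

theorem aba (h : UnitsHyp a b) : a * b * a = a := by
  rw [mul_assoc, h.ba_eq, mul_add, mul_one, ← mul_assoc, h.aa, zero_mul, add_zero]

theorem bab (h : UnitsHyp a b) : b * a * b = b := by
  rw [h.ba_eq, add_mul, one_mul, mul_assoc, h.bb, mul_zero, add_zero]

theorem abab (h : UnitsHyp a b) : a * b * (a * b) = a * b := by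
  rw [← mul_assoc, h.aba]

theorem baba (h : UnitsHyp a b) : b * a * (b * a) = b * a := by
  rw [← mul_assoc, h.bab]

theorem uMat_mul_self (h : UnitsHyp a b) : uMat a b * uMat a b = 1 := by
  rw [uMat, Matrix.mul_fin_two, Matrix.one_fin_two, mat_eq_iff]
  refine ⟨?_, ?_, ?_, ?_⟩
  · rw [h.abab, h.ab]
  · rw [mul_assoc a b b, h.bb, mul_zero, ← mul_assoc b b a, h.bb, zero_mul, add_zero]
  · rw [← mul_assoc a a b, h.aa, zero_mul, mul_assoc b a a, h.aa, mul_zero, add_zero]
  · rw [h.baba, h.ab]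

/-- the ring homomorphism `R → M₂(R)` attached to matrix units -/
def phi (h : UnitsHyp a b) : R →+* Matrix (Fin 2) (Fin 2) R where
  toFun Z := uMat a b * Matrix.scalar (Fin 2) Z * uMat a b
  map_one' := by rw [map_one, mul_one, h.uMat_mul_self]
  map_mul' Z Z' := by
    rw [map_mul]
    calc uMat a b * (Matrix.scalar (Fin 2) Z * Matrix.scalar (Fin 2) Z') * uMat a b
        = uMat a b * Matrix.scalar (Fin 2) Z * 1 * (Matrix.scalar (Fin 2) Z' * uMat a b) := by
          rw [mul_one, mul_assoc, mul_assoc, mul_assoc]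
      _ = uMat a b * Matrix.scalar (Fin 2) Z * uMat a b *
            (uMat a b * Matrix.scalar (Fin 2) Z' * uMat a b) := by
          rw [← h.uMat_mul_self, mul_assoc, mul_assoc, mul_assoc, mul_assoc, mul_assoc,
            mul_assoc]
  map_zero' := by rw [map_zero, mul_zero, zero_mul]
  map_add' Z Z' := by rw [map_add, mul_add, add_mul]

theorem phi_apply (h : UnitsHyp a b) (Z : R) :
    h.phi Z = uMat a b * Matrix.scalar (Fin 2) Z * uMat a b := rfl

theorem scalar_eq (h : UnitsHyp a b) (Z : R) :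
    Matrix.scalar (Fin 2) Z = uMat a b * h.phi Z * uMat a b := by
  rw [phi_apply]
  calc Matrix.scalar (Fin 2) Z = 1 * Matrix.scalar (Fin 2) Z * 1 := by rw [one_mul, mul_one]
    _ = uMat a b * (uMat a b * Matrix.scalar (Fin 2) Z * uMat a b) * uMat a b := by
      rw [← h.uMat_mul_self, mul_assoc, mul_assoc, mul_assoc, mul_assoc, mul_assoc]

theorem phi_a (h : UnitsHyp a b) : h.phi a = !![0, 1; 0, 0] := by
  rw [phi_apply, scalar_fin_two, uMat, Matrix.mul_fin_two, Matrix.mul_fin_two, mat_eq_iff]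
  simp only [mul_zero, zero_mul, add_zero, zero_add]
  refine ⟨?_, ?_, ?_, ?_⟩
  · rw [h.aba, ← mul_assoc a a b, h.aa, zero_mul, mul_assoc b a a, h.aa, mul_zero, add_zero]
  · rw [h.aba, h.baba, h.ab]
  · rw [h.aa, zero_mul, zero_add, mul_assoc b a a, h.aa, mul_zero, zero_mul]
  · rw [h.aa, zero_mul, zero_add, mul_assoc b a a, h.aa, mul_zero, zero_mul]

theorem phi_b (h : UnitsHyp a b) : h.phi b = !![0, 0; 1, 0] := by
  rw [phi_apply, scalar_fin_two, uMat, Matrix.mul_fin_two, Matrix.mul_fin_two, mat_eq_iff]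
  simp only [mul_zero, zero_mul, add_zero, zero_add]
  refine ⟨?_, ?_, ?_, ?_⟩
  · rw [mul_assoc a b b, h.bb, mul_zero, zero_mul, zero_add, zero_mul]
  · rw [mul_assoc a b b, h.bb, mul_zero, zero_mul, zero_add, zero_mul]
  · rw [h.abab, h.bab, h.ab]
  · rw [h.bab, ← mul_assoc b b a, h.bb, zero_mul, add_zero, mul_assoc a b b, h.bb, mul_zero]

end UnitsHyp

end units

section thmA
variable {K : Type*} [Field K] [CharP K 2]
variable {R : Type*} [Ring R]

/-- hypotheses on a representation of `SL₂(K)` in a ring of characteristic two: all conjugates of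
`D0` satisfy `d + d⁻¹ = 1`. -/
structure NatHyp (ρ : Matrix.SpecialLinearGroup (Fin 2) K →* R) : Prop where
  two : (2 : R) = 0
  fpf : ∀ g, ρ (g * D0 * g⁻¹) + ρ (g * D0⁻¹ * g⁻¹) = 1
  sq : ∀ c : K, ∃ s : K, s * s = c

/-- `ρ(t 1) + 1` -/
def eA (ρ : Matrix.SpecialLinearGroup (Fin 2) K →* R) : R := ρ (tU 1) + 1

/-- `ρ(t' 1) + 1` -/
def eB (ρ : Matrix.SpecialLinearGroup (Fin 2) K →* R) : R := ρ (tL 1) + 1

variable {ρ : Matrix.SpecialLinearGroup (Fin 2) K →* R}

namespace NatHyp

theorem add_self (h : NatHyp ρ) (x : R) : x + x = 0 := by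
  rw [← two_mul, h.two, zero_mul]

theorem units (h : NatHyp ρ) : UnitsHyp (eA ρ) (eB ρ) where
  two := h.two
  aa := by
    unfold eA
    have hTT : ρ (tU 1) * ρ (tU 1) = 1 := by rw [← map_mul, tU_mul_self, map_one]
    calc (ρ (tU 1) + 1) * (ρ (tU 1) + 1)
        = ρ (tU 1) * ρ (tU 1) + 1 + (ρ (tU 1) + ρ (tU 1)) := by noncomm_ring
      _ = 0 := by rw [hTT, h.add_self, h.add_self, add_zero]
  bb := by
    unfold eB
    have hTT : ρ (tL 1) * ρ (tL 1) = 1 := by rw [← map_mul, tL_mul_self, map_one]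
    calc (ρ (tL 1) + 1) * (ρ (tL 1) + 1)
        = ρ (tL 1) * ρ (tL 1) + 1 + (ρ (tL 1) + ρ (tL 1)) := by noncomm_ring
      _ = 0 := by rw [hTT, h.add_self, h.add_self, add_zero]
  ab := by
    unfold eA eB
    have h1 := h.fpf 1
    simp only [one_mul, inv_one, mul_one] at h1
    rw [D0_inv, D0, map_mul, map_mul] at h1
    calc (ρ (tU 1) + 1) * (ρ (tL 1) + 1) + (ρ (tL 1) + 1) * (ρ (tU 1) + 1)
        = ρ (tU 1) * ρ (tL 1) + ρ (tL 1) * ρ (tU 1) +
            ((ρ (tU 1) + ρ (tU 1)) + (ρ (tL 1) + ρ (tL 1)) + (1 + 1)) := by noncomm_ring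
      _ = 1 := by
        rw [h1]
        simp only [h.add_self, add_zero]

theorem rho_tU_one (h : NatHyp ρ) : ρ (tU 1) = eA ρ + 1 := by
  unfold eA
  rw [add_assoc, h.add_self, add_zero]

theorem rho_tL_one (h : NatHyp ρ) : ρ (tL 1) = eB ρ + 1 := by
  unfold eB
  rw [add_assoc, h.add_self, add_zero]

/-- the matrix representation attached to `ρ` -/
def rho' (h : NatHyp ρ) : Matrix.SpecialLinearGroup (Fin 2) K →* Matrix (Fin 2) (Fin 2) R :=
  (h.units.phi : R →* Matrix (Fin 2) (Fin 2) R).comp ρ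

theorem rho'_apply (h : NatHyp ρ) (g : Matrix.SpecialLinearGroup (Fin 2) K) :
    h.rho' g = h.units.phi (ρ g) := rfl

theorem core (h : NatHyp ρ) : CoreHyp h.rho' where
  two := h.two
  hT := by
    rw [rho'_apply, h.rho_tU_one, map_add, map_one, h.units.phi_a, Matrix.one_fin_two]
    ext i j
    fin_cases i <;> fin_cases j <;> simp
  hT' := by
    rw [rho'_apply, h.rho_tL_one, map_add, map_one, h.units.phi_b, Matrix.one_fin_two]
    ext i j
    fin_cases i <;> fin_cases j <;> simp
  fpf := by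
    intro g
    rw [rho'_apply, rho'_apply, ← map_add, h.fpf, map_one]
  sq := h.sq

/-- the ring homomorphism giving the `K`-structure -/
def ringHom (h : NatHyp ρ) : K →+* R := h.core.ringHom

theorem ringHom_eq (h : NatHyp ρ) (c : K) :
    h.ringHom c = eA ρ * eB ρ * ρ (tU c) * eB ρ + eB ρ * ρ (tU c) * (eB ρ * eA ρ) := by
  have h1 : h.ringHom c = (h.units.phi (ρ (tU c))) 0 1 := rfl
  rw [h1, UnitsHyp.phi_apply, scalar_fin_two, uMat, Matrix.mul_fin_two, Matrix.mul_fin_two]
  simp

theorem ringHom_comm_a (h : NatHyp ρ) (c : K) : h.ringHom c * eA ρ = eA ρ * h.ringHom c := by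
  rw [h.ringHom_eq]
  have haa := h.units.aa
  generalize eA ρ = a at *
  generalize eB ρ = b at *
  generalize ρ (tU c) = X at *
  have e1 : b * X * (b * a) * a = 0 := by
    rw [mul_assoc (b * X), mul_assoc b a a, haa, mul_zero, mul_zero]
  have e2 : a * (a * b * X * b) = 0 := by
    rw [← mul_assoc, ← mul_assoc, ← mul_assoc, haa, zero_mul, zero_mul, zero_mul]
  rw [add_mul, mul_add, e1, e2, add_zero, zero_add]
  noncomm_ring

theorem ringHom_comm_b (h : NatHyp ρ) (c : K) : h.ringHom c * eB ρ = eB ρ * h.ringHom c := by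
  rw [h.ringHom_eq]
  have hbb := h.units.bb
  have hbab := h.units.bab
  generalize eA ρ = a at *
  generalize eB ρ = b at *
  generalize ρ (tU c) = X at *
  have e1 : a * b * X * b * b = 0 := by
    rw [mul_assoc (a * b * X), hbb, mul_zero]
  have e2 : b * (b * X * (b * a)) = 0 := by
    rw [mul_assoc b X, ← mul_assoc b b, hbb, zero_mul]
  have e3 : b * X * (b * a) * b = b * X * b := by
    rw [mul_assoc (b * X), hbab]
  have e4 : b * (a * b * X * b) = b * X * b := by
    rw [← mul_assoc, ← mul_assoc, ← mul_assoc, hbab]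
  rw [add_mul, mul_add, e1, e2, add_zero, zero_add, e3, e4]

theorem rho_tU (h : NatHyp ρ) (c : K) : ρ (tU c) = 1 + h.ringHom c * eA ρ := by
  have h1 : h.units.phi (ρ (tU c)) = !![1, h.ringHom c; 0, 1] := h.core.rho_tU' c
  have h2 := congrFun (congrFun (h.units.scalar_eq (ρ (tU c))) 0) 0
  rw [h1, scalar_fin_two, uMat, Matrix.mul_fin_two, Matrix.mul_fin_two] at h2
  simp only [Matrix.of_apply, Matrix.cons_val_zero, Matrix.cons_val', Matrix.cons_val_fin_one,
    mul_one, mul_zero, add_zero] at h2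
  rw [h2]
  clear h1 h2
  have hc := h.ringHom_comm_a c
  have hc' := h.ringHom_comm_b c
  have haba := h.units.aba
  have habab := h.units.abab
  have hab := h.units.ab
  generalize eA ρ = a at *
  generalize eB ρ = b at *
  generalize h.ringHom c = A at *
  have e1 : a * b * A = A * (a * b) := by
    rw [mul_assoc, ← hc', ← mul_assoc, ← hc, mul_assoc]
  rw [add_mul, e1, mul_assoc A, haba, habab, ← hab]
  abel

theorem rho_tL (h : NatHyp ρ) (c : K) : ρ (tL c) = 1 + h.ringHom c * eB ρ := by
  have h1 : h.units.phi (ρ (tL c)) = !![1, 0; h.ringHom c, 1] := h.core.rho_tL' c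
  have h2 := congrFun (congrFun (h.units.scalar_eq (ρ (tL c))) 0) 0
  rw [h1, scalar_fin_two, uMat, Matrix.mul_fin_two, Matrix.mul_fin_two] at h2
  simp only [Matrix.of_apply, Matrix.cons_val_zero, Matrix.cons_val', Matrix.cons_val_fin_one,
    mul_one, mul_zero, add_zero, zero_add] at h2
  rw [h2]
  clear h1 h2
  have hc := h.ringHom_comm_a c
  have hc' := h.ringHom_comm_b c
  have hbab := h.units.bab
  have habab := h.units.abab
  have hab := h.units.ab
  generalize eA ρ = a at *
  generalize eB ρ = b at *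
  generalize h.ringHom c = A at *
  have e1 : b * A * (a * b) = A * b := by
    rw [← hc', mul_assoc, ← mul_assoc b a b, hbab]
  rw [add_mul, e1, habab, ← hab]
  abel

end NatHyp

end thmA

end Cfsg.Agent.Helper50.Higman

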