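import Mathlib
import Cfsg.Agent.Lib.Helper50.Higman3

set_option autoImplicit false

/-!
Module-level consequences of the structure theorem: `SL₂(K)` acting on an abelian group `W`
of exponent two with fixed point free elements of order three.
-/

namespace Cfsg.Agent.Helper50.Higman

open Matrix

section basics
variable {W : Type*} [AddCommGroup W]

theorem end_add_apply (f g : AddMonoid.End W) (w : W) : (f + g) w = f w + g w := rfl
theorem end_mul_apply (f g : AddMonoid.End W) (w : W) : (f * g) w = f (g w) := rfl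
theorem end_one_apply (w : W) : (1 : AddMonoid.End W) w = w := rfl
theorem end_zero_apply (w : W) : (0 : AddMonoid.End W) w = 0 := rfl

end basics

section modules
variable {K : Type*} [Field K] [CharP K 2]
variable {W : Type*} [AddCommGroup W]

/-- every conjugate of `D0` acts fixed point freely -/
def FpfHyp (ρ : Matrix.SpecialLinearGroup (Fin 2) K →* AddMonoid.End W) : Prop :=
  ∀ g w, ρ (g * D0 * g⁻¹) w = w → w = 0

theorem conj_D0_cube (g : Matrix.SpecialLinearGroup (Fin 2) K) :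
    (g * D0 * g⁻¹) * (g * D0 * g⁻¹) * (g * D0 * g⁻¹) = 1 := by
  have h := D0_pow_three (K := K)
  rw [pow_succ, pow_two] at h
  calc (g * D0 * g⁻¹) * (g * D0 * g⁻¹) * (g * D0 * g⁻¹) = g * (D0 * D0 * D0) * g⁻¹ := by group
    _ = 1 := by rw [h, mul_one, mul_inv_cancel]

theorem conj_D0_inv (g : Matrix.SpecialLinearGroup (Fin 2) K) :
    g * D0⁻¹ * g⁻¹ = (g * D0 * g⁻¹) * (g * D0 * g⁻¹) := by
  have h := conj_D0_cube g
  have h2 : g * D0⁻¹ * g⁻¹ = (g * D0 * g⁻¹)⁻¹ := by group
  rw [h2, inv_eq_iff_mul_eq_one, ← mul_assoc]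
  exact h

theorem FpfHyp.sum_eq_zero {ρ : Matrix.SpecialLinearGroup (Fin 2) K →* AddMonoid.End W}
    (h : FpfHyp ρ) (g : Matrix.SpecialLinearGroup (Fin 2) K) (w : W) :
    w + ρ (g * D0 * g⁻¹) w + ρ (g * D0⁻¹ * g⁻¹) w = 0 := by
  rw [conj_D0_inv]
  set d := g * D0 * g⁻¹ with hd
  apply h g
  have h3 : d * (d * d) = 1 := by
    rw [← mul_assoc]
    exact conj_D0_cube g
  rw [← hd, map_add, map_add, ← end_mul_apply, ← end_mul_apply, ← map_mul, ← map_mul,
    h3, map_one, end_one_apply]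
  abel

/-- module-level hypotheses -/
structure ModHyp (ρ : Matrix.SpecialLinearGroup (Fin 2) K →* AddMonoid.End W) : Prop where
  two : ∀ w : W, w + w = 0
  fpf : FpfHyp ρ
  sq : ∀ c : K, ∃ s : K, s * s = c

variable {ρ : Matrix.SpecialLinearGroup (Fin 2) K →* AddMonoid.End W}

namespace ModHyp

theorem neg_eq (h : ModHyp ρ) (w : W) : -w = w := by
  rw [neg_eq_iff_add_eq_zero, h.two]

theorem nat (h : ModHyp ρ) : NatHyp ρ where
  two := by
    ext w
    rw [AddMonoid.End.ofNat_apply, two_nsmul, h.two, end_zero_apply]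
  fpf := by
    intro g
    ext w
    have h1 := h.fpf.sum_eq_zero g w
    rw [end_add_apply, end_one_apply]
    rw [add_assoc] at h1
    have h2 := eq_neg_of_add_eq_zero_right h1
    rw [h.neg_eq] at h2
    exact h2
  sq := h.sq

end ModHyp

/-- the generic formula for the scalar action -/
def eAc (ρ : Matrix.SpecialLinearGroup (Fin 2) K →* AddMonoid.End W) (c : K) : AddMonoid.End W :=
  eA ρ * eB ρ * ρ (tU c) * eB ρ + eB ρ * ρ (tU c) * (eB ρ * eA ρ)

theorem eA_apply (w : W) : eA ρ w = ρ (tU 1) w + w := rfl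

theorem eB_apply (w : W) : eB ρ w = ρ (tL 1) w + w := rfl

namespace ModHyp

theorem ringHom_eq (h : ModHyp ρ) (c : K) : h.nat.ringHom c = eAc ρ c := h.nat.ringHom_eq c

theorem aa (h : ModHyp ρ) (w : W) : eA ρ (eA ρ w) = 0 := by
  rw [← end_mul_apply, h.nat.units.aa, end_zero_apply]

theorem bb (h : ModHyp ρ) (w : W) : eB ρ (eB ρ w) = 0 := by
  rw [← end_mul_apply, h.nat.units.bb, end_zero_apply]

theorem ab (h : ModHyp ρ) (w : W) : eA ρ (eB ρ w) + eB ρ (eA ρ w) = w := by
  rw [← end_mul_apply, ← end_mul_apply, ← end_add_apply, h.nat.units.ab, end_one_apply]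

theorem ab_of (h : ModHyp ρ) {w : W} (hw : eA ρ w = 0) : eA ρ (eB ρ w) = w := by
  have := h.ab w
  rwa [hw, map_zero, add_zero] at this

theorem ba_of (h : ModHyp ρ) {w : W} (hw : eB ρ w = 0) : eB ρ (eA ρ w) = w := by
  have := h.ab w
  rwa [hw, map_zero, zero_add] at this

theorem tU_apply (h : ModHyp ρ) (c : K) (w : W) : ρ (tU c) w = w + eAc ρ c (eA ρ w) := by
  rw [h.nat.rho_tU c, h.ringHom_eq, end_add_apply, end_one_apply, end_mul_apply]

theorem tL_apply (h : ModHyp ρ) (c : K) (w : W) : ρ (tL c) w = w + eAc ρ c (eB ρ w) := by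
  rw [h.nat.rho_tL c, h.ringHom_eq, end_add_apply, end_one_apply, end_mul_apply]

theorem Ac_a (h : ModHyp ρ) (c : K) (w : W) : eAc ρ c (eA ρ w) = eA ρ (eAc ρ c w) := by
  rw [← end_mul_apply, ← end_mul_apply, ← h.ringHom_eq, h.nat.ringHom_comm_a]

theorem Ac_b (h : ModHyp ρ) (c : K) (w : W) : eAc ρ c (eB ρ w) = eB ρ (eAc ρ c w) := by
  rw [← end_mul_apply, ← end_mul_apply, ← h.ringHom_eq, h.nat.ringHom_comm_b]

theorem Ac_add (h : ModHyp ρ) (c c' : K) (w : W) :
    eAc ρ (c + c') w = eAc ρ c w + eAc ρ c' w := by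
  rw [← h.ringHom_eq, ← h.ringHom_eq, ← h.ringHom_eq, map_add, end_add_apply]

theorem Ac_mul (h : ModHyp ρ) (c c' : K) (w : W) :
    eAc ρ (c * c') w = eAc ρ c (eAc ρ c' w) := by
  rw [← h.ringHom_eq, ← h.ringHom_eq, ← h.ringHom_eq, map_mul, end_mul_apply]

theorem Ac_one (h : ModHyp ρ) (w : W) : eAc ρ 1 w = w := by
  rw [← h.ringHom_eq, map_one, end_one_apply]

theorem Ac_zero (h : ModHyp ρ) (w : W) : eAc ρ 0 w = 0 := by
  rw [← h.ringHom_eq, map_zero, end_zero_apply]

theorem Ac_inv (h : ModHyp ρ) (c : K) (hc : c ≠ 0) (w : W) : eAc ρ c⁻¹ (eAc ρ c w) = w := by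
  rw [← h.Ac_mul, inv_mul_cancel₀ hc, h.Ac_one]

theorem Ac_pow (h : ModHyp ρ) (c : K) (k : ℕ) (w : W) :
    eAc ρ (c ^ k) w = (eAc ρ c)^[k] w := by
  induction k generalizing w with
  | zero => rw [pow_zero, h.Ac_one, Function.iterate_zero, id]
  | succ k ih => rw [pow_succ, h.Ac_mul, ih, Function.iterate_succ, Function.comp]

/-- `wE` acts on `ker a` as `b`. -/
theorem wE_apply (h : ModHyp ρ) {w : W} (hw : eA ρ w = 0) : ρ wE w = eB ρ w := by
  have e1 : ρ (tU 1) w = w := by rw [h.tU_apply, hw, map_zero, add_zero]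
  have e2 : ρ (tL 1) w = w + eB ρ w := by rw [h.tL_apply, h.Ac_one]
  have e3 : ρ (tU 1) (w + eB ρ w) = eB ρ w := by
    rw [h.tU_apply, h.Ac_one, map_add, hw, zero_add, h.ab_of hw, add_comm w, add_assoc, h.two,
      add_zero]
  rw [wE, map_mul, map_mul, end_mul_apply, end_mul_apply, e1, e2, e3]

/-- `hD c` acts on `ker a` as the scalar `c`. -/
theorem hD_apply (h : ModHyp ρ) (c : K) (hc : c ≠ 0) {w : W} (hw : eA ρ w = 0) :
    ρ (hD c) w = eAc ρ c w := by
  have e1 : ρ (tU c) (eB ρ w) = eB ρ w + eAc ρ c w := by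
    rw [h.tU_apply, h.ab_of hw]
  have e2 : ρ (tL c⁻¹) (eB ρ w + eAc ρ c w) = eAc ρ c w := by
    rw [h.tL_apply, map_add, h.bb, zero_add, ← h.Ac_b, h.Ac_inv c hc, add_comm (eB ρ w),
      add_assoc, h.two, add_zero]
  have e3 : ρ (tU c) (eAc ρ c w) = eAc ρ c w := by
    rw [h.tU_apply, ← h.Ac_a, hw, map_zero, map_zero, add_zero]
  rw [hD, map_mul, end_mul_apply, h.wE_apply hw, wL, map_mul, map_mul, end_mul_apply,
    end_mul_apply, e1, e2, e3]

end ModHyp

end modules

section subquot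
variable {K : Type*} [Field K] [CharP K 2]
variable {W : Type*} [AddCommGroup W]
variable (ρ : Matrix.SpecialLinearGroup (Fin 2) K →* AddMonoid.End W) (U : AddSubgroup W)
  (hU : ∀ g, ∀ w ∈ U, ρ g w ∈ U)

/-- restriction of a representation to a stable subgroup -/
def resRep : Matrix.SpecialLinearGroup (Fin 2) K →* AddMonoid.End U where
  toFun g := ((ρ g).comp U.subtype).codRestrict U (fun w => hU g w w.2)
  map_one' := by
    apply AddMonoidHom.ext
    intro w
    apply Subtype.ext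
    show ρ 1 w = w
    rw [map_one]
    rfl
  map_mul' g g' := by
    apply AddMonoidHom.ext
    intro w
    apply Subtype.ext
    show ρ (g * g') w = ρ g (ρ g' w)
    rw [map_mul]
    rfl

theorem resRep_apply (g : Matrix.SpecialLinearGroup (Fin 2) K) (w : U) :
    ((resRep ρ U hU g w : U) : W) = ρ g w := rfl

theorem resRep_eA (w : U) : ((eA (resRep ρ U hU) w : U) : W) = eA ρ w := rfl

theorem resRep_eB (w : U) : ((eB (resRep ρ U hU) w : U) : W) = eB ρ w := rfl

theorem resRep_eAc (c : K) (w : U) : ((eAc (resRep ρ U hU) c w : U) : W) = eAc ρ c w := rfl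

/-- the representation on the quotient by a stable subgroup -/
def quotRep : Matrix.SpecialLinearGroup (Fin 2) K →* AddMonoid.End (W ⧸ U) where
  toFun g := QuotientAddGroup.map U U (ρ g) (fun w hw => hU g w hw)
  map_one' := by
    apply AddMonoidHom.ext
    intro x
    induction x using QuotientAddGroup.induction_on with
    | H w =>
      show (QuotientAddGroup.mk (ρ 1 w) : W ⧸ U) = QuotientAddGroup.mk w
      rw [map_one]
      rfl
  map_mul' g g' := by
    apply AddMonoidHom.ext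
    intro x
    induction x using QuotientAddGroup.induction_on with
    | H w =>
      show (QuotientAddGroup.mk (ρ (g * g') w) : W ⧸ U) = QuotientAddGroup.mk (ρ g (ρ g' w))
      rw [map_mul]
      rfl

theorem quotRep_mk (g : Matrix.SpecialLinearGroup (Fin 2) K) (w : W) :
    quotRep ρ U hU g (QuotientAddGroup.mk w) = QuotientAddGroup.mk (ρ g w) := rfl

end subquot

section subquot2
variable {K : Type*} [Field K] [CharP K 2]
variable {W : Type*} [AddCommGroup W]
variable {ρ : Matrix.SpecialLinearGroup (Fin 2) K →* AddMonoid.End W} {U : AddSubgroup W}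
  (hU : ∀ g, ∀ w ∈ U, ρ g w ∈ U)
include hU

theorem eA_mem {w : W} (hw : w ∈ U) : eA ρ w ∈ U := U.add_mem (hU _ w hw) hw

theorem eB_mem {w : W} (hw : w ∈ U) : eB ρ w ∈ U := U.add_mem (hU _ w hw) hw

theorem eAc_mem (c : K) {w : W} (hw : w ∈ U) : eAc ρ c w ∈ U := by
  unfold eAc
  simp only [end_add_apply, end_mul_apply]
  exact U.add_mem (eA_mem hU (eB_mem hU (hU _ _ (eB_mem hU hw))))
    (eB_mem hU (hU _ _ (eB_mem hU (eA_mem hU hw))))

theorem modHyp_resRep (h2 : ∀ w ∈ U, w + w = 0) (hf : FpfHyp ρ) (hsq : ∀ c : K, ∃ s : K, s * s = c) :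
    ModHyp (resRep ρ U hU) where
  two := fun w => Subtype.ext (h2 w w.2)
  fpf := by
    intro g w hw
    apply Subtype.ext
    exact hf g w (congrArg Subtype.val hw)
  sq := hsq

theorem modHyp_quotRep (h2 : ∀ w : W, w + w ∈ U) (hf : FpfHyp ρ)
    (hsq : ∀ c : K, ∃ s : K, s * s = c) : ModHyp (quotRep ρ U hU) where
  two := by
    intro x
    induction x using QuotientAddGroup.induction_on with
    | H w =>
      rw [← QuotientAddGroup.mk_add, QuotientAddGroup.eq_zero_iff]
      exact h2 w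
  fpf := by
    intro g x hx
    induction x using QuotientAddGroup.induction_on with
    | H w =>
      rw [quotRep_mk, QuotientAddGroup.eq_iff_sub_mem] at hx
      rw [QuotientAddGroup.eq_zero_iff]
      have h1 := hf.sum_eq_zero g w
      rw [conj_D0_inv] at h1
      set d := g * D0 * g⁻¹ with hd
      rw [map_mul ρ d d, end_mul_apply] at h1
      -- hx : ρ d w - w ∈ U
      have h3 : ρ d (ρ d w) - ρ d w ∈ U := by
        rw [← map_sub]
        exact hU d _ hx
      have h4 : w + w + w ∈ U := by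
        have : w + w + w = (w + ρ d w + ρ d (ρ d w)) - ((ρ d w - w) + (ρ d w - w))
            - (ρ d (ρ d w) - ρ d w) := by abel
        rw [this, h1, zero_sub]
        exact U.sub_mem (U.neg_mem (U.add_mem hx hx)) h3
      have : w = (w + w + w) - (w + w) := by abel
      rw [this]
      exact U.sub_mem h4 (h2 w)
  sq := hsq

/-- consequences for elements of a stable subgroup of exponent two -/
theorem res_aa (h : ModHyp (resRep ρ U hU)) {v : W} (hv : v ∈ U) : eA ρ (eA ρ v) = 0 :=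
  congrArg Subtype.val (h.aa ⟨v, hv⟩)

theorem res_bb (h : ModHyp (resRep ρ U hU)) {v : W} (hv : v ∈ U) : eB ρ (eB ρ v) = 0 :=
  congrArg Subtype.val (h.bb ⟨v, hv⟩)

theorem res_ab (h : ModHyp (resRep ρ U hU)) {v : W} (hv : v ∈ U) :
    eA ρ (eB ρ v) + eB ρ (eA ρ v) = v :=
  congrArg Subtype.val (h.ab ⟨v, hv⟩)

theorem res_tU (h : ModHyp (resRep ρ U hU)) (c : K) {v : W} (hv : v ∈ U) :
    ρ (tU c) v = v + eAc ρ c (eA ρ v) :=
  congrArg Subtype.val (h.tU_apply c ⟨v, hv⟩)

theorem res_Ac_a (h : ModHyp (resRep ρ U hU)) (c : K) {v : W} (hv : v ∈ U) :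
    eAc ρ c (eA ρ v) = eA ρ (eAc ρ c v) :=
  congrArg Subtype.val (h.Ac_a c ⟨v, hv⟩)

theorem res_Ac_b (h : ModHyp (resRep ρ U hU)) (c : K) {v : W} (hv : v ∈ U) :
    eAc ρ c (eB ρ v) = eB ρ (eAc ρ c v) :=
  congrArg Subtype.val (h.Ac_b c ⟨v, hv⟩)

theorem res_Ac_add (h : ModHyp (resRep ρ U hU)) (c c' : K) {v : W} (hv : v ∈ U) :
    eAc ρ (c + c') v = eAc ρ c v + eAc ρ c' v :=
  congrArg Subtype.val (h.Ac_add c c' ⟨v, hv⟩)

theorem res_Ac_mul (h : ModHyp (resRep ρ U hU)) (c c' : K) {v : W} (hv : v ∈ U) :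
    eAc ρ (c * c') v = eAc ρ c (eAc ρ c' v) :=
  congrArg Subtype.val (h.Ac_mul c c' ⟨v, hv⟩)

theorem res_Ac_one (h : ModHyp (resRep ρ U hU)) {v : W} (hv : v ∈ U) : eAc ρ 1 v = v :=
  congrArg Subtype.val (h.Ac_one ⟨v, hv⟩)

theorem res_Ac_inv (h : ModHyp (resRep ρ U hU)) (c : K) (hc : c ≠ 0) {v : W} (hv : v ∈ U) :
    eAc ρ c⁻¹ (eAc ρ c v) = v :=
  congrArg Subtype.val (h.Ac_inv c hc ⟨v, hv⟩)

/-- consequence for the quotient: `t 1`-fixed cosets are `t c`-fixed -/
theorem quot_fix (h : ModHyp (quotRep ρ U hU)) {y : W} (hy : ρ (tU 1) y + y ∈ U) (c : K) :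
    ρ (tU c) y - y ∈ U := by
  have h1 := h.tU_apply c (QuotientAddGroup.mk y : W ⧸ U)
  have h2 : eA (quotRep ρ U hU) (QuotientAddGroup.mk y : W ⧸ U) = 0 := by
    rw [eA_apply, quotRep_mk, ← QuotientAddGroup.mk_add, QuotientAddGroup.eq_zero_iff]
    exact hy
  rw [h2, map_zero, add_zero, quotRep_mk, QuotientAddGroup.eq_iff_sub_mem] at h1
  exact h1

end subquot2

end Cfsg.Agent.Helper50.Higman
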