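import Mathlib
import Cfsg.Agent.Lib.Helper50.Higman4

set_option autoImplicit false

/-!
Equivariant biadditive maps between "natural" modules vanish (for `|K| > 2`).
-/

namespace Cfsg.Agent.Helper50.Higman

open Matrix

section bilinear
variable {K : Type*} [Field K] [CharP K 2]
variable {V N : Type*} [AddCommGroup V] [AddCommGroup N]
variable {ρV : Matrix.SpecialLinearGroup (Fin 2) K →* AddMonoid.End V}
  {ρN : Matrix.SpecialLinearGroup (Fin 2) K →* AddMonoid.End N}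

/-- an equivariant biadditive map -/
structure BilHyp (ρV : Matrix.SpecialLinearGroup (Fin 2) K →* AddMonoid.End V)
    (ρN : Matrix.SpecialLinearGroup (Fin 2) K →* AddMonoid.End N) (β : V → V → N) : Prop where
  add_left : ∀ u u' v, β (u + u') v = β u v + β u' v
  add_right : ∀ u v v', β u (v + v') = β u v + β u v'
  equiv : ∀ g u v, β (ρV g u) (ρV g v) = ρN g (β u v)

namespace BilHyp
variable {β : V → V → N}

theorem flip (hβ : BilHyp ρV ρN β) : BilHyp ρV ρN (fun u v => β v u) where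
  add_left := fun u u' v => hβ.add_right v u u'
  add_right := fun u v v' => hβ.add_left v v' u
  equiv := fun g u v => hβ.equiv g v u

variable (hβ : BilHyp ρV ρN β) (hV : ModHyp ρV) (hN : ModHyp ρN)
include hβ hV hN

theorem lin_aux {u v : V} (hu : eA ρV u = 0) (hv : eA ρV v = 0) (c : K) :
    β u (eAc ρV c v) = eAc ρN c (eA ρN (β u (eB ρV v))) := by
  have e1 : ρV (tU c) u = u := by rw [hV.tU_apply, hu, map_zero, add_zero]
  have e2 : ρV (tU c) (eB ρV v) = eB ρV v + eAc ρV c v := by rw [hV.tU_apply, hV.ab_of hv]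
  have e3 := hβ.equiv (tU c) u (eB ρV v)
  rw [e1, e2, hβ.add_right, hN.tU_apply] at e3
  exact add_left_cancel e3

theorem lin_one {u v : V} (hu : eA ρV u = 0) (hv : eA ρV v = 0) :
    β u v = eA ρN (β u (eB ρV v)) := by
  have := hβ.lin_aux hV hN hu hv 1
  rwa [hV.Ac_one, hN.Ac_one] at this

theorem lin_right {u v : V} (hu : eA ρV u = 0) (hv : eA ρV v = 0) (c : K) :
    β u (eAc ρV c v) = eAc ρN c (β u v) := by
  rw [hβ.lin_aux hV hN hu hv, ← hβ.lin_one hV hN hu hv]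

theorem mem_ker {u v : V} (hu : eA ρV u = 0) (hv : eA ρV v = 0) : eA ρN (β u v) = 0 := by
  rw [hβ.lin_one hV hN hu hv, hN.aa]

end BilHyp

namespace BilHyp
variable {β : V → V → N}

theorem zero_of_ker (hβ : BilHyp ρV ρN β) (hV : ModHyp ρV) (hN : ModHyp ρN)
    (hK : ∃ l : K, l ≠ 0 ∧ l ≠ 1) {u v : V} (hu : eA ρV u = 0) (hv : eA ρV v = 0) :
    β u v = 0 := by
  obtain ⟨l, hl0, hl1⟩ := hK
  have hAu : eA ρV (eAc ρV l u) = 0 := by rw [← hV.Ac_a, hu, map_zero]
  have e1 := hβ.equiv (hD l) u v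
  rw [hV.hD_apply l hl0 hu, hV.hD_apply l hl0 hv, hN.hD_apply l hl0 (hβ.mem_ker hV hN hu hv),
    hβ.lin_right hV hN hAu hv] at e1
  have e2 : β (eAc ρV l u) v = eAc ρN l (β u v) := hβ.flip.lin_right hV hN hv hu l
  rw [e2] at e1
  -- e1 : AN l (AN l n) = AN l n
  have e3 : eAc ρN (l * l + l) (β u v) = 0 := by
    rw [hN.Ac_add, hN.Ac_mul, e1, hN.two]
  have hne : l * l + l ≠ 0 := by
    have h1 : l + 1 ≠ 0 := by
      intro h
      have := eq_neg_of_add_eq_zero_left h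
      rw [CharTwo.neg_eq] at this
      exact hl1 this
    have : l * l + l = l * (l + 1) := by ring
    rw [this]
    exact mul_ne_zero hl0 h1
  have := hN.Ac_inv (l * l + l) hne (β u v)
  rw [e3, map_zero] at this
  exact this.symm

theorem zero_b_b (hβ : BilHyp ρV ρN β) (hV : ModHyp ρV) (hN : ModHyp ρN)
    (hK : ∃ l : K, l ≠ 0 ∧ l ≠ 1) {u v : V} (hu : eA ρV u = 0) (hv : eA ρV v = 0) :
    β (eB ρV u) (eB ρV v) = 0 := by
  have := hβ.equiv wE u v
  rw [hV.wE_apply hu, hV.wE_apply hv, hβ.zero_of_ker hV hN hK hu hv, map_zero] at this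
  exact this

theorem zero_ker_b (hβ : BilHyp ρV ρN β) (hV : ModHyp ρV) (hN : ModHyp ρN)
    (hK : ∃ l : K, l ≠ 0 ∧ l ≠ 1) {u v : V} (hu : eA ρV u = 0) (hv : eA ρV v = 0) :
    β u (eB ρV v) = 0 := by
  have h1 : eA ρN (β u (eB ρV v)) = 0 := by
    rw [← hβ.lin_one hV hN hu hv, hβ.zero_of_ker hV hN hK hu hv]
  have h2 : eB ρN (β u (eB ρV v)) = 0 := by
    have e1 : ρV (tL 1) u = u + eB ρV u := by rw [hV.tL_apply, hV.Ac_one]
    have e2 : ρV (tL 1) (eB ρV v) = eB ρV v := by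
      rw [hV.tL_apply, hV.bb, map_zero, add_zero]
    have e3 := hβ.equiv (tL 1) u (eB ρV v)
    rw [e1, e2, hβ.add_left, hN.tL_apply, hN.Ac_one, hβ.zero_b_b hV hN hK hu hv] at e3
    exact (add_left_cancel e3).symm
  have := hN.ab (β u (eB ρV v))
  rw [h1, h2, map_zero, map_zero, add_zero] at this
  exact this.symm

/-- an equivariant biadditive map between natural modules vanishes -/
theorem eq_zero (hβ : BilHyp ρV ρN β) (hV : ModHyp ρV) (hN : ModHyp ρN)
    (hK : ∃ l : K, l ≠ 0 ∧ l ≠ 1) (w w' : V) : β w w' = 0 := by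
  have hw : w = eA ρV (eB ρV w) + eB ρV (eA ρV w) := (hV.ab w).symm
  have hw' : w' = eA ρV (eB ρV w') + eB ρV (eA ρV w') := (hV.ab w').symm
  rw [hw, hw', hβ.add_left, hβ.add_right, hβ.add_right,
    hβ.zero_of_ker hV hN hK (hV.aa _) (hV.aa _), hβ.zero_ker_b hV hN hK (hV.aa _) (hV.aa _),
    hβ.zero_b_b hV hN hK (hV.aa _) (hV.aa _)]
  have : β (eB ρV (eA ρV w)) (eA ρV (eB ρV w')) = 0 :=
    hβ.flip.zero_ker_b hV hN hK (hV.aa _) (hV.aa _)
  rw [this, add_zero, add_zero]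

end BilHyp

end bilinear

end Cfsg.Agent.Helper50.Higman
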