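import Mathlib
import Cfsg.Agent.Lib.Helper50.Higman4

set_option autoImplicit false

/-!
The abelian case of Higman's theorem: an abelian group of exponent dividing four acted on by
`SL₂(K)`, `|K| = 2ⁿ ≥ 4`, with fixed point free elements of order three has exponent two.
-/

namespace Cfsg.Agent.Helper50.Higman

open Matrix

section defs
variable (W : Type*) [AddCommGroup W]

/-- elements of order at most two -/
def torsionTwo : AddSubgroup W where
  carrier := {w | w + w = 0}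
  zero_mem' := by simp
  add_mem' := by
    intro a b ha hb
    simp only [Set.mem_setOf_eq] at *
    rw [add_add_add_comm, ha, hb, add_zero]
  neg_mem' := by
    intro a ha
    simp only [Set.mem_setOf_eq] at *
    rw [← neg_add, ha, neg_zero]

/-- the doubles -/
def doubles : AddSubgroup W where
  carrier := {w | ∃ y, y + y = w}
  zero_mem' := ⟨0, by simp⟩
  add_mem' := by
    rintro _ _ ⟨y, rfl⟩ ⟨y', rfl⟩
    exact ⟨y + y', by abel⟩
  neg_mem' := by
    rintro _ ⟨y, rfl⟩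
    exact ⟨-y, by abel⟩

variable {W}

theorem mem_torsionTwo {w : W} : w ∈ torsionTwo W ↔ w + w = 0 := Iff.rfl

theorem mem_doubles {w : W} : w ∈ doubles W ↔ ∃ y, y + y = w := Iff.rfl

end defs

section abelian
variable {K : Type*} [Field K] [CharP K 2]
variable {W : Type*} [AddCommGroup W]
variable {ρ : Matrix.SpecialLinearGroup (Fin 2) K →* AddMonoid.End W}

theorem stab_torsionTwo (ρ : Matrix.SpecialLinearGroup (Fin 2) K →* AddMonoid.End W) :
    ∀ g, ∀ w ∈ torsionTwo W, ρ g w ∈ torsionTwo W := by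
  intro g w hw
  rw [mem_torsionTwo] at hw ⊢
  rw [← map_add, hw, map_zero]

theorem stab_doubles (ρ : Matrix.SpecialLinearGroup (Fin 2) K →* AddMonoid.End W) :
    ∀ g, ∀ w ∈ doubles W, ρ g w ∈ doubles W := by
  rintro g _ ⟨y, rfl⟩
  exact ⟨ρ g y, by rw [map_add]⟩

/-- hypotheses of the abelian lemma -/
structure AbHyp (ρ : Matrix.SpecialLinearGroup (Fin 2) K →* AddMonoid.End W) : Prop where
  four : ∀ w : W, w + w + (w + w) = 0
  fpf : FpfHyp ρ
  sq : ∀ c : K, ∃ s : K, s * s = c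

namespace AbHyp

theorem hN (h : AbHyp ρ) : ModHyp (resRep ρ (torsionTwo W) (stab_torsionTwo ρ)) :=
  modHyp_resRep (stab_torsionTwo ρ) (fun _ hw => hw) h.fpf h.sq

theorem hD (h : AbHyp ρ) : ModHyp (quotRep ρ (doubles W) (stab_doubles ρ)) :=
  modHyp_quotRep (stab_doubles ρ) (fun w => ⟨w, rfl⟩) h.fpf h.sq

theorem doubles_le (h : AbHyp ρ) {v : W} (hv : v ∈ doubles W) : v ∈ torsionTwo W := by
  obtain ⟨y, rfl⟩ := hv
  exact h.four y

theorem neg_eq_of_mem {v : W} (hv : v ∈ torsionTwo W) : -v = v := by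
  rw [neg_eq_iff_add_eq_zero]
  exact hv

theorem tU_tU (c : K) (w : W) : ρ (tU c) (ρ (tU c) w) = w := by
  rw [← end_mul_apply, ← map_mul, tU_mul_self, map_one, end_one_apply]

theorem tU_comm (c c' : K) (w : W) : ρ (tU c) (ρ (tU c') w) = ρ (tU c') (ρ (tU c) w) := by
  rw [← end_mul_apply, ← end_mul_apply, ← map_mul, ← map_mul, tU_add, tU_add, add_comm]

/-- `t (a y₀) = a y₀` -/
theorem t_a (w : W) : ρ (tU 1) (eA ρ w) = eA ρ w := by
  rw [eA_apply, map_add, tU_tU, add_comm]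

/-- the subgroup `V₁ = 2W ∩ ker a` -/
def InV1 (ρ : Matrix.SpecialLinearGroup (Fin 2) K →* AddMonoid.End W) (v : W) : Prop :=
  v ∈ doubles W ∧ eA ρ v = 0

theorem lift_exists (h : AbHyp ρ) {v : W} (hv : InV1 ρ v) :
    ∃ y, ρ (tU 1) y = y ∧ y + y = v := by
  obtain ⟨⟨y₁, hy₁⟩, hav⟩ := hv
  have hvN : v ∈ torsionTwo W := h.doubles_le ⟨y₁, hy₁⟩
  refine ⟨eA ρ (eB ρ y₁), t_a _, ?_⟩
  rw [← map_add, ← map_add, hy₁]
  have := res_ab (stab_torsionTwo ρ) h.hN hvN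
  rwa [hav, map_zero, add_zero] at this

/-- elements of `N` fixed by `t 1` are fixed by `t c` -/
theorem fix_of_fix (h : AbHyp ρ) (c : K) {z : W} (hz : z ∈ torsionTwo W)
    (hfix : ρ (tU 1) z = z) : ρ (tU c) z = z := by
  have haz : eA ρ z = 0 := by
    rw [eA_apply, hfix]
    exact hz
  rw [res_tU (stab_torsionTwo ρ) h.hN c hz, haz, map_zero, add_zero]

/-- the map `M` -/
noncomputable def mFun (ρ : Matrix.SpecialLinearGroup (Fin 2) K →* AddMonoid.End W) (c : K)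
    (v : W) : W :=
  open Classical in
  if hv : ∃ y, ρ (tU 1) y = y ∧ y + y = v then
    ρ (tU c) (Classical.choose hv) - Classical.choose hv
  else 0

theorem mFun_eq (h : AbHyp ρ) (c : K) {y : W} (hy : ρ (tU 1) y = y) :
    mFun ρ c (y + y) = ρ (tU c) y - y := by
  have hex : ∃ y', ρ (tU 1) y' = y' ∧ y' + y' = y + y := ⟨y, hy, rfl⟩
  unfold mFun
  rw [dif_pos hex]
  obtain ⟨h1, h2⟩ := Classical.choose_spec hex
  set y' := Classical.choose hex
  have hz : y' - y ∈ torsionTwo W := by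
    rw [mem_torsionTwo]
    have : y' - y + (y' - y) = (y' + y') - (y + y) := by abel
    rw [this, h2, sub_self]
  have hzfix : ρ (tU 1) (y' - y) = y' - y := by rw [map_sub, h1, hy]
  have h3 := h.fix_of_fix c hz hzfix
  rw [map_sub] at h3
  have : ρ (tU c) y' - y' = (ρ (tU c) y - y) + ((ρ (tU c) y' - ρ (tU c) y) - (y' - y)) := by abel
  rw [this, h3, sub_self, add_zero]

theorem mFun_mem (h : AbHyp ρ) (c : K) {y : W} (hy : ρ (tU 1) y = y) :
    InV1 ρ (ρ (tU c) y - y) := by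
  have h1 : ρ (tU c) y - y ∈ doubles W := by
    apply quot_fix (stab_doubles ρ) h.hD
    rw [hy]
    exact ⟨y, rfl⟩
  refine ⟨h1, ?_⟩
  have h2 := h.doubles_le h1
  rw [mem_torsionTwo] at h2
  rw [eA_apply, map_sub, tU_comm, hy]
  exact h2

theorem Ac_InV1 (h : AbHyp ρ) (c : K) {v : W} (hv : InV1 ρ v) : InV1 ρ (eAc ρ c v) := by
  obtain ⟨hvD, hav⟩ := hv
  have hvN := h.doubles_le hvD
  refine ⟨eAc_mem (stab_doubles ρ) c hvD, ?_⟩
  rw [← res_Ac_a (stab_torsionTwo ρ) h.hN c hvN, hav, map_zero]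

theorem InV1.memN (h : AbHyp ρ) {v : W} (hv : InV1 ρ v) : v ∈ torsionTwo W :=
  h.doubles_le hv.1

/-- the key relation `M A v + A M v = A v + A A v` -/
theorem rel (h : AbHyp ρ) (c : K) {v : W} (hv : InV1 ρ v) :
    mFun ρ c (eAc ρ c v) + eAc ρ c (mFun ρ c v) = eAc ρ c v + eAc ρ c (eAc ρ c v) := by
  have hvN := hv.memN h
  obtain ⟨⟨y₁, hy₁⟩, hav⟩ := hv
  -- y₀ = b y₁, y = a y₀
  set y₀ := eB ρ y₁ with hy₀
  have hy₀2 : y₀ + y₀ = eB ρ v := by rw [hy₀, ← map_add, hy₁]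
  have habv : eA ρ (eB ρ v) = v := by
    have := res_ab (stab_torsionTwo ρ) h.hN hvN
    rwa [hav, map_zero, add_zero] at this
  have hyfix : ρ (tU 1) (eA ρ y₀) = eA ρ y₀ := t_a _
  have hy2 : eA ρ y₀ + eA ρ y₀ = v := by rw [← map_add, hy₀2, habv]
  have hMv : mFun ρ c v = ρ (tU c) (eA ρ y₀) - eA ρ y₀ := by
    rw [← hy2]
    exact h.mFun_eq c hyfix
  have hbvN : eB ρ v ∈ torsionTwo W := eB_mem (stab_torsionTwo ρ) hvN
  have hAvN : eAc ρ c v ∈ torsionTwo W := eAc_mem (stab_torsionTwo ρ) c hvN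
  -- z₀ = s y₀ - y₀
  set z₀ := ρ (tU c) y₀ - y₀ with hz₀
  have hC1 : z₀ + z₀ = eAc ρ c v := by
    have e1 : z₀ + z₀ = ρ (tU c) (y₀ + y₀) - (y₀ + y₀) := by
      rw [hz₀, map_add]
      abel
    rw [e1, hy₀2, res_tU (stab_torsionTwo ρ) h.hN c hbvN, habv]
    abel
  have hC2 : ρ (tU c) z₀ - z₀ = eAc ρ c v := by
    have e1 : ρ (tU c) z₀ - z₀ = -(z₀ + z₀) := by
      rw [hz₀, map_sub, tU_tU]
      abel
    rw [e1, hC1, neg_eq_of_mem hAvN]
  -- y' lifting A c v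
  have hAvV : InV1 ρ (eAc ρ c v) := h.Ac_InV1 c ⟨⟨y₁, hy₁⟩, hav⟩
  obtain ⟨y', hy'fix, hy'2⟩ := h.lift_exists hAvV
  have hMAv : mFun ρ c (eAc ρ c v) = ρ (tU c) y' - y' := by
    rw [← hy'2]
    exact h.mFun_eq c hy'fix
  -- n = z₀ - y'
  have hnN : z₀ - y' ∈ torsionTwo W := by
    rw [mem_torsionTwo]
    have : z₀ - y' + (z₀ - y') = (z₀ + z₀) - (y' + y') := by abel
    rw [this, hC1, hy'2, sub_self]
  have haz₀ : eA ρ z₀ = mFun ρ c v := by
    rw [hMv, eA_apply, hz₀, map_sub, tU_comm, eA_apply, map_add]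
    abel
  have hay' : eA ρ y' = eAc ρ c v := by
    rw [eA_apply, hy'fix, hy'2]
  have han : eA ρ (z₀ - y') = mFun ρ c v - eAc ρ c v := by
    rw [map_sub, haz₀, hay']
  have hC5 : ρ (tU c) (z₀ - y') - (z₀ - y') =
      eAc ρ c (mFun ρ c v) - eAc ρ c (eAc ρ c v) := by
    rw [res_tU (stab_torsionTwo ρ) h.hN c hnN, han, map_sub]
    abel
  have hC6 : ρ (tU c) z₀ - z₀ =
      (ρ (tU c) y' - y') + (ρ (tU c) (z₀ - y') - (z₀ - y')) := by
    rw [map_sub (ρ (tU c)) z₀ y']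
    abel
  rw [hC2, hC5, ← hMAv] at hC6
  -- hC6 : A v = M (A v) + (A (M v) - A (A v))
  calc mFun ρ c (eAc ρ c v) + eAc ρ c (mFun ρ c v)
      = (mFun ρ c (eAc ρ c v) + (eAc ρ c (mFun ρ c v) - eAc ρ c (eAc ρ c v))) +
          eAc ρ c (eAc ρ c v) := by abel
    _ = eAc ρ c v + eAc ρ c (eAc ρ c v) := by rw [← hC6]

theorem mFun_InV1 (h : AbHyp ρ) (c : K) {v : W} (hv : InV1 ρ v) : InV1 ρ (mFun ρ c v) := by
  obtain ⟨y, hy, rfl⟩ := h.lift_exists hv
  rw [h.mFun_eq c hy]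
  exact h.mFun_mem c hy

theorem comm_sq (h : AbHyp ρ) (c : K) {v : W} (hv : InV1 ρ v) :
    mFun ρ c (eAc ρ c (eAc ρ c v)) = eAc ρ c (eAc ρ c (mFun ρ c v)) := by
  have r1 := h.rel c hv
  have r2 := h.rel c (h.Ac_InV1 c hv)
  have r3 := congrArg (eAc ρ c) r1
  rw [map_add, map_add] at r3
  have : mFun ρ c (eAc ρ c (eAc ρ c v)) + eAc ρ c (mFun ρ c (eAc ρ c v)) =
      eAc ρ c (eAc ρ c (mFun ρ c v)) + eAc ρ c (mFun ρ c (eAc ρ c v)) := by
    rw [r2, ← r3, add_comm]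
  exact add_right_cancel this

theorem iter_InV1 (h : AbHyp ρ) (c : K) (k : ℕ) {v : W} (hv : InV1 ρ v) :
    InV1 ρ ((eAc ρ c)^[k] v) := by
  induction k generalizing v with
  | zero => exact hv
  | succ k ih =>
    rw [Function.iterate_succ_apply]
    exact ih (h.Ac_InV1 c hv)

theorem comm_iter (h : AbHyp ρ) (c : K) (k : ℕ) {v : W} (hv : InV1 ρ v) :
    mFun ρ c ((eAc ρ c)^[2 * k] v) = (eAc ρ c)^[2 * k] (mFun ρ c v) := by
  induction k generalizing v with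
  | zero => rfl
  | succ k ih =>
    have e : 2 * (k + 1) = 2 * k + 2 := by ring
    rw [e, Function.iterate_add_apply, Function.iterate_add_apply,
      ih (h.iter_InV1 c 2 hv)]
    congr 1
    exact h.comm_sq c hv

theorem res_Ac_pow (h : AbHyp ρ) (c : K) (k : ℕ) {v : W} (hv : v ∈ torsionTwo W) :
    eAc ρ (c ^ k) v = (eAc ρ c)^[k] v := by
  induction k generalizing v with
  | zero => rw [pow_zero, res_Ac_one (stab_torsionTwo ρ) h.hN hv, Function.iterate_zero, id]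
  | succ k ih =>
    rw [pow_succ, res_Ac_mul (stab_torsionTwo ρ) h.hN _ _ hv,
      ih (eAc_mem (stab_torsionTwo ρ) c hv), Function.iterate_succ_apply]

theorem comm_one [Fintype K] (h : AbHyp ρ) (c : K) (k : ℕ) (hq : Fintype.card K = 2 * k)
    {v : W} (hv : InV1 ρ v) : mFun ρ c (eAc ρ c v) = eAc ρ c (mFun ρ c v) := by
  have hc : c ^ (2 * k) = c := by
    rw [← hq]
    exact FiniteField.pow_card c
  have e1 : eAc ρ c v = (eAc ρ c)^[2 * k] v := by
    rw [← h.res_Ac_pow c (2 * k) (hv.memN h), hc]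
  have e2 : eAc ρ c (mFun ρ c v) = (eAc ρ c)^[2 * k] (mFun ρ c v) := by
    rw [← h.res_Ac_pow c (2 * k) ((h.mFun_InV1 c hv).memN h), hc]
  rw [e2, ← h.comm_iter c k hv, ← e1]

theorem InV1_eq_zero [Fintype K] (h : AbHyp ρ) (c : K) (hc0 : c ≠ 0) (hc1 : c ≠ 1) (k : ℕ)
    (hq : Fintype.card K = 2 * k) {v : W} (hv : InV1 ρ v) : v = 0 := by
  have r1 := h.rel c hv
  rw [h.comm_one c k hq hv] at r1
  have hN1 : eAc ρ c (mFun ρ c v) ∈ torsionTwo W :=
    eAc_mem (stab_torsionTwo ρ) c ((h.mFun_InV1 c hv).memN h)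
  rw [mem_torsionTwo] at hN1
  rw [hN1, ← res_Ac_mul (stab_torsionTwo ρ) h.hN _ _ (hv.memN h),
    ← res_Ac_add (stab_torsionTwo ρ) h.hN _ _ (hv.memN h)] at r1
  have hne : c + c * c ≠ 0 := by
    have h1 : 1 + c ≠ 0 := by
      intro h'
      have := eq_neg_of_add_eq_zero_right h'
      rw [CharTwo.neg_eq] at this
      exact hc1 this
    have : c + c * c = c * (1 + c) := by ring
    rw [this]
    exact mul_ne_zero hc0 h1
  have := res_Ac_inv (stab_torsionTwo ρ) h.hN (c + c * c) hne (hv.memN h)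
  rw [← r1, map_zero] at this
  exact this.symm

/-- the abelian lemma -/
theorem two [Fintype K] (h : AbHyp ρ) (c : K) (hc0 : c ≠ 0) (hc1 : c ≠ 1) (k : ℕ)
    (hq : Fintype.card K = 2 * k) (w : W) : w + w = 0 := by
  have hvD : w + w ∈ doubles W := ⟨w, rfl⟩
  have hvN := h.doubles_le hvD
  have h1 : InV1 ρ (eA ρ (w + w)) :=
    ⟨eA_mem (stab_doubles ρ) hvD, res_aa (stab_torsionTwo ρ) h.hN hvN⟩
  have h2 := h.InV1_eq_zero c hc0 hc1 k hq h1
  exact h.InV1_eq_zero c hc0 hc1 k hq ⟨hvD, h2⟩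

end AbHyp

end abelian

end Cfsg.Agent.Helper50.Higman
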