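import Mathlib
import Cfsg.Agent.Lib.Helper50.Higman4

set_option autoImplicit false

/-!
Group-level glue: an abelian normal subgroup `U` of `G` centralised by `Q`, where
`G ⧸ Q ≃* SL₂(K)`, as a module for `SL₂(K)`.
-/

namespace Cfsg.Agent.Helper50.Higman

open Matrix

section secmod
variable {G : Type*} [Group G]

/-- the commutative group structure on a commutative subgroup -/
@[reducible] def commGroupOf (U : Subgroup G) (hcomm : ∀ u ∈ U, ∀ u' ∈ U, u * u' = u' * u) :
    CommGroup ↥U :=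
  { (inferInstance : Group ↥U) with
    mul_comm := fun a b => Subtype.ext (hcomm a a.2 b b.2) }

/-- a commutative subgroup written additively -/
def SecMod (U : Subgroup G) (_hcomm : ∀ u ∈ U, ∀ u' ∈ U, u * u' = u' * u) : Type _ :=
  Additive ↥U

variable {U : Subgroup G} {hcomm : ∀ u ∈ U, ∀ u' ∈ U, u * u' = u' * u}

noncomputable instance : AddCommGroup (SecMod U hcomm) :=
  @Additive.addCommGroup _ (commGroupOf U hcomm)

namespace SecMod

/-- from the subgroup to the module -/
def mk (u : ↥U) : SecMod U hcomm := Additive.ofMul u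

/-- from the module to the subgroup -/
def val (w : SecMod U hcomm) : ↥U := Additive.toMul w

@[simp] theorem mk_val (w : SecMod U hcomm) : mk (val w) = w := rfl

@[simp] theorem val_mk (u : ↥U) : val (mk u : SecMod U hcomm) = u := rfl

theorem mk_mul (u u' : ↥U) : (mk (u * u') : SecMod U hcomm) = mk u + mk u' := rfl

theorem val_add (w w' : SecMod U hcomm) : val (w + w') = val w * val w' := rfl

theorem mk_one : (mk 1 : SecMod U hcomm) = 0 := rfl

theorem val_zero : val (0 : SecMod U hcomm) = 1 := rfl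

theorem mk_inv (u : ↥U) : (mk u⁻¹ : SecMod U hcomm) = - mk u := rfl

theorem val_neg (w : SecMod U hcomm) : val (-w) = (val w)⁻¹ := rfl

theorem mk_injective : Function.Injective (mk : ↥U → SecMod U hcomm) := fun _ _ h => h

theorem mk_eq_zero_iff (u : ↥U) : (mk u : SecMod U hcomm) = 0 ↔ u = 1 := Iff.rfl

theorem mk_surjective : Function.Surjective (mk : ↥U → SecMod U hcomm) := fun w => ⟨val w, rfl⟩

end SecMod

end secmod

section rep
variable {K : Type*} [Field K]
variable {G : Type*} [Group G] (Q : Subgroup G) [Q.Normal]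
  (e : G ⧸ Q ≃* Matrix.SpecialLinearGroup (Fin 2) K)
  (U : Subgroup G) [hUn : U.Normal] (hcomm : ∀ u ∈ U, ∀ u' ∈ U, u * u' = u' * u)
  (hcent : ∀ q ∈ Q, ∀ u ∈ U, q * u = u * q)

/-- conjugation by `g` on the module -/
noncomputable def conjEnd (g : G) : AddMonoid.End (SecMod U hcomm) where
  toFun w := SecMod.mk ⟨g * (SecMod.val w : G) * g⁻¹, hUn.conj_mem _ (SecMod.val w).2 g⟩
  map_zero' := by
    apply (SecMod.mk_eq_zero_iff _).mpr
    apply Subtype.ext
    simp [SecMod.val_zero]
  map_add' w w' := by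
    rw [← SecMod.mk_mul]
    congr 1
    apply Subtype.ext
    simp [SecMod.val_add]

theorem conjEnd_apply (g : G) (u : ↥U) :
    conjEnd U hcomm g (SecMod.mk u) =
      SecMod.mk ⟨g * (u : G) * g⁻¹, hUn.conj_mem _ u.2 g⟩ := rfl

/-- the conjugation action as a monoid homomorphism -/
noncomputable def conjHom : G →* AddMonoid.End (SecMod U hcomm) where
  toFun := conjEnd U hcomm
  map_one' := by
    apply AddMonoidHom.ext
    intro w
    obtain ⟨u, rfl⟩ := SecMod.mk_surjective w
    show (SecMod.mk ⟨1 * (u : G) * 1⁻¹, hUn.conj_mem _ u.2 1⟩ : SecMod U hcomm) = SecMod.mk u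
    congr 1
    apply Subtype.ext
    simp
  map_mul' g g' := by
    apply AddMonoidHom.ext
    intro w
    obtain ⟨u, rfl⟩ := SecMod.mk_surjective w
    show (SecMod.mk ⟨(g * g') * (u : G) * (g * g')⁻¹, hUn.conj_mem _ u.2 (g * g')⟩ :
        SecMod U hcomm) =
      SecMod.mk ⟨g * (g' * (u : G) * g'⁻¹) * g⁻¹,
        hUn.conj_mem _ (hUn.conj_mem _ u.2 g') g⟩
    congr 1
    apply Subtype.ext
    simp [mul_assoc]

theorem conjHom_apply (g : G) (u : ↥U) :
    conjHom U hcomm g (SecMod.mk u) =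
      SecMod.mk ⟨g * (u : G) * g⁻¹, hUn.conj_mem _ u.2 g⟩ := rfl

include hcent in
theorem conjHom_eq_one {q : G} (hq : q ∈ Q) : conjHom U hcomm q = 1 := by
  apply AddMonoidHom.ext
  intro w
  obtain ⟨u, rfl⟩ := SecMod.mk_surjective w
  show (SecMod.mk ⟨q * (u : G) * q⁻¹, hUn.conj_mem _ u.2 q⟩ : SecMod U hcomm) = SecMod.mk u
  congr 1
  apply Subtype.ext
  show q * (u : G) * q⁻¹ = u
  rw [hcent q hq u u.2, mul_assoc, mul_inv_cancel, mul_one]

/-- the representation of `SL₂(K)` on `U` -/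
noncomputable def secRep : Matrix.SpecialLinearGroup (Fin 2) K →* AddMonoid.End (SecMod U hcomm) :=
  (QuotientGroup.lift Q (conjHom U hcomm)
    (fun _ hq => MonoidHom.mem_ker.mpr (conjHom_eq_one Q U hcomm hcent hq))).comp
      e.symm.toMonoidHom

theorem secRep_apply (g : G) (u : ↥U) :
    secRep Q e U hcomm hcent (e (QuotientGroup.mk g)) (SecMod.mk u) =
      SecMod.mk ⟨g * (u : G) * g⁻¹, hUn.conj_mem _ u.2 g⟩ := by
  have h1 : secRep Q e U hcomm hcent (e (QuotientGroup.mk g)) = conjHom U hcomm g := by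
    unfold secRep
    rw [MonoidHom.comp_apply]
    have : e.symm.toMonoidHom (e (QuotientGroup.mk g)) = QuotientGroup.mk g := by
      simp
    rw [this]
    rfl
  rw [h1]
  rfl

section props
variable [CharP K 2]

include hcent in
theorem secRep_fpf (x : G) (hxe : e (QuotientGroup.mk x) = D0)
    (hfpf : ∀ q ∈ Q, x * q * x⁻¹ = q → q = 1) (hUQ : U ≤ Q) :
    FpfHyp (secRep Q e U hcomm hcent) := by
  intro g w hw
  obtain ⟨u, rfl⟩ := SecMod.mk_surjective w
  obtain ⟨yq, rfl⟩ := e.surjective g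
  obtain ⟨y, rfl⟩ := QuotientGroup.mk_surjective yq
  have hconj : e (QuotientGroup.mk y) * D0 * (e (QuotientGroup.mk y))⁻¹ =
      e (QuotientGroup.mk (y * x * y⁻¹)) := by
    rw [← hxe, ← map_inv, ← map_mul, ← map_mul]
    rfl
  rw [hconj, secRep_apply] at hw
  have h1 : (y * x * y⁻¹) * (u : G) * (y * x * y⁻¹)⁻¹ = u :=
    congrArg Subtype.val (SecMod.mk_injective hw)
  have h2 : x * (y⁻¹ * (u : G) * y) * x⁻¹ = y⁻¹ * (u : G) * y := by
    calc x * (y⁻¹ * (u : G) * y) * x⁻¹
        = y⁻¹ * ((y * x * y⁻¹) * (u : G) * (y * x * y⁻¹)⁻¹) * y := by group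
      _ = y⁻¹ * (u : G) * y := by rw [h1]
  have h3 : y⁻¹ * (u : G) * y ∈ Q := by
    have := ‹Q.Normal›.conj_mem _ (hUQ u.2) y⁻¹
    simpa using this
  have h4 := hfpf _ h3 h2
  have h5 : (u : G) = 1 := by
    calc (u : G) = y * (y⁻¹ * (u : G) * y) * y⁻¹ := by group
      _ = 1 := by
        rw [h4]
        group
  apply (SecMod.mk_eq_zero_iff u).mpr
  exact Subtype.ext h5

theorem secMod_two (h2 : ∀ u ∈ U, u * u = 1) (w : SecMod U hcomm) : w + w = 0 := by
  obtain ⟨u, rfl⟩ := SecMod.mk_surjective w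
  rw [← SecMod.mk_mul]
  apply (SecMod.mk_eq_zero_iff _).mpr
  exact Subtype.ext (h2 u u.2)

end props

end rep

end Cfsg.Agent.Helper50.Higman
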