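import Mathlib
import Cfsg.Agent.Lib.Helper50.Higman5
import Cfsg.Agent.Lib.Helper50.Higman6
import Cfsg.Agent.Lib.Helper50.Higman8

set_option autoImplicit false

/-!
Higman's theorem, first half: `Q` is elementary abelian.
-/

namespace Cfsg.Agent.Helper50.Higman

open Matrix

section coset
variable {G : Type*} [Group G]

/-- coprime action: an element of order three fixing a coset of a normal `2`-subgroup fixes a
point of it. -/
theorem exists_fixed_in_coset [Finite G] (N : Subgroup G) [hNn : N.Normal] (hN : IsPGroup 2 ↥N)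
    (x : G) (hx3 : x ^ 3 = 1) (q : G) (hq : q⁻¹ * (x * q * x⁻¹) ∈ N) :
    ∃ n ∈ N, x * (q * n) * x⁻¹ = q * n := by
  classical
  haveI : Fintype ↥N := Fintype.ofFinite _
  have hmem : ∀ n : ↥N, q⁻¹ * (x * (q * (n : G)) * x⁻¹) ∈ N := by
    intro n
    have : q⁻¹ * (x * (q * (n : G)) * x⁻¹) = (q⁻¹ * (x * q * x⁻¹)) * (x * (n : G) * x⁻¹) := by
      group
    rw [this]
    exact N.mul_mem hq (hNn.conj_mem _ n.2 x)
  let f : Function.End ↥N := fun n => ⟨q⁻¹ * (x * (q * (n : G)) * x⁻¹), hmem n⟩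
  have hx3' : x * x * x = 1 := by
    rw [← pow_two, ← pow_succ]
    exact hx3
  have hxi : x⁻¹ * x⁻¹ * x⁻¹ = 1 := by
    rw [← _root_.mul_inv_rev, ← _root_.mul_inv_rev, ← mul_assoc, hx3', inv_one]
  have hf : f ^ 3 ^ 1 = 1 := by
    rw [pow_one, pow_succ, pow_two]
    funext n
    apply Subtype.ext
    show q⁻¹ * (x * (q * (q⁻¹ * (x * (q * (q⁻¹ * (x * (q * (n : G)) * x⁻¹))) * x⁻¹))) * x⁻¹) =
      (n : G)
    calc q⁻¹ * (x * (q * (q⁻¹ * (x * (q * (q⁻¹ * (x * (q * (n : G)) * x⁻¹))) * x⁻¹))) * x⁻¹)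
        = q⁻¹ * (x * x * x) * q * (n : G) * (x⁻¹ * x⁻¹ * x⁻¹) := by group
      _ = (n : G) := by
        rw [hx3', hxi]
        group
  haveI : Fact (Nat.Prime 3) := ⟨Nat.prime_three⟩
  have hmod := Equiv.Perm.card_fixedPoints_modEq (p := 3) (n := 1) hf
  obtain ⟨k, hk⟩ := IsPGroup.iff_card.mp hN
  have hne : Fintype.card (Function.fixedPoints f) ≠ 0 := by
    intro h0
    rw [h0] at hmod
    have h3 : 3 ∣ 2 ^ k := by
      rw [← hk, Nat.card_eq_fintype_card]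
      exact (Nat.modEq_zero_iff_dvd).mp hmod
    have := Nat.Prime.dvd_of_dvd_pow Nat.prime_three h3
    omega
  obtain ⟨⟨n, hn⟩⟩ := Fintype.card_pos_iff.mp (Nat.pos_of_ne_zero hne)
  refine ⟨n, n.2, ?_⟩
  have h1 : q⁻¹ * (x * (q * (n : G)) * x⁻¹) = (n : G) := congrArg Subtype.val hn
  calc x * (q * (n : G)) * x⁻¹ = q * (q⁻¹ * (x * (q * (n : G)) * x⁻¹)) := by group
    _ = q * n := by rw [h1]

/-- `Ω₁(Z(Q))` as a subgroup of `G` -/
def omegaZ (Q : Subgroup G) : Subgroup G where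
  carrier := {z | z ∈ Q ∧ (∀ q ∈ Q, q * z = z * q) ∧ z * z = 1}
  one_mem' := ⟨Q.one_mem, by simp, by simp⟩
  mul_mem' := by
    rintro a b ⟨haQ, hac, ha2⟩ ⟨hbQ, hbc, hb2⟩
    refine ⟨Q.mul_mem haQ hbQ, ?_, ?_⟩
    · intro q hq
      rw [← mul_assoc, hac q hq, mul_assoc, hbc q hq, ← mul_assoc]
    · calc a * b * (a * b) = a * (b * a) * b := by group
        _ = a * (a * b) * b := by rw [hac b hbQ]
        _ = (a * a) * (b * b) := by group
        _ = 1 := by rw [ha2, hb2, one_mul]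
  inv_mem' := by
    rintro a ⟨haQ, hac, ha2⟩
    have : a⁻¹ = a := inv_eq_of_mul_eq_one_left ha2
    rw [this]
    exact ⟨haQ, hac, ha2⟩

theorem mem_omegaZ {Q : Subgroup G} {z : G} :
    z ∈ omegaZ Q ↔ z ∈ Q ∧ (∀ q ∈ Q, q * z = z * q) ∧ z * z = 1 := Iff.rfl

theorem omegaZ_le (Q : Subgroup G) : omegaZ Q ≤ Q := fun _ hz => hz.1

instance omegaZ_normal (Q : Subgroup G) [hQn : Q.Normal] : (omegaZ Q).Normal where
  conj_mem := by
    rintro z ⟨hzQ, hzc, hz2⟩ g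
    refine ⟨hQn.conj_mem z hzQ g, ?_, ?_⟩
    · intro q hq
      have h1 : g⁻¹ * q * g ∈ Q := by
        have := hQn.conj_mem q hq g⁻¹
        simpa using this
      have h2 := hzc _ h1
      calc q * (g * z * g⁻¹) = g * ((g⁻¹ * q * g) * z) * g⁻¹ := by group
        _ = g * (z * (g⁻¹ * q * g)) * g⁻¹ := by rw [h2]
        _ = g * z * g⁻¹ * q := by group
    · calc g * z * g⁻¹ * (g * z * g⁻¹) = g * (z * z) * g⁻¹ := by group
        _ = 1 := by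
          rw [hz2]
          group

theorem omegaZ_ne_bot [Finite G] (Q : Subgroup G) (hQ : IsPGroup 2 ↥Q) (hne : Q ≠ ⊥) :
    omegaZ Q ≠ ⊥ := by
  haveI : Nontrivial ↥Q := (Subgroup.nontrivial_iff_ne_bot Q).mpr hne
  haveI := hQ.center_nontrivial
  have hZ : IsPGroup 2 ↥(Subgroup.center ↥Q) := hQ.to_subgroup _
  have hdvd : 2 ∣ Nat.card ↥(Subgroup.center ↥Q) := by
    rcases hZ.card_eq_or_dvd with h | h
    · exfalso
      have := Finite.one_lt_card (α := ↥(Subgroup.center ↥Q))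
      omega
    · exact h
  haveI : Fact (Nat.Prime 2) := ⟨Nat.prime_two⟩
  obtain ⟨z, hz⟩ := exists_prime_orderOf_dvd_card' 2 hdvd
  intro hbot
  have hzmem : ((z : ↥Q) : G) ∈ omegaZ Q := by
    refine ⟨(z : ↥Q).2, ?_, ?_⟩
    · intro q hq
      have := (Subgroup.mem_center_iff.mp z.2) ⟨q, hq⟩
      exact congrArg Subtype.val this
    · have h1 : z ^ 2 = 1 := by
        rw [← hz]
        exact pow_orderOf_eq_one z
      have h2 := congrArg (fun t : ↥(Subgroup.center ↥Q) => ((t : ↥Q) : G)) h1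
      simpa [pow_two] using h2
  rw [hbot, Subgroup.mem_bot] at hzmem
  have hz1 : z = 1 := by
    apply Subtype.ext
    apply Subtype.ext
    exact hzmem
  rw [hz1, orderOf_one] at hz
  omega

end coset

section setup

/-- the set-up of Higman's theorem, normalised so that `x` maps to `D0` -/
structure Setup (K : Type*) [Field K] [CharP K 2] {G : Type*} [Group G] (Q : Subgroup G)
    [Q.Normal] where
  e : G ⧸ Q ≃* Matrix.SpecialLinearGroup (Fin 2) K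
  x : G
  hx3 : x ^ 3 = 1
  hxe : e (QuotientGroup.mk x) = D0
  hfpf : ∀ q ∈ Q, x * q * x⁻¹ = q → q = 1
  hQ : IsPGroup 2 ↥Q

variable {K : Type*} [Field K] [CharP K 2]
variable {G : Type*} [Group G]

namespace Setup
variable {Q : Subgroup G} [Q.Normal]

/-- the quotient set-up -/
noncomputable def quot [Finite G] (S : Setup K Q) (N : Subgroup G) [N.Normal] (hNQ : N ≤ Q) :
    Setup K (Q.map (QuotientGroup.mk' N)) where
  e := (QuotientGroup.quotientQuotientEquivQuotient N Q hNQ).trans S.e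
  x := QuotientGroup.mk S.x
  hx3 := by
    rw [← QuotientGroup.mk_pow, S.hx3]
    rfl
  hxe := S.hxe
  hfpf := by
    rintro _ ⟨q, hq, rfl⟩ hfix
    have h1 : q⁻¹ * (S.x * q * S.x⁻¹) ∈ N := by
      rw [← QuotientGroup.eq]
      exact hfix.symm
    obtain ⟨n, hn, hfixed⟩ := exists_fixed_in_coset N (S.hQ.to_le hNQ) S.x S.hx3 q h1
    have h2 := S.hfpf (q * n) (Q.mul_mem hq (hNQ hn)) hfixed
    have h3 : q = n⁻¹ := eq_inv_of_mul_eq_one_left h2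
    rw [QuotientGroup.mk'_apply, QuotientGroup.eq_one_iff, h3]
    exact N.inv_mem hn
  hQ := S.hQ.map _

theorem quot_e_apply [Finite G] (S : Setup K Q) (N : Subgroup G) [N.Normal] (hNQ : N ≤ Q)
    (g : G) :
    (S.quot N hNQ).e (QuotientGroup.mk (QuotientGroup.mk g)) = S.e (QuotientGroup.mk g) := rfl

end Setup

end setup

section commlemmas
variable {G : Type*} [Group G]

theorem comm_mul_left {u v n : G} (h : n * v = v * n) :
    u * n * v * (u * n)⁻¹ * v⁻¹ = u * v * u⁻¹ * v⁻¹ := by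
  calc u * n * v * (u * n)⁻¹ * v⁻¹ = u * (n * v) * n⁻¹ * u⁻¹ * v⁻¹ := by group
    _ = u * (v * n) * n⁻¹ * u⁻¹ * v⁻¹ := by rw [h]
    _ = u * v * u⁻¹ * v⁻¹ := by group

theorem comm_inv_of_comm {u n : G} (h : n * u = u * n) : n * u⁻¹ = u⁻¹ * n := by
  calc n * u⁻¹ = u⁻¹ * (u * n) * u⁻¹ := by group
    _ = u⁻¹ * (n * u) * u⁻¹ := by rw [h]
    _ = u⁻¹ * n := by group

theorem comm_mul_right {u v n : G} (h : n * u = u * n) :
    u * (v * n) * u⁻¹ * (v * n)⁻¹ = u * v * u⁻¹ * v⁻¹ := by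
  have h' := comm_inv_of_comm h
  calc u * (v * n) * u⁻¹ * (v * n)⁻¹ = u * v * (n * u⁻¹) * n⁻¹ * v⁻¹ := by group
    _ = u * v * (u⁻¹ * n) * n⁻¹ * v⁻¹ := by rw [h']
    _ = u * v * u⁻¹ * v⁻¹ := by group

/-- `[u₁u₂, v] = [u₂,v][u₁,v]` if `[u₂,v]` commutes with `u₁` -/
theorem comm_mul_bilin_left {u₁ u₂ v : G}
    (h : (u₂ * v * u₂⁻¹ * v⁻¹) * u₁ = u₁ * (u₂ * v * u₂⁻¹ * v⁻¹)) :
    u₁ * u₂ * v * (u₁ * u₂)⁻¹ * v⁻¹ = (u₂ * v * u₂⁻¹ * v⁻¹) * (u₁ * v * u₁⁻¹ * v⁻¹) := by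
  calc u₁ * u₂ * v * (u₁ * u₂)⁻¹ * v⁻¹
      = (u₁ * (u₂ * v * u₂⁻¹ * v⁻¹)) * v * u₁⁻¹ * v⁻¹ := by group
    _ = ((u₂ * v * u₂⁻¹ * v⁻¹) * u₁) * v * u₁⁻¹ * v⁻¹ := by rw [h]
    _ = (u₂ * v * u₂⁻¹ * v⁻¹) * (u₁ * v * u₁⁻¹ * v⁻¹) := by group

/-- `[u, v₁v₂] = [u,v₁][u,v₂]` if `[u,v₂]` commutes with `v₁` -/
theorem comm_mul_bilin_right {u v₁ v₂ : G}
    (h : (u * v₂ * u⁻¹ * v₂⁻¹) * v₁ = v₁ * (u * v₂ * u⁻¹ * v₂⁻¹)) :
    u * (v₁ * v₂) * u⁻¹ * (v₁ * v₂)⁻¹ = (u * v₁ * u⁻¹ * v₁⁻¹) * (u * v₂ * u⁻¹ * v₂⁻¹) := by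
  have h' := comm_inv_of_comm h
  calc u * (v₁ * v₂) * u⁻¹ * (v₁ * v₂)⁻¹
      = u * v₁ * u⁻¹ * ((u * v₂ * u⁻¹ * v₂⁻¹) * v₁⁻¹) := by group
    _ = u * v₁ * u⁻¹ * (v₁⁻¹ * (u * v₂ * u⁻¹ * v₂⁻¹)) := by rw [h']
    _ = (u * v₁ * u⁻¹ * v₁⁻¹) * (u * v₂ * u⁻¹ * v₂⁻¹) := by group

end commlemmas

section comm
variable {G : Type*} [Group G] {Q : Subgroup G} (N : Subgroup G) [N.Normal]
  (hQc : ∀ a ∈ Q.map (QuotientGroup.mk' N), ∀ b ∈ Q.map (QuotientGroup.mk' N), a * b = b * a)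

include hQc in
theorem comm_mem_of_quot_comm {u v : G} (hu : u ∈ Q) (hv : v ∈ Q) :
    u * v * u⁻¹ * v⁻¹ ∈ N := by
  have h := hQc _ (Subgroup.mem_map_of_mem _ hu) _ (Subgroup.mem_map_of_mem _ hv)
  have h1 : (QuotientGroup.mk' N) (u * v * u⁻¹ * v⁻¹) = 1 := by
    rw [map_mul, map_mul, map_mul, map_inv, map_inv, h]
    group
  exact (QuotientGroup.eq_one_iff _).mp h1

/-- the element of the quotient module attached to `u ∈ Q` -/
def mkV (u : G) (hu : u ∈ Q) : SecMod (Q.map (QuotientGroup.mk' N)) hQc :=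
  SecMod.mk ⟨QuotientGroup.mk' N u, Subgroup.mem_map_of_mem _ hu⟩

theorem mkV_surj (w : SecMod (Q.map (QuotientGroup.mk' N)) hQc) :
    ∃ u, ∃ hu : u ∈ Q, mkV N hQc u hu = w := by
  obtain ⟨u, hu, huw⟩ := Subgroup.mem_map.mp (SecMod.val w).2
  refine ⟨u, hu, ?_⟩
  unfold mkV
  rw [← SecMod.mk_val w]
  congr 1
  exact Subtype.ext huw

theorem mkV_mul (u v : G) (hu : u ∈ Q) (hv : v ∈ Q) :
    mkV N hQc (u * v) (Q.mul_mem hu hv) = mkV N hQc u hu + mkV N hQc v hv := by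
  unfold mkV
  rw [← SecMod.mk_mul]
  congr 1

theorem mkV_eq_iff (u v : G) (hu : u ∈ Q) (hv : v ∈ Q) :
    mkV N hQc u hu = mkV N hQc v hv ↔ u⁻¹ * v ∈ N := by
  unfold mkV
  constructor
  · intro h
    have h1 := congrArg Subtype.val (SecMod.mk_injective h)
    exact QuotientGroup.eq.mp h1
  · intro h
    congr 1
    apply Subtype.ext
    exact QuotientGroup.eq.mpr h

/-- a lift of an element of the quotient module to `Q` -/
noncomputable def liftQ (w : SecMod (Q.map (QuotientGroup.mk' N)) hQc) : G :=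
  Classical.choose (mkV_surj N hQc w)

theorem liftQ_mem (w : SecMod (Q.map (QuotientGroup.mk' N)) hQc) : liftQ N hQc w ∈ Q :=
  Classical.choose (Classical.choose_spec (mkV_surj N hQc w))

theorem mkV_liftQ (w : SecMod (Q.map (QuotientGroup.mk' N)) hQc) :
    mkV N hQc (liftQ N hQc w) (liftQ_mem N hQc w) = w :=
  Classical.choose_spec (Classical.choose_spec (mkV_surj N hQc w))

variable (hNcomm : ∀ n ∈ N, ∀ n' ∈ N, n * n' = n' * n)

/-- the commutator pairing -/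
noncomputable def betaC (w w' : SecMod (Q.map (QuotientGroup.mk' N)) hQc) : SecMod N hNcomm :=
  SecMod.mk ⟨liftQ N hQc w * liftQ N hQc w' * (liftQ N hQc w)⁻¹ * (liftQ N hQc w')⁻¹,
    comm_mem_of_quot_comm N hQc (liftQ_mem N hQc w) (liftQ_mem N hQc w')⟩

variable (hNQ : N ≤ Q) (hNc : ∀ q ∈ Q, ∀ n ∈ N, q * n = n * q)

include hNQ hNc in
theorem betaC_mkV (u v : G) (hu : u ∈ Q) (hv : v ∈ Q) :
    betaC N hQc hNcomm (mkV N hQc u hu) (mkV N hQc v hv) =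
      SecMod.mk ⟨u * v * u⁻¹ * v⁻¹, comm_mem_of_quot_comm N hQc hu hv⟩ := by
  unfold betaC
  congr 1
  apply Subtype.ext
  show liftQ N hQc (mkV N hQc u hu) * liftQ N hQc (mkV N hQc v hv) *
    (liftQ N hQc (mkV N hQc u hu))⁻¹ * (liftQ N hQc (mkV N hQc v hv))⁻¹ = u * v * u⁻¹ * v⁻¹
  set u' := liftQ N hQc (mkV N hQc u hu) with hu'
  set v' := liftQ N hQc (mkV N hQc v hv) with hv'
  have hu'Q : u' ∈ Q := liftQ_mem N hQc _
  have hv'Q : v' ∈ Q := liftQ_mem N hQc _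
  have h1 : u⁻¹ * u' ∈ N :=
    (mkV_eq_iff N hQc u u' hu hu'Q).mp (mkV_liftQ N hQc (mkV N hQc u hu)).symm
  have h2 : v⁻¹ * v' ∈ N :=
    (mkV_eq_iff N hQc v v' hv hv'Q).mp (mkV_liftQ N hQc (mkV N hQc v hv)).symm
  have e1 : u' = u * (u⁻¹ * u') := by group
  have e2 : v' = v * (v⁻¹ * v') := by group
  rw [e1, comm_mul_left (hNc v' hv'Q _ h1).symm, e2, comm_mul_right (hNc u hu _ h2).symm]

end comm

section commconc
variable {K : Type*} [Field K] [CharP K 2]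
variable {G : Type*} [Group G] [Finite G] {Q : Subgroup G} [hQn : Q.Normal]

theorem Setup.comm_of_quot (S : Setup K Q) (hsq : ∀ c : K, ∃ s : K, s * s = c)
    (hK : ∃ l : K, l ≠ 0 ∧ l ≠ 1) (N : Subgroup G) [N.Normal] (hNQ : N ≤ Q)
    (hNc : ∀ q ∈ Q, ∀ n ∈ N, q * n = n * q) (hN2 : ∀ n ∈ N, n * n = 1)
    (hQc : ∀ a ∈ Q.map (QuotientGroup.mk' N), ∀ b ∈ Q.map (QuotientGroup.mk' N), a * b = b * a)
    (hQ2 : ∀ a ∈ Q.map (QuotientGroup.mk' N), a * a = 1) :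
    ∀ u ∈ Q, ∀ v ∈ Q, u * v = v * u := by
  have hNcomm : ∀ n ∈ N, ∀ n' ∈ N, n * n' = n' * n :=
    fun n hn n' hn' => hNc n (hNQ hn) n' hn'
  have hV : ModHyp (secRep (Q.map (QuotientGroup.mk' N)) (S.quot N hNQ).e
      (Q.map (QuotientGroup.mk' N)) hQc hQc) :=
    ⟨secMod_two _ hQc hQ2, secRep_fpf _ _ _ hQc hQc (S.quot N hNQ).x (S.quot N hNQ).hxe
      (S.quot N hNQ).hfpf le_rfl, hsq⟩
  have hNm : ModHyp (secRep Q S.e N hNcomm hNc) :=
    ⟨secMod_two _ hNcomm hN2, secRep_fpf Q S.e N hNcomm hNc S.x S.hxe S.hfpf hNQ, hsq⟩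
  have hcm : ∀ {u v : G}, u ∈ Q → v ∈ Q → u * v * u⁻¹ * v⁻¹ ∈ N :=
    fun hu hv => comm_mem_of_quot_comm N hQc hu hv
  have hβ : BilHyp (secRep (Q.map (QuotientGroup.mk' N)) (S.quot N hNQ).e
      (Q.map (QuotientGroup.mk' N)) hQc hQc) (secRep Q S.e N hNcomm hNc)
      (betaC N hQc hNcomm) := by
    refine ⟨?_, ?_, ?_⟩
    · intro w₁ w₂ w
      obtain ⟨u₁, hu₁, rfl⟩ := mkV_surj N hQc w₁
      obtain ⟨u₂, hu₂, rfl⟩ := mkV_surj N hQc w₂
      obtain ⟨v, hv, rfl⟩ := mkV_surj N hQc w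
      rw [← mkV_mul, betaC_mkV N hQc hNcomm hNQ hNc, betaC_mkV N hQc hNcomm hNQ hNc,
        betaC_mkV N hQc hNcomm hNQ hNc, ← SecMod.mk_mul]
      congr 1
      apply Subtype.ext
      show u₁ * u₂ * v * (u₁ * u₂)⁻¹ * v⁻¹ =
        (u₁ * v * u₁⁻¹ * v⁻¹) * (u₂ * v * u₂⁻¹ * v⁻¹)
      rw [comm_mul_bilin_left (hNc u₁ hu₁ _ (hcm hu₂ hv)).symm]
      exact hNcomm _ (hcm hu₂ hv) _ (hcm hu₁ hv)
    · intro w w₁ w₂
      obtain ⟨v₁, hv₁, rfl⟩ := mkV_surj N hQc w₁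
      obtain ⟨v₂, hv₂, rfl⟩ := mkV_surj N hQc w₂
      obtain ⟨u, hu, rfl⟩ := mkV_surj N hQc w
      rw [← mkV_mul, betaC_mkV N hQc hNcomm hNQ hNc, betaC_mkV N hQc hNcomm hNQ hNc,
        betaC_mkV N hQc hNcomm hNQ hNc, ← SecMod.mk_mul]
      congr 1
      apply Subtype.ext
      show u * (v₁ * v₂) * u⁻¹ * (v₁ * v₂)⁻¹ =
        (u * v₁ * u⁻¹ * v₁⁻¹) * (u * v₂ * u⁻¹ * v₂⁻¹)
      rw [comm_mul_bilin_right (hNc v₁ hv₁ _ (hcm hu hv₂)).symm]
    · intro g w w'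
      obtain ⟨u, hu, rfl⟩ := mkV_surj N hQc w
      obtain ⟨v, hv, rfl⟩ := mkV_surj N hQc w'
      obtain ⟨yq, rfl⟩ := S.e.surjective g
      obtain ⟨y, rfl⟩ := QuotientGroup.mk_surjective yq
      have hy : ∀ (t : G) (ht : t ∈ Q),
          secRep (Q.map (QuotientGroup.mk' N)) (S.quot N hNQ).e
            (Q.map (QuotientGroup.mk' N)) hQc hQc (S.e (QuotientGroup.mk y)) (mkV N hQc t ht) =
          mkV N hQc (y * t * y⁻¹) (hQn.conj_mem t ht y) := by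
        intro t ht
        rw [← S.quot_e_apply N hNQ y]
        unfold mkV
        rw [secRep_apply]
        rfl
      rw [hy u hu, hy v hv, betaC_mkV N hQc hNcomm hNQ hNc, betaC_mkV N hQc hNcomm hNQ hNc,
        secRep_apply]
      congr 1
      apply Subtype.ext
      show y * u * y⁻¹ * (y * v * y⁻¹) * (y * u * y⁻¹)⁻¹ * (y * v * y⁻¹)⁻¹ =
        y * (u * v * u⁻¹ * v⁻¹) * y⁻¹
      group
  intro u hu v hv
  have h0 := hβ.eq_zero hV hNm hK (mkV N hQc u hu) (mkV N hQc v hv)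
  rw [betaC_mkV N hQc hNcomm hNQ hNc] at h0
  have h1 : u * v * u⁻¹ * v⁻¹ = 1 := congrArg Subtype.val ((SecMod.mk_eq_zero_iff _).mp h0)
  calc u * v = (u * v * u⁻¹ * v⁻¹) * (v * u) := by group
    _ = v * u := by rw [h1, one_mul]

theorem Setup.exp_two_of_comm [Fintype K] (S : Setup K Q) (hsq : ∀ c : K, ∃ s : K, s * s = c)
    (c : K) (hc0 : c ≠ 0) (hc1 : c ≠ 1) (k : ℕ) (hq : Fintype.card K = 2 * k)
    (hcomm : ∀ u ∈ Q, ∀ u' ∈ Q, u * u' = u' * u) (h4 : ∀ u ∈ Q, u * u * (u * u) = 1) :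
    ∀ u ∈ Q, u * u = 1 := by
  have hab : AbHyp (secRep Q S.e Q hcomm hcomm) := by
    refine ⟨?_, secRep_fpf Q S.e Q hcomm hcomm S.x S.hxe S.hfpf le_rfl, hsq⟩
    intro w
    obtain ⟨u, rfl⟩ := SecMod.mk_surjective w
    rw [← SecMod.mk_mul, ← SecMod.mk_mul]
    apply (SecMod.mk_eq_zero_iff _).mpr
    exact Subtype.ext (h4 u u.2)
  intro u hu
  have := hab.two c hc0 hc1 k hq (SecMod.mk ⟨u, hu⟩)
  rw [← SecMod.mk_mul] at this
  exact congrArg Subtype.val ((SecMod.mk_eq_zero_iff _).mp this)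

end commconc

section main
universe u
variable {K : Type*} [Field K] [CharP K 2] [Fintype K]

theorem Setup.elemAb_aux (hsq : ∀ c : K, ∃ s : K, s * s = c)
    (c : K) (hc0 : c ≠ 0) (hc1 : c ≠ 1) (k : ℕ) (hq : Fintype.card K = 2 * k) :
    ∀ n : ℕ, ∀ (G : Type u) [Group G] [Finite G] (Q : Subgroup G) [Q.Normal],
      Nat.card G = n → Setup K Q →
      (∀ u ∈ Q, ∀ v ∈ Q, u * v = v * u) ∧ ∀ u ∈ Q, u * u = 1 := by
  intro n
  induction n using Nat.strong_induction_on with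
  | _ n ih =>
    intro G _ _ Q _ hn S
    by_cases hbot : Q = ⊥
    · subst hbot
      constructor
      · intro u hu v hv
        rw [Subgroup.mem_bot] at hu hv
        rw [hu, hv]
      · intro u hu
        rw [Subgroup.mem_bot] at hu
        rw [hu, one_mul]
    have hNne : omegaZ Q ≠ ⊥ := omegaZ_ne_bot Q S.hQ hbot
    have hNQ : omegaZ Q ≤ Q := omegaZ_le Q
    have hcard : Nat.card (G ⧸ omegaZ Q) < n := by
      rw [← hn, Subgroup.card_eq_card_quotient_mul_card_subgroup (omegaZ Q)]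
      have h1 : 1 < Nat.card ↥(omegaZ Q) := (omegaZ Q).one_lt_card_iff_ne_bot.mpr hNne
      have hpos : 0 < Nat.card (G ⧸ omegaZ Q) := Nat.card_pos
      nlinarith
    obtain ⟨hQc, hQ2⟩ := ih _ hcard (G ⧸ omegaZ Q) (Q.map (QuotientGroup.mk' (omegaZ Q))) rfl
      (S.quot (omegaZ Q) hNQ)
    have hNc : ∀ q ∈ Q, ∀ n ∈ omegaZ Q, q * n = n * q := fun q hq n hn => hn.2.1 q hq
    have hN2 : ∀ n ∈ omegaZ Q, n * n = 1 := fun n hn => hn.2.2
    have hK : ∃ l : K, l ≠ 0 ∧ l ≠ 1 := ⟨c, hc0, hc1⟩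
    have hcomm := S.comm_of_quot hsq hK (omegaZ Q) hNQ hNc hN2 hQc hQ2
    refine ⟨hcomm, S.exp_two_of_comm hsq c hc0 hc1 k hq hcomm ?_⟩
    intro u hu
    have h1 : u * u ∈ omegaZ Q := by
      have := hQ2 _ (Subgroup.mem_map_of_mem (QuotientGroup.mk' (omegaZ Q)) hu)
      rw [← map_mul] at this
      exact (QuotientGroup.eq_one_iff _).mp this
    exact hN2 _ h1

/-- first half of Higman's theorem: `Q` is elementary abelian -/
theorem Setup.elemAb {G : Type u} [Group G] [Finite G] {Q : Subgroup G} [Q.Normal]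
    (S : Setup K Q) (hsq : ∀ c : K, ∃ s : K, s * s = c)
    (c : K) (hc0 : c ≠ 0) (hc1 : c ≠ 1) (k : ℕ) (hq : Fintype.card K = 2 * k) :
    (∀ u ∈ Q, ∀ v ∈ Q, u * v = v * u) ∧ ∀ u ∈ Q, u * u = 1 :=
  Setup.elemAb_aux hsq c hc0 hc1 k hq _ G Q rfl S

end main

end Cfsg.Agent.Helper50.Higman
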