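import Mathlib
import Cfsg.Prelude.Def_JComponents
import Cfsg.Agent.Lib.Helper50.Higman9
import Cfsg.Agent.Lib.Helper50.SubnormalSylow
import Cfsg.Agent.Lib.Helper23.Large
import Cfsg.Agent.Lib.Helper87.SmallExpAbs

/-!
# `J(T)`-components: general lemmas (part 1)

Ambient description of the Thompson subgroup for the prime 2, elementary abelian 2-subgroups of
largest order, four-groups and automorphisms of them.
-/

set_option autoImplicit false

namespace Cfsg.Agent.Helper50.JComp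

open Subgroup
open Cfsg.Agent.Helper50.Higman

variable {G : Type*} [Group G]

/-- `Ω₁(Z(X))` in the sense of the prelude is the subgroup `omegaZ X`. -/
theorem omegaCenterOf_eq (X : Subgroup G) : Cfsg.omegaCenterOf X = omegaZ X := by
  unfold Cfsg.omegaCenterOf Cfsg.omegaOne
  apply le_antisymm
  · rw [Subgroup.closure_le]
    rintro x ⟨hx, hx2⟩
    rw [Subgroup.mem_inf, Subgroup.mem_centralizer_iff] at hx
    refine ⟨hx.1, fun q hq => hx.2 q hq, ?_⟩
    rw [← pow_two]; exact hx2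
  · intro x hx
    apply Subgroup.subset_closure
    obtain ⟨h1, h2, h3⟩ := hx
    refine ⟨?_, ?_⟩
    · rw [Subgroup.mem_inf, Subgroup.mem_centralizer_iff]
      exact ⟨h1, fun q hq => h2 q hq⟩
    · rw [pow_two]; exact h3

/-- Ambient form of "elementary abelian 2-subgroup of `S` of largest order". -/
def MaxEA (S A : Subgroup G) : Prop :=
  A ≤ S ∧ (∀ x ∈ A, x * x = 1) ∧ (∀ x ∈ A, ∀ y ∈ A, x * y = y * x) ∧
    ∀ B : Subgroup G, B ≤ S → (∀ x ∈ B, x * x = 1) → (∀ x ∈ B, ∀ y ∈ B, x * y = y * x) →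
      Nat.card B ≤ Nat.card A

theorem ea_two_iff {S : Subgroup G} (A' : Subgroup ↥S) :
    Cfsg.IsElementaryAbelian 2 A' ↔
      (∀ x ∈ A'.map S.subtype, x * x = 1) ∧
        (∀ x ∈ A'.map S.subtype, ∀ y ∈ A'.map S.subtype, x * y = y * x) := by
  constructor
  · rintro ⟨hc, h2⟩
    refine ⟨?_, ?_⟩
    · rintro _ ⟨x, hx, rfl⟩
      have := h2 x hx
      rw [pow_two] at this
      exact congrArg Subtype.val this
    · rintro _ ⟨x, hx, rfl⟩ _ ⟨y, hy, rfl⟩
      have := hc.is_comm.comm (⟨x, hx⟩ : ↥A') ⟨y, hy⟩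
      have h3 : x * y = y * x := congrArg Subtype.val this
      exact congrArg Subtype.val h3
  · rintro ⟨h2, hc⟩
    refine ⟨⟨⟨?_⟩⟩, ?_⟩
    · intro x y
      apply Subtype.ext
      apply Subtype.ext
      exact hc _ (Subgroup.mem_map_of_mem _ x.2) _ (Subgroup.mem_map_of_mem _ y.2)
    · intro x hx
      rw [pow_two]
      apply Subtype.ext
      exact h2 _ (Subgroup.mem_map_of_mem _ hx)

theorem card_subgroupOf_le {B S : Subgroup G} (h : B ≤ S) :
    Nat.card ↥(B.subgroupOf S) = Nat.card B :=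
  Nat.card_congr (Subgroup.subgroupOfEquivOfLe h).toEquiv

theorem thompsonTwo_eq (S : Subgroup G) :
    Cfsg.thompsonSubgroupOf 2 S = sSup {A : Subgroup G | MaxEA S A} := by
  unfold Cfsg.thompsonSubgroupOf Cfsg.thompsonSubgroup
  apply le_antisymm
  · rw [Subgroup.map_le_iff_le_comap]
    apply sSup_le
    rintro A' ⟨hA'e, hA'm⟩
    rw [← Subgroup.map_le_iff_le_comap]
    apply le_sSup
    obtain ⟨h2, hc⟩ := (ea_two_iff A').mp hA'e
    refine ⟨Subgroup.map_subtype_le _, h2, hc, ?_⟩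
    intro B hBS hB2 hBc
    have hBmap : (B.subgroupOf S).map S.subtype = B := by
      rw [Subgroup.subgroupOf_map_subtype, inf_of_le_left hBS]
    have hBe : Cfsg.IsElementaryAbelian 2 (B.subgroupOf S) := by
      rw [ea_two_iff, hBmap]
      exact ⟨hB2, hBc⟩
    have h1 := hA'm _ hBe
    rw [card_subgroupOf_le hBS] at h1
    rw [Subgroup.card_map_of_injective S.subtype_injective]
    exact h1
  · apply sSup_le
    rintro A ⟨hAS, hA2, hAc, hAm⟩
    have hAmap : (A.subgroupOf S).map S.subtype = A := by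
      rw [Subgroup.subgroupOf_map_subtype, inf_of_le_left hAS]
    have hmem : A.subgroupOf S ∈ Cfsg.maxElementaryAbelianSubgroups 2 ↥S := by
      refine ⟨?_, ?_⟩
      · rw [ea_two_iff, hAmap]
        exact ⟨hA2, hAc⟩
      · intro B' hB'e
        obtain ⟨h2, hc⟩ := (ea_two_iff B').mp hB'e
        have h1 := hAm _ (Subgroup.map_subtype_le B') h2 hc
        rw [Subgroup.card_map_of_injective S.subtype_injective] at h1
        rw [card_subgroupOf_le hAS]
        exact h1
    rw [← hAmap]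
    exact Subgroup.map_mono (le_sSup hmem)

theorem MaxEA.le_thompson {S A : Subgroup G} (h : MaxEA S A) :
    A ≤ Cfsg.thompsonSubgroupOf 2 S := by
  rw [thompsonTwo_eq]; exact le_sSup h

/-- exponent two implies commutative -/
theorem comm_of_sq {x y : G} (hx : x * x = 1) (hy : y * y = 1) (hxy : (x * y) * (x * y) = 1) :
    x * y = y * x := by
  have h1 : x⁻¹ = x := inv_eq_of_mul_eq_one_left hx
  have h2 : y⁻¹ = y := inv_eq_of_mul_eq_one_left hy
  have h3 : (x * y)⁻¹ = x * y := inv_eq_of_mul_eq_one_left hxy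
  calc x * y = (x * y)⁻¹ := h3.symm
    _ = y⁻¹ * x⁻¹ := mul_inv_rev x y
    _ = y * x := by rw [h1, h2]

theorem mem_sup_of_commute {H K : Subgroup G} (hHK : ∀ x ∈ H, ∀ y ∈ K, x * y = y * x) {g : G}
    (hg : g ∈ H ⊔ K) : ∃ h ∈ H, ∃ k ∈ K, g = h * k := by
  rw [Subgroup.sup_eq_closure] at hg
  induction hg using Subgroup.closure_induction with
  | mem x hx =>
    rcases hx with hx | hx
    · exact ⟨x, hx, 1, K.one_mem, by simp⟩
    · exact ⟨1, H.one_mem, x, hx, by simp⟩
  | one => exact ⟨1, H.one_mem, 1, K.one_mem, by simp⟩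
  | mul x y _ _ hx hy =>
    obtain ⟨h₁, hh₁, k₁, hk₁, rfl⟩ := hx
    obtain ⟨h₂, hh₂, k₂, hk₂, rfl⟩ := hy
    refine ⟨h₁ * h₂, H.mul_mem hh₁ hh₂, k₁ * k₂, K.mul_mem hk₁ hk₂, ?_⟩
    calc h₁ * k₁ * (h₂ * k₂) = h₁ * (k₁ * h₂) * k₂ := by group
      _ = h₁ * (h₂ * k₁) * k₂ := by rw [hHK h₂ hh₂ k₁ hk₁]
      _ = h₁ * h₂ * (k₁ * k₂) := by group
  | inv x _ hx =>
    obtain ⟨h₁, hh₁, k₁, hk₁, rfl⟩ := hx
    refine ⟨h₁⁻¹, H.inv_mem hh₁, k₁⁻¹, K.inv_mem hk₁, ?_⟩
    rw [mul_inv_rev]
    exact (hHK _ (H.inv_mem hh₁) _ (K.inv_mem hk₁)).symm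

/-- the join of two commuting subgroups of exponent two has exponent two -/
theorem sq_of_sup {H K : Subgroup G} (hH : ∀ x ∈ H, x * x = 1) (hK : ∀ x ∈ K, x * x = 1)
    (hHK : ∀ x ∈ H, ∀ y ∈ K, x * y = y * x) : ∀ x ∈ H ⊔ K, x * x = 1 := by
  intro g hg
  obtain ⟨h, hh, k, hk, rfl⟩ := mem_sup_of_commute hHK hg
  calc h * k * (h * k) = h * (k * h) * k := by group
    _ = h * (h * k) * k := by rw [hHK h hh k hk]
    _ = (h * h) * (k * k) := by group
    _ = 1 := by rw [hH h hh, hK k hk, one_mul]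

theorem comm_of_exp_two {H : Subgroup G} (hH : ∀ x ∈ H, x * x = 1) :
    ∀ x ∈ H, ∀ y ∈ H, x * y = y * x :=
  fun x hx y hy => comm_of_sq (hH x hx) (hH y hy) (hH _ (H.mul_mem hx hy))

theorem zpowers_cases {z : G} (hz : z * z = 1) {x : G} (hx : x ∈ zpowers z) :
    x = 1 ∨ x = z := by
  obtain ⟨n, rfl⟩ := Subgroup.mem_zpowers_iff.mp hx
  have h2 : z ^ (2 : ℤ) = 1 := by rw [zpow_two]; exact hz
  have hn : z ^ n = z ^ (n % 2) := by
    conv_lhs => rw [← Int.emod_add_mul_ediv n 2]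
    rw [zpow_add, zpow_mul, h2, one_zpow, mul_one]
  rcases Int.emod_two_eq_zero_or_one n with h | h
  · left; rw [hn, h, zpow_zero]
  · right; rw [hn, h, zpow_one]

theorem zpowers_sq {z : G} (hz : z * z = 1) : ∀ x ∈ zpowers z, x * x = 1 := by
  intro x hx
  rcases zpowers_cases hz hx with rfl | rfl
  · simp
  · exact hz

section fin
variable [Finite G]

/-- an involution of `S` commuting with a largest elementary abelian subgroup lies in it -/
theorem MaxEA.mem_of_commute {S A : Subgroup G} (h : MaxEA S A) {z : G} (hzS : z ∈ S)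
    (hz2 : z * z = 1) (hzc : ∀ a ∈ A, a * z = z * a) : z ∈ A := by
  obtain ⟨hAS, hA2, hAc, hAm⟩ := h
  have hc : ∀ a ∈ A, ∀ x ∈ zpowers z, a * x = x * a := by
    intro a ha x hx
    rcases zpowers_cases hz2 hx with rfl | rfl
    · simp
    · exact hzc a ha
  have hB2 := sq_of_sup hA2 (zpowers_sq hz2) hc
  have hBS : A ⊔ zpowers z ≤ S := sup_le hAS (by rw [Subgroup.zpowers_le]; exact hzS)
  have hcard := hAm _ hBS hB2 (comm_of_exp_two hB2)
  have heq : A = A ⊔ zpowers z := Subgroup.eq_of_le_of_card_ge le_sup_left hcard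
  rw [heq]
  exact (le_sup_right : zpowers z ≤ A ⊔ zpowers z) (Subgroup.mem_zpowers z)

/-- the join of a subgroup with an involution outside it that centralizes it -/
theorem card_sup_zpowers {H : Subgroup G} {a : G} (ha2 : a * a = 1) (haH : a ∉ H)
    (hc : ∀ h ∈ H, a * h = h * a) : Nat.card ↥(H ⊔ zpowers a) = 2 * Nat.card H := by
  have hn : zpowers a ≤ normalizer (H : Set G) := by
    rw [Subgroup.zpowers_le, Subgroup.mem_normalizer_iff]
    intro h
    constructor
    · intro hh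
      have : a * h * a⁻¹ = h := by rw [hc h hh]; group
      rw [this]; exact hh
    · intro hh
      have h1 := hc _ hh
      have : a * h * a⁻¹ = h := by
        have h2 : a * (a * h * a⁻¹) = a * h := by rw [h1]; group
        exact mul_left_cancel h2
      rw [← this]; exact hh
  have h1 := card_sup_mul_card_inf_of_le_normalizer H (zpowers a) hn
  have h2 : H ⊓ zpowers a = ⊥ := by
    rw [eq_bot_iff]
    intro x hx
    rw [Subgroup.mem_inf] at hx
    rcases zpowers_cases ha2 hx.2 with rfl | rfl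
    · exact Subgroup.mem_bot.mpr rfl
    · exact absurd hx.1 haH
  have ha1 : a ≠ 1 := by
    rintro rfl
    exact haH H.one_mem
  have h3 : Nat.card ↥(zpowers a) = 2 := by
    rw [Nat.card_zpowers]
    exact orderOf_eq_prime (by rw [pow_two]; exact ha2) ha1
  rw [h2, Subgroup.card_bot, mul_one, h3] at h1
  rw [h1, mul_comm]

end fin

end Cfsg.Agent.Helper50.JComp
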