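import Mathlib
import Cfsg.Agent.Lib.Helper50.JComp1

/-!
# `J(T)`-components: general lemmas (part 2)

Normalizers, the index-three condition and four-groups.
-/

set_option autoImplicit false

namespace Cfsg.Agent.Helper50.JComp

open Subgroup
open Cfsg.Agent.Helper50.Higman
open Cfsg.Agent.Helper50
open Cfsg.Agent.Helper23

variable {G : Type*} [Group G]

theorem conj_mem_of_le_normalizer {N H : Subgroup G} (h : N ≤ normalizer (H : Set G)) {x y : G}
    (hx : x ∈ N) (hy : y ∈ H) : x * y * x⁻¹ ∈ H :=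
  (mem_normalizer_iff.mp (h hx) y).mp hy

theorem conj_mem_of_le_normalizer' {N H : Subgroup G} (h : N ≤ normalizer (H : Set G)) {x y : G}
    (hx : x ∈ N) (hy : y ∈ H) : x⁻¹ * y * x ∈ H := by
  have := conj_mem_of_le_normalizer h (N.inv_mem hx) hy
  rwa [inv_inv] at this

theorem le_normalizer_of_conj_mem {N H : Subgroup G}
    (h : ∀ x ∈ N, ∀ y ∈ H, x * y * x⁻¹ ∈ H) : N ≤ normalizer (H : Set G) := by
  intro x hx
  rw [mem_normalizer_iff]
  intro y
  constructor
  · exact h x hx y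
  · intro hy
    have := h x⁻¹ (N.inv_mem hx) _ hy
    rw [inv_inv] at this
    convert this using 1
    group

theorem normalizer_le_normalizer_omegaZ (Q : Subgroup G) :
    normalizer (Q : Set G) ≤ normalizer (omegaZ Q : Set G) := by
  apply le_normalizer_of_conj_mem
  intro x hx u hu
  rw [mem_omegaZ] at hu ⊢
  obtain ⟨h1, h2, h3⟩ := hu
  refine ⟨conj_mem_of_le_normalizer le_rfl hx h1, ?_, ?_⟩
  · intro q hq
    have hq' : x⁻¹ * q * x ∈ Q := conj_mem_of_le_normalizer' le_rfl hx hq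
    have := h2 _ hq'
    calc q * (x * u * x⁻¹) = x * ((x⁻¹ * q * x) * u) * x⁻¹ := by group
      _ = x * (u * (x⁻¹ * q * x)) * x⁻¹ := by rw [this]
      _ = x * u * x⁻¹ * q := by group
  · calc x * u * x⁻¹ * (x * u * x⁻¹) = x * (u * u) * x⁻¹ := by group
      _ = 1 := by rw [h3]; group

theorem le_normalizer_commutator {B H K : Subgroup G}
    (hH : B ≤ normalizer (H : Set G)) (hK : B ≤ normalizer (K : Set G)) :
    B ≤ normalizer ((⁅H, K⁆ : Subgroup G) : Set G) := by
  intro b hb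
  have h1 := hH hb
  have h2 := hK hb
  rw [Subgroup.mem_normalizer_iff_map_conj_eq] at h1 h2 ⊢
  rw [Subgroup.map_commutator, h1, h2]

theorem le_centralizer_iff_comm {H W : Subgroup G} :
    H ≤ centralizer (W : Set G) ↔ ∀ h ∈ H, ∀ w ∈ W, h * w = w * h := by
  constructor
  · intro h x hx w hw
    exact ((mem_centralizer_iff.mp (h hx)) w hw).symm
  · intro h x hx
    rw [mem_centralizer_iff]
    intro w hw
    exact (h x hx w hw).symm

/-- a `2`-subgroup of `K` lies in `O₂(K)` when the latter has index three -/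
theorem le_pCoreOf_of_relIndex_three [Finite G] {K P : Subgroup G}
    (hidx : (Cfsg.pCoreOf 2 K).relIndex K = 3) (hPK : P ≤ K) (hP : IsPGroup 2 P) :
    P ≤ Cfsg.pCoreOf 2 K := by
  set Q := Cfsg.pCoreOf 2 K with hQ
  have hQK : Q ≤ K := pCoreOf_le K
  have hQ2 : IsPGroup 2 Q := pCoreOf_isPGroup K
  have hKn : K ≤ normalizer (Q : Set G) := le_normalizer_pCoreOf K
  have hPn : P ≤ normalizer (Q : Set G) := hPK.trans hKn
  have hR2 : IsPGroup 2 ↥(Q ⊔ P) := IsPGroup.to_sup_of_normal_left' hQ2 hP hPn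
  have hRK : Q ⊔ P ≤ K := sup_le hQK hPK
  have h1 := Subgroup.relIndex_mul_relIndex Q (Q ⊔ P) K le_sup_left hRK
  rw [hidx] at h1
  have h2 : Q.relIndex (Q ⊔ P) ∣ 3 := Dvd.intro _ h1
  have h3 : Q.relIndex (Q ⊔ P) ∣ Nat.card ↥(Q ⊔ P) := Subgroup.relIndex_dvd_card _ _
  obtain ⟨n, hn⟩ := IsPGroup.iff_card.mp hR2
  rw [hn] at h3
  obtain ⟨i, _, hi⟩ := (Nat.dvd_prime_pow Nat.prime_two).mp h3
  have h4 : Q.relIndex (Q ⊔ P) = 1 := by
    rw [hi] at h2 ⊢
    rcases i with _ | i
    · rfl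
    · exfalso
      have : 2 ∣ 3 := dvd_trans (dvd_pow_self 2 (Nat.succ_ne_zero i)) h2
      omega
  rw [Subgroup.relIndex_eq_one] at h4
  exact le_sup_right.trans h4

section four
variable [Finite G] {W : Subgroup G} (hW4 : Nat.card W = 4) (hW2 : ∀ w ∈ W, w * w = 1)
include hW4 hW2

theorem four_cases {f w : G} (hf : f ∈ W) (hw : w ∈ W) (hf1 : f ≠ 1) (hwf : w ∉ zpowers f) :
    ∀ x ∈ W, x = 1 ∨ x = f ∨ x = w ∨ x = f * w := by
  have hc := comm_of_exp_two hW2
  have hfW : zpowers f ≤ W := zpowers_le.mpr hf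
  have hwW : zpowers w ≤ W := zpowers_le.mpr hw
  have h1 : Nat.card ↥(zpowers f) = 2 := by
    rw [Nat.card_zpowers]
    exact orderOf_eq_prime (by rw [pow_two]; exact hW2 f hf) hf1
  have h2 : Nat.card ↥(zpowers f ⊔ zpowers w) = 2 * 2 := by
    rw [card_sup_zpowers (hW2 w hw) hwf, h1]
    intro h hh
    exact hc w hw h (hfW hh)
  have hle : zpowers f ⊔ zpowers w ≤ W := sup_le hfW hwW
  have heq : zpowers f ⊔ zpowers w = W :=
    Subgroup.eq_of_le_of_card_ge hle (by rw [h2, hW4])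
  intro x hx
  rw [← heq] at hx
  obtain ⟨a, ha, b, hb, rfl⟩ :=
    mem_sup_of_commute (fun a ha b hb => hc a (hfW ha) b (hwW hb)) hx
  rcases zpowers_cases (hW2 f hf) ha with rfl | rfl <;>
    rcases zpowers_cases (hW2 w hw) hb with rfl | rfl
  · left; simp
  · right; right; left; simp
  · right; left; simp
  · right; right; right; rfl

theorem four_act {f t : G} (hf : f ∈ W) (hf1 : f ≠ 1) (htW : ∀ w ∈ W, t * w * t⁻¹ ∈ W)
    (htf : t * f * t⁻¹ = f) :
    (∀ w ∈ W, t * w * t⁻¹ = w) ∨ (∀ w ∈ W, w ∉ zpowers f → t * w * t⁻¹ = f * w) := by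
  by_cases hex : ∃ w ∈ W, w ∉ zpowers f ∧ t * w * t⁻¹ = w
  · left
    obtain ⟨w, hw, hwf, htw⟩ := hex
    intro x hx
    rcases four_cases hW4 hW2 hf hw hf1 hwf x hx with rfl | rfl | rfl | rfl
    · simp
    · exact htf
    · exact htw
    · calc t * (f * w) * t⁻¹ = (t * f * t⁻¹) * (t * w * t⁻¹) := by group
        _ = f * w := by rw [htf, htw]
  · right
    push Not at hex
    intro w hw hwf
    have h1 := hex w hw hwf
    have h2 := htW w hw
    rcases four_cases hW4 hW2 hf hw hf1 hwf _ h2 with h | h | h | h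
    · exfalso
      apply hwf
      have h3 : w = 1 := by
        have h4 : t⁻¹ * (t * w * t⁻¹) * t = w := by group
        rw [h] at h4
        rw [← h4]; group
      rw [h3]; exact one_mem _
    · exfalso
      apply hwf
      have h3 : w = f := by
        rw [← htf] at h
        exact mul_left_cancel (mul_right_cancel h)
      rw [h3]; exact mem_zpowers f
    · exact absurd h h1
    · exact h

theorem four_sq {f t : G} (hf : f ∈ W) (hf1 : f ≠ 1) (htW : ∀ w ∈ W, t * w * t⁻¹ ∈ W)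
    (htf : t * f * t⁻¹ = f) : ∀ w ∈ W, t * (t * w * t⁻¹) * t⁻¹ = w := by
  intro w hw
  rcases four_act hW4 hW2 hf hf1 htW htf with h | h
  · rw [h w hw, h w hw]
  · by_cases hwf : w ∈ zpowers f
    · rcases zpowers_cases (hW2 f hf) hwf with rfl | rfl
      · simp
      · rw [htf, htf]
    · rw [h w hw hwf]
      calc t * (f * w) * t⁻¹ = (t * f * t⁻¹) * (t * w * t⁻¹) := by group
        _ = f * (f * w) := by rw [htf, h w hw hwf]
        _ = (f * f) * w := by group
        _ = w := by rw [hW2 f hf, one_mul]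

theorem four_fixed {f t : G} (hf : f ∈ W) (hf1 : f ≠ 1) (htW : ∀ w ∈ W, t * w * t⁻¹ ∈ W)
    (htf : t * f * t⁻¹ = f) (hnc : ¬ ∀ w ∈ W, t * w * t⁻¹ = w) :
    (∀ w ∈ W, w ∉ zpowers f → t * w * t⁻¹ = f * w) ∧
      (∀ w ∈ W, t * w * t⁻¹ = w → w ∈ zpowers f) := by
  rcases four_act hW4 hW2 hf hf1 htW htf with h | h
  · exact absurd h hnc
  · refine ⟨h, ?_⟩
    intro w hw htw
    by_contra hwf
    have h1 := h w hw hwf
    rw [htw] at h1
    apply hf1
    have h2 : 1 * w = f * w := by rw [one_mul]; exact h1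
    exact (mul_right_cancel h2).symm

end four

end Cfsg.Agent.Helper50.JComp
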