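import Mathlib
import Cfsg.Agent.Lib.Helper50.JComp2

/-!
# `J(T)`-components: structure (part 3)
-/

set_option autoImplicit false

namespace Cfsg.Agent.Helper50.JComp

open Subgroup
open Cfsg.Agent.Helper50.Higman
open Cfsg.Agent.Helper50
open Cfsg.Agent.Helper23

variable {G : Type*} [Group G]

theorem exists_mul_of_mem_sup {A B : Subgroup G} (h : B ≤ normalizer (A : Set G))
    {w : G} (hw : w ∈ A ⊔ B) : ∃ a ∈ A, ∃ b ∈ B, w = a * b := by
  have := coe_mul_of_right_le_normalizer_left A B h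
  have hw' : w ∈ ((A ⊔ B : Subgroup G) : Set G) := hw
  rw [this] at hw'
  obtain ⟨a, ha, b, hb, rfl⟩ := Set.mem_mul.mp hw'
  exact ⟨a, ha, b, hb, rfl⟩

theorem le_normalizer_sSup' {𝒮 : Set (Subgroup G)} {N : Subgroup G}
    (h : ∀ x ∈ N, ∀ A ∈ 𝒮, A.map (MulAut.conj x).toMonoidHom ∈ 𝒮) :
    N ≤ normalizer ((sSup 𝒮 : Subgroup G) : Set G) := by
  apply le_normalizer_of_conj_mem
  intro x hx
  have hle : sSup 𝒮 ≤ (sSup 𝒮).comap (MulAut.conj x).toMonoidHom := by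
    apply sSup_le
    intro A hA y hy
    rw [mem_comap]
    exact (le_sSup (h x hx A hA)) (mem_map_of_mem _ hy)
  intro y hy
  have := hle hy
  rw [mem_comap] at this
  simpa using this

theorem mem_map_conj {A : Subgroup G} {x z : G} :
    z ∈ A.map (MulAut.conj x).toMonoidHom ↔ ∃ y ∈ A, z = x * y * x⁻¹ := by
  rw [mem_map]
  constructor
  · rintro ⟨y, hy, rfl⟩
    exact ⟨y, hy, by simp⟩
  · rintro ⟨y, hy, rfl⟩
    exact ⟨y, hy, by simp⟩

theorem MaxEA.conj [Finite G] {S A : Subgroup G} (hA : MaxEA S A) {x : G}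
    (hxA : ∀ y ∈ A, x * y * x⁻¹ ∈ S) : MaxEA S (A.map (MulAut.conj x).toMonoidHom) := by
  obtain ⟨hAS, hA2, hAc, hAm⟩ := hA
  refine ⟨?_, ?_, ?_, ?_⟩
  · intro z hz
    obtain ⟨y, hy, rfl⟩ := mem_map_conj.mp hz
    exact hxA y hy
  · intro z hz
    obtain ⟨y, hy, rfl⟩ := mem_map_conj.mp hz
    calc x * y * x⁻¹ * (x * y * x⁻¹) = x * (y * y) * x⁻¹ := by group
      _ = 1 := by rw [hA2 y hy]; group
  · intro z hz z' hz'
    obtain ⟨y, hy, rfl⟩ := mem_map_conj.mp hz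
    obtain ⟨y', hy', rfl⟩ := mem_map_conj.mp hz'
    calc x * y * x⁻¹ * (x * y' * x⁻¹) = x * (y * y') * x⁻¹ := by group
      _ = x * (y' * y) * x⁻¹ := by rw [hAc y hy y' hy']
      _ = x * y' * x⁻¹ * (x * y * x⁻¹) := by group
  · intro B hBS hB2 hBc
    rw [Subgroup.card_map_of_injective (MulAut.conj x).injective]
    exact hAm B hBS hB2 hBc

theorem le_normalizer_of_commute {H K : Subgroup G} (hc : ∀ x ∈ H, ∀ y ∈ K, x * y = y * x) :
    K ≤ normalizer (H : Set G) := by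
  apply le_normalizer_of_conj_mem
  intro y hy x hx
  have : y * x * y⁻¹ = x := by rw [← hc x hx y hy]; group
  rw [this]; exact hx

/-- the data of a `J(T)`-component, in a form convenient for the proofs -/
structure JD (K J Q U W : Subgroup G) : Prop where
  comm : ⁅K, J⁆ = K
  QK : Q ≤ K
  Q2 : IsPGroup 2 Q
  KnQ : K ≤ normalizer (Q : Set G)
  JnQ : J ≤ normalizer (Q : Set G)
  idx : Q.relIndex K = 3
  sub2 : ∀ P : Subgroup G, P ≤ K → IsPGroup 2 P → P ≤ Q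
  J2 : IsPGroup 2 J
  hU : U = omegaZ Q
  hW : W = ⁅U, K⁆
  syl : ∀ S : Subgroup G, Cfsg.IsSylowTwoIn S (K ⊔ J) → J ≤ S → Cfsg.thompsonSubgroupOf 2 S = J
  W4 : Nat.card W = 4
  W2 : ∀ w ∈ W, w * w = 1

namespace JD

variable {K J Q U W : Subgroup G} (h : JD K J Q U W)
include h

theorem JnK : J ≤ normalizer (K : Set G) := by
  have := normalizer_commutator_ge_right K J
  rwa [h.comm] at this

theorem XnQ : K ⊔ J ≤ normalizer (Q : Set G) := sup_le h.KnQ h.JnQ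

theorem XnU : K ⊔ J ≤ normalizer (U : Set G) := by
  rw [h.hU]; exact h.XnQ.trans (normalizer_le_normalizer_omegaZ Q)

theorem XnK : K ⊔ J ≤ normalizer (K : Set G) := sup_le le_normalizer h.JnK

theorem XnW : K ⊔ J ≤ normalizer (W : Set G) := by
  rw [h.hW]; exact le_normalizer_commutator h.XnU h.XnK

theorem UQ : U ≤ Q := by rw [h.hU]; exact omegaZ_le Q

theorem WU : W ≤ U := by
  rw [h.hW, commutator_le]
  intro u hu k hk
  rw [commutatorElement_def]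
  have : u * k * u⁻¹ * k⁻¹ = u * (k * u⁻¹ * k⁻¹) := by group
  rw [this]
  exact U.mul_mem hu (conj_mem_of_le_normalizer h.XnU (mem_sup_left hk) (U.inv_mem hu))

theorem U2 : ∀ u ∈ U, u * u = 1 := by
  rw [h.hU]; intro u hu; exact hu.2.2

theorem QcU : ∀ q ∈ Q, ∀ u ∈ U, q * u = u * q := by
  rw [h.hU]; intro q hq u hu; exact hu.2.1 q hq

theorem Ucomm : ∀ x ∈ U, ∀ y ∈ U, x * y = y * x :=
  fun x hx y hy => h.QcU x (h.UQ hx) y hy

theorem QcW : ∀ q ∈ Q, ∀ w ∈ W, q * w = w * q :=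
  fun q hq w hw => h.QcU q hq w (h.WU hw)

theorem Wcomm : ∀ x ∈ W, ∀ y ∈ W, x * y = y * x := comm_of_exp_two h.W2

theorem WK : W ≤ K := (h.WU.trans h.UQ).trans h.QK

theorem T2 : IsPGroup 2 ↥(Q ⊔ J) := IsPGroup.to_sup_of_normal_left' h.Q2 h.J2 h.JnQ

theorem TX : Q ⊔ J ≤ K ⊔ J := sup_le_sup_right h.QK J

theorem WT : W ≤ Q ⊔ J := (h.WU.trans h.UQ).trans le_sup_left

theorem KT : K ⊓ (Q ⊔ J) = Q := by
  apply le_antisymm
  · exact h.sub2 _ inf_le_left (h.T2.to_le inf_le_right)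
  · exact le_inf h.QK le_sup_left

theorem cardK : Nat.card K = 3 * Nat.card Q := by
  have := relIndex_mul_card_le' h.QK
  rw [h.idx] at this
  exact this.symm

variable [Finite G]

theorem cardX : Nat.card ↥(K ⊔ J) = 3 * Nat.card ↥(Q ⊔ J) := by
  have hn : Q ⊔ J ≤ normalizer (K : Set G) := h.TX.trans h.XnK
  have h1 := card_sup_mul_card_inf_of_le_normalizer K (Q ⊔ J) hn
  rw [h.KT, h.cardK] at h1
  have h2 : K ⊔ (Q ⊔ J) = K ⊔ J := by rw [← sup_assoc, sup_eq_left.mpr h.QK]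
  rw [h2] at h1
  have hpos : 0 < Nat.card Q := Nat.card_pos
  apply Nat.eq_of_mul_eq_mul_right hpos
  rw [h1]; ring

theorem sylT : Cfsg.IsSylowTwoIn (Q ⊔ J) (K ⊔ J) := by
  refine ⟨h.TX, h.T2, ?_⟩
  have h1 := relIndex_mul_card_le' h.TX
  rw [h.cardX] at h1
  have hpos : 0 < Nat.card ↥(Q ⊔ J) := Nat.card_pos
  have h3 : (Q ⊔ J).relIndex (K ⊔ J) = 3 := Nat.eq_of_mul_eq_mul_right hpos h1
  rw [h3]; decide

theorem thomT : Cfsg.thompsonSubgroupOf 2 (Q ⊔ J) = J := h.syl _ h.sylT le_sup_right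

theorem J_eq : J = sSup {A : Subgroup G | MaxEA (Q ⊔ J) A} := by
  have := thompsonTwo_eq (Q ⊔ J)
  rw [h.thomT] at this
  exact this

theorem MaxEA_le_J {A : Subgroup G} (hA : MaxEA (Q ⊔ J) A) : A ≤ J := by
  have := hA.le_thompson
  rwa [h.thomT] at this

theorem TnJ : Q ⊔ J ≤ normalizer (J : Set G) := by
  have key : Q ⊔ J ≤ normalizer ((sSup {A : Subgroup G | MaxEA (Q ⊔ J) A} : Subgroup G) : Set G) := by
    apply le_normalizer_sSup'
    intro t ht A hA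
    apply hA.conj
    intro y hy
    exact (Q ⊔ J).mul_mem ((Q ⊔ J).mul_mem ht (hA.1 hy)) ((Q ⊔ J).inv_mem ht)
  rwa [← h.J_eq] at key

theorem exists_f : ∃ f ∈ W, f ≠ 1 ∧ ∀ t ∈ Q ⊔ J, t * f = f * t := by
  have hbot : (⊥ : Subgroup G) < W := by
    rw [bot_lt_iff_ne_bot]
    intro hb
    have := h.W4
    rw [hb, Subgroup.card_bot] at this
    omega
  obtain ⟨x, hxW, hx1, hx⟩ := Cfsg.Agent.Helper87.exists_central_mod_rel (p := 2) (Q ⊔ J) h.T2 h.WT
    (fun g hg x hx => conj_mem_of_le_normalizer h.XnW (h.TX hg) hx) hbot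
  refine ⟨x, hxW, fun h1 => hx1 (Subgroup.mem_bot.mpr h1), ?_⟩
  intro t ht
  exact ((commutatorElement_eq_one_iff_commute.mp (Subgroup.mem_bot.mp (hx t ht))).eq).symm

theorem cube_mem {k : G} (hk : k ∈ K) : k ^ 3 ∈ Q := by
  have hn : (Q.subgroupOf K).Normal := (normal_subgroupOf_iff_le_normalizer h.QK).mpr h.KnQ
  have h1 := Subgroup.pow_index_mem (Q.subgroupOf K) ⟨k, hk⟩
  have h3 : (Q.subgroupOf K).index = 3 := h.idx
  rw [h3, mem_subgroupOf] at h1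
  simpa using h1

theorem K_eq {k : G} (hk : k ∈ K) (hkQ : k ∉ Q) : K = Q ⊔ zpowers k := by
  have hRK : Q ⊔ zpowers k ≤ K := sup_le h.QK (zpowers_le.mpr hk)
  have h1 := Subgroup.relIndex_mul_relIndex Q (Q ⊔ zpowers k) K le_sup_left hRK
  rw [h.idx] at h1
  have h2 : Q.relIndex (Q ⊔ zpowers k) ≠ 1 := by
    rw [Ne, Subgroup.relIndex_eq_one]
    intro hle
    exact hkQ (hle (mem_sup_right (mem_zpowers k)))
  have h3 : Q.relIndex (Q ⊔ zpowers k) ∣ 3 := Dvd.intro _ h1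
  have h4 : Q.relIndex (Q ⊔ zpowers k) = 3 := by
    rcases (Nat.dvd_prime Nat.prime_three).mp h3 with h | h
    · exact absurd h h2
    · exact h
  rw [h4] at h1
  have h5 : (Q ⊔ zpowers k).relIndex K = 1 := by omega
  rw [Subgroup.relIndex_eq_one] at h5
  exact le_antisymm h5 hRK

theorem exists_k : ∃ k ∈ K, k ∉ Q := by
  by_contra hne
  push Not at hne
  have hKQ : K ≤ Q := hne
  have := h.idx
  rw [Subgroup.relIndex_eq_one.mpr hKQ] at this
  omega

end JD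

end Cfsg.Agent.Helper50.JComp
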