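import Mathlib
import Cfsg.Agent.Lib.Helper50.JComp3

/-!
# `J(T)`-components: fixed points on `W` and offenders (part 4)
-/

set_option autoImplicit false
set_option linter.unusedSectionVars false

namespace Cfsg.Agent.Helper50.JComp

open Subgroup
open Cfsg.Agent.Helper50.Higman
open Cfsg.Agent.Helper50
open Cfsg.Agent.Helper23
open scoped commutatorElement

variable {G : Type*} [Group G] [Finite G]

omit [Finite G] in
theorem pow_three_eq (k : G) : k ^ 3 = k * k * k := by rw [pow_succ, pow_two]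

namespace JD

variable {K J Q U W : Subgroup G} (h : JD K J Q U W)
include h

/-- no nontrivial element of `W` is centralized by `K` -/
theorem fixed_eq_one {w : G} (hw : w ∈ W) (hfix : ∀ k ∈ K, k * w * k⁻¹ = w) : w = 1 := by
  by_contra hw1
  have hKW : ∀ k ∈ K, ∀ x ∈ W, k * x * k⁻¹ = x := by
    intro k hk x hx
    have hn : ∀ y ∈ W, k * y * k⁻¹ ∈ W :=
      fun y hy => conj_mem_of_le_normalizer h.XnW (mem_sup_left hk) hy
    have h2 := four_sq h.W4 h.W2 hw hw1 hn (hfix k hk) x hx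
    have h3 : k ^ 3 * x = x * k ^ 3 := h.QcW _ (h.cube_mem hk) x hx
    rw [pow_three_eq] at h3
    calc k * x * k⁻¹ = k * (k * (k * x * k⁻¹) * k⁻¹) * k⁻¹ := by rw [h2]
      _ = k * k * k * x * (k * k * k)⁻¹ := by group
      _ = x := by rw [h3]; group
  have hKU : ∀ k ∈ K, ∀ u ∈ U, k * u * k⁻¹ = u := by
    intro k hk u hu
    obtain ⟨v, hv⟩ : ∃ v, v = k * u * k⁻¹ := ⟨_, rfl⟩
    have hvU : v ∈ U := by
      rw [hv]; exact conj_mem_of_le_normalizer h.XnU (mem_sup_left hk) hu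
    obtain ⟨v2, hv2⟩ : ∃ v2, v2 = k * v * k⁻¹ := ⟨_, rfl⟩
    have hv2U : v2 ∈ U := by
      rw [hv2]; exact conj_mem_of_le_normalizer h.XnU (mem_sup_left hk) hvU
    have hc : u * v⁻¹ ∈ W := by
      have : u * v⁻¹ = ⁅u, k⁆ := by rw [commutatorElement_def, hv]; group
      rw [this, h.hW]; exact commutator_mem_commutator hu hk
    have h1 := hKW k hk _ hc
    have h2 : k * (u * v⁻¹) * k⁻¹ = v * v2⁻¹ := by rw [hv2, hv]; group
    rw [h2] at h1
    have hvi : v⁻¹ = v := inv_eq_of_mul_eq_one_left (h.U2 v hvU)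
    have hv2i : v2⁻¹ = v2 := inv_eq_of_mul_eq_one_left (h.U2 v2 hv2U)
    rw [hvi, hv2i, h.Ucomm u hu v hvU] at h1
    have h3 : v2 = u := mul_left_cancel h1
    have h4 : k ^ 3 * u = u * k ^ 3 := h.QcU _ (h.cube_mem hk) u hu
    rw [pow_three_eq] at h4
    rw [← hv]
    calc v = k * v2 * k⁻¹ := by rw [h3, hv]
      _ = k * k * k * u * (k * k * k)⁻¹ := by rw [hv2, hv]; group
      _ = u := by rw [h4]; group
  have hWbot : W ≤ ⊥ := by
    rw [h.hW, commutator_le]
    intro u hu k hk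
    rw [mem_bot, commutatorElement_def]
    have h1 := hKU k hk u⁻¹ (U.inv_mem hu)
    calc u * k * u⁻¹ * k⁻¹ = u * (k * u⁻¹ * k⁻¹) := by group
      _ = 1 := by rw [h1]; group
  exact hw1 (mem_bot.mp (hWbot hw))

/-- no nontrivial element of `W` is centralized by an element of `K` outside `O₂(K)` -/
theorem fixed_eq_one' {k : G} (hk : k ∈ K) (hkQ : k ∉ Q) {w : G} (hw : w ∈ W)
    (hfix : k * w * k⁻¹ = w) : w = 1 := by
  apply h.fixed_eq_one hw
  have hle : K ≤ centralizer ({w} : Set G) := by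
    rw [h.K_eq hk hkQ]
    apply sup_le
    · intro q hq
      rw [mem_centralizer_singleton_iff]
      exact h.QcW q hq w hw
    · rw [zpowers_le, mem_centralizer_singleton_iff]
      calc k * w = k * w * k⁻¹ * k := by group
        _ = w * k := by rw [hfix]
  intro k' hk'
  have h1 := mem_centralizer_singleton_iff.mp (hle hk')
  rw [h1]; group

/-- some elementary abelian subgroup of largest order does not centralize `W` -/
theorem exists_A : ∃ A : Subgroup G, MaxEA (Q ⊔ J) A ∧ ∃ a ∈ A, ¬ ∀ w ∈ W, a * w * a⁻¹ = w := by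
  by_contra hne
  push Not at hne
  have hJ : J ≤ centralizer (W : Set G) := by
    have h1 : sSup {A : Subgroup G | MaxEA (Q ⊔ J) A} ≤ centralizer (W : Set G) := by
      apply sSup_le
      intro A hA
      rw [le_centralizer_iff_comm]
      intro a ha w hw
      have := hne A hA a ha w hw
      calc a * w = a * w * a⁻¹ * a := by group
        _ = w * a := by rw [this]
    rwa [← h.J_eq] at h1
  have hK : K ≤ centralizer (W : Set G) := by
    rw [← h.comm, commutator_le]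
    intro k hk j hj
    rw [commutatorElement_def]
    have h1 : k * j * k⁻¹ ∈ centralizer (W : Set G) := by
      rw [mem_centralizer_iff]
      intro w hw
      have hw' : k⁻¹ * w * k ∈ W := conj_mem_of_le_normalizer' h.XnW (mem_sup_left hk) hw
      have := (mem_centralizer_iff.mp (hJ hj)) _ hw'
      calc w * (k * j * k⁻¹) = k * ((k⁻¹ * w * k) * j) * k⁻¹ := by group
        _ = k * (j * (k⁻¹ * w * k)) * k⁻¹ := by rw [this]
        _ = k * j * k⁻¹ * w := by group
    exact (centralizer (W : Set G)).mul_mem h1 ((centralizer (W : Set G)).inv_mem (hJ hj))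
  obtain ⟨f, hfW, hf1, -⟩ := h.exists_f
  apply hf1
  apply h.fixed_eq_one hfW
  intro k hk
  have := (le_centralizer_iff_comm.mp hK) k hk f hfW
  rw [this]; group

end JD

/-- an elementary abelian subgroup `A` of largest order in `T₀ = Q ⊔ J`, with an element `a` not
centralizing the four-group `W`, and a nontrivial element `f` of `W` central in `T₀` -/
structure Off (Q J W : Subgroup G) (f a : G) (A : Subgroup G) : Prop where
  fW : f ∈ W
  f1 : f ≠ 1
  fT : ∀ t ∈ Q ⊔ J, t * f = f * t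
  hA : MaxEA (Q ⊔ J) A
  ha : a ∈ A
  hnc : ¬ ∀ w ∈ W, a * w * a⁻¹ = w

namespace JD

variable {K J Q U W : Subgroup G} (h : JD K J Q U W)
include h

theorem exists_off : ∃ (f a : G) (A : Subgroup G), Off Q J W f a A := by
  obtain ⟨f, hfW, hf1, hfT⟩ := h.exists_f
  obtain ⟨A, hA, a, ha, hnc⟩ := h.exists_A
  exact ⟨f, a, A, hfW, hf1, hfT, hA, ha, hnc⟩

theorem T_conj_W {t : G} (ht : t ∈ Q ⊔ J) : ∀ w ∈ W, t * w * t⁻¹ ∈ W :=
  fun _ hw => conj_mem_of_le_normalizer h.XnW (h.TX ht) hw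

end JD

namespace Off

variable {K J Q U W : Subgroup G} (h : JD K J Q U W) {f a : G} {A : Subgroup G}
  (o : Off Q J W f a A)
include h o

theorem T_fix {t : G} (ht : t ∈ Q ⊔ J) : t * f * t⁻¹ = f := by
  rw [o.fT t ht]; group

theorem aT : a ∈ Q ⊔ J := o.hA.1 o.ha

theorem swap : (∀ w ∈ W, w ∉ zpowers f → a * w * a⁻¹ = f * w) ∧
    (∀ w ∈ W, a * w * a⁻¹ = w → w ∈ zpowers f) :=
  four_fixed h.W4 h.W2 o.fW o.f1 (h.T_conj_W (o.aT h)) (o.T_fix h (o.aT h)) o.hnc

theorem A_sq : ∀ x ∈ A, x * x = 1 := o.hA.2.1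

theorem A_comm : ∀ x ∈ A, ∀ y ∈ A, x * y = y * x := o.hA.2.2.1

theorem a_notin : a ∉ A ⊓ centralizer (W : Set G) := by
  intro ha
  apply o.hnc
  intro w hw
  have := (le_centralizer_iff_comm.mp (inf_le_right : A ⊓ centralizer (W : Set G) ≤ _)) a ha w hw
  rw [this]; group

/-- `A = A₁ × ⟨a⟩` where `A₁ = C_A(W)` -/
theorem A_eq : A = (A ⊓ centralizer (W : Set G)) ⊔ zpowers a := by
  apply le_antisymm
  · intro b hb
    by_cases hbc : ∀ w ∈ W, b * w * b⁻¹ = w
    · apply mem_sup_left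
      refine mem_inf.mpr ⟨hb, ?_⟩
      rw [mem_centralizer_iff]
      intro w hw
      have := hbc w hw
      calc w * b = b * w * b⁻¹ * b := by rw [this]
        _ = b * w := by group
    · have ob : Off Q J W f b A := ⟨o.fW, o.f1, o.fT, o.hA, hb, hbc⟩
      have hab : a * b ∈ A ⊓ centralizer (W : Set G) := by
        refine mem_inf.mpr ⟨A.mul_mem o.ha hb, ?_⟩
        rw [mem_centralizer_iff]
        intro w hw
        have hfix : a * b * w * (a * b)⁻¹ = w := by
          by_cases hwf : w ∈ zpowers f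
          · rcases zpowers_cases (h.W2 f o.fW) hwf with hw1 | hw1
            · rw [hw1]; group
            · have h1 := ob.T_fix h (ob.aT h)
              have h2 := o.T_fix h (o.aT h)
              rw [hw1]
              calc a * b * f * (a * b)⁻¹ = a * (b * f * b⁻¹) * a⁻¹ := by group
                _ = f := by rw [h1, h2]
          · have h1 := (ob.swap h).1 w hw hwf
            have h2 := o.T_fix h (o.aT h)
            have h3 := (o.swap h).1 w hw hwf
            calc a * b * w * (a * b)⁻¹ = a * (b * w * b⁻¹) * a⁻¹ := by group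
              _ = (a * f * a⁻¹) * (a * w * a⁻¹) := by rw [h1]; group
              _ = f * (f * w) := by rw [h2, h3]
              _ = (f * f) * w := by group
              _ = w := by rw [h.W2 f o.fW, one_mul]
        calc w * (a * b) = a * b * w * (a * b)⁻¹ * (a * b) := by rw [hfix]
          _ = a * b * w := by group
      have hb' : b = (a * b) * a := by
        rw [o.A_comm h a o.ha b hb, mul_assoc, o.A_sq h a o.ha, mul_one]
      rw [hb']
      exact mul_mem_sup hab (mem_zpowers a)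
  · exact sup_le inf_le_left (zpowers_le.mpr o.ha)

theorem A1_comm_a : ∀ x ∈ A ⊓ centralizer (W : Set G), a * x = x * a :=
  fun x hx => o.A_comm h a o.ha x (mem_inf.mp hx).1

theorem cardA : Nat.card A = 2 * Nat.card ↥(A ⊓ centralizer (W : Set G)) := by
  have h1 := card_sup_zpowers (o.A_sq h a o.ha) (o.a_notin h) (o.A1_comm_a h)
  rw [← o.A_eq h] at h1
  exact h1

theorem A1_sq : ∀ x ∈ A ⊓ centralizer (W : Set G), x * x = 1 :=
  fun x hx => o.A_sq h x (mem_inf.mp hx).1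

theorem A1_W_comm : ∀ x ∈ A ⊓ centralizer (W : Set G), ∀ w ∈ W, x * w = w * x :=
  le_centralizer_iff_comm.mp inf_le_right

theorem B_le : (A ⊓ centralizer (W : Set G)) ⊔ W ≤ Q ⊔ J :=
  sup_le (inf_le_left.trans o.hA.1) h.WT

theorem B_sq : ∀ x ∈ (A ⊓ centralizer (W : Set G)) ⊔ W, x * x = 1 :=
  sq_of_sup (o.A1_sq h) h.W2 (o.A1_W_comm h)

theorem B_comm : ∀ x ∈ (A ⊓ centralizer (W : Set G)) ⊔ W,
    ∀ y ∈ (A ⊓ centralizer (W : Set G)) ⊔ W, x * y = y * x :=
  comm_of_exp_two (o.B_sq h)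

theorem inf_le_zf : (A ⊓ centralizer (W : Set G)) ⊓ W ≤ zpowers f := by
  intro x hx
  obtain ⟨hx1, hxW⟩ := mem_inf.mp hx
  apply (o.swap h).2 x hxW
  rw [o.A1_comm_a h x hx1]; group

theorem card_zf : Nat.card ↥(zpowers f) = 2 := by
  rw [Nat.card_zpowers]
  exact orderOf_eq_prime (by rw [pow_two]; exact h.W2 f o.fW) o.f1

theorem cardB : Nat.card ↥((A ⊓ centralizer (W : Set G)) ⊔ W) = Nat.card A ∧
    (A ⊓ centralizer (W : Set G)) ⊓ W = zpowers f := by
  have hn : W ≤ normalizer ((A ⊓ centralizer (W : Set G) : Subgroup G) : Set G) :=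
    le_normalizer_of_commute (o.A1_W_comm h)
  have h1 := card_sup_mul_card_inf_of_le_normalizer (A ⊓ centralizer (W : Set G)) W hn
  rw [h.W4] at h1
  have h2 : Nat.card ↥((A ⊓ centralizer (W : Set G)) ⊓ W) ≤ 2 := by
    rw [← o.card_zf h]
    exact Subgroup.card_le_of_le (o.inf_le_zf h)
  have h3 : Nat.card ↥((A ⊓ centralizer (W : Set G)) ⊔ W) ≤ Nat.card A :=
    o.hA.2.2.2 _ (o.B_le h) (o.B_sq h) (o.B_comm h)
  rw [o.cardA h] at h3 ⊢
  have hpos : 0 < Nat.card ↥(A ⊓ centralizer (W : Set G)) := Nat.card_pos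
  have hpos2 : 0 < Nat.card ↥((A ⊓ centralizer (W : Set G)) ⊓ W) := Nat.card_pos
  obtain ⟨n, hn⟩ : ∃ n, n = Nat.card ↥(A ⊓ centralizer (W : Set G)) := ⟨_, rfl⟩
  obtain ⟨b, hb⟩ : ∃ b, b = Nat.card ↥((A ⊓ centralizer (W : Set G)) ⊔ W) := ⟨_, rfl⟩
  obtain ⟨c, hc⟩ : ∃ c, c = Nat.card ↥((A ⊓ centralizer (W : Set G)) ⊓ W) := ⟨_, rfl⟩
  rw [← hn, ← hb, ← hc] at h1
  rw [← hn, ← hb] at h3
  rw [← hc] at h2 hpos2
  rw [← hn] at hpos
  have hc2 : c = 2 := by
    interval_cases c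
    · exfalso; nlinarith
    · rfl
  constructor
  · rw [← hb, ← hn]
    rw [hc2] at h1
    omega
  · apply Subgroup.eq_of_le_of_card_ge (o.inf_le_zf h)
    rw [o.card_zf h, ← hc, hc2]

theorem B_max : MaxEA (Q ⊔ J) ((A ⊓ centralizer (W : Set G)) ⊔ W) := by
  refine ⟨o.B_le h, o.B_sq h, o.B_comm h, ?_⟩
  intro B' h1 h2 h3
  rw [(o.cardB h).1]
  exact o.hA.2.2.2 B' h1 h2 h3

theorem f_mem_A1 : f ∈ A ⊓ centralizer (W : Set G) := by
  have : f ∈ (A ⊓ centralizer (W : Set G)) ⊓ W := by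
    rw [(o.cardB h).2]; exact mem_zpowers f
  exact (mem_inf.mp this).1

theorem W_le_J : W ≤ J := le_sup_right.trans (h.MaxEA_le_J (o.B_max h))

/-- `Ω₁(Z(J)) ∩ W = ⟨f⟩` -/
theorem Z0_inf_W : omegaZ J ⊓ W = zpowers f := by
  apply le_antisymm
  · intro x hx
    obtain ⟨hx1, hxW⟩ := mem_inf.mp hx
    apply (o.swap h).2 x hxW
    have haJ : a ∈ J := h.MaxEA_le_J o.hA o.ha
    rw [hx1.2.1 a haJ]; group
  · rw [zpowers_le]
    refine mem_inf.mpr ⟨?_, o.fW⟩
    rw [mem_omegaZ]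
    exact ⟨o.W_le_J h o.fW, fun j hj => o.fT j (mem_sup_right hj), h.W2 f o.fW⟩

theorem card_Z0_inf_W : Nat.card ↥(omegaZ J ⊓ W) = 2 := by
  rw [o.Z0_inf_W h, o.card_zf h]

end Off

end Cfsg.Agent.Helper50.JComp
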