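import Mathlib
import Cfsg.Agent.Lib.Helper50.JComp4

/-!
# `J(T)`-components: the action on `Ω₁(Z(J))` (part 5)
-/

set_option autoImplicit false
set_option linter.unusedSectionVars false

namespace Cfsg.Agent.Helper50.JComp

open Subgroup
open Cfsg.Agent.Helper50.Higman
open Cfsg.Agent.Helper50
open Cfsg.Agent.Helper23
open scoped commutatorElement

variable {G : Type*} [Group G] [Finite G]

/-- the subgroup generated by the largest elementary abelian subgroups of `T` centralizing `W` -/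
def JY (T W : Subgroup G) : Subgroup G :=
  sSup {A : Subgroup G | MaxEA T A ∧ A ≤ centralizer (W : Set G)}

/-- the elements of `X` acting trivially on `Z` modulo `W` -/
def Dsub (X Z W : Subgroup G) (hXW : X ≤ normalizer (W : Set G)) : Subgroup G where
  carrier := {x | x ∈ X ∧ ∀ z ∈ Z, x * z * x⁻¹ * z⁻¹ ∈ W}
  one_mem' := ⟨X.one_mem, fun z _ => by simp⟩
  mul_mem' := by
    rintro x y ⟨hx, hxz⟩ ⟨hy, hyz⟩
    refine ⟨X.mul_mem hx hy, fun z hz => ?_⟩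
    have h1 : x * (y * z * y⁻¹ * z⁻¹) * x⁻¹ ∈ W := conj_mem_of_le_normalizer hXW hx (hyz z hz)
    have h2 := hxz z hz
    have h3 : x * y * z * (x * y)⁻¹ * z⁻¹ =
        (x * (y * z * y⁻¹ * z⁻¹) * x⁻¹) * (x * z * x⁻¹ * z⁻¹) := by group
    rw [h3]; exact W.mul_mem h1 h2
  inv_mem' := by
    rintro x ⟨hx, hxz⟩
    refine ⟨X.inv_mem hx, fun z hz => ?_⟩
    have h1 : x⁻¹ * (x * z * x⁻¹ * z⁻¹)⁻¹ * x ∈ W :=
      conj_mem_of_le_normalizer' hXW hx (W.inv_mem (hxz z hz))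
    have h3 : x⁻¹ * z * x⁻¹⁻¹ * z⁻¹ = x⁻¹ * (x * z * x⁻¹ * z⁻¹)⁻¹ * x := by group
    rw [h3]; exact h1

omit [Finite G] in
theorem mem_Dsub {X Z W : Subgroup G} {hXW : X ≤ normalizer (W : Set G)} {x : G} :
    x ∈ Dsub X Z W hXW ↔ x ∈ X ∧ ∀ z ∈ Z, x * z * x⁻¹ * z⁻¹ ∈ W := Iff.rfl

omit [Finite G] in
/-- if `J` acts trivially on `Z/W` then so does `K = [K, J]` -/
theorem le_Dsub_of_comm {K J Z W : Subgroup G} (hXW : K ⊔ J ≤ normalizer (W : Set G))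
    (hXZ : K ⊔ J ≤ normalizer (Z : Set G)) (hJ : J ≤ Dsub (K ⊔ J) Z W hXW) (hc : ⁅K, J⁆ = K) :
    K ≤ Dsub (K ⊔ J) Z W hXW := by
  have key : ⁅K, J⁆ ≤ Dsub (K ⊔ J) Z W hXW := by
    rw [commutator_le]
    intro k hk j hj
    rw [commutatorElement_def]
    have hkX : k ∈ K ⊔ J := mem_sup_left hk
    have hjX : j ∈ K ⊔ J := mem_sup_right hj
    have h1 : k * j * k⁻¹ ∈ Dsub (K ⊔ J) Z W hXW := by
      refine ⟨(K ⊔ J).mul_mem ((K ⊔ J).mul_mem hkX hjX) ((K ⊔ J).inv_mem hkX), fun z hz => ?_⟩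
      have hz' : k⁻¹ * z * k ∈ Z := conj_mem_of_le_normalizer' hXZ hkX hz
      have h2 := (hJ hj).2 _ hz'
      have h3 := conj_mem_of_le_normalizer hXW hkX h2
      have h4 : k * j * k⁻¹ * z * (k * j * k⁻¹)⁻¹ * z⁻¹ =
          k * (j * (k⁻¹ * z * k) * j⁻¹ * (k⁻¹ * z * k)⁻¹) * k⁻¹ := by group
      rw [h4]; exact h3
    exact (Dsub (K ⊔ J) Z W hXW).mul_mem h1 ((Dsub (K ⊔ J) Z W hXW).inv_mem (hJ hj))
  rwa [hc] at key

namespace JD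

variable {K J Q U W : Subgroup G} (h : JD K J Q U W)
include h

/-- `C_X(W) ≤ T₀` -/
theorem Y_le {f : G} (hfW : f ∈ W) (hf1 : f ≠ 1) (hfT : ∀ t ∈ Q ⊔ J, t * f = f * t) :
    (K ⊔ J) ⊓ centralizer (W : Set G) ≤ Q ⊔ J := by
  intro x hx
  obtain ⟨hxX, hxC⟩ := mem_inf.mp hx
  obtain ⟨k, hk, j, hj, rfl⟩ := exists_mul_of_mem_sup h.JnK hxX
  have h1 : (k * j) * f = f * (k * j) :=
    (le_centralizer_iff_comm.mp (le_refl (centralizer (W : Set G)))) _ hxC f hfW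
  have h2 : j * f = f * j := hfT j (mem_sup_right hj)
  have h3 : k * f * k⁻¹ = f := by
    have h4 : k * f = f * k := by
      calc k * f = k * (f * j) * j⁻¹ := by group
        _ = k * (j * f) * j⁻¹ := by rw [h2]
        _ = (k * j * f) * j⁻¹ := by group
        _ = f * (k * j) * j⁻¹ := by rw [h1]
        _ = f * k := by group
    rw [h4]; group
  have hkQ : k ∈ Q := by
    by_contra hkQ
    exact hf1 (h.fixed_eq_one' hk hkQ hfW h3)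
  exact mul_mem_sup hkQ hj

theorem conj_mem_centralizer {x y : G} (hx : x ∈ K ⊔ J) (hy : y ∈ centralizer (W : Set G)) :
    x * y * x⁻¹ ∈ centralizer (W : Set G) := by
  rw [mem_centralizer_iff]
  intro w hw
  have hw' : x⁻¹ * w * x ∈ W := conj_mem_of_le_normalizer' h.XnW hx hw
  have := (mem_centralizer_iff.mp hy) _ hw'
  calc w * (x * y * x⁻¹) = x * ((x⁻¹ * w * x) * y) * x⁻¹ := by group
    _ = x * (y * (x⁻¹ * w * x)) * x⁻¹ := by rw [this]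
    _ = x * y * x⁻¹ * w := by group

theorem JY_le_J : JY (Q ⊔ J) W ≤ J := sSup_le fun _ hA => h.MaxEA_le_J hA.1

theorem JY_le_C : JY (Q ⊔ J) W ≤ centralizer (W : Set G) := sSup_le fun _ hA => hA.2

theorem W_le_C : W ≤ centralizer (W : Set G) :=
  le_centralizer_iff_comm.mpr h.Wcomm

end JD

namespace Off

variable {K J Q U W : Subgroup G} (h : JD K J Q U W) {f a : G} {A : Subgroup G}
  (o : Off Q J W f a A)
include h o

theorem XnJY : K ⊔ J ≤ normalizer ((JY (Q ⊔ J) W : Subgroup G) : Set G) := by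
  apply le_normalizer_sSup'
  intro x hx A' hA'
  obtain ⟨hA'm, hA'c⟩ := hA'
  refine ⟨hA'm.conj ?_, ?_⟩
  · intro y hy
    apply h.Y_le o.fW o.f1 o.fT
    refine mem_inf.mpr ⟨?_, h.conj_mem_centralizer hx (hA'c hy)⟩
    exact (K ⊔ J).mul_mem ((K ⊔ J).mul_mem hx (h.TX (hA'm.1 hy))) ((K ⊔ J).inv_mem hx)
  · intro z hz
    obtain ⟨y, hy, rfl⟩ := mem_map_conj.mp hz
    exact h.conj_mem_centralizer hx (hA'c hy)

theorem B_le_JY : (A ⊓ centralizer (W : Set G)) ⊔ W ≤ JY (Q ⊔ J) W :=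
  le_sSup ⟨o.B_max h, sup_le inf_le_right h.W_le_C⟩

theorem A1_le_JY : A ⊓ centralizer (W : Set G) ≤ JY (Q ⊔ J) W := le_sup_left.trans (o.B_le_JY h)

theorem W_le_JY : W ≤ JY (Q ⊔ J) W := le_sup_right.trans (o.B_le_JY h)

theorem XnZY : K ⊔ J ≤ normalizer ((omegaZ (JY (Q ⊔ J) W) : Subgroup G) : Set G) :=
  (o.XnJY h).trans (normalizer_le_normalizer_omegaZ _)

theorem Z0_le_ZY : omegaZ J ≤ omegaZ (JY (Q ⊔ J) W) := by
  intro z hz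
  obtain ⟨hzJ, hzc, hz2⟩ := hz
  rw [mem_omegaZ]
  refine ⟨?_, fun y hy => hzc y (h.JY_le_J hy), hz2⟩
  apply o.B_le_JY h
  apply (o.B_max h).mem_of_commute (mem_sup_right hzJ) hz2
  intro b hb
  exact hzc b (h.MaxEA_le_J (o.B_max h) hb)

theorem W_le_ZY : W ≤ omegaZ (JY (Q ⊔ J) W) := by
  intro w hw
  rw [mem_omegaZ]
  refine ⟨o.W_le_JY h hw, fun y hy => ?_, h.W2 w hw⟩
  exact (le_centralizer_iff_comm.mp h.JY_le_C) y hy w hw

theorem ZY_le_T : omegaZ (JY (Q ⊔ J) W) ≤ Q ⊔ J :=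
  (omegaZ_le _).trans (h.JY_le_J.trans le_sup_right)

theorem ZY_sq : ∀ z ∈ omegaZ (JY (Q ⊔ J) W), z * z = 1 := fun _ hz => hz.2.2

theorem ZY_comm : ∀ x ∈ omegaZ (JY (Q ⊔ J) W), ∀ y ∈ omegaZ (JY (Q ⊔ J) W), x * y = y * x :=
  fun x hx y hy => hy.2.1 x hx.1

theorem A1_ZY_comm : ∀ x ∈ A ⊓ centralizer (W : Set G), ∀ z ∈ omegaZ (JY (Q ⊔ J) W),
    x * z = z * x :=
  fun x hx z hz => hz.2.1 x (o.A1_le_JY h hx)

theorem exists_w0 : ∃ w₀ ∈ W, w₀ ∉ zpowers f := by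
  by_contra hne
  push Not at hne
  have hle : W ≤ zpowers f := hne
  have := Subgroup.card_le_of_le hle
  rw [h.W4, o.card_zf h] at this
  omega

/-- the offender count: `a` acts on `Ω₁(Z(J_Y))` with commutators in `{1, f}` -/
theorem comm_mem : ∀ z ∈ omegaZ (JY (Q ⊔ J) W), a * z * a⁻¹ * z⁻¹ ∈ W := by
  obtain ⟨ZY, hZY⟩ : ∃ ZY, ZY = omegaZ (JY (Q ⊔ J) W) := ⟨_, rfl⟩
  obtain ⟨A₁, hA₁⟩ : ∃ A₁, A₁ = A ⊓ centralizer (W : Set G) := ⟨_, rfl⟩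
  rw [← hZY]
  have hc : ∀ x ∈ A₁, ∀ z ∈ ZY, x * z = z * x := by rw [hA₁, hZY]; exact o.A1_ZY_comm h
  have hA1sq : ∀ x ∈ A₁, x * x = 1 := by rw [hA₁]; exact o.A1_sq h
  have hZsq : ∀ z ∈ ZY, z * z = 1 := by rw [hZY]; exact o.ZY_sq h
  have hZcomm : ∀ x ∈ ZY, ∀ y ∈ ZY, x * y = y * x := by rw [hZY]; exact o.ZY_comm h
  have hEsq := sq_of_sup hA1sq hZsq hc
  have hEcomm := comm_of_exp_two hEsq
  have hEle : A₁ ⊔ ZY ≤ Q ⊔ J := by
    rw [hA₁, hZY]; exact sup_le (inf_le_left.trans o.hA.1) (o.ZY_le_T h)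
  have hcardE : Nat.card ↥(A₁ ⊔ ZY) ≤ Nat.card A := o.hA.2.2.2 _ hEle hEsq hEcomm
  have hcA : Nat.card A = 2 * Nat.card A₁ := by rw [hA₁]; exact o.cardA h
  rw [hcA] at hcardE
  have hn : ZY ≤ normalizer (A₁ : Set G) := le_normalizer_of_commute hc
  have h1 := card_sup_mul_card_inf_of_le_normalizer A₁ ZY hn
  have hpos : 0 < Nat.card A₁ := Nat.card_pos
  have h2 : Nat.card ZY ≤ 2 * Nat.card ↥(A₁ ⊓ ZY) := by
    have h3 : Nat.card A₁ * Nat.card ZY ≤ Nat.card A₁ * (2 * Nat.card ↥(A₁ ⊓ ZY)) := by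
      rw [← h1]
      calc Nat.card ↥(A₁ ⊔ ZY) * Nat.card ↥(A₁ ⊓ ZY)
          ≤ (2 * Nat.card A₁) * Nat.card ↥(A₁ ⊓ ZY) := Nat.mul_le_mul_right _ hcardE
        _ = Nat.card A₁ * (2 * Nat.card ↥(A₁ ⊓ ZY)) := by ring
    exact Nat.le_of_mul_le_mul_left h3 hpos
  obtain ⟨w₀, hw₀W, hw₀f⟩ := o.exists_w0 h
  have hw₀Z : w₀ ∈ ZY := by rw [hZY]; exact o.W_le_ZY h hw₀W
  have hw₀n : w₀ ∉ A₁ ⊓ ZY := by
    intro hw
    apply hw₀f
    apply o.inf_le_zf h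
    rw [← hA₁]
    exact mem_inf.mpr ⟨(mem_inf.mp hw).1, hw₀W⟩
  have hw₀c : ∀ x ∈ A₁ ⊓ ZY, w₀ * x = x * w₀ :=
    fun x hx => hZcomm w₀ hw₀Z x (mem_inf.mp hx).2
  have h4 := card_sup_zpowers (h.W2 w₀ hw₀W) hw₀n hw₀c
  have hle : (A₁ ⊓ ZY) ⊔ zpowers w₀ ≤ ZY := sup_le inf_le_right (zpowers_le.mpr hw₀Z)
  have heq : (A₁ ⊓ ZY) ⊔ zpowers w₀ = ZY :=
    Subgroup.eq_of_le_of_card_ge hle (by rw [h4]; exact h2)
  intro z hz
  rw [← heq] at hz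
  obtain ⟨y, hy, x, hx, rfl⟩ :=
    mem_sup_of_commute (fun _ hy _ hx => hZcomm _ (mem_inf.mp hy).2 _ (hle (mem_sup_right hx))) hz
  have hyA₁ : y ∈ A₁ := (mem_inf.mp hy).1
  have hay : a * y = y * a := by
    rw [hA₁] at hyA₁
    exact o.A1_comm_a h y hyA₁
  rcases zpowers_cases (h.W2 w₀ hw₀W) hx with hx1 | hx1
  · rw [hx1, mul_one]
    have : a * y * a⁻¹ * y⁻¹ = 1 := by rw [hay]; group
    rw [this]; exact W.one_mem
  · rw [hx1]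
    have h5 := (o.swap h).1 w₀ hw₀W hw₀f
    have hyT : y ∈ Q ⊔ J := hEle (mem_sup_left hyA₁)
    have h6 := o.fT y hyT
    have hay' : a * y * a⁻¹ = y := by rw [hay]; group
    have h7 : a * (y * w₀) * a⁻¹ * (y * w₀)⁻¹ = f := by
      calc a * (y * w₀) * a⁻¹ * (y * w₀)⁻¹
          = (a * y * a⁻¹) * (a * w₀ * a⁻¹) * w₀⁻¹ * y⁻¹ := by group
        _ = y * (f * w₀) * w₀⁻¹ * y⁻¹ := by rw [hay', h5]
        _ = (y * f) * y⁻¹ := by group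
        _ = f := by rw [h6]; group
    rw [h7]; exact o.fW

end Off

end Cfsg.Agent.Helper50.JComp
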