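import Mathlib
import Cfsg.Agent.Lib.Helper50.JComp5

/-!
# `J(T)`-components: the splitting of `Ω₁(Z(J))` (part 6)
-/

set_option autoImplicit false
set_option linter.unusedSectionVars false

namespace Cfsg.Agent.Helper50.JComp

open Subgroup
open Cfsg.Agent.Helper50.Higman
open Cfsg.Agent.Helper50
open Cfsg.Agent.Helper23
open scoped commutatorElement

variable {G : Type*} [Group G] [Finite G]

namespace Off

variable {K J Q U W : Subgroup G} (h : JD K J Q U W) {f a : G} {A : Subgroup G}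
  (o : Off Q J W f a A)
include h o

/-- every largest elementary abelian subgroup of `T₀` acts trivially on `Z_Y/W` -/
theorem comm_mem_W {A'' : Subgroup G} (hA'' : MaxEA (Q ⊔ J) A'') {x : G} (hx : x ∈ A'') :
    ∀ z ∈ omegaZ (JY (Q ⊔ J) W), x * z * x⁻¹ * z⁻¹ ∈ W := by
  by_cases hxc : ∀ w ∈ W, x * w * x⁻¹ = w
  · have hxJY : x ∈ JY (Q ⊔ J) W := by
      have hxC : x ∈ centralizer (W : Set G) := by
        rw [mem_centralizer_iff]
        intro w hw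
        have := hxc w hw
        calc w * x = x * w * x⁻¹ * x := by rw [this]
          _ = x * w := by group
      by_cases hAc : ∃ a₂ ∈ A'', ¬ ∀ w ∈ W, a₂ * w * a₂⁻¹ = w
      · obtain ⟨a₂, ha₂, hnc₂⟩ := hAc
        have o₂ : Off Q J W f a₂ A'' := ⟨o.fW, o.f1, o.fT, hA'', ha₂, hnc₂⟩
        exact o₂.A1_le_JY h (mem_inf.mpr ⟨hx, hxC⟩)
      · push Not at hAc
        have hle : A'' ≤ centralizer (W : Set G) := by
          rw [le_centralizer_iff_comm]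
          intro y hy w hw
          have := hAc y hy w hw
          calc y * w = y * w * y⁻¹ * y := by group
            _ = w * y := by rw [this]
        have hmem : A'' ≤ JY (Q ⊔ J) W := le_sSup ⟨hA'', hle⟩
        exact hmem hx
    intro z hz
    have h0 : x * z = z * x := hz.2.1 x hxJY
    have h1 : x * z * x⁻¹ * z⁻¹ = 1 := by rw [h0]; group
    rw [h1]; exact W.one_mem
  · have o₃ : Off Q J W f x A'' := ⟨o.fW, o.f1, o.fT, hA'', hx, hxc⟩
    exact o₃.comm_mem h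

theorem J_le_D : J ≤ Dsub (K ⊔ J) (omegaZ (JY (Q ⊔ J) W)) W h.XnW := by
  have key : sSup {A : Subgroup G | MaxEA (Q ⊔ J) A} ≤
      Dsub (K ⊔ J) (omegaZ (JY (Q ⊔ J) W)) W h.XnW := by
    apply sSup_le
    intro A'' hA'' x hx
    exact ⟨h.TX (hA''.1 hx), o.comm_mem_W h hA'' hx⟩
  rwa [← h.J_eq] at key

theorem K_le_D : K ≤ Dsub (K ⊔ J) (omegaZ (JY (Q ⊔ J) W)) W h.XnW :=
  le_Dsub_of_comm h.XnW (o.XnZY h) (o.J_le_D h) h.comm

/-- `[Ω₁(Z(J)), K] ≤ W` -/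
theorem comm_Z0_K : ∀ k ∈ K, ∀ z ∈ omegaZ J, k * z * k⁻¹ * z⁻¹ ∈ W :=
  fun _ hk z hz => (o.K_le_D h hk).2 z (o.Z0_le_ZY h hz)

theorem TnZ0 : Q ⊔ J ≤ normalizer ((omegaZ J : Subgroup G) : Set G) :=
  h.TnJ.trans (normalizer_le_normalizer_omegaZ J)

theorem Z0_W_comm : ∀ z ∈ omegaZ J, ∀ w ∈ W, z * w = w * z :=
  fun _ hz w hw => (hz.2.1 w (o.W_le_J h hw)).symm

/-- `O₂(K)` centralizes `Ω₁(Z(J))` -/
theorem Q_cent_Z0 : ∀ q ∈ Q, ∀ z ∈ omegaZ J, q * z = z * q := by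
  intro q hq z hz
  have hd : ∀ q' ∈ Q, q' * z * q'⁻¹ * z⁻¹ ∈ zpowers f := by
    intro q' hq'
    rw [← o.Z0_inf_W h]
    refine mem_inf.mpr ⟨?_, o.comm_Z0_K h q' (h.QK hq') z hz⟩
    exact (omegaZ J).mul_mem (conj_mem_of_le_normalizer (o.TnZ0 h) (mem_sup_left hq') hz)
      ((omegaZ J).inv_mem hz)
  rcases zpowers_cases (h.W2 f o.fW) (hd q hq) with h1 | h1
  · calc q * z = (q * z * q⁻¹ * z⁻¹) * z * q := by group
      _ = z * q := by rw [h1, one_mul]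
  · exfalso
    apply o.f1
    apply h.fixed_eq_one o.fW
    intro k hk
    obtain ⟨q', hq'def⟩ : ∃ q', q' = k * q * k⁻¹ := ⟨_, rfl⟩
    have hq' : q' ∈ Q := by rw [hq'def]; exact conj_mem_of_le_normalizer h.KnQ hk hq
    obtain ⟨wk, hwk⟩ : ∃ wk, wk = k * z * k⁻¹ * z⁻¹ := ⟨_, rfl⟩
    have hwkW : wk ∈ W := by rw [hwk]; exact o.comm_Z0_K h k hk z hz
    have hkz : k * z * k⁻¹ = wk * z := by rw [hwk]; group
    have h3W : q' * z * q'⁻¹ * z⁻¹ ∈ W := o.comm_Z0_K h q' (h.QK hq') z hz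
    have h2 : k * f * k⁻¹ = q' * z * q'⁻¹ * z⁻¹ := by
      calc k * f * k⁻¹ = k * (q * z * q⁻¹ * z⁻¹) * k⁻¹ := by rw [h1]
        _ = q' * (k * z * k⁻¹) * q'⁻¹ * (k * z * k⁻¹)⁻¹ := by rw [hq'def]; group
        _ = q' * (wk * z) * q'⁻¹ * (wk * z)⁻¹ := by rw [hkz]
        _ = (q' * wk) * z * q'⁻¹ * z⁻¹ * wk⁻¹ := by group
        _ = wk * (q' * z * q'⁻¹ * z⁻¹) * wk⁻¹ := by rw [h.QcW q' hq' wk hwkW]; group
        _ = q' * z * q'⁻¹ * z⁻¹ := by rw [h.Wcomm wk hwkW _ h3W]; group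
    have h3 := hd _ hq'
    rw [← h2] at h3
    rcases zpowers_cases (h.W2 f o.fW) h3 with h4 | h4
    · exfalso
      apply o.f1
      have h5 : f = k⁻¹ * (k * f * k⁻¹) * k := by group
      rw [h5, h4]; group
    · exact h4

/-- the splitting `z = c * w` with `c` central in `⟨K, J⟩` and `w ∈ W` -/
theorem split : ∀ z ∈ omegaZ J,
    ∃ c ∈ omegaZ J ⊓ ((K ⊔ J) ⊓ centralizer ((K ⊔ J : Subgroup G) : Set G)),
      ∃ w ∈ omegaZ J ⊓ W, z = c * w := by
  intro z hz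
  obtain ⟨k, hk, hkQ⟩ := h.exists_k
  obtain ⟨w₁, hw₁⟩ : ∃ w₁, w₁ = k * z * k⁻¹ * z⁻¹ := ⟨_, rfl⟩
  have hw₁W : w₁ ∈ W := by rw [hw₁]; exact o.comm_Z0_K h k hk z hz
  obtain ⟨w, hw⟩ : ∃ w, w = k * w₁ * k⁻¹ := ⟨_, rfl⟩
  have hwW : w ∈ W := by
    rw [hw]; exact conj_mem_of_le_normalizer h.XnW (mem_sup_left hk) hw₁W
  have hkz : k * z * k⁻¹ = w₁ * z := by rw [hw₁]; group
  have hkw₁ : k * w₁ * k⁻¹ = w := hw.symm
  have hk3 : k * k * k * z = z * (k * k * k) := by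
    have := o.Q_cent_Z0 h _ (h.cube_mem hk) z hz
    rwa [pow_three_eq] at this
  have hzz : z * z = 1 := hz.2.2
  have hzw : z * w = w * z := o.Z0_W_comm h z hz w hwW
  have hzw₁ : z * w₁ = w₁ * z := o.Z0_W_comm h z hz w₁ hw₁W
  have hww₁ : w * w₁ = w₁ * w := h.Wcomm w hwW w₁ hw₁W
  have hwi : w⁻¹ = w := inv_eq_of_mul_eq_one_left (h.W2 w hwW)
  have hw₁i : w₁⁻¹ = w₁ := inv_eq_of_mul_eq_one_left (h.W2 w₁ hw₁W)
  have e : k * w * k⁻¹ * w * (w₁ * z) = z := by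
    calc k * w * k⁻¹ * w * (w₁ * z)
        = (k * w * k⁻¹) * (k * w₁ * k⁻¹) * (k * z * k⁻¹) := by rw [hkw₁, hkz]
      _ = k * (w * (w₁ * z)) * k⁻¹ := by group
      _ = k * ((k * w₁ * k⁻¹) * (k * z * k⁻¹)) * k⁻¹ := by rw [hkw₁, hkz]
      _ = k * k * k * z * (k * k * k)⁻¹ := by rw [hw₁]; group
      _ = z := by rw [hk3]; group
  have hkw : k * w * k⁻¹ = w * w₁ := by
    have e1 : k * w * k⁻¹ * w = z * (w₁ * z)⁻¹ := eq_mul_inv_of_mul_eq e
    have e2 : k * w * k⁻¹ = z * (w₁ * z)⁻¹ * w⁻¹ := eq_mul_inv_of_mul_eq e1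
    rw [e2]
    calc z * (w₁ * z)⁻¹ * w⁻¹ = w₁⁻¹ * w⁻¹ := by group
      _ = w * w₁ := by rw [hwi, hw₁i, hww₁]
  -- the central part
  have hkc : k * (z * w) * k⁻¹ = z * w := by
    calc k * (z * w) * k⁻¹ = (k * z * k⁻¹) * (k * w * k⁻¹) := by group
      _ = (w₁ * z) * (w * w₁) := by rw [hkz, hkw]
      _ = (z * w₁) * (w * w₁) := by rw [hzw₁]
      _ = z * (w₁ * w) * w₁ := by group
      _ = z * (w * w₁) * w₁ := by rw [hww₁]
      _ = z * w * (w₁ * w₁) := by group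
      _ = z * w := by rw [h.W2 w₁ hw₁W, mul_one]
  have hcK : K ≤ centralizer ({z * w} : Set G) := by
    rw [h.K_eq hk hkQ]
    apply sup_le
    · intro q hq
      rw [mem_centralizer_singleton_iff]
      calc q * (z * w) = (q * z) * w := by group
        _ = z * (q * w) := by rw [o.Q_cent_Z0 h q hq z hz]; group
        _ = z * w * q := by rw [h.QcW q hq w hwW]; group
    · rw [zpowers_le, mem_centralizer_singleton_iff]
      calc k * (z * w) = k * (z * w) * k⁻¹ * k := by group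
        _ = z * w * k := by rw [hkc]
  have hcK' : ∀ k' ∈ K, k' * (z * w) = (z * w) * k' :=
    fun k' hk' => mem_centralizer_singleton_iff.mp (hcK hk')
  have hcJ : ∀ j ∈ J, j * (z * w) = (z * w) * j := by
    intro j hj
    obtain ⟨d, hd⟩ : ∃ d, d = j * w * j⁻¹ * w⁻¹ := ⟨_, rfl⟩
    have hjw : j * w * j⁻¹ ∈ W := conj_mem_of_le_normalizer h.XnW (mem_sup_right hj) hwW
    have hdW : d ∈ W := by rw [hd]; exact W.mul_mem hjw (W.inv_mem hwW)
    have hjz : j * z = z * j := hz.2.1 j hj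
    have hd' : d = j * (z * w) * j⁻¹ * (z * w)⁻¹ := by
      have hzd : z * d = d * z := o.Z0_W_comm h z hz d hdW
      calc d = d * z * z⁻¹ := by group
        _ = z * d * z⁻¹ := by rw [hzd]
        _ = z * (j * w * j⁻¹ * w⁻¹) * z⁻¹ := by rw [hd]
        _ = (z * j) * w * j⁻¹ * w⁻¹ * z⁻¹ := by group
        _ = (j * z) * w * j⁻¹ * w⁻¹ * z⁻¹ := by rw [hjz]
        _ = j * (z * w) * j⁻¹ * (z * w)⁻¹ := by group
    have hd1 : d = 1 := by
      apply h.fixed_eq_one hdW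
      intro k' hk'
      have hk'' : j⁻¹ * k' * j ∈ K := conj_mem_of_le_normalizer' h.JnK hj hk'
      have h1 := hcK' k' hk'
      have h2 := hcK' _ hk''
      rw [hd']
      calc k' * (j * (z * w) * j⁻¹ * (z * w)⁻¹) * k'⁻¹
          = j * ((j⁻¹ * k' * j) * (z * w)) * j⁻¹ * k'⁻¹ * (k' * (z * w)⁻¹ * k'⁻¹) := by group
        _ = j * ((z * w) * (j⁻¹ * k' * j)) * j⁻¹ * k'⁻¹ * (k' * (z * w)⁻¹ * k'⁻¹) := by rw [h2]
        _ = j * (z * w) * j⁻¹ * (k' * (z * w)⁻¹ * k'⁻¹) := by group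
        _ = j * (z * w) * j⁻¹ * ((k' * (z * w)) * k'⁻¹)⁻¹ := by group
        _ = j * (z * w) * j⁻¹ * (((z * w) * k') * k'⁻¹)⁻¹ := by rw [h1]
        _ = j * (z * w) * j⁻¹ * (z * w)⁻¹ := by group
    rw [hd1] at hd'
    calc j * (z * w) = (j * (z * w) * j⁻¹ * (z * w)⁻¹) * (z * w) * j := by group
      _ = z * w * j := by rw [← hd', one_mul]
  have hcsq : (z * w) * (z * w) = 1 := by
    calc (z * w) * (z * w) = z * (w * z) * w := by group
      _ = z * (z * w) * w := by rw [hzw]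
      _ = (z * z) * (w * w) := by group
      _ = 1 := by rw [hzz, h.W2 w hwW, one_mul]
  have hcZ0 : z * w ∈ omegaZ J := by
    rw [mem_omegaZ]
    exact ⟨J.mul_mem hz.1 (o.W_le_J h hwW), hcJ, hcsq⟩
  have hcX : z * w ∈ K ⊔ J := by
    rw [sup_comm]
    exact mul_mem_sup hz.1 (h.WK hwW)
  have hcC : z * w ∈ centralizer ((K ⊔ J : Subgroup G) : Set G) := by
    have hle : K ⊔ J ≤ centralizer ({z * w} : Set G) := by
      apply sup_le hcK
      intro j hj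
      rw [mem_centralizer_singleton_iff]
      exact hcJ j hj
    rw [mem_centralizer_iff]
    intro x hx
    exact mem_centralizer_singleton_iff.mp (hle hx)
  have hwZ0 : w ∈ omegaZ J := by
    have h1 : w = z * (z * w) := by rw [← mul_assoc, hzz, one_mul]
    rw [h1]
    exact (omegaZ J).mul_mem hz hcZ0
  refine ⟨z * w, mem_inf.mpr ⟨hcZ0, mem_inf.mpr ⟨hcX, hcC⟩⟩, w, mem_inf.mpr ⟨hwZ0, hwW⟩, ?_⟩
  rw [mul_assoc, h.W2 w hwW, mul_one]

end Off

/-- the data structure from the definition of a `J(T)`-component -/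
theorem JD.of_isJComponent {T K : Subgroup G} (hK : Cfsg.IsJComponent T K) (hT : IsPGroup 2 ↥T) :
    JD K (Cfsg.thompsonSubgroupOf 2 T) (Cfsg.pCoreOf 2 K) (omegaZ (Cfsg.pCoreOf 2 K))
      (Cfsg.wOf K) := by
  obtain ⟨-, hcomm, hidx, hsyl, hW4, hW2⟩ := hK
  have hJnK : Cfsg.thompsonSubgroupOf 2 T ≤ normalizer (K : Set G) := by
    have := normalizer_commutator_ge_right K (Cfsg.thompsonSubgroupOf 2 T)
    rwa [hcomm] at this
  exact {
    comm := hcomm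
    QK := pCoreOf_le K
    Q2 := pCoreOf_isPGroup K
    KnQ := le_normalizer_pCoreOf K
    JnQ := hJnK.trans (normalizer_le_normalizer_pCoreOf K)
    idx := hidx
    sub2 := fun P hPK hP => le_pCoreOf_of_relIndex_three hidx hPK hP
    J2 := hT.to_le (by unfold Cfsg.thompsonSubgroupOf; exact Subgroup.map_subtype_le _)
    hU := rfl
    hW := by unfold Cfsg.wOf; rw [omegaCenterOf_eq]
    syl := hsyl
    W4 := hW4
    W2 := hW2 }

/-- **`Ω₁(Z(J(T)))` splits** for a `J(T)`-component `K`. -/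
theorem jcomponent_split {T K : Subgroup G} (hK : Cfsg.IsJComponent T K) (hT : IsPGroup 2 ↥T) :
    Nat.card ↥(Cfsg.omegaCenterOf (Cfsg.thompsonSubgroupOf 2 T) ⊓ Cfsg.wOf K) = 2 ∧
      (Cfsg.omegaCenterOf (Cfsg.thompsonSubgroupOf 2 T) ⊓
          ((K ⊔ Cfsg.thompsonSubgroupOf 2 T) ⊓
            Subgroup.centralizer ((K ⊔ Cfsg.thompsonSubgroupOf 2 T) : Set G))) ⊔
        (Cfsg.omegaCenterOf (Cfsg.thompsonSubgroupOf 2 T) ⊓ Cfsg.wOf K) =
      Cfsg.omegaCenterOf (Cfsg.thompsonSubgroupOf 2 T) := by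
  have hD := JD.of_isJComponent hK hT
  obtain ⟨f, a, A, o⟩ := hD.exists_off
  rw [omegaCenterOf_eq]
  refine ⟨o.card_Z0_inf_W hD, ?_⟩
  apply le_antisymm
  · exact sup_le inf_le_left inf_le_left
  · intro z hz
    obtain ⟨c, hc, w, hw, rfl⟩ := o.split hD z hz
    have hsub : ((K : Set G) ⊔ (Cfsg.thompsonSubgroupOf 2 T : Set G)) ⊆
        ((K ⊔ Cfsg.thompsonSubgroupOf 2 T : Subgroup G) : Set G) := by
      intro x hx
      rcases hx with hx | hx
      · exact mem_sup_left hx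
      · exact mem_sup_right hx
    have hle := Subgroup.centralizer_le hsub
    exact mul_mem_sup (inf_le_inf_left _ (inf_le_inf_left _ hle) hc) hw

end Cfsg.Agent.Helper50.JComp
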