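import Mathlib
import Cfsg.Prelude.Def_LieTypeDatum
import Cfsg.Agent.Lib.Helper40.SplitCount

/-!
# GF server (helper43, batch 2): pieces (O4) `splitCount_index_four` and (G1) `map_equiv_of_ker_eq`
-/

set_option autoImplicit false

namespace Cfsg.Agent.Helper50.GF

open Cfsg.Agent.Helper40.SplitCount

/-- (O4) ABSTRACT COUNT (pure group theory). -/
theorem splitCount_index_four {X : Type*} [Group X] (H K : Subgroup X) (hKH : K ≤ H)
    (hnorm : ∀ h ∈ H, ∀ k ∈ K, h * k * h⁻¹ ∈ K) (hidx : (K.subgroupOf H).index = 4) (x c₁ : X)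
    (hc₁ : c₁ ∈ H ⊓ Subgroup.centralizer {x})
    (hgen : ∀ c ∈ H ⊓ Subgroup.centralizer {x}, c ∈ K ∨ c * c₁⁻¹ ∈ K) :
    (c₁ ∈ K → Cfsg.splitClassCount H K x = 4) ∧ (c₁ ∉ K → Cfsg.splitClassCount H K x = 2) := by
  have hKM : K ≤ MSub H K x := le_sup_left
  have hMH : MSub H K x ≤ H := sup_le hKH inf_le_left
  have hrel : K.relIndex H = 4 := hidx
  constructor
  · intro hc
    have hle : H ⊓ Subgroup.centralizer {x} ≤ K := by
      intro c hcc
      rcases hgen c hcc with h | h
      · exact h
      · have := K.mul_mem h hc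
        simpa using this
    have hM : MSub H K x = K := by
      unfold MSub
      exact sup_eq_left.2 hle
    rw [splitClassCount_eq H K hKH hnorm x, hM]
    exact hrel
  · intro hc
    have hmul := Subgroup.relIndex_mul_relIndex K (MSub H K x) H hKM hMH
    have h2 : K.relIndex (MSub H K x) = 2 := by
      unfold Subgroup.relIndex
      rw [Subgroup.index_eq_two_iff]
      have hc₁M : c₁ ∈ MSub H K x := Subgroup.mem_sup_right hc₁
      refine ⟨⟨c₁⁻¹, (MSub H K x).inv_mem hc₁M⟩, ?_⟩
      rintro ⟨b, hb⟩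
      simp only [Subgroup.mem_subgroupOf, Subgroup.coe_mul]
      obtain ⟨k, hk, c, hcH, hcx, rfl⟩ := (mem_MSub_iff H K hKH hnorm x b).1 hb
      have hcc : c ∈ H ⊓ Subgroup.centralizer ({x} : Set X) := by
        refine Subgroup.mem_inf.2 ⟨hcH, ?_⟩
        rw [Subgroup.mem_centralizer_iff]
        intro y hy
        rw [Set.mem_singleton_iff.1 hy]
        exact hcx.symm
      rcases hgen c hcc with h | h
      · -- c ∈ K
        right
        refine ⟨K.mul_mem hk h, ?_⟩
        intro hbad
        apply hc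
        have h1 : (k * c)⁻¹ * (k * c * c₁⁻¹) ∈ K := K.mul_mem (K.inv_mem (K.mul_mem hk h)) hbad
        have h3 : (k * c)⁻¹ * (k * c * c₁⁻¹) = c₁⁻¹ := by group
        rw [h3] at h1
        simpa using K.inv_mem h1
      · -- c * c₁⁻¹ ∈ K
        left
        refine ⟨by simpa [mul_assoc] using K.mul_mem hk h, ?_⟩
        intro hbad
        apply hc
        have hcK : c ∈ K := by
          have := K.mul_mem (K.inv_mem hk) hbad
          simpa using this
        have h1 : (c * c₁⁻¹)⁻¹ * c ∈ K := K.mul_mem (K.inv_mem h) hcK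
        have h3 : (c * c₁⁻¹)⁻¹ * c = c₁ := by group
        rwa [h3] at h1
    rw [h2, hrel] at hmul
    rw [splitClassCount_eq H K hKH hnorm x]
    omega

/-- (G1) two homomorphisms with the same kernel have isomorphic images of any subgroup. -/
theorem map_equiv_of_ker_eq {G A B : Type*} [Group G] [Group A] [Group B] (f₁ : G →* A) (f₂ : G →* B)
    (hk : f₁.ker = f₂.ker) (S : Subgroup G) : Nonempty (↥(S.map f₁) ≃* ↥(S.map f₂)) := by
  have e1 : (S ⧸ (f₁.comp S.subtype).ker) ≃* (f₁.comp S.subtype).range :=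
    QuotientGroup.quotientKerEquivRange (f₁.comp S.subtype)
  have e2 : (S ⧸ (f₂.comp S.subtype).ker) ≃* (f₂.comp S.subtype).range :=
    QuotientGroup.quotientKerEquivRange (f₂.comp S.subtype)
  have hker : (f₁.comp S.subtype).ker = (f₂.comp S.subtype).ker := by
    ext s
    simp only [MonoidHom.mem_ker, MonoidHom.comp_apply]
    rw [← MonoidHom.mem_ker, ← MonoidHom.mem_ker, hk]
  have e3 : (S ⧸ (f₁.comp S.subtype).ker) ≃* (S ⧸ (f₂.comp S.subtype).ker) :=
    QuotientGroup.quotientMulEquivOfEq hker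
  have r1 : (f₁.comp S.subtype).range = S.map f₁ := by
    rw [MonoidHom.range_comp, Subgroup.range_subtype]
  have r2 : (f₂.comp S.subtype).range = S.map f₂ := by
    rw [MonoidHom.range_comp, Subgroup.range_subtype]
  exact ⟨((MulEquiv.subgroupCongr r1).symm.trans e1.symm).trans
    (e3.trans (e2.trans (MulEquiv.subgroupCongr r2)))⟩

end Cfsg.Agent.Helper50.GF

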