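import Mathlib
import Cfsg.Prelude.Def_Classical

set_option autoImplicit false
set_option linter.unusedSectionVars false
set_option linter.unusedVariables false

/-! (P3) of helper13's OSS server (S2721): the alternating form `β(u,v) = B(u,(t - t⁻¹)v)` attached to
an isometry `t` of odd order without fixed vectors. -/

namespace Cfsg.Agent.Helper50.OSS

open Matrix QuadraticMap

variable {F : Type*} [Field F] {ι : Type} [Fintype ι] [DecidableEq ι]

lemma h50_mem_iso (Q0 : (ι → F) → F) (g : GL ι F) :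
    g ∈ Cfsg.isometryGroup F Q0 ↔ ∀ u : ι → F, Q0 ((g : Matrix ι ι F) *ᵥ u) = Q0 u := by
  unfold Cfsg.isometryGroup Cfsg.preserving
  constructor
  · intro h u
    exact h u u
  · intro h u v
    exact h u

/-- a similarity of `Q` with multiplier `μ` multiplies the polar form by `μ` -/
lemma h50_polar_sim (Q : QuadraticForm F (ι → F)) (g : Matrix ι ι F) (μ : F)
    (hg : ∀ v, Q (g *ᵥ v) = μ * Q v) (u w : ι → F) :
    polar (⇑Q) (g *ᵥ u) (g *ᵥ w) = μ * polar (⇑Q) u w := by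
  unfold QuadraticMap.polar
  rw [← Matrix.mulVec_add, hg, hg, hg]
  ring

/-- (P3) if the isometry `t` of odd order (char ≠ 2) has no nonzero fixed vector, then
`β(u,v) := polar Q u ((t - t⁻¹) v)` is a nondegenerate alternating form, and every `g` commuting
with `t` that multiplies `Q` by `μ` multiplies `β` by `μ`. -/
theorem exists_alt_form (Q : QuadraticForm F (ι → F)) (hQ : (polarBilin Q).Nondegenerate)
    (h2 : (2 : F) ≠ 0) (t : GL ι F) (ht : t ∈ Cfsg.isometryGroup F ⇑Q) (r : ℕ) (hr : Odd r)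
    (htr : t ^ r = 1) (hfix : ∀ v : ι → F, (t : Matrix ι ι F) *ᵥ v = v → v = 0) :
    ∃ β : LinearMap.BilinForm F (ι → F), (∀ x, β x x = 0) ∧ (∀ x, (∀ y, β x y = 0) → x = 0) ∧
      ∀ (g : GL ι F) (μ : F), g * t = t * g →
        (∀ v, Q ((g : Matrix ι ι F) *ᵥ v) = μ * Q v) →
        ∀ u v, β ((g : Matrix ι ι F) *ᵥ u) ((g : Matrix ι ι F) *ᵥ v) = μ * β u v := by
  rw [h50_mem_iso] at ht
  obtain ⟨T, hT⟩ : ∃ T : Matrix ι ι F, T = (t : Matrix ι ι F) := ⟨_, rfl⟩
  obtain ⟨Ti, hTi⟩ : ∃ Ti : Matrix ι ι F, Ti = ((t⁻¹ : GL ι F) : Matrix ι ι F) := ⟨_, rfl⟩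
  have hTTi : T * Ti = 1 := by
    rw [hT, hTi, ← Units.val_mul, mul_inv_cancel, Units.val_one]
  have hTiT : Ti * T = 1 := by
    rw [hT, hTi, ← Units.val_mul, inv_mul_cancel, Units.val_one]
  rw [← hT] at ht hfix
  have hiso : ∀ a b : ι → F, polar (⇑Q) (T *ᵥ a) (T *ᵥ b) = polar (⇑Q) a b := by
    intro a b
    have h := h50_polar_sim Q T 1 (by intro v; rw [one_mul]; exact ht v) a b
    rwa [one_mul] at h
  have hTr : T ^ r = 1 := by
    have h := congrArg (fun x : GL ι F => (x : Matrix ι ι F)) htr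
    simp only [Units.val_pow_eq_pow_val, Units.val_one] at h
    rw [hT]; exact h
  have hD : ∀ v : ι → F, Matrix.toLin' (T - Ti) v = T *ᵥ v - Ti *ᵥ v := by
    intro v
    rw [Matrix.toLin'_apply, Matrix.sub_mulVec]
  have hpow : ∀ v : ι → F, T *ᵥ (T *ᵥ v) = v → ∀ j : ℕ, (T ^ (2 * j)) *ᵥ v = v := by
    intro v hv j
    induction j with
    | zero => simp
    | succ j ih =>
      rw [Nat.mul_succ, pow_add, pow_two, ← Matrix.mulVec_mulVec, ← Matrix.mulVec_mulVec, hv, ih]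
  have hinj : Function.Injective (Matrix.toLin' (T - Ti)) := by
    rw [← LinearMap.ker_eq_bot, LinearMap.ker_eq_bot']
    intro v hv
    rw [hD, sub_eq_zero] at hv
    have h1 : T *ᵥ (T *ᵥ v) = v := by
      rw [hv, Matrix.mulVec_mulVec, hTTi, Matrix.one_mulVec]
    obtain ⟨j, rfl⟩ := hr
    have h3 := hpow v h1 j
    apply hfix
    have h4 : (T ^ (2 * j + 1)) *ᵥ v = T *ᵥ v := by
      rw [pow_succ', ← Matrix.mulVec_mulVec, h3]
    rw [hTr, Matrix.one_mulVec] at h4
    exact h4.symm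
  have hsurj : Function.Surjective (Matrix.toLin' (T - Ti)) :=
    LinearMap.injective_iff_surjective.1 hinj
  refine ⟨(polarBilin Q).compl₂ (Matrix.toLin' (T - Ti)), ?_, ?_, ?_⟩
  · intro x
    rw [LinearMap.compl₂_apply, polarBilin_apply_apply, hD, polar_sub_right]
    have h1 : polar (⇑Q) x (Ti *ᵥ x) = polar (⇑Q) (T *ᵥ x) x := by
      rw [← hiso x (Ti *ᵥ x), Matrix.mulVec_mulVec, hTTi, Matrix.one_mulVec]
    rw [h1, polar_comm (⇑Q) (T *ᵥ x) x, sub_self]
  · intro x hx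
    apply hQ.1 x
    intro y
    obtain ⟨z, rfl⟩ := hsurj y
    have h := hx z
    rw [LinearMap.compl₂_apply] at h
    exact h
  · intro g μ hgt hg u v
    obtain ⟨Gm, hGm⟩ : ∃ Gm : Matrix ι ι F, Gm = (g : Matrix ι ι F) := ⟨_, rfl⟩
    rw [← hGm] at hg ⊢
    have hGT : Gm * T = T * Gm := by
      have h := congrArg (fun x : GL ι F => (x : Matrix ι ι F)) hgt
      simp only [Units.val_mul] at h
      rw [hGm, hT]; exact h
    have hGTi : Gm * Ti = Ti * Gm := by
      calc Gm * Ti = Ti * T * Gm * Ti := by rw [hTiT, Matrix.one_mul]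
        _ = Ti * (Gm * T) * Ti := by rw [hGT]; simp only [Matrix.mul_assoc]
        _ = Ti * Gm * (T * Ti) := by simp only [Matrix.mul_assoc]
        _ = Ti * Gm := by rw [hTTi, Matrix.mul_one]
    have hcomm : Matrix.toLin' (T - Ti) (Gm *ᵥ v) = Gm *ᵥ (Matrix.toLin' (T - Ti) v) := by
      rw [hD, hD, Matrix.mulVec_mulVec, Matrix.mulVec_mulVec, ← hGT, ← hGTi,
        ← Matrix.mulVec_mulVec, ← Matrix.mulVec_mulVec, ← Matrix.mulVec_sub]
    rw [LinearMap.compl₂_apply, LinearMap.compl₂_apply, polarBilin_apply_apply,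
      polarBilin_apply_apply, hcomm]
    exact h50_polar_sim Q Gm μ hg u _

end Cfsg.Agent.Helper50.OSS
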