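import Mathlib
import Cfsg.Agent.Lib.Helper74.M11Defs

/-!
# M11 lemma server (helper74, S0434), piece (Q6): `false_of_72`

`|C(D)| = 72` is impossible.
-/

namespace Cfsg.Agent.Helper50.M11

open Cfsg.Agent.Helper74.M11

variable {G : Type*} [Group G] [Finite G]

/-- the normal core of `N` in `X`, as a subgroup of `G`. -/
theorem h50q6_exists_K (N X D : Subgroup G) (hNX : N ≤ X) (hDN : D ≤ N) (hDX : X ≤ NorS D)
    (hX : Nat.card X = 144) (hN : Nat.card N = 36) :
    ∃ K : Subgroup G, K ≤ N ∧ D ≤ K ∧ (∀ x ∈ X, ∀ k ∈ K, x * k * x⁻¹ ∈ K) ∧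
      6 ∣ Nat.card K := by
  classical
  set N' : Subgroup X := N.subgroupOf X with hN'
  set K' : Subgroup X := N'.normalCore with hK'
  refine ⟨K'.map X.subtype, ?_, ?_, ?_, ?_⟩
  · intro g hg
    obtain ⟨k, hk, rfl⟩ := hg
    have := Subgroup.normalCore_le N' hk
    exact Subgroup.mem_subgroupOf.mp this
  · intro d hd
    have hdX : d ∈ X := hNX (hDN hd)
    refine ⟨⟨d, hdX⟩, ?_, rfl⟩
    have hDn : (D.subgroupOf X).Normal := by
      refine ⟨fun n hn g => ?_⟩
      rw [Subgroup.mem_subgroupOf] at hn ⊢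
      have hg := hDX g.2
      rw [Subgroup.mem_normalizer_iff] at hg
      have := (hg (n : G)).mp hn
      simpa using this
    have hle : D.subgroupOf X ≤ N' := by
      intro y hy
      exact Subgroup.mem_subgroupOf.mpr (hDN (Subgroup.mem_subgroupOf.mp hy))
    exact (Subgroup.normal_le_normalCore.mpr hle) (Subgroup.mem_subgroupOf.mpr hd)
  · intro x hx k hk
    obtain ⟨k', hk', rfl⟩ := hk
    refine ⟨⟨x, hx⟩ * k' * ⟨x, hx⟩⁻¹, ?_, by simp⟩
    exact (Subgroup.normalCore_normal N').conj_mem k' hk' ⟨x, hx⟩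
  · have h1 : Nat.card (K'.map X.subtype) = Nat.card K' :=
      Subgroup.card_map_of_injective X.subtype_injective
    have h2 : Nat.card K' * K'.index = 144 := by rw [Subgroup.card_mul_index, hX]
    have h4 : N'.index = 4 := by
      have h5 : Nat.card N' * N'.index = 144 := by rw [Subgroup.card_mul_index, hX]
      have h6 : Nat.card N' = 36 := by
        rw [← hN]
        exact Nat.card_congr (Subgroup.subgroupOfEquivOfLe hNX).toEquiv
      rw [h6] at h5
      omega
    have h3 : K'.index ∣ 24 := by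
      have h : N'.normalCore.index ∣ N'.index.factorial := by
        rw [Subgroup.normalCore_eq_ker, Subgroup.index_ker, Subgroup.index_eq_card,
          ← Nat.card_perm]
        exact Subgroup.card_subgroup_dvd_card (MulAction.toPermHom X (X ⧸ N')).range
      rw [h4] at h
      exact h
    obtain ⟨c, hc⟩ := h3
    rw [h1]
    refine ⟨c, ?_⟩
    have hpos : 0 < K'.index := by
      rcases Nat.eq_zero_or_pos K'.index with h | h
      · rw [h] at hc; omega
      · exact h
    have : Nat.card K' * K'.index = 6 * c * K'.index := by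
      rw [h2]
      calc 144 = 6 * 24 := by norm_num
        _ = 6 * (K'.index * c) := by rw [hc]
        _ = 6 * c * K'.index := by ring
    exact Nat.eq_of_mul_eq_mul_right hpos this

omit [Finite G] in
/-- a 3-subgroup of `N(P)` lies in `P`. -/
theorem h50q6_le_sylow (P : Sylow 3 G) (H : Subgroup G) (hH : H ≤ NorS (P : Subgroup G))
    (hp : IsPGroup 3 H) : H ≤ (P : Subgroup G) := by
  have h := hp.inf_normalizer_sylow P
  calc H = H ⊓ Subgroup.normalizer ((P : Subgroup G) : Set G) := (inf_eq_left.mpr hH).symm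
    _ = H ⊓ (P : Subgroup G) := h
    _ ≤ (P : Subgroup G) := inf_le_right

omit [Finite G] in
/-- a 3-element of `N(P)` lies in `P`. -/
theorem h50q6_mem_sylow (P : Sylow 3 G) (g : G) (hg : g ∈ NorS (P : Subgroup G))
    (n : ℕ) (ho : orderOf g = 3 ^ n) : g ∈ (P : Subgroup G) := by
  have hp : IsPGroup 3 (Subgroup.zpowers g) := by
    apply IsPGroup.of_card (n := n)
    rw [Nat.card_zpowers, ho]
  have hle : Subgroup.zpowers g ≤ NorS (P : Subgroup G) := by
    rw [Subgroup.zpowers_le]; exact hg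
  exact h50q6_le_sylow P _ hle hp (Subgroup.mem_zpowers g)

/-- counting conjugates: if all `X`-conjugates of `k` lie in `T`, then `|X| ≤ |T| * |C_X(k)|`. -/
theorem h50q6_card_le (X : Subgroup G) (k : G) (T : Finset G)
    (hT : ∀ x ∈ X, x * k * x⁻¹ ∈ T) :
    Nat.card X ≤ T.card * Nat.card (X ⊓ Cen k : Subgroup G) := by
  classical
  have : Fintype G := Fintype.ofFinite G
  let XS : Finset G := Finset.univ.filter (· ∈ X)
  let SS : Finset G := Finset.univ.filter (· ∈ (X ⊓ Cen k : Subgroup G))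
  have h1 : Nat.card X = XS.card := by
    rw [Nat.card_eq_fintype_card, Fintype.card_subtype]
  have h2 : Nat.card (X ⊓ Cen k : Subgroup G) = SS.card := by
    rw [Nat.card_eq_fintype_card, Fintype.card_subtype]
  have h3 : XS.card ≤ SS.card * (XS.image (fun x => x * k * x⁻¹)).card := by
    apply Finset.card_le_mul_card_image
    intro a ha
    obtain ⟨y, hy, rfl⟩ := Finset.mem_image.mp ha
    have hyX : y ∈ X := (Finset.mem_filter.mp hy).2
    apply Finset.card_le_card_of_injOn (fun x => y⁻¹ * x)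
    · intro x hx
      have hx' := Finset.mem_filter.mp (Finset.mem_coe.mp hx)
      have hxX : x ∈ X := (Finset.mem_filter.mp hx'.1).2
      have hxe : x * k * x⁻¹ = y * k * y⁻¹ := hx'.2
      have hmem : y⁻¹ * x ∈ (X ⊓ Cen k : Subgroup G) := by
        refine Subgroup.mem_inf.mpr ⟨X.mul_mem (X.inv_mem hyX) hxX, ?_⟩
        rw [Subgroup.mem_centralizer_iff]
        intro h hh
        rw [Set.mem_singleton_iff] at hh
        subst hh
        have : y⁻¹ * (x * h * x⁻¹) * x = y⁻¹ * (y * h * y⁻¹) * x := by rw [hxe]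
        calc h * (y⁻¹ * x) = y⁻¹ * (y * h * y⁻¹) * x := by group
          _ = y⁻¹ * (x * h * x⁻¹) * x := this.symm
          _ = y⁻¹ * x * h := by group
      exact Finset.mem_coe.mpr (Finset.mem_filter.mpr ⟨Finset.mem_univ _, hmem⟩)
    · intro x _ x' _ hxx
      exact mul_left_cancel hxx
  have h4 : (XS.image (fun x => x * k * x⁻¹)).card ≤ T.card := by
    apply Finset.card_le_card
    intro a ha
    obtain ⟨y, hy, rfl⟩ := Finset.mem_image.mp ha
    exact hT y (Finset.mem_filter.mp hy).2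
  rw [h1, h2]
  calc XS.card ≤ SS.card * (XS.image (fun x => x * k * x⁻¹)).card := h3
    _ ≤ SS.card * T.card := Nat.mul_le_mul_left _ h4
    _ = T.card * SS.card := Nat.mul_comm _ _

/-- **(Q6)** `|C(D)| = 72` is impossible. -/
theorem false_of_72 (h48 : ∀ t : G, orderOf t = 2 → Nat.card (Cen t) = 48)
    (hsq : ∀ t : G, orderOf t = 2 → ∃ v : G, v ^ 2 = t)
    (P : Sylow 3 G) (hP9 : Nat.card (P : Subgroup G) = 9) (D : Subgroup G) (hD : Nat.card D = 3)
    (hDP : D ≤ (P : Subgroup G))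
    (hN : Nat.card (NorS (P : Subgroup G)) = 36)
    (hCP : ∀ g ∈ CenS (P : Subgroup G), g ∈ (P : Subgroup G))
    (hND : NorS (P : Subgroup G) ≤ NorS D) (hCD : Nat.card (CenS D) = 72)
    (hNDc : Nat.card (NorS D) = 144) : False := by
  classical
  have hPN : (P : Subgroup G) ≤ NorS (P : Subgroup G) := Subgroup.le_normalizer
  have hDN : D ≤ NorS (P : Subgroup G) := hDP.trans hPN
  obtain ⟨K, hKN, hDK, hKnorm, h6⟩ :=
    h50q6_exists_K (NorS (P : Subgroup G)) (NorS D) D hND hDN le_rfl hNDc hN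
  -- elements of `P` have 3-power order
  have hPord : ∀ p ∈ (P : Subgroup G), ∃ n, orderOf p = 3 ^ n := by
    intro p hp
    have h1 := Subgroup.orderOf_dvd_natCard _ hp
    rw [hP9] at h1
    have h1' : orderOf p ∣ 3 ^ 2 := by
      rw [show (3 : ℕ) ^ 2 = 9 by norm_num]; exact h1
    obtain ⟨m, _, hm⟩ := (Nat.dvd_prime_pow Nat.prime_three).mp h1'
    exact ⟨m, hm⟩
  -- Step B: `P` is not contained in `K`
  have hPK : ¬ (P : Subgroup G) ≤ K := by
    intro hPK
    have hle : NorS D ≤ NorS (P : Subgroup G) := by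
      intro x hx
      apply Subgroup.mem_normalizer_fintype
      intro p hp
      obtain ⟨n, hn⟩ := hPord p hp
      have h1 : x * p * x⁻¹ ∈ K := hKnorm x hx p (hPK hp)
      have h2 : orderOf (x * p * x⁻¹) = 3 ^ n := by
        rw [← hn, ← MulAut.conj_apply]; exact (MulAut.conj x).orderOf_eq p
      exact h50q6_mem_sylow P _ (hKN h1) n h2
    have := Subgroup.card_le_of_le hle
    rw [hNDc, hN] at this
    omega
  -- Step C: `K ∩ P = D`
  have hKP : K ⊓ (P : Subgroup G) = D := by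
    symm
    apply Subgroup.eq_of_le_of_card_ge (le_inf hDK hDP)
    rw [hD]
    have h1 : Nat.card (K ⊓ (P : Subgroup G) : Subgroup G) ∣ 9 :=
      hP9 ▸ Subgroup.card_dvd_of_le inf_le_right
    have h2 : Nat.card (K ⊓ (P : Subgroup G) : Subgroup G) ≠ 9 := by
      intro h
      apply hPK
      have : K ⊓ (P : Subgroup G) = (P : Subgroup G) :=
        Subgroup.eq_of_le_of_card_ge inf_le_right (by rw [h, hP9])
      rw [← this]; exact inf_le_left
    have h1' : Nat.card (K ⊓ (P : Subgroup G) : Subgroup G) ∣ 3 ^ 2 := by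
      rw [show (3 : ℕ) ^ 2 = 9 by norm_num]; exact h1
    obtain ⟨m, hm, hm'⟩ := (Nat.dvd_prime_pow Nat.prime_three).mp h1'
    rw [hm'] at h2 ⊢
    interval_cases m
    · norm_num
    · norm_num
    · exact absurd rfl h2
  have hD3 : ∀ c ∈ D, c ^ 3 = 1 := by
    intro c hc
    have := Subgroup.orderOf_dvd_natCard D hc
    rw [hD] at this
    exact orderOf_dvd_iff_pow_eq_one.mp this
  -- Step D: no involution of `K` centralises `D`
  have hnoinv : ∀ k₀ ∈ K, k₀ ∈ CenS D → orderOf k₀ ≠ 2 := by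
    intro k₀ hk₀K hk₀C ho
    have hk₀2 : k₀ ^ 2 = 1 := by rw [← ho]; exact pow_orderOf_eq_one k₀
    have hk₀N : k₀ ∈ NorS (P : Subgroup G) := hKN hk₀K
    have hcent : k₀ ∈ CenS (P : Subgroup G) := by
      rw [Subgroup.mem_centralizer_iff]
      intro p hp
      have hpP : p ∈ (P : Subgroup G) := hp
      have h1 : k₀ * p * k₀⁻¹ ∈ (P : Subgroup G) :=
        (Subgroup.mem_normalizer_iff.mp hk₀N p).mp hpP
      have hcP : k₀ * p * k₀⁻¹ * p⁻¹ ∈ (P : Subgroup G) :=
        (P : Subgroup G).mul_mem h1 ((P : Subgroup G).inv_mem hpP)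
      have hpX : p ∈ NorS D := hND (hPN hpP)
      have h2 : p * k₀⁻¹ * p⁻¹ ∈ K := hKnorm p hpX k₀⁻¹ (K.inv_mem hk₀K)
      have hcK : k₀ * p * k₀⁻¹ * p⁻¹ ∈ K := by
        have : k₀ * p * k₀⁻¹ * p⁻¹ = k₀ * (p * k₀⁻¹ * p⁻¹) := by group
        rw [this]; exact K.mul_mem hk₀K h2
      have hcD : k₀ * p * k₀⁻¹ * p⁻¹ ∈ D := by
        rw [← hKP]; exact Subgroup.mem_inf.mpr ⟨hcK, hcP⟩
      obtain ⟨c, hc⟩ : ∃ c, c = k₀ * p * k₀⁻¹ * p⁻¹ := ⟨_, rfl⟩
      rw [← hc] at hcD
      have hcomm : c * k₀ = k₀ * c := (Subgroup.mem_centralizer_iff.mp hk₀C) c hcD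
      have e1 : k₀ * p * k₀⁻¹ = c * p := by rw [hc]; group
      have e2 : k₀ * (c * p) * k₀⁻¹ = c * (c * p) := by
        calc k₀ * (c * p) * k₀⁻¹ = (k₀ * c) * (p * k₀⁻¹) := by group
          _ = (c * k₀) * (p * k₀⁻¹) := by rw [hcomm]
          _ = c * (k₀ * p * k₀⁻¹) := by group
          _ = c * (c * p) := by rw [e1]
      have e3 : k₀ * (k₀ * p * k₀⁻¹) * k₀⁻¹ = p := by
        have hkk : k₀ * k₀ = 1 := by rw [← sq]; exact hk₀2
        calc k₀ * (k₀ * p * k₀⁻¹) * k₀⁻¹ = (k₀ * k₀) * p * (k₀ * k₀)⁻¹ := by group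
          _ = p := by rw [hkk]; group
      have e4 : c * c = 1 := by
        have h3 : c * (c * p) = p := by rw [← e2, ← e1, e3]
        have h' : c * c * p = 1 * p := by rw [mul_assoc, h3, one_mul]
        exact mul_right_cancel h'
      have e5 : c = 1 := by
        have h3 := hD3 c hcD
        calc c = c ^ 3 * (c * c)⁻¹ := by group
          _ = 1 := by rw [h3, e4]; group
      rw [e5, one_mul] at e1
      calc p * k₀ = (k₀ * p * k₀⁻¹) * k₀ := by rw [e1]
        _ = k₀ * p := by group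
    have hk₀P := hCP k₀ hcent
    have := Subgroup.orderOf_dvd_natCard _ hk₀P
    rw [ho, hP9] at this
    omega
  -- Step E: `K ∩ C(D) ≤ D`
  have hK0D : K ⊓ CenS D ≤ D := by
    have hodd : ¬ 2 ∣ Nat.card (K ⊓ CenS D : Subgroup G) := by
      intro h2
      have : Fact (Nat.Prime 2) := ⟨Nat.prime_two⟩
      obtain ⟨g, hg⟩ := exists_prime_orderOf_dvd_card' (G := (K ⊓ CenS D : Subgroup G)) 2 h2
      have hg' : orderOf (g : G) = 2 := by rw [Subgroup.orderOf_coe]; exact hg
      exact hnoinv g (Subgroup.mem_inf.mp g.2).1 (Subgroup.mem_inf.mp g.2).2 hg'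
    have hdvd36 : Nat.card (K ⊓ CenS D : Subgroup G) ∣ 36 :=
      hN ▸ Subgroup.card_dvd_of_le (inf_le_left.trans hKN)
    have hdvd9 : Nat.card (K ⊓ CenS D : Subgroup G) ∣ 9 := by
      have hcop : Nat.Coprime (Nat.card (K ⊓ CenS D : Subgroup G)) (2 ^ 2) :=
        Nat.Coprime.pow_right 2 ((Nat.Prime.coprime_iff_not_dvd Nat.prime_two).mpr hodd).symm
      exact hcop.dvd_of_dvd_mul_right (by simpa using hdvd36)
    have hdvd9' : Nat.card (K ⊓ CenS D : Subgroup G) ∣ 3 ^ 2 := by
      rw [show (3 : ℕ) ^ 2 = 9 by norm_num]; exact hdvd9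
    obtain ⟨m, hm, hm'⟩ := (Nat.dvd_prime_pow Nat.prime_three).mp hdvd9'
    have hp : IsPGroup 3 (K ⊓ CenS D : Subgroup G) := IsPGroup.of_card hm'
    have hle : K ⊓ CenS D ≤ (P : Subgroup G) :=
      h50q6_le_sylow P _ (inf_le_left.trans hKN) hp
    calc K ⊓ CenS D ≤ K ⊓ (P : Subgroup G) := le_inf inf_le_left hle
      _ = D := hKP
  -- `C(D)` has index 2 in `N(D)`
  have hCX : CenS D ≤ NorS D := Subgroup.centralizer_le_normalizer _
  have hidx : ((CenS D).subgroupOf (NorS D)).index = 2 := by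
    have h5 : Nat.card ((CenS D).subgroupOf (NorS D)) * ((CenS D).subgroupOf (NorS D)).index
        = 144 := by
      rw [Subgroup.card_mul_index, hNDc]
    have h6 : Nat.card ((CenS D).subgroupOf (NorS D)) = 72 := by
      rw [← hCD]; exact Nat.card_congr (Subgroup.subgroupOfEquivOfLe hCX).toEquiv
    rw [h6] at h5; omega
  have hrelX : (CenS D).relIndex (NorS D) = 2 := hidx
  -- Step F: `|K| = 6`
  have hK6 : Nat.card K = 6 := by
    have hKX : K ≤ NorS D := hKN.trans hND
    have hrel : (CenS D).relIndex K ≤ 2 := by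
      have := Subgroup.relIndex_le_of_le_right (H := CenS D) hKX (by rw [hrelX]; norm_num)
      rwa [hrelX] at this
    have hcard : Nat.card K = Nat.card (K ⊓ CenS D : Subgroup G) * (CenS D).relIndex K := by
      have h1 : Nat.card ((CenS D).subgroupOf K) * ((CenS D).subgroupOf K).index = Nat.card K :=
        Subgroup.card_mul_index _
      have h2 : Nat.card ((CenS D).subgroupOf K) = Nat.card (K ⊓ CenS D : Subgroup G) := by
        rw [← Subgroup.inf_subgroupOf_left]
        exact Nat.card_congr (Subgroup.subgroupOfEquivOfLe inf_le_left).toEquiv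
      rw [← h1, h2]; rfl
    have h3 : Nat.card (K ⊓ CenS D : Subgroup G) ≤ 3 := by
      rw [← hD]; exact Subgroup.card_le_of_le hK0D
    have h4 : Nat.card K ≤ 6 := by
      rw [hcard]
      calc _ ≤ 3 * 2 := Nat.mul_le_mul h3 hrel
        _ = 6 := by norm_num
    have h5 := Nat.le_of_dvd Nat.card_pos h6
    omega
  -- Step G: an involution `k` of `K`
  have : Fact (Nat.Prime 2) := ⟨Nat.prime_two⟩
  obtain ⟨k', hk'⟩ := exists_prime_orderOf_dvd_card' (G := K) 2 (by rw [hK6]; norm_num)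
  have hk2 : orderOf (k' : G) = 2 := by rw [Subgroup.orderOf_coe]; exact hk'
  obtain ⟨k, hk⟩ : ∃ k : G, k = (k' : G) := ⟨_, rfl⟩
  rw [← hk] at hk2
  have hkK : k ∈ K := by rw [hk]; exact k'.2
  -- Step H: `C(k) ≤ N(D)`
  have : Fintype G := Fintype.ofFinite G
  let KS : Finset G := Finset.univ.filter (· ∈ K)
  let DS : Finset G := Finset.univ.filter (· ∈ D)
  have hKS : KS.card = 6 := by rw [← hK6, Nat.card_eq_fintype_card, Fintype.card_subtype]
  have hDS : DS.card = 3 := by rw [← hD, Nat.card_eq_fintype_card, Fintype.card_subtype]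
  have hsub : DS ⊆ KS := fun g hg =>
    Finset.mem_filter.mpr ⟨Finset.mem_univ _, hDK (Finset.mem_filter.mp hg).2⟩
  have hT : (KS \ DS).card = 3 := by rw [Finset.card_sdiff_of_subset hsub, hKS, hDS]
  have hconj : ∀ x ∈ NorS D, x * k * x⁻¹ ∈ KS \ DS := by
    intro x hx
    rw [Finset.mem_sdiff]
    refine ⟨Finset.mem_filter.mpr ⟨Finset.mem_univ _, hKnorm x hx k hkK⟩, ?_⟩
    intro h
    have hmem : x * k * x⁻¹ ∈ D := (Finset.mem_filter.mp h).2
    have h1 := Subgroup.orderOf_dvd_natCard D hmem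
    have h2 : orderOf (x * k * x⁻¹) = 2 := by
      rw [← hk2, ← MulAut.conj_apply]; exact (MulAut.conj x).orderOf_eq k
    rw [h2, hD] at h1
    omega
  have hcount := h50q6_card_le (NorS D) k (KS \ DS) hconj
  rw [hNDc, hT] at hcount
  have heq : (NorS D ⊓ Cen k : Subgroup G) = Cen k := by
    apply Subgroup.eq_of_le_of_card_ge inf_le_right
    rw [h48 k hk2]; omega
  have hCkX : Cen k ≤ NorS D := by rw [← heq]; exact inf_le_left
  -- Step J: the square root of `k`
  obtain ⟨v, hv⟩ := hsq k hk2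
  have hvC : v ∈ Cen k := by
    rw [Subgroup.mem_centralizer_iff]
    intro h hh
    rw [Set.mem_singleton_iff] at hh
    rw [hh, ← hv]; group
  have hvX : v ∈ NorS D := hCkX hvC
  have hkC : k ∈ CenS D := by
    have h1 := Subgroup.sq_mem_of_index_two hidx ⟨v, hvX⟩
    rw [Subgroup.mem_subgroupOf] at h1
    simpa [hv] using h1
  exact hnoinv k hkK hkC hk2

end Cfsg.Agent.Helper50.M11
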