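import Mathlib
import Cfsg.Agent.Lib.Helper7.M11LADefs

/-!
# M11LA server (helper7, S0435): piece (K16) `caseIIa_classes`
-/

set_option autoImplicit false
set_option linter.unusedSectionVars false
set_option linter.unusedVariables false

namespace Cfsg.Agent.Helper50.M11LA

open Subgroup Cfsg.Agent.Helper7.M11LA

variable {G : Type*} [Group G] [Finite G]

/-- pair counting (own copy of (K7)). -/
theorem h50_tf (c Y : Set G) (m : ℕ) (h1 : (1 : G) ∉ Y)
    (h : ∀ y ∈ Y, m ≤ Nat.card {s : G // s ∈ c ∧ s * y ∈ c}) :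
    Nat.card c + m * Nat.card Y ≤ Nat.card c ^ 2 := by
  classical
  have : Fintype G := Fintype.ofFinite G
  let C : Finset G := Finset.univ.filter (· ∈ c)
  let Yf : Finset G := Finset.univ.filter (· ∈ Y)
  have hC : Nat.card c = C.card := by
    rw [Nat.card_eq_fintype_card]
    exact Fintype.card_of_subtype C (by intro x; simp [C])
  have hY : Nat.card Y = Yf.card := by
    rw [Nat.card_eq_fintype_card]
    exact Fintype.card_of_subtype Yf (by intro x; simp [Yf])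
  have hcount : ∀ y ∈ Yf, m ≤ (C.filter (fun s => s * y ∈ c)).card := by
    intro y hy
    have hyY : y ∈ Y := by simpa [Yf] using hy
    have := h y hyY
    rw [Nat.card_eq_fintype_card] at this
    have h2 : Fintype.card {s : G // s ∈ c ∧ s * y ∈ c} = (C.filter (fun s => s * y ∈ c)).card :=
      Fintype.card_of_subtype _ (by intro x; simp [C])
    rw [h2] at this
    exact this
  -- the set of triples
  let T : Finset (G × G) := (C ×ˢ Yf).filter (fun p => p.1 * p.2 ∈ c)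
  let f : G × G → G × G := fun p => (p.1, p.1 * p.2)
  have hf : Function.Injective f := by
    rintro ⟨a, b⟩ ⟨a', b'⟩ hab
    simp only [f, Prod.mk.injEq] at hab
    obtain ⟨rfl, h2⟩ := hab
    simp only [Prod.mk.injEq, true_and]
    exact mul_left_cancel h2
  let D : Finset (G × G) := C.image (fun s => (s, s))
  have hD : D.card = C.card := by
    apply Finset.card_image_of_injective
    intro a b hab
    exact (Prod.mk.inj hab).1
  have hTcard : m * Yf.card ≤ T.card := by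
    have h3 : T.card = ∑ y ∈ Yf, (C.filter (fun s => s * y ∈ c)).card := by
      have : T = Yf.biUnion (fun y => (C.filter (fun s => s * y ∈ c)).image (fun s => (s, y))) := by
        ext ⟨s, y⟩
        simp only [T, Finset.mem_filter, Finset.mem_product, Finset.mem_biUnion, Finset.mem_image,
          Prod.mk.injEq]
        constructor
        · rintro ⟨⟨hs, hy⟩, hsy⟩
          exact ⟨y, hy, s, ⟨hs, hsy⟩, rfl, rfl⟩
        · rintro ⟨y', hy', s', ⟨hs', hsy'⟩, rfl, rfl⟩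
          exact ⟨⟨hs', hy'⟩, hsy'⟩
      rw [this, Finset.card_biUnion]
      · apply Finset.sum_congr rfl
        intro y _
        apply Finset.card_image_of_injective
        intro a b hab
        exact (Prod.mk.inj hab).1
      · intro y₁ _ y₂ _ hne
        rw [Function.onFun, Finset.disjoint_left]
        intro p hp1 hp2
        simp only [Finset.mem_image] at hp1 hp2
        obtain ⟨_, _, rfl⟩ := hp1
        obtain ⟨_, _, h4⟩ := hp2
        exact hne (Prod.mk.inj h4).2.symm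
    rw [h3]
    calc m * Yf.card = ∑ _y ∈ Yf, m := by simp [mul_comm]
      _ ≤ ∑ y ∈ Yf, (C.filter (fun s => s * y ∈ c)).card := Finset.sum_le_sum hcount
  have hdisj : Disjoint D (T.image f) := by
    rw [Finset.disjoint_left]
    intro p hp1 hp2
    simp only [D, Finset.mem_image] at hp1 hp2
    obtain ⟨s, _, rfl⟩ := hp1
    obtain ⟨⟨a, b⟩, hab, h5⟩ := hp2
    simp only [f, Prod.mk.injEq] at h5
    obtain ⟨rfl, h6⟩ := h5
    have hb1 : b = 1 := by
      have : a * b = a * 1 := by rw [h6, mul_one]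
      exact mul_left_cancel this
    have hbY : b ∈ Y := by
      have := (Finset.mem_filter.1 hab).1
      have := (Finset.mem_product.1 this).2
      simpa [Yf] using this
    exact h1 (hb1 ▸ hbY)
  have hsub : D ∪ T.image f ⊆ C ×ˢ C := by
    intro p hp
    rcases Finset.mem_union.1 hp with hp | hp
    · simp only [D, Finset.mem_image] at hp
      obtain ⟨s, hs, rfl⟩ := hp
      exact Finset.mem_product.2 ⟨hs, hs⟩
    · simp only [Finset.mem_image] at hp
      obtain ⟨⟨a, b⟩, hab, rfl⟩ := hp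
      have h7 := Finset.mem_filter.1 hab
      have h8 := Finset.mem_product.1 h7.1
      refine Finset.mem_product.2 ⟨h8.1, ?_⟩
      simp only [f, C, Finset.mem_filter, Finset.mem_univ, true_and]
      exact h7.2
  have hfinal := Finset.card_le_card hsub
  rw [Finset.card_union_of_disjoint hdisj, Finset.card_image_of_injective _ hf, hD,
    Finset.card_product] at hfinal
  rw [hC, hY, pow_two]
  omega

/-- an involution-like element inverting `y₁` is conjugate (by a power of `y₁`) to `y₁ ^ n * u₁`. -/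
theorem h50_pow_mul_eq_conj (y₁ u₁ : G) (hy5 : y₁ ^ 5 = 1) (hinv : u₁ * y₁ * u₁⁻¹ = y₁⁻¹) (n : ℕ) :
    y₁ ^ n * u₁ = y₁ ^ (3 * n) * u₁ * (y₁ ^ (3 * n))⁻¹ := by
  have h1 : u₁ * y₁ ^ (3 * n) * u₁⁻¹ = (y₁ ^ (3 * n))⁻¹ := by
    rw [← conj_pow, hinv, inv_pow]
  have h2 : u₁ * (y₁ ^ (3 * n))⁻¹ = y₁ ^ (3 * n) * u₁ := by
    have h3 : u₁ * (y₁ ^ (3 * n))⁻¹ * u₁⁻¹ = y₁ ^ (3 * n) := by
      have : u₁ * (y₁ ^ (3 * n))⁻¹ * u₁⁻¹ = (u₁ * y₁ ^ (3 * n) * u₁⁻¹)⁻¹ := by group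
      rw [this, h1, inv_inv]
    calc u₁ * (y₁ ^ (3 * n))⁻¹ = u₁ * (y₁ ^ (3 * n))⁻¹ * u₁⁻¹ * u₁ := by group
      _ = y₁ ^ (3 * n) * u₁ := by rw [h3]
  have h4 : y₁ ^ (3 * n) * y₁ ^ (3 * n) = y₁ ^ n := by
    rw [← pow_add]
    have : 3 * n + 3 * n = 5 * n + n := by ring
    rw [this, pow_add, pow_mul, hy5, one_pow, one_mul]
  calc y₁ ^ n * u₁ = y₁ ^ (3 * n) * (y₁ ^ (3 * n) * u₁) := by rw [← mul_assoc, h4]
    _ = y₁ ^ (3 * n) * (u₁ * (y₁ ^ (3 * n))⁻¹) := by rw [h2]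
    _ = y₁ ^ (3 * n) * u₁ * (y₁ ^ (3 * n))⁻¹ := by group

theorem h50_isConj_pow_mul (u y₁ u₁ : G) (hy5 : y₁ ^ 5 = 1) (hinv : u₁ * y₁ * u₁⁻¹ = y₁⁻¹)
    (hc : IsConj u u₁) (n : ℕ) : IsConj u (y₁ ^ n * u₁) := by
  refine hc.trans ?_
  rw [isConj_iff]
  exact ⟨y₁ ^ (3 * n), (h50_pow_mul_eq_conj y₁ u₁ hy5 hinv n).symm⟩

theorem h50_mul_y (y₁ u₁ : G) (hy5 : y₁ ^ 5 = 1) (hinv : u₁ * y₁ * u₁⁻¹ = y₁⁻¹) (n : ℕ) :
    y₁ ^ n * u₁ * y₁ = y₁ ^ (n + 4) * u₁ := by
  have h1 : u₁ * y₁ = y₁⁻¹ * u₁ := by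
    calc u₁ * y₁ = u₁ * y₁ * u₁⁻¹ * u₁ := by group
      _ = y₁⁻¹ * u₁ := by rw [hinv]
  have h2 : y₁⁻¹ = y₁ ^ 4 := by
    have : y₁ ^ 4 * y₁ = 1 := by rw [← pow_succ]; exact hy5
    exact (eq_inv_of_mul_eq_one_left this).symm
  calc y₁ ^ n * u₁ * y₁ = y₁ ^ n * (u₁ * y₁) := by group
    _ = y₁ ^ n * (y₁ ^ 4 * u₁) := by rw [h1, h2]
    _ = y₁ ^ (n + 4) * u₁ := by rw [pow_add]; group

/-- five good `s` for an element `t` with `s t` of the same shape. -/
theorem h50_five (u y₁ u₁ : G) (hy : orderOf y₁ = 5) (hinv : u₁ * y₁ * u₁⁻¹ = y₁⁻¹)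
    (hc : IsConj u u₁) :
    5 ≤ Nat.card {s : G // s ∈ {s : G | IsConj u s} ∧ s * y₁ ∈ {s : G | IsConj u s}} := by
  have hy5 : y₁ ^ 5 = 1 := by rw [← hy]; exact pow_orderOf_eq_one y₁
  let φ : Fin 5 → {s : G // s ∈ {s : G | IsConj u s} ∧ s * y₁ ∈ {s : G | IsConj u s}} :=
    fun i => ⟨y₁ ^ (i : ℕ) * u₁, h50_isConj_pow_mul u y₁ u₁ hy5 hinv hc i, by
      show IsConj u (y₁ ^ (i : ℕ) * u₁ * y₁)
      rw [h50_mul_y y₁ u₁ hy5 hinv]
      exact h50_isConj_pow_mul u y₁ u₁ hy5 hinv hc _⟩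
  have hφ : Function.Injective φ := by
    intro i j hij
    have h1 : y₁ ^ (i : ℕ) * u₁ = y₁ ^ (j : ℕ) * u₁ := congrArg Subtype.val hij
    have h2 : y₁ ^ (i : ℕ) = y₁ ^ (j : ℕ) := mul_right_cancel h1
    have h3 := (pow_inj_mod (x := y₁)).1 h2
    rw [hy, Nat.mod_eq_of_lt i.2, Nat.mod_eq_of_lt j.2] at h3
    exact Fin.ext h3
  have := Nat.card_le_card_of_injective φ hφ
  simpa using this

/-- ten good `s` in the conjugate case, for `t = y₁` and `t = y₁ * z₁`. -/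
theorem h50_ten (u y₁ u₁ z₁ : G) (hy : orderOf y₁ = 5) (hz : orderOf z₁ = 2)
    (hzy : Commute z₁ y₁) (hinv : u₁ * y₁ * u₁⁻¹ = y₁⁻¹)
    (hc : IsConj u u₁) (hc' : IsConj u (u₁ * z₁)) (t : G) (ht : t = y₁ ∨ t = y₁ * z₁) :
    10 ≤ Nat.card {s : G // s ∈ {s : G | IsConj u s} ∧ s * t ∈ {s : G | IsConj u s}} := by
  have hy5 : y₁ ^ 5 = 1 := by rw [← hy]; exact pow_orderOf_eq_one y₁
  have hz2 : z₁ ^ 2 = 1 := by rw [← hz]; exact pow_orderOf_eq_one z₁
  have hzz : z₁ * z₁ = 1 := by rw [← pow_two]; exact hz2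
  have hz1 : z₁ ≠ 1 := by
    intro h
    rw [h, orderOf_one] at hz
    norm_num at hz
  have hzy' : z₁ * y₁ = y₁ * z₁ := hzy
  have hinv' : (u₁ * z₁) * y₁ * (u₁ * z₁)⁻¹ = y₁⁻¹ := by
    calc (u₁ * z₁) * y₁ * (u₁ * z₁)⁻¹ = u₁ * (z₁ * y₁) * z₁⁻¹ * u₁⁻¹ := by group
      _ = u₁ * (y₁ * z₁) * z₁⁻¹ * u₁⁻¹ := by rw [hzy']
      _ = u₁ * y₁ * u₁⁻¹ := by group
      _ = y₁⁻¹ := hinv
  let v : Bool → G := fun b => if b then u₁ * z₁ else u₁
  have hvinv : ∀ b, v b * y₁ * (v b)⁻¹ = y₁⁻¹ := by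
    intro b; cases b
    · exact hinv
    · exact hinv'
  have hvc : ∀ b, IsConj u (v b) := by
    intro b; cases b
    · exact hc
    · exact hc'
  have hvz : ∀ b, v b * z₁ = v (!b) := by
    intro b; cases b
    · rfl
    · show u₁ * z₁ * z₁ = u₁
      rw [mul_assoc, hzz, mul_one]
  have hmem : ∀ (i : ℕ) (b : Bool), IsConj u (y₁ ^ i * v b * t) := by
    intro i b
    rcases ht with h | h
    · rw [h, h50_mul_y y₁ (v b) hy5 (hvinv b)]
      exact h50_isConj_pow_mul u y₁ (v b) hy5 (hvinv b) (hvc b) _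
    · rw [h]
      have : y₁ ^ i * v b * (y₁ * z₁) = y₁ ^ (i + 4) * v (!b) := by
        calc y₁ ^ i * v b * (y₁ * z₁) = (y₁ ^ i * v b * y₁) * z₁ := by group
          _ = y₁ ^ (i + 4) * v b * z₁ := by rw [h50_mul_y y₁ (v b) hy5 (hvinv b)]
          _ = y₁ ^ (i + 4) * (v b * z₁) := by group
          _ = y₁ ^ (i + 4) * v (!b) := by rw [hvz]
      rw [this]
      exact h50_isConj_pow_mul u y₁ (v (!b)) hy5 (hvinv _) (hvc _) _
  let φ : Fin 5 × Bool → {s : G // s ∈ {s : G | IsConj u s} ∧ s * t ∈ {s : G | IsConj u s}} :=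
    fun ib => ⟨y₁ ^ (ib.1 : ℕ) * v ib.2,
      h50_isConj_pow_mul u y₁ (v ib.2) hy5 (hvinv _) (hvc _) _, hmem _ _⟩
  -- key: z₁ is not of the form u₁⁻¹ * a * u₁ with a a power of y₁
  have hkey : ∀ i j : ℕ, y₁ ^ i * u₁ ≠ y₁ ^ j * (u₁ * z₁) := by
    intro i j h
    have h1 : z₁ = u₁⁻¹ * ((y₁ ^ j)⁻¹ * y₁ ^ i) * u₁ := by
      calc z₁ = u₁⁻¹ * (y₁ ^ j)⁻¹ * (y₁ ^ j * (u₁ * z₁)) := by group
        _ = u₁⁻¹ * (y₁ ^ j)⁻¹ * (y₁ ^ i * u₁) := by rw [h]
        _ = u₁⁻¹ * ((y₁ ^ j)⁻¹ * y₁ ^ i) * u₁ := by group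
    have h2 : ((y₁ ^ j)⁻¹ * y₁ ^ i) ^ 5 = 1 := by
      have hcomm : Commute ((y₁ ^ j)⁻¹) (y₁ ^ i) :=
        ((Commute.refl y₁).pow_pow j i).inv_left
      rw [hcomm.mul_pow, inv_pow, ← pow_mul, ← pow_mul, mul_comm j 5, mul_comm i 5, pow_mul,
        pow_mul, hy5, one_pow, one_pow, inv_one, one_mul]
    have h3 : z₁ ^ 5 = 1 := by
      rw [h1]
      have : (u₁⁻¹ * ((y₁ ^ j)⁻¹ * y₁ ^ i) * u₁) ^ 5 = u₁⁻¹ * ((y₁ ^ j)⁻¹ * y₁ ^ i) ^ 5 * u₁ := by
        have := conj_pow (a := u₁⁻¹) (b := ((y₁ ^ j)⁻¹ * y₁ ^ i)) (i := 5)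
        simpa using this
      rw [this, h2]
      group
    apply hz1
    calc z₁ = z₁ ^ 5 * (z₁ ^ 2)⁻¹ * (z₁ ^ 2)⁻¹ := by group
      _ = 1 := by rw [h3, hz2]; group
  have hφ : Function.Injective φ := by
    rintro ⟨i, b⟩ ⟨j, b'⟩ hij
    have h1 : y₁ ^ (i : ℕ) * v b = y₁ ^ (j : ℕ) * v b' := congrArg Subtype.val hij
    have hbb : b = b' := by
      cases b <;> cases b'
      · rfl
      · exact absurd h1 (hkey _ _)
      · exact absurd h1.symm (hkey _ _)
      · rfl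
    subst hbb
    have h2 : y₁ ^ (i : ℕ) = y₁ ^ (j : ℕ) := mul_right_cancel h1
    have h3 := (pow_inj_mod (x := y₁)).1 h2
    rw [hy, Nat.mod_eq_of_lt i.2, Nat.mod_eq_of_lt j.2] at h3
    have : i = j := Fin.ext h3
    rw [this]
  have := Nat.card_le_card_of_injective φ hφ
  simpa using this

/-- Sylow 5-subgroups have order 5. -/
theorem h50_card_sylow_five (hord : Nat.card G = 7920) (P : Sylow 5 G) :
    Nat.card (P : Subgroup G) = 5 := by
  have : Fact (Nat.Prime 5) := ⟨by norm_num⟩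
  obtain ⟨k, hk⟩ := (IsPGroup.iff_card (p := 5) (G := (P : Subgroup G))).1 P.isPGroup'
  have hdvd : Nat.card (P : Subgroup G) ∣ Nat.card G := Subgroup.card_subgroup_dvd_card _
  have h5P : 5 ∣ Nat.card (P : Subgroup G) := P.dvd_card_of_dvd_card (by rw [hord]; norm_num)
  rcases k with _ | _ | k
  · rw [hk] at h5P
    norm_num at h5P
  · simpa using hk
  · exfalso
    have h25 : 25 ∣ Nat.card G := by
      refine dvd_trans ?_ hdvd
      rw [hk]
      exact ⟨5 ^ k, by ring⟩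
    rw [hord] at h25
    norm_num at h25

/-- the Sylow 5-subgroup generated by an element of order 5. -/
theorem h50_exists_sylow (hord : Nat.card G = 7920) (y₁ : G) (hy : orderOf y₁ = 5) :
    ∃ P : Sylow 5 G, (P : Subgroup G) = Subgroup.zpowers y₁ := by
  have : Fact (Nat.Prime 5) := ⟨by norm_num⟩
  have hcard : Nat.card (Subgroup.zpowers y₁) = 5 := by rw [Nat.card_zpowers, hy]
  have hp : IsPGroup 5 (Subgroup.zpowers y₁) := IsPGroup.of_card (n := 1) (by rw [hcard]; norm_num)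
  obtain ⟨P, hP⟩ := hp.exists_le_sylow
  refine ⟨P, ?_⟩
  symm
  apply Subgroup.eq_of_le_of_card_ge hP
  rw [hcard, h50_card_sylow_five hord P]

/-- all elements of order 5 are conjugate to powers of `y`. -/
theorem h50_exists_conj (hord : Nat.card G = 7920) (y y' : G) (hy : orderOf y = 5)
    (hy' : orderOf y' = 5) : ∃ (g : G) (k : ℕ), y' = g * y ^ k * g⁻¹ := by
  have : Fact (Nat.Prime 5) := ⟨by norm_num⟩
  obtain ⟨P, hP⟩ := h50_exists_sylow hord y hy
  obtain ⟨P', hP'⟩ := h50_exists_sylow hord y' hy'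
  obtain ⟨g, hg⟩ := MulAction.exists_smul_eq G P P'
  have h1 : y' ∈ (P' : Subgroup G) := by rw [hP']; exact Subgroup.mem_zpowers y'
  rw [← hg, Sylow.coe_subgroup_smul, Subgroup.mem_smul_pointwise_iff_exists] at h1
  obtain ⟨x, hx, hxy⟩ := h1
  rw [hP] at hx
  have hx' : x ∈ Submonoid.powers y := mem_powers_iff_mem_zpowers.2 hx
  obtain ⟨k, rfl⟩ := (Submonoid.mem_powers_iff x y).1 hx'
  refine ⟨g, k, ?_⟩
  rw [← hxy, MulAut.smul_def, MulAut.conj_apply]

/-- conjugating the inverting relation. -/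
theorem h50_conj_inv (y v g : G) (k : ℕ) (hinv : v * y * v⁻¹ = y⁻¹) :
    (g * v * g⁻¹) * (g * y ^ k * g⁻¹) * (g * v * g⁻¹)⁻¹ = (g * y ^ k * g⁻¹)⁻¹ := by
  have h1 : v * y ^ k * v⁻¹ = (y ^ k)⁻¹ := by rw [← conj_pow, hinv, inv_pow]
  calc (g * v * g⁻¹) * (g * y ^ k * g⁻¹) * (g * v * g⁻¹)⁻¹ = g * (v * y ^ k * v⁻¹) * g⁻¹ := by group
    _ = g * (y ^ k)⁻¹ * g⁻¹ := by rw [h1]
    _ = (g * y ^ k * g⁻¹)⁻¹ := by group

/-- in Case II an involution commuting with `y₁` (of order 5) is unique. -/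
theorem h50_unique_inv (F : Facts G) (y₁ z₁ u₁ t : G) (hy : orderOf y₁ = 5) (hz : orderOf z₁ = 2)
    (hzy : Commute z₁ y₁) (hinv : u₁ * y₁ * u₁⁻¹ = y₁⁻¹) (ht : orderOf t = 2)
    (hty : Commute t y₁) : t = z₁ := by
  have : Fact (Nat.Prime 5) := ⟨by norm_num⟩
  obtain ⟨P, hP⟩ := h50_exists_sylow F.card y₁ hy
  have hN := F.np P
  have hy5 : y₁ ^ 5 = 1 := by rw [← hy]; exact pow_orderOf_eq_one y₁
  have hz2 : z₁ ^ 2 = 1 := by rw [← hz]; exact pow_orderOf_eq_one z₁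
  have ht2 : t ^ 2 = 1 := by rw [← ht]; exact pow_orderOf_eq_one t
  have ht1 : t ≠ 1 := by
    intro h
    rw [h, orderOf_one] at ht
    norm_num at ht
  -- C₁ ≤ N
  have hCN : centralizer ({y₁} : Set G) ≤ normalizer ((P : Subgroup G) : Set G) := by
    intro c hc
    have hcy : Commute c y₁ := by
      have := (Subgroup.mem_centralizer_iff.1 hc) y₁ rfl
      exact this.symm
    apply Subgroup.mem_normalizer_fintype
    intro n hn
    have hn' : n ∈ Subgroup.zpowers y₁ := by rw [← hP]; exact hn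
    obtain ⟨k, rfl⟩ := Subgroup.mem_zpowers_iff.1 hn'
    have : c * y₁ ^ k * c⁻¹ = y₁ ^ k := by
      have h1 : c * y₁ ^ k = y₁ ^ k * c := (hcy.zpow_right k)
      rw [h1, mul_inv_cancel_right]
    rw [this]
    exact hn
  have huN : u₁ ∈ normalizer ((P : Subgroup G) : Set G) := by
    apply Subgroup.mem_normalizer_fintype
    intro n hn
    have hn' : n ∈ Subgroup.zpowers y₁ := by rw [← hP]; exact hn
    obtain ⟨k, rfl⟩ := Subgroup.mem_zpowers_iff.1 hn'
    have : u₁ * y₁ ^ k * u₁⁻¹ = (y₁⁻¹) ^ k := by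
      rw [← conj_zpow, hinv]
    rw [this]
    show (y₁⁻¹) ^ k ∈ (P : Subgroup G)
    rw [hP]
    exact Subgroup.zpow_mem _ (Subgroup.inv_mem _ (Subgroup.mem_zpowers y₁)) k
  have huC : u₁ ∉ centralizer ({y₁} : Set G) := by
    intro hc
    have h1 : y₁ * u₁ = u₁ * y₁ := (Subgroup.mem_centralizer_iff.1 hc) y₁ rfl
    have h2 : y₁⁻¹ = y₁ := by
      rw [← hinv, ← h1, mul_inv_cancel_right]
    have h3 : y₁ ^ 2 = 1 := by
      rw [pow_two]
      nth_rewrite 1 [← h2]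
      exact inv_mul_cancel y₁
    have := orderOf_dvd_of_pow_eq_one h3
    rw [hy] at this
    norm_num at this
  have hCdvd : Nat.card (centralizer ({y₁} : Set G)) ∣ 20 := by
    rw [← hN]; exact Subgroup.card_dvd_of_le hCN
  have hCne : Nat.card (centralizer ({y₁} : Set G)) ≠ 20 := by
    intro h
    have := Subgroup.eq_of_le_of_card_ge hCN (by rw [h, hN])
    apply huC
    rw [this]
    exact huN
  have ho : orderOf (y₁ * z₁) = 10 := by
    have := hzy.symm.orderOf_mul_eq_mul_orderOf_of_coprime (by rw [hy, hz]; norm_num)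
    rw [this, hy, hz]
  have hKC : Subgroup.zpowers (y₁ * z₁) ≤ centralizer ({y₁} : Set G) := by
    rw [Subgroup.zpowers_le]
    rw [Subgroup.mem_centralizer_iff]
    intro x hx
    rw [Set.mem_singleton_iff.1 hx]
    have h1 : z₁ * y₁ = y₁ * z₁ := hzy
    rw [mul_assoc, h1]
  have hKcard : Nat.card (Subgroup.zpowers (y₁ * z₁)) = 10 := by rw [Nat.card_zpowers, ho]
  have h10 : 10 ∣ Nat.card (centralizer ({y₁} : Set G)) := by
    rw [← hKcard]; exact Subgroup.card_dvd_of_le hKC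
  have hC10 : Nat.card (centralizer ({y₁} : Set G)) = 10 := by
    obtain ⟨a, ha⟩ := h10
    have hpos : 0 < Nat.card (centralizer ({y₁} : Set G)) := Nat.card_pos
    have hle : Nat.card (centralizer ({y₁} : Set G)) ≤ 20 := Nat.le_of_dvd (by norm_num) hCdvd
    omega
  have hKeq : Subgroup.zpowers (y₁ * z₁) = centralizer ({y₁} : Set G) :=
    Subgroup.eq_of_le_of_card_ge hKC (by rw [hKcard, hC10])
  have htC : t ∈ centralizer ({y₁} : Set G) := by
    rw [Subgroup.mem_centralizer_iff]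
    intro x hx
    rw [Set.mem_singleton_iff.1 hx]
    exact hty.symm
  rw [← hKeq] at htC
  have htp : t ∈ Submonoid.powers (y₁ * z₁) := mem_powers_iff_mem_zpowers.2 htC
  obtain ⟨j, hj⟩ := (Submonoid.mem_powers_iff t (y₁ * z₁)).1 htp
  have hj' : (y₁ * z₁) ^ (j % 10) = t := by
    rw [← ho, pow_mod_orderOf]; exact hj
  have h2j : (y₁ * z₁) ^ (2 * (j % 10)) = 1 := by
    rw [mul_comm, pow_mul, hj', ht2]
  have hdvd := orderOf_dvd_of_pow_eq_one h2j
  rw [ho] at hdvd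
  have hlt : j % 10 < 10 := Nat.mod_lt _ (by norm_num)
  have hj5 : j % 10 = 0 ∨ j % 10 = 5 := by omega
  rcases hj5 with h | h
  · rw [h, pow_zero] at hj'
    exact absurd hj'.symm ht1
  · rw [h] at hj'
    have hyz : Commute y₁ z₁ := hzy.symm
    rw [hyz.mul_pow, hy5, one_mul] at hj'
    rw [← hj']
    calc z₁ ^ 5 = z₁ * (z₁ ^ 2) ^ 2 := by group
      _ = z₁ := by rw [hz2]; group

theorem h50_ninety (F : Facts G) (y v : G) (hy : orderOf y = 5) (hinv : v * y * v⁻¹ = y⁻¹)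
    (he5 : Nat.card {y : G // orderOf y = 5} = 1584) : 90 ≤ cls v := by
  have key := h50_tf {s : G | IsConj v s} {g : G | orderOf g = 5} 5
    (by simp) (by
      intro y' hy'
      have hy'5 : orderOf y' = 5 := hy'
      obtain ⟨g, k, rfl⟩ := h50_exists_conj F.card y y' hy hy'5
      exact h50_five v (g * y ^ k * g⁻¹) (g * v * g⁻¹) hy'5 (h50_conj_inv y v g k hinv)
        (isConj_iff.2 ⟨g, rfl⟩))
  have h1 : Nat.card {s : G | IsConj v s} = cls v := rfl
  have h2 : Nat.card {g : G | orderOf g = 5} = 1584 := he5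
  rw [h1, h2] at key
  by_contra hlt
  push Not at hlt
  have : cls v ≤ 89 := by omega
  nlinarith

/-- (K16) Case IIa: class sizes of `u` and `w = u z`. -/
theorem caseIIa_classes (F : Facts G) (z y u : G) (hz : orderOf z = 2) (hy : orderOf y = 5)
    (hzy : Commute z y) (hu : orderOf u = 2) (huz : u ≠ z) (hcu : Commute u z)
    (hinv : u * y * u⁻¹ = y⁻¹)
    (he5 : Nat.card {y : G // orderOf y = 5} = 1584)
    (he10 : Nat.card {g : G // orderOf g = 10} = 1584) :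
    (¬ IsConj u (u * z) → 90 ≤ cls u ∧ 90 ≤ cls (u * z)) ∧ (IsConj u (u * z) → 179 ≤ cls u) := by
  have hzy' : z * y = y * z := hzy
  have hinvw : (u * z) * y * (u * z)⁻¹ = y⁻¹ := by
    calc (u * z) * y * (u * z)⁻¹ = u * (z * y) * z⁻¹ * u⁻¹ := by group
      _ = u * (y * z) * z⁻¹ * u⁻¹ := by rw [hzy']
      _ = u * y * u⁻¹ := by group
      _ = y⁻¹ := hinv
  refine ⟨fun _ => ⟨h50_ninety F y u hy hinv he5, h50_ninety F y (u * z) hy hinvw he5⟩, ?_⟩
  intro hconj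
  have hY1 : (1 : G) ∉ {g : G | orderOf g = 5 ∨ orderOf g = 10} := by simp
  have key := h50_tf {s : G | IsConj u s} {g : G | orderOf g = 5 ∨ orderOf g = 10} 10 hY1 (by
    intro y' hy'
    rcases hy' with hy'5 | hy'10
    · obtain ⟨g, k, rfl⟩ := h50_exists_conj F.card y y' hy hy'5
      have hz₁ : orderOf (g * z * g⁻¹) = 2 := by
        rw [← MulAut.conj_apply, MulEquiv.orderOf_eq]; exact hz
      have hzy₁ : Commute (g * z * g⁻¹) (g * y ^ k * g⁻¹) := by
        have h1 : z * y ^ k = y ^ k * z := (hzy.pow_right k)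
        show (g * z * g⁻¹) * (g * y ^ k * g⁻¹) = (g * y ^ k * g⁻¹) * (g * z * g⁻¹)
        calc (g * z * g⁻¹) * (g * y ^ k * g⁻¹) = g * (z * y ^ k) * g⁻¹ := by group
          _ = g * (y ^ k * z) * g⁻¹ := by rw [h1]
          _ = (g * y ^ k * g⁻¹) * (g * z * g⁻¹) := by group
      have hc' : IsConj u ((g * u * g⁻¹) * (g * z * g⁻¹)) := by
        refine hconj.trans ?_
        rw [isConj_iff]
        exact ⟨g, by group⟩
      exact h50_ten u (g * y ^ k * g⁻¹) (g * u * g⁻¹) (g * z * g⁻¹) hy'5 hz₁ hzy₁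
        (h50_conj_inv y u g k hinv) (isConj_iff.2 ⟨g, rfl⟩) hc' _ (Or.inl rfl)
    · -- order 10
      have hy6 : orderOf (y' ^ 6) = 5 := by
        rw [orderOf_pow, hy'10]; rfl
      have hy5' : orderOf (y' ^ 5) = 2 := by
        rw [orderOf_pow, hy'10]; rfl
      have hy10 : y' ^ 10 = 1 := by rw [← hy'10]; exact pow_orderOf_eq_one y'
      obtain ⟨g, k, hgk⟩ := h50_exists_conj F.card y (y' ^ 6) hy hy6
      have hz₁ : orderOf (g * z * g⁻¹) = 2 := by
        rw [← MulAut.conj_apply, MulEquiv.orderOf_eq]; exact hz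
      have hzy₁ : Commute (g * z * g⁻¹) (g * y ^ k * g⁻¹) := by
        have h1 : z * y ^ k = y ^ k * z := (hzy.pow_right k)
        show (g * z * g⁻¹) * (g * y ^ k * g⁻¹) = (g * y ^ k * g⁻¹) * (g * z * g⁻¹)
        calc (g * z * g⁻¹) * (g * y ^ k * g⁻¹) = g * (z * y ^ k) * g⁻¹ := by group
          _ = g * (y ^ k * z) * g⁻¹ := by rw [h1]
          _ = (g * y ^ k * g⁻¹) * (g * z * g⁻¹) := by group
      have hc' : IsConj u ((g * u * g⁻¹) * (g * z * g⁻¹)) := by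
        refine hconj.trans ?_
        rw [isConj_iff]
        exact ⟨g, by group⟩
      have hy6' : orderOf (g * y ^ k * g⁻¹) = 5 := by rw [← hgk]; exact hy6
      have hcomm : Commute (y' ^ 5) (g * y ^ k * g⁻¹) := by
        rw [← hgk]
        exact (Commute.refl y').pow_pow 5 6
      have huniq : y' ^ 5 = g * z * g⁻¹ :=
        h50_unique_inv F (g * y ^ k * g⁻¹) (g * z * g⁻¹) (g * u * g⁻¹) (y' ^ 5) hy6' hz₁ hzy₁
          (h50_conj_inv y u g k hinv) hy5' hcomm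
      have hy'eq : y' = (g * y ^ k * g⁻¹) * (g * z * g⁻¹) := by
        rw [← hgk, ← huniq, ← pow_add]
        calc y' = y' ^ 10 * y' := by rw [hy10, one_mul]
          _ = y' ^ (6 + 5) := by rw [← pow_succ]
      have := h50_ten u (g * y ^ k * g⁻¹) (g * u * g⁻¹) (g * z * g⁻¹) hy6' hz₁ hzy₁
        (h50_conj_inv y u g k hinv) (isConj_iff.2 ⟨g, rfl⟩) hc'
        ((g * y ^ k * g⁻¹) * (g * z * g⁻¹)) (Or.inr rfl)
      rw [← hy'eq] at this
      exact this)
  have h1 : Nat.card {s : G | IsConj u s} = cls u := rfl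
  have h2 : Nat.card {g : G | orderOf g = 5 ∨ orderOf g = 10} = 3168 := by
    have hunion : {g : G | orderOf g = 5 ∨ orderOf g = 10} =
        {g : G | orderOf g = 5} ∪ {g : G | orderOf g = 10} := by
      ext g; simp
    have hdisj : Disjoint {g : G | orderOf g = 5} {g : G | orderOf g = 10} := by
      rw [Set.disjoint_left]
      intro g h5 h10
      have h5' : orderOf g = 5 := h5
      have h10' : orderOf g = 10 := h10
      omega
    rw [hunion, Nat.card_coe_set_eq, Set.ncard_union_eq hdisj (Set.toFinite _) (Set.toFinite _),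
      ← Nat.card_coe_set_eq, ← Nat.card_coe_set_eq]
    have e5 : Nat.card {g : G | orderOf g = 5} = 1584 := he5
    have e10 : Nat.card {g : G | orderOf g = 10} = 1584 := he10
    rw [e5, e10]
  rw [h1, h2] at key
  by_contra hlt
  push Not at hlt
  have : cls u ≤ 178 := by omega
  nlinarith

end Cfsg.Agent.Helper50.M11LA

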