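import Mathlib
import Cfsg.Agent.Lib.Helper7.M11LADefs

/-!
# M11LA server (helper7, S0435): piece (K4a) `phi_count`
-/

set_option autoImplicit false
set_option linter.unusedSectionVars false
set_option linter.unusedVariables false

namespace Cfsg.Agent.Helper50.M11LA

open Subgroup Cfsg.Agent.Helper7.M11LA

variable {G : Type*} [Group G] [Finite G]

/-- a subgroup of a group of order `m` (`p ∣ m`, `p ^ 2 ∤ m`) that is a Sylow `p`-subgroup has order `p`. -/
theorem h50_card_sylow_prime {H : Type*} [Group H] [Finite H] (p : ℕ) [Fact p.Prime]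
    (hp : p ∣ Nat.card H) (hp2 : ¬ p ^ 2 ∣ Nat.card H) (P : Sylow p H) :
    Nat.card (P : Subgroup H) = p := by
  obtain ⟨k, hk⟩ := (IsPGroup.iff_card (p := p) (G := (P : Subgroup H))).1 P.isPGroup'
  have hdvd : Nat.card (P : Subgroup H) ∣ Nat.card H := Subgroup.card_subgroup_dvd_card _
  have hpP : p ∣ Nat.card (P : Subgroup H) := P.dvd_card_of_dvd_card hp
  have hp1 : 1 < p := (Fact.out : p.Prime).one_lt
  rcases k with _ | _ | k
  · rw [hk, pow_zero] at hpP
    have := Nat.le_of_dvd (by norm_num) hpP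
    omega
  · simpa using hk
  · exfalso
    apply hp2
    refine dvd_trans ?_ hdvd
    rw [hk]
    exact ⟨p ^ k, by ring⟩

/-- the incidence relation -/
def h50R (P' : Sylow 5 G) (Q : Sylow 11 G) : Prop :=
  (P' : Subgroup G) ≤ normalizer ((Q : Subgroup G) : Set G)

theorem h50R_smul (g : G) (P' : Sylow 5 G) (Q : Sylow 11 G) (h : h50R P' Q) :
    h50R (g • P') (g • Q) := by
  intro x hx
  rw [Sylow.coe_subgroup_smul, Subgroup.mem_smul_pointwise_iff_exists] at hx
  obtain ⟨a, ha, rfl⟩ := hx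
  have haN := h ha
  rw [MulAut.smul_def, MulAut.conj_apply]
  apply Subgroup.mem_normalizer_fintype
  intro n hn
  have hn' : n ∈ ((g • Q : Sylow 11 G) : Subgroup G) := hn
  rw [Sylow.coe_subgroup_smul, Subgroup.mem_smul_pointwise_iff_exists] at hn'
  obtain ⟨b, hb, rfl⟩ := hn'
  show _ ∈ ((g • Q : Sylow 11 G) : Subgroup G)
  rw [Sylow.coe_subgroup_smul, Subgroup.mem_smul_pointwise_iff_exists]
  refine ⟨a * b * a⁻¹, (Subgroup.mem_normalizer_iff.1 haN b).1 hb, ?_⟩
  rw [MulAut.smul_def, MulAut.conj_apply, MulAut.smul_def, MulAut.conj_apply]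
  group

theorem h50R_smul_iff (g : G) (P' : Sylow 5 G) (Q : Sylow 11 G) :
    h50R P' Q ↔ h50R (g • P') (g • Q) := by
  constructor
  · exact h50R_smul g P' Q
  · intro h
    have := h50R_smul g⁻¹ _ _ h
    rwa [inv_smul_smul, inv_smul_smul] at this

/-- `#Φ(P')` does not depend on `P'`. -/
theorem h50_phi_const (P P' : Sylow 5 G) :
    Nat.card {Q : Sylow 11 G // h50R P' Q} = Nat.card {Q : Sylow 11 G // h50R P Q} := by
  have : Fact (Nat.Prime 5) := ⟨by norm_num⟩
  obtain ⟨g, hg⟩ := MulAction.exists_smul_eq G P P'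
  symm
  refine Nat.card_congr (Equiv.subtypeEquiv (MulAction.toPerm g) ?_)
  intro Q
  rw [← hg]
  exact h50R_smul_iff g P Q

/-- Sylow 5-subgroups of `G` inside a subgroup `N` of order 55 correspond to the Sylow 5-subgroups of `N`. -/
theorem h50_card_sub_eq (hord : Nat.card G = 7920) (N : Subgroup G) (hN : Nat.card N = 55) :
    Nat.card {P' : Sylow 5 G // (P' : Subgroup G) ≤ N} = Nat.card (Sylow 5 N) := by
  have : Fact (Nat.Prime 5) := ⟨by norm_num⟩
  have hG5 : ∀ P' : Sylow 5 G, Nat.card (P' : Subgroup G) = 5 := fun P' =>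
    h50_card_sylow_prime 5 (by rw [hord]; norm_num) (by rw [hord]; norm_num) P'
  have hN5 : ∀ S : Sylow 5 N, Nat.card (S : Subgroup N) = 5 := fun S =>
    h50_card_sylow_prime 5 (by rw [hN]; norm_num) (by rw [hN]; norm_num) S
  let φ : {P' : Sylow 5 G // (P' : Subgroup G) ≤ N} → Sylow 5 N := fun P' => P'.1.subtype P'.2
  apply Nat.card_congr
  refine Equiv.ofBijective φ ⟨?_, ?_⟩
  · rintro ⟨P', hP'⟩ ⟨P'', hP''⟩ h
    have := Sylow.subtype_injective h
    exact Subtype.ext this
  · intro S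
    have hcardH : Nat.card ((S : Subgroup N).map N.subtype) = 5 := by
      rw [Subgroup.card_map_of_injective N.subtype_injective, hN5 S]
    have hp : IsPGroup 5 ((S : Subgroup N).map N.subtype) :=
      IsPGroup.of_card (n := 1) (by rw [hcardH]; norm_num)
    obtain ⟨P', hP'⟩ := hp.exists_le_sylow
    have heq : (S : Subgroup N).map N.subtype = (P' : Subgroup G) :=
      Subgroup.eq_of_le_of_card_ge hP' (by rw [hcardH, hG5 P'])
    have hle : (P' : Subgroup G) ≤ N := by
      rw [← heq]; exact Subgroup.map_subtype_le _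
    refine ⟨⟨P', hle⟩, ?_⟩
    apply Sylow.ext
    show (P' : Subgroup G).subgroupOf N = (S : Subgroup N)
    rw [← heq, Subgroup.subgroupOf, Subgroup.comap_map_eq_self_of_injective N.subtype_injective]

/-- a subgroup of order 55 with a normal subgroup `Q` of order 11 and `5 ∤ |C(Q)|` has 11 Sylow 5-subgroups. -/
theorem h50_card_sylow_five_N (Q : Sylow 11 G) (hNQ : Nat.card (normalizer ((Q : Subgroup G) : Set G)) = 55)
    (hCQ : Nat.card (centralizer ((Q : Subgroup G) : Set G)) = 11) (hQ11 : Nat.card (Q : Subgroup G) = 11) :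
    Nat.card (Sylow 5 (normalizer ((Q : Subgroup G) : Set G))) = 11 := by
  have : Fact (Nat.Prime 5) := ⟨by norm_num⟩
  set N := normalizer ((Q : Subgroup G) : Set G) with hNdef
  obtain ⟨S⟩ : Nonempty (Sylow 5 N) := inferInstance
  have hS5 : Nat.card (S : Subgroup N) = 5 :=
    h50_card_sylow_prime 5 (by rw [hNQ]; norm_num) (by rw [hNQ]; norm_num) S
  have hidx : (S : Subgroup N).index = 11 := by
    have := (S : Subgroup N).card_mul_index
    rw [hS5, hNQ] at this
    omega
  have hdvd : Nat.card (Sylow 5 N) ∣ 11 := by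
    rw [← hidx]; exact S.card_dvd_index
  have h11 : Nat.Prime 11 := by norm_num
  rcases (Nat.dvd_prime h11).1 hdvd with h1 | h1
  · exfalso
    -- S is normal in N
    have hnorm : (S : Subgroup N).Normal := by
      have h2 := S.card_eq_index_normalizer
      rw [h1] at h2
      have h3 : normalizer ((S : Subgroup N) : Set N) = ⊤ := Subgroup.index_eq_one.1 h2.symm
      exact Subgroup.normalizer_eq_top_iff.1 h3
    -- H = image of S in G
    set H := (S : Subgroup N).map N.subtype with hHdef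
    have hHcard : Nat.card H = 5 := by
      rw [hHdef, Subgroup.card_map_of_injective N.subtype_injective, hS5]
    have hHN : H ≤ N := Subgroup.map_subtype_le _
    have hHnorm : ∀ n ∈ N, ∀ h ∈ H, n * h * n⁻¹ ∈ H := by
      intro n hn h hh
      obtain ⟨s, hs, rfl⟩ := hh
      refine ⟨⟨n, hn⟩ * s * ⟨n, hn⟩⁻¹, hnorm.conj_mem s hs ⟨n, hn⟩, ?_⟩
      simp
    have hQN : (Q : Subgroup G) ≤ N := Subgroup.le_normalizer
    have hinf : H ⊓ (Q : Subgroup G) = ⊥ := by
      apply (Subgroup.disjoint_of_coprime_natCard ?_).eq_bot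
      rw [hHcard, hQ11]; norm_num
    have hHC : H ≤ centralizer ((Q : Subgroup G) : Set G) := by
      intro h hh
      rw [Subgroup.mem_centralizer_iff]
      intro q hq
      have hq' : q ∈ (Q : Subgroup G) := hq
      have hc1 : q * h * q⁻¹ * h⁻¹ ∈ H := H.mul_mem (hHnorm q (hQN hq') h hh) (H.inv_mem hh)
      have hc2 : q * h * q⁻¹ * h⁻¹ ∈ (Q : Subgroup G) := by
        have h3 : h * q⁻¹ * h⁻¹ ∈ (Q : Subgroup G) :=
          (Subgroup.mem_normalizer_iff.1 (hHN hh) q⁻¹).1 (Subgroup.inv_mem _ hq')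
        have : q * h * q⁻¹ * h⁻¹ = q * (h * q⁻¹ * h⁻¹) := by group
        rw [this]
        exact Subgroup.mul_mem _ hq' h3
      have hc : q * h * q⁻¹ * h⁻¹ ∈ H ⊓ (Q : Subgroup G) := ⟨hc1, hc2⟩
      rw [hinf, Subgroup.mem_bot] at hc
      calc q * h = (q * h * q⁻¹ * h⁻¹) * h * q := by group
        _ = h * q := by rw [hc, one_mul]
    have := Subgroup.card_dvd_of_le hHC
    rw [hHcard, hCQ] at this
    norm_num at this
  · exact h1

/-- two distinct Sylow 11-subgroups: the intersection of their normalizers has order at most 5. -/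
theorem h50_card_inf_le (hord : Nat.card G = 7920)
    (hN : ∀ Q : Sylow 11 G, Nat.card (normalizer ((Q : Subgroup G) : Set G)) = 55)
    (Q₀ Q' : Sylow 11 G) (hne : Q' ≠ Q₀) :
    Nat.card (normalizer ((Q₀ : Subgroup G) : Set G) ⊓ normalizer ((Q' : Subgroup G) : Set G) :
      Subgroup G) ≤ 5 := by
  have : Fact (Nat.Prime 11) := ⟨by norm_num⟩
  have hQ11 : ∀ Q : Sylow 11 G, Nat.card (Q : Subgroup G) = 11 := fun Q =>
    h50_card_sylow_prime 11 (by rw [hord]; norm_num) (by rw [hord]; norm_num) Q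
  set I : Subgroup G :=
    normalizer ((Q₀ : Subgroup G) : Set G) ⊓ normalizer ((Q' : Subgroup G) : Set G) with hI
  have hdvd : Nat.card I ∣ 55 := by
    rw [← hN Q₀]; exact Subgroup.card_dvd_of_le inf_le_left
  have h11 : ¬ 11 ∣ Nat.card I := by
    intro h
    obtain ⟨x, hx⟩ := exists_prime_orderOf_dvd_card' (G := I) 11 h
    have hxG : orderOf (x : G) = 11 := by rw [Subgroup.orderOf_coe]; exact hx
    have hp : IsPGroup 11 (Subgroup.zpowers (x : G)) :=
      IsPGroup.of_card (n := 1) (by rw [Nat.card_zpowers, hxG]; norm_num)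
    have hmem : ∀ Q : Sylow 11 G, (x : G) ∈ normalizer ((Q : Subgroup G) : Set G) →
        (Q : Subgroup G) = Subgroup.zpowers (x : G) := by
      intro Q hxQ
      have h1 := hp.inf_normalizer_sylow Q
      have h2 : (x : G) ∈ Subgroup.zpowers (x : G) ⊓ normalizer ((Q : Subgroup G) : Set G) :=
        ⟨Subgroup.mem_zpowers _, hxQ⟩
      have h2' : (x : G) ∈ (Subgroup.zpowers (x : G) ⊓ (Q : Subgroup G) : Subgroup G) := by
        rw [← h1]; exact h2
      have h3 : Subgroup.zpowers (x : G) ≤ (Q : Subgroup G) := by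
        rw [Subgroup.zpowers_le]; exact h2'.2
      symm
      exact Subgroup.eq_of_le_of_card_ge h3 (by rw [hQ11 Q, Nat.card_zpowers, hxG])
    have e0 := hmem Q₀ (x.2.1)
    have e1 := hmem Q' (x.2.2)
    exact hne (Sylow.ext (e1.trans e0.symm))
  have hpos : 0 < Nat.card I := Nat.card_pos
  have hle : Nat.card I ≤ 55 := Nat.le_of_dvd (by norm_num) hdvd
  by_contra hgt
  push Not at hgt
  have hdiv : Nat.card I ∈ Nat.divisors 55 := Nat.mem_divisors.2 ⟨hdvd, by norm_num⟩
  have hd : Nat.divisors 55 = {1, 5, 11, 55} := by decide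
  rw [hd] at hdiv
  simp only [Finset.mem_insert, Finset.mem_singleton] at hdiv
  rcases hdiv with h | h | h | h
  · omega
  · omega
  · exact h11 (by rw [h])
  · exact h11 (by rw [h]; norm_num)

/-- (K4a) -/
theorem phi_count (hord : Nat.card G = 7920)
    (hN : ∀ Q : Sylow 11 G, Nat.card (normalizer ((Q : Subgroup G) : Set G)) = 55)
    (hC : ∀ Q : Sylow 11 G, Nat.card (centralizer ((Q : Subgroup G) : Set G)) = 11)
    (P : Sylow 5 G) :
    Nat.card (Sylow 5 G) * Nat.card {Q : Sylow 11 G //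
        (P : Subgroup G) ≤ normalizer ((Q : Subgroup G) : Set G)} = 1584 ∧
      Nat.card {Q : Sylow 11 G // (P : Subgroup G) ≤ normalizer ((Q : Subgroup G) : Set G)} ≤ 14 := by
  classical
  have : Fact (Nat.Prime 5) := ⟨by norm_num⟩
  have : Fact (Nat.Prime 11) := ⟨by norm_num⟩
  have : Fintype (Sylow 5 G) := Fintype.ofFinite _
  have : Fintype (Sylow 11 G) := Fintype.ofFinite _
  have hQ11 : ∀ Q : Sylow 11 G, Nat.card (Q : Subgroup G) = 11 := fun Q =>
    h50_card_sylow_prime 11 (by rw [hord]; norm_num) (by rw [hord]; norm_num) Q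
  have hP5 : ∀ P' : Sylow 5 G, Nat.card (P' : Subgroup G) = 5 := fun P' =>
    h50_card_sylow_prime 5 (by rw [hord]; norm_num) (by rw [hord]; norm_num) P'
  set f := Nat.card {Q : Sylow 11 G // h50R P Q} with hf
  show Nat.card (Sylow 5 G) * f = 1584 ∧ f ≤ 14
  -- n₁₁ = 144
  have hn11 : Fintype.card (Sylow 11 G) = 144 := by
    obtain ⟨Q⟩ : Nonempty (Sylow 11 G) := inferInstance
    rw [← Nat.card_eq_fintype_card, Q.card_eq_index_normalizer]
    have := (normalizer ((Q : Subgroup G) : Set G)).card_mul_index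
    rw [hN Q, hord] at this
    show (normalizer ((Q : Subgroup G) : Set G)).index = 144
    omega
  -- column counts
  have hcol : ∀ Q : Sylow 11 G, (Finset.univ.filter (fun P' : Sylow 5 G => h50R P' Q)).card = 11 := by
    intro Q
    have h1 : (Finset.univ.filter (fun P' : Sylow 5 G => h50R P' Q)).card =
        Nat.card {P' : Sylow 5 G // h50R P' Q} := by
      rw [Nat.card_eq_fintype_card, Fintype.card_subtype]
    rw [h1]
    have h2 := h50_card_sub_eq hord (normalizer ((Q : Subgroup G) : Set G)) (hN Q)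
    have h3 := h50_card_sylow_five_N Q (hN Q) (hC Q) (hQ11 Q)
    rw [← h3, ← h2]
    rfl
  have hrow : ∀ P' : Sylow 5 G, (Finset.univ.filter (fun Q : Sylow 11 G => h50R P' Q)).card = f := by
    intro P'
    have h1 : (Finset.univ.filter (fun Q : Sylow 11 G => h50R P' Q)).card =
        Nat.card {Q : Sylow 11 G // h50R P' Q} := by
      rw [Nat.card_eq_fintype_card, Fintype.card_subtype]
    rw [h1, h50_phi_const P P']
  have hdc := Finset.sum_card_bipartiteAbove_eq_sum_card_bipartiteBelow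
    (s := (Finset.univ : Finset (Sylow 5 G))) (t := (Finset.univ : Finset (Sylow 11 G)))
    (fun P' Q => h50R P' Q)
  have hL : ∀ P' ∈ (Finset.univ : Finset (Sylow 5 G)),
      ((Finset.univ : Finset (Sylow 11 G)).bipartiteAbove (fun P' Q => h50R P' Q) P').card = f := by
    intro P' _
    exact hrow P'
  have hRt : ∀ Q ∈ (Finset.univ : Finset (Sylow 11 G)),
      ((Finset.univ : Finset (Sylow 5 G)).bipartiteBelow (fun P' Q => h50R P' Q) Q).card = 11 := by
    intro Q _
    exact hcol Q
  rw [Finset.sum_congr rfl hL, Finset.sum_congr rfl hRt, Finset.sum_const, Finset.sum_const,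
    Finset.card_univ, Finset.card_univ, hn11, smul_eq_mul, smul_eq_mul] at hdc
  have hprod : Nat.card (Sylow 5 G) * f = 1584 := by
    rw [Nat.card_eq_fintype_card, hdc]
  refine ⟨hprod, ?_⟩
  -- the bound
  have hfpos : 0 < f := by
    rcases Nat.eq_zero_or_pos f with h | h
    · rw [h, mul_zero] at hprod; omega
    · exact h
  have hne : Nonempty {Q : Sylow 11 G // h50R P Q} := by
    by_contra hempty
    rw [not_nonempty_iff] at hempty
    have : f = 0 := by rw [hf]; exact Nat.card_of_isEmpty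
    omega
  obtain ⟨⟨Q₀, hQ₀⟩⟩ := hne
  set X : Finset (Sylow 5 G) := Finset.univ.filter (fun P' : Sylow 5 G => h50R P' Q₀) with hX
  have hXcard : X.card = 11 := hcol Q₀
  let Φ : Sylow 5 G → Finset (Sylow 11 G) := fun P' =>
    (Finset.univ.filter (fun Q : Sylow 11 G => h50R P' Q)).erase Q₀
  have hΦcard : ∀ P' ∈ X, (Φ P').card = f - 1 := by
    intro P' hP'
    have hmem : Q₀ ∈ Finset.univ.filter (fun Q : Sylow 11 G => h50R P' Q) := by
      simp only [Finset.mem_filter, Finset.mem_univ, true_and]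
      exact (Finset.mem_filter.1 hP').2
    rw [Finset.card_erase_of_mem hmem, hrow P']
  have hdisj : ∀ P' ∈ X, ∀ P'' ∈ X, P' ≠ P'' → Disjoint (Φ P') (Φ P'') := by
    intro P' hP' P'' hP'' hne
    rw [Finset.disjoint_left]
    intro Q' h1 h2
    apply hne
    have hQ'ne : Q' ≠ Q₀ := (Finset.mem_erase.1 h1).1
    have hR1 : h50R P' Q' := (Finset.mem_filter.1 (Finset.mem_erase.1 h1).2).2
    have hR2 : h50R P'' Q' := (Finset.mem_filter.1 (Finset.mem_erase.1 h2).2).2
    have hR1' : h50R P' Q₀ := (Finset.mem_filter.1 hP').2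
    have hR2' : h50R P'' Q₀ := (Finset.mem_filter.1 hP'').2
    have hI := h50_card_inf_le hord hN Q₀ Q' hQ'ne
    have e1 : (P' : Subgroup G) = normalizer ((Q₀ : Subgroup G) : Set G) ⊓
        normalizer ((Q' : Subgroup G) : Set G) :=
      Subgroup.eq_of_le_of_card_ge (le_inf hR1' hR1) (by rw [hP5 P']; exact hI)
    have e2 : (P'' : Subgroup G) = normalizer ((Q₀ : Subgroup G) : Set G) ⊓
        normalizer ((Q' : Subgroup G) : Set G) :=
      Subgroup.eq_of_le_of_card_ge (le_inf hR2' hR2) (by rw [hP5 P'']; exact hI)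
    exact Sylow.ext (e1.trans e2.symm)
  have hunion : (X.biUnion Φ).card = 11 * (f - 1) := by
    rw [Finset.card_biUnion hdisj, Finset.sum_congr rfl hΦcard, Finset.sum_const, hXcard, smul_eq_mul]
  have hsub : X.biUnion Φ ⊆ (Finset.univ : Finset (Sylow 11 G)).erase Q₀ := by
    intro Q' hQ'
    obtain ⟨P', _, hQ'P'⟩ := Finset.mem_biUnion.1 hQ'
    exact Finset.mem_erase.2 ⟨(Finset.mem_erase.1 hQ'P').1, Finset.mem_univ _⟩
  have hle := Finset.card_le_card hsub
  rw [hunion, Finset.card_erase_of_mem (Finset.mem_univ _), Finset.card_univ, hn11] at hle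
  omega

end Cfsg.Agent.Helper50.M11LA

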