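import Mathlib

set_option autoImplicit false
set_option linter.unusedSectionVars false
set_option linter.unusedVariables false

/-! (D) of helper39's MH4 server (S4221): Brauer–Wielandt for a four-group acting on a group of odd
order, proved without solvability: unique square roots in `H` give bijections
`N ≃ C_N(φ) × I_φ(N)` and `I_x(H) ≃ I_x(C_H(y)) × I_y(C_H(xy))`. -/

namespace Cfsg.Agent.Helper50.MH4

variable {Γ : Type*} [Group Γ]

/-- in a finite subgroup of odd order, `h ↦ h ^ m` is a square root for a suitable `m` -/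
lemma h50_exists_rt (H : Subgroup Γ) [Finite H] (hH : Odd (Nat.card H)) :
    ∃ m : ℕ, ∀ h ∈ H, h ^ (2 * m) = h := by
  obtain ⟨k, hk⟩ := hH
  refine ⟨k + 1, fun h hh => ?_⟩
  have h1 : h ^ Nat.card H = 1 := by
    have h2 : (⟨h, hh⟩ : H) ^ Nat.card H = 1 := pow_card_eq_one'
    have h3 : (((⟨h, hh⟩ : H) ^ Nat.card H : H) : Γ) = ((1 : H) : Γ) := by rw [h2]
    rw [SubmonoidClass.coe_pow, OneMemClass.coe_one] at h3
    exact h3
  have h4 : 2 * (k + 1) = Nat.card H + 1 := by omega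
  rw [h4, pow_succ, h1, one_mul]

section rt
variable {m : ℕ} {N : Subgroup Γ} (hm : ∀ h ∈ N, h ^ (2 * m) = h)
include hm

lemma h50_rt_mul_self {h : Γ} (hh : h ∈ N) : h ^ m * h ^ m = h := by
  rw [← pow_add, ← two_mul]; exact hm h hh

lemma h50_rt_sq {s : Γ} (hs : s ∈ N) : (s * s) ^ m = s := by
  rw [← pow_two, ← pow_mul]; exact hm s hs

end rt

/-- the factorisation `N = C_N(φ) · I_φ(N)` of a group of odd order under an involution -/
lemma h50_card_inverted {m : ℕ} (N : Subgroup Γ) [Finite N] (hm : ∀ h ∈ N, h ^ (2 * m) = h)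
    (φ : Γ) (hφ : φ * φ = 1) (hN : ∀ h ∈ N, φ * h * φ⁻¹ ∈ N) :
    Nat.card N = Nat.card ↥(N ⊓ Subgroup.centralizer {φ}) *
      Nat.card {i : Γ // i ∈ N ∧ φ * i * φ⁻¹ = i⁻¹} := by
  classical
  -- the conjugation automorphism
  obtain ⟨a, ha⟩ : ∃ a : MulAut Γ, a = MulAut.conj φ := ⟨_, rfl⟩
  have haa : ∀ h, a (a h) = h := by
    intro h
    rw [ha, ← MulAut.mul_apply, ← map_mul, hφ, map_one, MulAut.one_apply]
  have haN : ∀ h ∈ N, a h ∈ N := by
    intro h hh; rw [ha, MulAut.conj_apply]; exact hN h hh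
  have hcent : ∀ c : Γ, c ∈ Subgroup.centralizer {φ} ↔ a c = c := by
    intro c
    rw [Subgroup.mem_centralizer_singleton_iff, ha, MulAut.conj_apply]
    constructor
    · intro h; rw [← h, mul_inv_cancel_right]
    · intro h
      have h1 : φ * c * φ⁻¹ * φ = c * φ := by rw [h]
      rw [inv_mul_cancel_right] at h1
      exact h1.symm
  -- f h = sqrt ((a h)⁻¹ h)
  have hg : ∀ h ∈ N, (a h)⁻¹ * h ∈ N := fun h hh => N.mul_mem (N.inv_mem (haN h hh)) hh
  have hag : ∀ h, a ((a h)⁻¹ * h) = ((a h)⁻¹ * h)⁻¹ := by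
    intro h
    rw [map_mul, map_inv, haa, mul_inv_rev, inv_inv]
  have hfN : ∀ h ∈ N, ((a h)⁻¹ * h) ^ m ∈ N := fun h hh => N.pow_mem (hg h hh) m
  have hfa : ∀ h, a (((a h)⁻¹ * h) ^ m) = (((a h)⁻¹ * h) ^ m)⁻¹ := by
    intro h
    rw [map_pow, hag, inv_pow]
  have hff : ∀ h ∈ N, ((a h)⁻¹ * h) ^ m * ((a h)⁻¹ * h) ^ m = (a h)⁻¹ * h :=
    fun h hh => h50_rt_mul_self hm (hg h hh)
  have hc : ∀ h ∈ N, a (h * (((a h)⁻¹ * h) ^ m)⁻¹) = h * (((a h)⁻¹ * h) ^ m)⁻¹ := by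
    intro h hh
    rw [map_mul, map_inv, hfa, inv_inv]
    have h1 := hff h hh
    -- a h * f = h * f⁻¹  ⟸  f * f = (a h)⁻¹ * h
    have h2 : a h * (((a h)⁻¹ * h) ^ m * ((a h)⁻¹ * h) ^ m) = h := by
      rw [h1, mul_inv_cancel_left]
    calc a h * ((a h)⁻¹ * h) ^ m
        = a h * (((a h)⁻¹ * h) ^ m * ((a h)⁻¹ * h) ^ m) * (((a h)⁻¹ * h) ^ m)⁻¹ := by
          rw [← mul_assoc, mul_inv_cancel_right]
      _ = h * (((a h)⁻¹ * h) ^ m)⁻¹ := by rw [h2]
  have hfci : ∀ c i : Γ, a c = c → i ∈ N → a i = i⁻¹ → ((a (c * i))⁻¹ * (c * i)) ^ m = i := by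
    intro c i hc' hi hai
    have h1 : (a (c * i))⁻¹ * (c * i) = i * i := by
      rw [map_mul, hc', hai, mul_inv_rev, inv_inv, mul_assoc, inv_mul_cancel_left]
    rw [h1]
    exact h50_rt_sq hm hi
  have hconj : ∀ i : Γ, φ * i * φ⁻¹ = a i := by
    intro i; rw [ha, MulAut.conj_apply]
  let e : N ≃ ↥(N ⊓ Subgroup.centralizer {φ}) × {i : Γ // i ∈ N ∧ φ * i * φ⁻¹ = i⁻¹} :=
    { toFun := fun h =>
        (⟨(h : Γ) * (((a h)⁻¹ * h) ^ m)⁻¹,
          Subgroup.mem_inf.2 ⟨N.mul_mem h.2 (N.inv_mem (hfN h h.2)), (hcent _).2 (hc h h.2)⟩⟩,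
         ⟨((a h)⁻¹ * h) ^ m, hfN h h.2, by rw [hconj]; exact hfa h⟩)
      invFun := fun p => ⟨(p.1 : Γ) * (p.2 : Γ),
        N.mul_mem (Subgroup.mem_inf.1 p.1.2).1 p.2.2.1⟩
      left_inv := by
        intro h
        apply Subtype.ext
        show (h : Γ) * (((a h)⁻¹ * h) ^ m)⁻¹ * ((a h)⁻¹ * h) ^ m = h
        rw [inv_mul_cancel_right]
      right_inv := by
        rintro ⟨⟨c, hcN⟩, ⟨i, hiN, hii⟩⟩
        have hcc : a c = c := (hcent c).1 (Subgroup.mem_inf.1 hcN).2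
        have hai : a i = i⁻¹ := by rw [← hconj]; exact hii
        have h1 := hfci c i hcc hiN hai
        apply Prod.ext
        · apply Subtype.ext
          show c * i * (((a (c * i))⁻¹ * (c * i)) ^ m)⁻¹ = c
          rw [h1, mul_inv_cancel_right]
        · apply Subtype.ext
          show ((a (c * i))⁻¹ * (c * i)) ^ m = i
          exact h1 }
  rw [Nat.card_congr e, Nat.card_prod]

/-- `c = τ⁻¹ i`, `τ = sqrt (i (b i)⁻¹)` -/
def h50_cOf (b : MulAut Γ) (m : ℕ) (i : Γ) : Γ := ((i * (b i)⁻¹) ^ m)⁻¹ * i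

/-- `σ = sqrt (u⁻¹ i u⁻¹)`, `u = sqrt c` -/
def h50_sOf (m : ℕ) (i c : Γ) : Γ := ((c ^ m)⁻¹ * i * (c ^ m)⁻¹) ^ m

/-- `i = u σ² u`, `u = sqrt c` -/
def h50_iOf (m : ℕ) (c σ : Γ) : Γ := c ^ m * (σ * σ) * c ^ m

/-- (D) Brauer–Wielandt for a four-group acting on a group of odd order -/
theorem bw_klein {Γ : Type*} [Group Γ] (H : Subgroup Γ) [Finite H] (hH : Odd (Nat.card H))
    (x y : Γ) (hx : x * x = 1) (hy : y * y = 1) (hxy : x * y = y * x)
    (hx1 : x ≠ 1) (hy1 : y ≠ 1) (hne : x ≠ y)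
    (hxH : ∀ h ∈ H, x * h * x⁻¹ ∈ H) (hyH : ∀ h ∈ H, y * h * y⁻¹ ∈ H) :
    Nat.card H * Nat.card ↥(H ⊓ Subgroup.centralizer {x} ⊓ Subgroup.centralizer {y}) ^ 2 =
      Nat.card ↥(H ⊓ Subgroup.centralizer {x}) * Nat.card ↥(H ⊓ Subgroup.centralizer {y}) *
        Nat.card ↥(H ⊓ Subgroup.centralizer {x * y}) := by
  classical
  obtain ⟨m, hm⟩ := h50_exists_rt H hH
  -- conjugation automorphisms
  obtain ⟨a, ha⟩ : ∃ a : MulAut Γ, a = MulAut.conj x := ⟨_, rfl⟩
  obtain ⟨b, hb⟩ : ∃ b : MulAut Γ, b = MulAut.conj y := ⟨_, rfl⟩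
  have haa : ∀ h, a (a h) = h := by
    intro h
    rw [ha, ← MulAut.mul_apply, ← map_mul, hx, map_one, MulAut.one_apply]
  have hbb : ∀ h, b (b h) = h := by
    intro h
    rw [hb, ← MulAut.mul_apply, ← map_mul, hy, map_one, MulAut.one_apply]
  have hab : ∀ h, a (b h) = b (a h) := by
    intro h
    rw [ha, hb, ← MulAut.mul_apply, ← MulAut.mul_apply, ← map_mul, ← map_mul, hxy]
  have habc : ∀ h, (x * y) * h * (x * y)⁻¹ = a (b h) := by
    intro h
    rw [ha, hb, ← MulAut.mul_apply, ← map_mul, MulAut.conj_apply]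
  have haH : ∀ h ∈ H, a h ∈ H := by
    intro h hh; rw [ha, MulAut.conj_apply]; exact hxH h hh
  have hbH : ∀ h ∈ H, b h ∈ H := by
    intro h hh; rw [hb, MulAut.conj_apply]; exact hyH h hh
  have hcx : ∀ c : Γ, c ∈ Subgroup.centralizer {x} ↔ a c = c := by
    intro c
    rw [Subgroup.mem_centralizer_singleton_iff, ha, MulAut.conj_apply]
    constructor
    · intro h; rw [← h, mul_inv_cancel_right]
    · intro h
      have h1 : x * c * x⁻¹ * x = c * x := by rw [h]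
      rw [inv_mul_cancel_right] at h1
      exact h1.symm
  have hcy : ∀ c : Γ, c ∈ Subgroup.centralizer {y} ↔ b c = c := by
    intro c
    rw [Subgroup.mem_centralizer_singleton_iff, hb, MulAut.conj_apply]
    constructor
    · intro h; rw [← h, mul_inv_cancel_right]
    · intro h
      have h1 : y * c * y⁻¹ * y = c * y := by rw [h]
      rw [inv_mul_cancel_right] at h1
      exact h1.symm
  have hcxy : ∀ c : Γ, c ∈ Subgroup.centralizer {x * y} ↔ a (b c) = c := by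
    intro c
    rw [Subgroup.mem_centralizer_singleton_iff, ← habc]
    constructor
    · intro h; rw [← h, mul_inv_cancel_right]
    · intro h
      have h1 : x * y * c * (x * y)⁻¹ * (x * y) = c * (x * y) := by rw [h]
      rw [inv_mul_cancel_right] at h1
      exact h1.symm
  have hconjx : ∀ i : Γ, x * i * x⁻¹ = a i := by
    intro i; rw [ha, MulAut.conj_apply]
  have hconjy : ∀ i : Γ, y * i * y⁻¹ = b i := by
    intro i; rw [hb, MulAut.conj_apply]
  -- three applications of the factorisation lemma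
  have hmy : ∀ h ∈ H ⊓ Subgroup.centralizer {y}, h ^ (2 * m) = h :=
    fun h hh => hm h (Subgroup.mem_inf.1 hh).1
  have hmxy : ∀ h ∈ H ⊓ Subgroup.centralizer {x * y}, h ^ (2 * m) = h :=
    fun h hh => hm h (Subgroup.mem_inf.1 hh).1
  have hNy : ∀ h ∈ H ⊓ Subgroup.centralizer {y}, x * h * x⁻¹ ∈ H ⊓ Subgroup.centralizer {y} := by
    intro h hh
    obtain ⟨h1, h2⟩ := Subgroup.mem_inf.1 hh
    refine Subgroup.mem_inf.2 ⟨hxH h h1, ?_⟩
    rw [hconjx, hcy, ← hab, (hcy h).1 h2]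
  have hNxy : ∀ h ∈ H ⊓ Subgroup.centralizer {x * y},
      y * h * y⁻¹ ∈ H ⊓ Subgroup.centralizer {x * y} := by
    intro h hh
    obtain ⟨h1, h2⟩ := Subgroup.mem_inf.1 hh
    refine Subgroup.mem_inf.2 ⟨hyH h h1, ?_⟩
    rw [hconjy, hcxy, hbb]
    have h3 := (hcxy h).1 h2
    have h4 := congrArg a h3
    rw [haa] at h4
    exact h4.symm
  have : Finite ↥(H ⊓ Subgroup.centralizer {y}) :=
    Finite.of_injective (Subgroup.inclusion (inf_le_left : H ⊓ Subgroup.centralizer {y} ≤ H))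
      (Subgroup.inclusion_injective _)
  have : Finite ↥(H ⊓ Subgroup.centralizer {x * y}) :=
    Finite.of_injective (Subgroup.inclusion (inf_le_left : H ⊓ Subgroup.centralizer {x * y} ≤ H))
      (Subgroup.inclusion_injective _)
  have e1 := h50_card_inverted H hm x hx hxH
  have e2 := h50_card_inverted (H ⊓ Subgroup.centralizer {y}) hmy x hx hNy
  have e3 := h50_card_inverted (H ⊓ Subgroup.centralizer {x * y}) hmxy y hy hNxy
  -- identify the small centralizers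
  have hV1 : Nat.card ↥(H ⊓ Subgroup.centralizer {y} ⊓ Subgroup.centralizer {x}) =
      Nat.card ↥(H ⊓ Subgroup.centralizer {x} ⊓ Subgroup.centralizer {y}) := by
    rw [inf_assoc, inf_assoc, inf_comm (Subgroup.centralizer {y})]
  have hV2 : Nat.card ↥(H ⊓ Subgroup.centralizer {x * y} ⊓ Subgroup.centralizer {y}) =
      Nat.card ↥(H ⊓ Subgroup.centralizer {x} ⊓ Subgroup.centralizer {y}) := by
    have : H ⊓ Subgroup.centralizer {x * y} ⊓ Subgroup.centralizer {y} =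
        H ⊓ Subgroup.centralizer {x} ⊓ Subgroup.centralizer {y} := by
      ext c
      simp only [Subgroup.mem_inf, hcx, hcy, hcxy]
      constructor
      · rintro ⟨⟨h1, h2⟩, h3⟩
        rw [h3] at h2
        exact ⟨⟨h1, h2⟩, h3⟩
      · rintro ⟨⟨h1, h2⟩, h3⟩
        rw [← h3] at h2
        refine ⟨⟨h1, ?_⟩, h3⟩
        rw [h3] at h2 ⊢
        exact h2
    rw [this]
  rw [hV1] at e2
  rw [hV2] at e3
  -- the key bijection  I_x(H) ≃ I_x(C_H(y)) × I_y(C_H(xy))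
  have key : Nat.card {i : Γ // i ∈ H ∧ x * i * x⁻¹ = i⁻¹} =
      Nat.card {i : Γ // i ∈ H ⊓ Subgroup.centralizer {y} ∧ x * i * x⁻¹ = i⁻¹} *
        Nat.card {i : Γ // i ∈ H ⊓ Subgroup.centralizer {x * y} ∧ y * i * y⁻¹ = i⁻¹} := by
    have hrt : ∀ h ∈ H, h ^ m * h ^ m = h := fun h hh => h50_rt_mul_self hm hh
    have hsq : ∀ s ∈ H, (s * s) ^ m = s := fun s hs => h50_rt_sq hm hs
    -- forward, first stage: c = τ⁻¹ i with τ = sqrt (i (b i)⁻¹)
    have F : ∀ i ∈ H, a i = i⁻¹ →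
        (h50_cOf b m i ∈ H ∧ b (h50_cOf b m i) = h50_cOf b m i ∧
          a (h50_cOf b m i) = (h50_cOf b m i)⁻¹ ∧
          h50_cOf b m i * i⁻¹ * h50_cOf b m i = b i) := by
      intro i hi hai
      unfold h50_cOf
      have hgH : i * (b i)⁻¹ ∈ H := H.mul_mem hi (H.inv_mem (hbH i hi))
      have hτH : (i * (b i)⁻¹) ^ m ∈ H := H.pow_mem hgH m
      have hττ := hrt _ hgH
      have hbg : b (i * (b i)⁻¹) = (i * (b i)⁻¹)⁻¹ := by
        rw [map_mul, map_inv, hbb, mul_inv_rev, inv_inv]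
      have hbτ : b ((i * (b i)⁻¹) ^ m) = ((i * (b i)⁻¹) ^ m)⁻¹ := by
        rw [map_pow, hbg, inv_pow]
      have hag : a (i * (b i)⁻¹) = i⁻¹ * (i * (b i)⁻¹)⁻¹ * i⁻¹⁻¹ := by
        rw [map_mul, map_inv, hab, hai, map_inv]
        group
      have haτ : a ((i * (b i)⁻¹) ^ m) = i⁻¹ * ((i * (b i)⁻¹) ^ m)⁻¹ * i := by
        rw [map_pow, hag, conj_pow, inv_pow, inv_inv]
      obtain ⟨τ, hτ⟩ : ∃ τ : Γ, τ = (i * (b i)⁻¹) ^ m := ⟨_, rfl⟩
      rw [← hτ] at hτH hττ hbτ haτ ⊢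
      refine ⟨H.mul_mem (H.inv_mem hτH) hi, ?_, ?_, ?_⟩
      · rw [map_mul, map_inv, hbτ, inv_inv]
        have h1 : τ * τ * b i = i := by rw [hττ, inv_mul_cancel_right]
        calc τ * b i = τ⁻¹ * (τ * τ * b i) := by group
          _ = τ⁻¹ * i := by rw [h1]
      · rw [map_mul, map_inv, haτ, hai]
        simp only [mul_inv_rev, inv_inv, mul_assoc, mul_inv_cancel, mul_one]
      · have h1 : τ⁻¹ * i * i⁻¹ * (τ⁻¹ * i) = (τ * τ)⁻¹ * i := by
          rw [mul_inv_cancel_right, mul_inv_rev, mul_assoc]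
        rw [h1, hττ, mul_inv_rev, inv_inv, inv_mul_cancel_right]
    -- forward, second stage: σ = sqrt (u⁻¹ i u⁻¹), u = sqrt c
    have F2 : ∀ i ∈ H, a i = i⁻¹ → ∀ c ∈ H, b c = c → a c = c⁻¹ → c * i⁻¹ * c = b i →
        (h50_sOf m i c ∈ H ∧ a (b (h50_sOf m i c)) = h50_sOf m i c ∧
          b (h50_sOf m i c) = (h50_sOf m i c)⁻¹ ∧ h50_iOf m c (h50_sOf m i c) = i) := by
      intro i hi hai c hc hbc hac hci
      unfold h50_iOf h50_sOf
      have huH : c ^ m ∈ H := H.pow_mem hc m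
      have huu := hrt c hc
      have hbu : b (c ^ m) = c ^ m := by rw [map_pow, hbc]
      have hau : a (c ^ m) = (c ^ m)⁻¹ := by rw [map_pow, hac, inv_pow]
      obtain ⟨u, hu⟩ : ∃ u : Γ, u = c ^ m := ⟨_, rfl⟩
      rw [← hu] at huH huu hbu hau ⊢
      have hsH : u⁻¹ * i * u⁻¹ ∈ H := H.mul_mem (H.mul_mem (H.inv_mem huH) hi) (H.inv_mem huH)
      have has : a (u⁻¹ * i * u⁻¹) = (u⁻¹ * i * u⁻¹)⁻¹ := by
        rw [map_mul, map_mul, map_inv, hau, hai, inv_inv, mul_inv_rev, mul_inv_rev, inv_inv,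
          mul_assoc]
      have hbs : b (u⁻¹ * i * u⁻¹) = (u⁻¹ * i * u⁻¹)⁻¹ := by
        rw [map_mul, map_mul, map_inv, hbu, ← hci, ← huu]
        simp only [mul_inv_rev, inv_inv, mul_assoc, inv_mul_cancel_left, mul_inv_cancel, mul_one]
      refine ⟨H.pow_mem hsH m, ?_, ?_, ?_⟩
      · rw [map_pow, map_pow, hbs, map_inv, has, inv_inv]
      · rw [map_pow, hbs, inv_pow]
      · rw [hrt _ hsH]
        simp only [mul_assoc, mul_inv_cancel_left, inv_mul_cancel, mul_one]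
    -- backward: i = u σ² u
    have B : ∀ c ∈ H, b c = c → a c = c⁻¹ → ∀ σ ∈ H, a (b σ) = σ → b σ = σ⁻¹ →
        (h50_iOf m c σ ∈ H ∧ a (h50_iOf m c σ) = (h50_iOf m c σ)⁻¹ ∧
          h50_cOf b m (h50_iOf m c σ) = c ∧ h50_sOf m (h50_iOf m c σ) c = σ) := by
      intro c hc hbc hac σ hσ habσ hbσ
      unfold h50_cOf h50_sOf h50_iOf
      have huH : c ^ m ∈ H := H.pow_mem hc m
      have huu := hrt c hc
      have hbu : b (c ^ m) = c ^ m := by rw [map_pow, hbc]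
      have hau : a (c ^ m) = (c ^ m)⁻¹ := by rw [map_pow, hac, inv_pow]
      obtain ⟨u, hu⟩ : ∃ u : Γ, u = c ^ m := ⟨_, rfl⟩
      rw [← hu] at huH huu hbu hau ⊢
      have haσ : a σ = σ⁻¹ := by
        have h1 := congrArg a habσ
        rw [haa] at h1
        rw [← h1, hbσ]
      have h1 : u * (σ * σ) * u * (b (u * (σ * σ) * u))⁻¹ = u * ((σ * σ) * (σ * σ)) * u⁻¹ := by
        rw [map_mul, map_mul, map_mul, hbu, hbσ]
        simp only [mul_inv_rev, inv_inv, mul_assoc, mul_inv_cancel_left]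
      have h2 : (u * (σ * σ) * u * (b (u * (σ * σ) * u))⁻¹) ^ m = u * (σ * σ) * u⁻¹ := by
        rw [h1, conj_pow, hsq _ (H.mul_mem hσ hσ)]
      have h3 : ((u * (σ * σ) * u * (b (u * (σ * σ) * u))⁻¹) ^ m)⁻¹ * (u * (σ * σ) * u) = c := by
        rw [h2]
        simp only [mul_inv_rev, inv_inv, mul_assoc, inv_mul_cancel_left]
        exact huu
      refine ⟨H.mul_mem (H.mul_mem huH (H.mul_mem hσ hσ)) huH, ?_, h3, ?_⟩
      · rw [map_mul, map_mul, map_mul, hau, haσ]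
        simp only [mul_inv_rev, mul_assoc]
      · have h4 : u⁻¹ * (u * (σ * σ) * u) * u⁻¹ = σ * σ := by
          simp only [mul_assoc, inv_mul_cancel_left, mul_inv_cancel, mul_one]
        rw [h4]
        exact hsq σ hσ
    -- assemble the equivalence
    let e : {i : Γ // i ∈ H ∧ x * i * x⁻¹ = i⁻¹} ≃
        {i : Γ // i ∈ H ⊓ Subgroup.centralizer {y} ∧ x * i * x⁻¹ = i⁻¹} ×
          {i : Γ // i ∈ H ⊓ Subgroup.centralizer {x * y} ∧ y * i * y⁻¹ = i⁻¹} :=
      { toFun := fun i =>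
          have hiH := i.2.1
          have hai : a i.1 = i.1⁻¹ := by rw [← hconjx]; exact i.2.2
          have f1 := F i.1 hiH hai
          have f2 := F2 i.1 hiH hai _ f1.1 f1.2.1 f1.2.2.1 f1.2.2.2
          (⟨h50_cOf b m i.1,
              Subgroup.mem_inf.2 ⟨f1.1, (hcy _).2 f1.2.1⟩, by rw [hconjx]; exact f1.2.2.1⟩,
           ⟨h50_sOf m i.1 (h50_cOf b m i.1),
              Subgroup.mem_inf.2 ⟨f2.1, (hcxy _).2 f2.2.1⟩, by rw [hconjy]; exact f2.2.2.1⟩)
        invFun := fun p =>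
          have hc := Subgroup.mem_inf.1 p.1.2.1
          have hac : a p.1.1 = p.1.1⁻¹ := by rw [← hconjx]; exact p.1.2.2
          have hσ := Subgroup.mem_inf.1 p.2.2.1
          have hbσ : b p.2.1 = p.2.1⁻¹ := by rw [← hconjy]; exact p.2.2.2
          have b1 := B p.1.1 hc.1 ((hcy _).1 hc.2) hac p.2.1 hσ.1 ((hcxy _).1 hσ.2) hbσ
          ⟨h50_iOf m p.1.1 p.2.1, b1.1, by rw [hconjx]; exact b1.2.1⟩
        left_inv := by
          rintro ⟨i, hiH, hii⟩
          have hai : a i = i⁻¹ := by rw [← hconjx]; exact hii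
          have f1 := F i hiH hai
          have f2 := F2 i hiH hai _ f1.1 f1.2.1 f1.2.2.1 f1.2.2.2
          apply Subtype.ext
          exact f2.2.2.2
        right_inv := by
          rintro ⟨⟨c, hcN, hcc⟩, ⟨σ, hσN, hσσ⟩⟩
          have hc := Subgroup.mem_inf.1 hcN
          have hac : a c = c⁻¹ := by rw [← hconjx]; exact hcc
          have hbc : b c = c := (hcy _).1 hc.2
          have hσ := Subgroup.mem_inf.1 hσN
          have hbσ : b σ = σ⁻¹ := by rw [← hconjy]; exact hσσ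
          have b1 := B c hc.1 hbc hac σ hσ.1 ((hcxy _).1 hσ.2) hbσ
          apply Prod.ext
          · apply Subtype.ext
            exact b1.2.2.1
          · apply Subtype.ext
            show h50_sOf m (h50_iOf m c σ) (h50_cOf b m (h50_iOf m c σ)) = σ
            rw [b1.2.2.1]
            exact b1.2.2.2 }
    rw [Nat.card_congr e, Nat.card_prod]
  rw [key] at e1
  -- arithmetic
  rw [e1, e2, e3]
  ring

end Cfsg.Agent.Helper50.MH4
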