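import Mathlib
import Cfsg.Prelude.Def_Blocks
import Cfsg.Agent.Lib.Helper78.CharCount
import Cfsg.Agent.Lib.Helper79.Inflation
import Cfsg.Agent.Lib.Helper79.LinearDeg
import Cfsg.Agent.Lib.Helper17.PrimeTIApp

/-!
# O5760X (A4) `a_faithful` (S0980): nontrivial irreducible characters of a simple group are faithful
-/

set_option autoImplicit false

namespace Cfsg.Agent.Helper50.O5760X

open Cfsg

universe u

/-- (A4) -/
theorem a_faithful {G : Type u} [Group G] [Fintype G] [IsSimpleGroup G] (hG : ¬ (Nat.card G).Prime)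
    (θ : IrrCharacter G) (hθ : (θ : G → ℂ) ≠ fun _ => 1) (u : G) (hu : u ≠ 1) :
    (θ : G → ℂ) u ≠ (charDegree (θ : G → ℂ) : ℂ) := by
  intro h
  have h1 : (θ : G → ℂ) 1 = (charDegree (θ : G → ℂ) : ℂ) :=
    (Cfsg.Agent.Helper78.irr_charDegree θ.2).1
  have hmem : u ∈ Cfsg.Agent.Helper79.irrKer θ := by
    rw [Cfsg.Agent.Helper79.mem_irrKer, h, h1]
  have hn : (Cfsg.Agent.Helper79.irrKer θ).Normal := inferInstance
  rcases hn.eq_bot_or_eq_top with hb | ht
  · rw [hb, Subgroup.mem_bot] at hmem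
    exact hu hmem
  · have hdeg := Cfsg.Agent.Helper79.degree_one_of_commutator_le_irrKer θ (by rw [ht]; exact le_top)
    have hperf := Cfsg.Agent.Helper17.PrimeTI.perfect_of_simple hG
    exact hθ (Cfsg.Agent.Helper17.PrimeTI.linear_trivial_of_perfect hperf θ hdeg)

end Cfsg.Agent.Helper50.O5760X
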