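import Cfsg.Agent.Lib.Helper50.ChermakDelgado

set_option autoImplicit false
open scoped Pointwise

namespace Cfsg.Agent.Helper50

variable {G : Type*} [Group G]

theorem centralizer_map_conj (H : Subgroup G) (g : G) :
    Subgroup.centralizer ((H.map (MulAut.conj g).toMonoidHom : Subgroup G) : Set G) =
      (Subgroup.centralizer (H : Set G)).map (MulAut.conj g).toMonoidHom := by
  ext x
  constructor
  · intro hx
    refine ⟨g⁻¹ * x * g, ?_, ?_⟩
    · show g⁻¹ * x * g ∈ Subgroup.centralizer (H : Set G)
      rw [Subgroup.mem_centralizer_iff]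
      intro h hh
      have h1 : g * h * g⁻¹ ∈ ((H.map (MulAut.conj g).toMonoidHom : Subgroup G) : Set G) :=
        ⟨h, hh, by simp [MulAut.conj_apply]⟩
      have h2 := Subgroup.mem_centralizer_iff.mp hx _ h1
      have : h * (g⁻¹ * x * g) = g⁻¹ * ((g * h * g⁻¹) * x) * g := by group
      rw [this, h2]; group
    · simp [MulAut.conj_apply]; group
  · rintro ⟨y, hy, rfl⟩
    have hy' : y ∈ Subgroup.centralizer (H : Set G) := hy
    rw [Subgroup.mem_centralizer_iff]
    rintro _ ⟨h, hh, rfl⟩
    have h2 := Subgroup.mem_centralizer_iff.mp hy' h hh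
    simp only [MulEquiv.coe_toMonoidHom, MulAut.conj_apply]
    have : g * h * g⁻¹ * (g * y * g⁻¹) = g * (h * y) * g⁻¹ := by group
    rw [this, h2]; group

theorem cdm_map_conj (H : Subgroup G) (g : G) :
    cdm (H.map (MulAut.conj g).toMonoidHom) = cdm H := by
  unfold cdm
  rw [centralizer_map_conj]
  rw [Subgroup.card_map_of_injective (MulAut.conj g).injective,
    Subgroup.card_map_of_injective (MulAut.conj g).injective]

variable [Finite G]

/-- In a finite group, a member of the Chermak–Delgado lattice which is of largest order among the members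
different from `⊤` is normal. -/
theorem cdm_max_normal {M : ℕ} (hM : ∀ L : Subgroup G, cdm L ≤ M) (B : Subgroup G) (hB : cdm B = M)
    (hBtop : B ≠ ⊤)
    (hmax : ∀ L : Subgroup G, cdm L = M → L ≠ ⊤ → Nat.card L ≤ Nat.card B) : B.Normal := by
  constructor
  intro n hn g
  set Bg := B.map (MulAut.conj g).toMonoidHom with hBg
  have h1 : cdm Bg = M := by rw [hBg, cdm_map_conj, hB]
  obtain ⟨h2, -, h3, -⟩ := cdm_max_sup_inf hM B Bg hB h1
  have h4 := coe_sup_eq_mul_of_card B Bg h3
  have hne : B ⊔ Bg ≠ ⊤ := by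
    intro htop
    have hmem : g⁻¹ ∈ ((B ⊔ Bg : Subgroup G) : Set G) := by rw [htop]; trivial
    rw [h4] at hmem
    obtain ⟨b, hb, c', ⟨c, hc, rfl⟩, hbc⟩ := Set.mem_mul.mp hmem
    simp only [MulEquiv.coe_toMonoidHom, MulAut.conj_apply] at hbc
    have hg : g = b⁻¹ * c⁻¹ := by
      have : b * g * c = 1 := by
        have : b * (g * c * g⁻¹) * g = g⁻¹ * g := by rw [hbc]
        rw [inv_mul_cancel] at this
        rw [← this]; group
      have h5 : g = b⁻¹ * (b * g * c) * c⁻¹ := by group
      rw [h5, this]; group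
    have hgB : g ∈ B := by rw [hg]; exact B.mul_mem (B.inv_mem hb) (B.inv_mem hc)
    have : Bg = B := by
      rw [hBg]
      ext x
      constructor
      · rintro ⟨y, hy, rfl⟩
        simp only [MulEquiv.coe_toMonoidHom, MulAut.conj_apply]
        exact B.mul_mem (B.mul_mem hgB hy) (B.inv_mem hgB)
      · intro hx
        refine ⟨g⁻¹ * x * g, B.mul_mem (B.mul_mem (B.inv_mem hgB) hx) hgB, ?_⟩
        simp only [MulEquiv.coe_toMonoidHom, MulAut.conj_apply]; group
    rw [this, sup_idem] at htop
    exact hBtop htop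
  have h5 : Nat.card ↥(B ⊔ Bg) ≤ Nat.card B := hmax _ h2 hne
  have h6 : B ⊔ Bg = B := (Subgroup.eq_of_le_of_card_ge le_sup_left h5).symm
  have h7 : Bg ≤ B := by rw [← h6]; exact le_sup_right
  exact h7 ⟨n, hn, by simp [MulAut.conj_apply]⟩

omit [Finite G] in
theorem cdm_bot : cdm (⊥ : Subgroup G) = Nat.card G := by
  unfold cdm
  have : Subgroup.centralizer (((⊥ : Subgroup G) : Subgroup G) : Set G) = ⊤ := by
    rw [Subgroup.centralizer_eq_top_iff_subset]
    intro x hx
    have : x = 1 := by simpa using hx
    rw [this]; exact (Subgroup.center G).one_mem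
  rw [this]; simp

omit [Finite G] in
theorem cdm_top : cdm (⊤ : Subgroup G) = Nat.card G * Nat.card (Subgroup.center G) := by
  unfold cdm
  have : Subgroup.centralizer (((⊤ : Subgroup G) : Subgroup G) : Set G) = Subgroup.center G := by
    rw [Subgroup.coe_top, Subgroup.centralizer_univ]
  rw [this]; simp

/-- Chermak–Delgado for simple groups. -/
theorem cdm_lt_card_of_simple [IsSimpleGroup G] (hG : ¬ IsMulCommutative G) (A : Subgroup G)
    (hA1 : A ≠ ⊥) (hA2 : A ≠ ⊤) : cdm A < Nat.card G := by
  classical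
  by_contra hcon
  push Not at hcon
  -- maximum of cdm
  obtain ⟨L0, -, hL0⟩ := Set.Finite.exists_maximalFor (fun L : Subgroup G => cdm L) Set.univ
    (Set.toFinite _) ⟨⊥, trivial⟩
  set M := cdm L0 with hMdef
  have hM : ∀ L : Subgroup G, cdm L ≤ M := by
    intro L
    by_contra h
    push Not at h
    exact absurd (hL0 (Set.mem_univ L) h.le) (not_le.mpr h)
  have hcenter : Subgroup.center G = ⊥ := by
    rcases IsSimpleGroup.eq_bot_or_eq_top_of_normal (Subgroup.center G) inferInstance with h | h
    · exact h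
    · exfalso; apply hG
      exact ⟨⟨fun a b => by
        have : a ∈ Subgroup.center G := by rw [h]; trivial
        exact ((Subgroup.mem_center_iff.mp this) b).symm⟩⟩
  have htop : cdm (⊤ : Subgroup G) = Nat.card G := by rw [cdm_top, hcenter]; simp
  -- every member of the lattice is ⊥ or ⊤
  have hmem : ∀ L : Subgroup G, cdm L = M → L = ⊥ ∨ L = ⊤ := by
    intro L hL
    by_contra hne
    push Not at hne
    -- pick B of max card among members ≠ ⊤
    obtain ⟨B, hBmem, hBmax⟩ := Set.Finite.exists_maximalFor (fun L : Subgroup G => Nat.card L)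
      {L : Subgroup G | cdm L = M ∧ L ≠ ⊤} (Set.toFinite _) ⟨L, hL, hne.2⟩
    have hBn : B.Normal := by
      apply cdm_max_normal hM B hBmem.1 hBmem.2
      intro L' hL' hL'top
      by_contra h
      push Not at h
      exact absurd (hBmax ⟨hL', hL'top⟩ h.le) (not_le.mpr h)
    rcases IsSimpleGroup.eq_bot_or_eq_top_of_normal B hBn with hb | hb
    · have : Nat.card L ≤ Nat.card B := by
        by_contra h
        push Not at h
        exact absurd (hBmax ⟨hL, hne.2⟩ h.le) (not_le.mpr h)
      rw [hb] at this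
      simp at this
      have hL1 : L = ⊥ := by
        rw [Subgroup.eq_bot_iff_card]
        have := Nat.card_pos (α := L)
        omega
      exact hne.1 hL1
    · exact hBmem.2 hb
  have hMG : M = Nat.card G := by
    rcases hmem L0 rfl with h | h
    · rw [hMdef, h, cdm_bot]
    · rw [hMdef, h, htop]
  have hA : cdm A = M := le_antisymm (hM A) (hMG ▸ hcon)
  rcases hmem A hA with h | h
  · exact hA1 h
  · exact hA2 h

end Cfsg.Agent.Helper50
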