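import Cfsg.Agent.Lib.Helper50.CLLattice
import Cfsg.Prelude.Def_PLocal

set_option autoImplicit false
open scoped Pointwise

namespace Cfsg.Agent.Helper50

variable {G : Type*} [Group G]

theorem isMulCommutative_sup {H K : Subgroup G} (hH : IsMulCommutative H) (hK : IsMulCommutative K)
    (hHK : H ≤ Subgroup.centralizer (K : Set G)) : IsMulCommutative ↥(H ⊔ K) := by
  rw [← Subgroup.le_centralizer_iff_isMulCommutative, centralizer_sup_eq]
  have h1 : H ≤ Subgroup.centralizer (H : Set G) := Subgroup.le_centralizer_iff_isMulCommutative.mpr hH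
  have h2 : K ≤ Subgroup.centralizer (K : Set G) := Subgroup.le_centralizer_iff_isMulCommutative.mpr hK
  exact sup_le (le_inf h1 hHK) (le_inf (Subgroup.le_centralizer_iff.mp hHK) h2)

theorem isMulCommutative_of_le {H K : Subgroup G} (hK : IsMulCommutative K) (h : H ≤ K) :
    IsMulCommutative H := by
  rw [← Subgroup.le_centralizer_iff_isMulCommutative]
  have h2 : K ≤ Subgroup.centralizer (K : Set G) := Subgroup.le_centralizer_iff_isMulCommutative.mpr hK
  exact (h.trans h2).trans (Subgroup.centralizer_le (by exact_mod_cast h))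

variable [Finite G]

theorem exists_maxAbelian : ∃ A : Subgroup G, A ∈ Cfsg.maxAbelianSubgroups G := by
  classical
  obtain ⟨A, hA, hmax⟩ := Set.Finite.exists_maximalFor (fun L : Subgroup G => Nat.card L)
    {L : Subgroup G | IsMulCommutative L} (Set.toFinite _)
    ⟨⊥, by
      show IsMulCommutative (⊥ : Subgroup G)
      rw [← Subgroup.le_centralizer_iff_isMulCommutative]; exact bot_le⟩
  refine ⟨A, hA, ?_⟩
  intro B hB
  by_contra hlt
  push Not at hlt
  exact absurd (hmax hB hlt.le) (not_le.mpr hlt)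

theorem maxAbelian_centralizer {A : Subgroup G} (hA : A ∈ Cfsg.maxAbelianSubgroups G) :
    Subgroup.centralizer (A : Set G) = A := by
  have hAc : A ≤ Subgroup.centralizer (A : Set G) :=
    Subgroup.le_centralizer_iff_isMulCommutative.mpr hA.1
  apply le_antisymm _ hAc
  intro x hx
  have hx' : Subgroup.zpowers x ≤ Subgroup.centralizer (A : Set G) := by
    rw [Subgroup.zpowers_le]; exact hx
  have hcomm : IsMulCommutative ↥(Subgroup.zpowers x ⊔ A) :=
    isMulCommutative_sup (Subgroup.zpowers_isMulCommutative x) hA.1 hx'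
  have h1 := hA.2 _ hcomm
  have h2 : A = Subgroup.zpowers x ⊔ A := Subgroup.eq_of_le_of_card_ge le_sup_right h1
  rw [h2]
  exact (le_sup_left : Subgroup.zpowers x ≤ _) (Subgroup.mem_zpowers x)

omit [Finite G] in
theorem maxAbelian_of_card {A B : Subgroup G} (hA : A ∈ Cfsg.maxAbelianSubgroups G)
    (hB : IsMulCommutative B) (h : Nat.card A ≤ Nat.card B) : B ∈ Cfsg.maxAbelianSubgroups G :=
  ⟨hB, fun C hC => (hA.2 C hC).trans h⟩

/-- Glauberman: product of a centrally large subgroup and a large abelian subgroup. -/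
theorem cl_sup_maxAbelian {Q A : Subgroup G} (hQ : Cfsg.IsCentrallyLarge Q)
    (hA : A ∈ Cfsg.maxAbelianSubgroups G) :
    ((Q ⊔ A : Subgroup G) : Set G) = (Q : Set G) * (A : Set G) ∧
    Cfsg.IsCentrallyLarge (Q ⊔ A) ∧
    ((Q ⊓ Subgroup.centralizer (Q : Set G)) ⊔ (Q ⊓ A)) ∈ Cfsg.maxAbelianSubgroups G ∧
    ((((Q ⊓ Subgroup.centralizer (Q : Set G)) ⊔ (Q ⊓ A) : Subgroup G) : Set G) =
      ((Q ⊓ Subgroup.centralizer (Q : Set G) : Subgroup G) : Set G) * ((Q ⊓ A : Subgroup G) : Set G)) := by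
  set ZQ := Q ⊓ Subgroup.centralizer (Q : Set G) with hZQ
  set R := Q ⊔ A with hR
  set E := Q ⊓ A with hE
  set B := ZQ ⊔ E with hB
  have hCA := maxAbelian_centralizer hA
  -- F2
  have hF2 : ZQ ⊓ A ≤ R ⊓ Subgroup.centralizer (R : Set G) := by
    refine le_inf (inf_le_left.trans (inf_le_left.trans le_sup_left)) ?_
    rw [hR, centralizer_sup_eq]
    refine le_inf (inf_le_left.trans inf_le_right) ?_
    rw [hCA]; exact inf_le_right
  have hF2c : Nat.card ↥(ZQ ⊓ A) ≤ Nat.card ↥(R ⊓ Subgroup.centralizer (R : Set G)) :=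
    Subgroup.card_le_of_le hF2
  -- F3
  have hfQ : clm Q = Cfsg.maxCentralProduct G := (isCentrallyLarge_iff Q).mp hQ
  have hF3 : clm R ≤ clm Q := hfQ ▸ clm_le_max R
  -- F4
  have hF4 := card_mul_card_le Q A
  -- F5
  have hZQab : IsMulCommutative ZQ := by
    rw [← Subgroup.le_centralizer_iff_isMulCommutative]
    exact inf_le_right.trans (Subgroup.centralizer_le (by exact_mod_cast (inf_le_left : ZQ ≤ Q)))
  have hEab : IsMulCommutative E := isMulCommutative_of_le hA.1 inf_le_right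
  have hZE : ZQ ≤ Subgroup.centralizer (E : Set G) :=
    inf_le_right.trans (Subgroup.centralizer_le (by exact_mod_cast (inf_le_left : E ≤ Q)))
  have hBab : IsMulCommutative B := isMulCommutative_sup hZQab hEab hZE
  have hBA : Nat.card B ≤ Nat.card A := hA.2 B hBab
  have hF5 := card_mul_card_le ZQ E
  have hinf : ZQ ⊓ E = ZQ ⊓ A := by
    rw [hE, ← inf_assoc, inf_eq_left.mpr (inf_le_left : ZQ ≤ Q)]
  rw [hinf] at hF5
  -- abbreviations
  have hq : 0 < Nat.card Q := Nat.card_pos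
  have ha : 0 < Nat.card A := Nat.card_pos
  have hr : 0 < Nat.card R := Nat.card_pos
  have he : 0 < Nat.card E := Nat.card_pos
  have hw : 0 < Nat.card ↥(ZQ ⊓ A) := Nat.card_pos
  unfold clm at hF3
  rw [← hZQ] at hF3
  -- chain
  have c1 : Nat.card Q * Nat.card A * Nat.card ↥(ZQ ⊓ A) ≤ Nat.card R * Nat.card E * Nat.card ↥(ZQ ⊓ A) :=
    Nat.mul_le_mul_right _ hF4
  have c2 : Nat.card R * Nat.card E * Nat.card ↥(ZQ ⊓ A) ≤
      Nat.card R * Nat.card ↥(R ⊓ Subgroup.centralizer (R : Set G)) * Nat.card E := by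
    calc Nat.card R * Nat.card E * Nat.card ↥(ZQ ⊓ A)
        = Nat.card R * Nat.card ↥(ZQ ⊓ A) * Nat.card E := by ring
      _ ≤ Nat.card R * Nat.card ↥(R ⊓ Subgroup.centralizer (R : Set G)) * Nat.card E :=
          Nat.mul_le_mul_right _ (Nat.mul_le_mul_left _ hF2c)
  have c3 : Nat.card R * Nat.card ↥(R ⊓ Subgroup.centralizer (R : Set G)) * Nat.card E ≤
      Nat.card Q * Nat.card ZQ * Nat.card E := Nat.mul_le_mul_right _ hF3
  have c4 : Nat.card Q * Nat.card ZQ * Nat.card E ≤ Nat.card Q * (Nat.card B * Nat.card ↥(ZQ ⊓ A)) := by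
    rw [mul_assoc]; exact Nat.mul_le_mul_left _ hF5
  have c5 : Nat.card Q * (Nat.card B * Nat.card ↥(ZQ ⊓ A)) ≤
      Nat.card Q * Nat.card A * Nat.card ↥(ZQ ⊓ A) := by
    rw [mul_assoc]; exact Nat.mul_le_mul_left _ (Nat.mul_le_mul_right _ hBA)
  have e1 : Nat.card Q * Nat.card A * Nat.card ↥(ZQ ⊓ A) = Nat.card R * Nat.card E * Nat.card ↥(ZQ ⊓ A) :=
    le_antisymm c1 (c2.trans (c3.trans (c4.trans c5)))
  have e3 : Nat.card R * Nat.card ↥(R ⊓ Subgroup.centralizer (R : Set G)) * Nat.card E =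
      Nat.card Q * Nat.card ZQ * Nat.card E :=
    le_antisymm c3 (c4.trans (c5.trans (c1.trans c2)))
  have e4 : Nat.card Q * Nat.card ZQ * Nat.card E = Nat.card Q * (Nat.card B * Nat.card ↥(ZQ ⊓ A)) :=
    le_antisymm c4 (c5.trans (c1.trans (c2.trans c3)))
  have e5 : Nat.card Q * (Nat.card B * Nat.card ↥(ZQ ⊓ A)) =
      Nat.card Q * Nat.card A * Nat.card ↥(ZQ ⊓ A) :=
    le_antisymm c5 (c1.trans (c2.trans (c3.trans c4)))
  have E1 : Nat.card Q * Nat.card A = Nat.card R * Nat.card E := Nat.eq_of_mul_eq_mul_right hw e1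
  have E3 : Nat.card R * Nat.card ↥(R ⊓ Subgroup.centralizer (R : Set G)) = Nat.card Q * Nat.card ZQ :=
    Nat.eq_of_mul_eq_mul_right he e3
  have E4 : Nat.card ZQ * Nat.card E = Nat.card B * Nat.card ↥(ZQ ⊓ A) := by
    rw [mul_assoc] at e4
    exact Nat.eq_of_mul_eq_mul_left hq e4
  have E5 : Nat.card B = Nat.card A := by
    rw [mul_assoc] at e5
    have := Nat.eq_of_mul_eq_mul_left hq e5
    exact Nat.eq_of_mul_eq_mul_right hw this
  refine ⟨coe_sup_eq_mul_of_card Q A E1, ?_, maxAbelian_of_card hA hBab (le_of_eq E5.symm), ?_⟩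
  · rw [isCentrallyLarge_iff, ← hfQ]
    unfold clm
    rw [← hZQ]; exact E3
  · apply coe_sup_eq_mul_of_card
    rw [hinf]; exact E4

theorem cl_sup_maxAbelian_centralizer {Q A : Subgroup G} (hQ : Cfsg.IsCentrallyLarge Q)
    (hA : A ∈ Cfsg.maxAbelianSubgroups G) :
    (Q ⊔ A) ⊓ Subgroup.centralizer ((Q ⊓ A : Subgroup G) : Set G) =
        (Q ⊓ Subgroup.centralizer (Q : Set G)) ⊔ A ∧
    (((Q ⊓ Subgroup.centralizer (Q : Set G)) ⊔ A : Subgroup G) : Set G) =
      ((Q ⊓ Subgroup.centralizer (Q : Set G) : Subgroup G) : Set G) * (A : Set G) := by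
  obtain ⟨h1, -, h3, h4⟩ := cl_sup_maxAbelian hQ hA
  set ZQ := Q ⊓ Subgroup.centralizer (Q : Set G) with hZQ
  set E := Q ⊓ A with hE
  have hCA := maxAbelian_centralizer hA
  have hCB := maxAbelian_centralizer h3
  have hle : ZQ ⊔ A ≤ (Q ⊔ A) ⊓ Subgroup.centralizer (E : Set G) := by
    apply sup_le
    · exact le_inf (inf_le_left.trans le_sup_left)
        (inf_le_right.trans (Subgroup.centralizer_le (by exact_mod_cast (inf_le_left : E ≤ Q))))
    · refine le_inf le_sup_right ?_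
      have : A ≤ Subgroup.centralizer (A : Set G) := by rw [hCA]
      exact this.trans (Subgroup.centralizer_le (by exact_mod_cast (inf_le_right : E ≤ A)))
  have hkey : ∀ x : G, x ∈ (Q ⊔ A) ⊓ Subgroup.centralizer (E : Set G) →
      x ∈ (ZQ : Set G) * (A : Set G) := by
    intro x hx
    have hx1 : x ∈ ((Q ⊔ A : Subgroup G) : Set G) := hx.1
    rw [h1] at hx1
    obtain ⟨q₀, hq₀, a₀, ha₀, rfl⟩ := Set.mem_mul.mp hx1
    have hq₀' : q₀ ∈ Q := hq₀
    have ha₀' : a₀ ∈ A := ha₀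
    have ha₀E : a₀ ∈ Subgroup.centralizer (E : Set G) := by
      have : A ≤ Subgroup.centralizer (A : Set G) := by rw [hCA]
      exact (this.trans (Subgroup.centralizer_le (by exact_mod_cast (inf_le_right : E ≤ A)))) ha₀'
    have hq₀E : q₀ ∈ Subgroup.centralizer (E : Set G) := by
      have := (Subgroup.centralizer (E : Set G)).mul_mem hx.2
        ((Subgroup.centralizer (E : Set G)).inv_mem ha₀E)
      simpa using this
    have hq₀Z : q₀ ∈ Subgroup.centralizer (ZQ : Set G) := by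
      have h5 : ZQ ≤ Subgroup.centralizer (Q : Set G) := inf_le_right
      exact (Subgroup.le_centralizer_iff.mp h5) hq₀'
    have hq₀B : q₀ ∈ ZQ ⊔ E := by
      rw [← hCB, centralizer_sup_eq]
      exact ⟨hq₀Z, hq₀E⟩
    have hq₀B' : q₀ ∈ ((ZQ ⊔ E : Subgroup G) : Set G) := hq₀B
    rw [h4] at hq₀B'
    obtain ⟨z₀, hz₀, e₀, he₀, rfl⟩ := Set.mem_mul.mp hq₀B'
    have he₀' : e₀ ∈ E := he₀
    refine Set.mem_mul.mpr ⟨z₀, hz₀, e₀ * a₀, A.mul_mem he₀'.2 ha₀', ?_⟩
    rw [mul_assoc]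
  have hsub : ((ZQ : Set G) * (A : Set G)) ⊆ ((ZQ ⊔ A : Subgroup G) : Set G) := by
    intro l hl
    obtain ⟨a, ha, b, hb, rfl⟩ := Set.mem_mul.mp hl
    exact (ZQ ⊔ A).mul_mem ((le_sup_left : ZQ ≤ ZQ ⊔ A) ha) ((le_sup_right : A ≤ ZQ ⊔ A) hb)
  refine ⟨le_antisymm ?_ hle, ?_⟩
  · intro x hx
    exact hsub (hkey x hx)
  · apply Set.Subset.antisymm _ hsub
    intro x hx
    exact hkey x (hle hx)

theorem maxAbelian_le_centrallyLargeJoin {A : Subgroup G} (hA : A ∈ Cfsg.maxAbelianSubgroups G) :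
    A ≤ Cfsg.centrallyLargeJoin G := by
  have hT := cl_centrallyLargeJoin (G := G)
  have h1 := (cl_sup_maxAbelian hT hA).2.1
  have h2 : Cfsg.centrallyLargeJoin G ⊔ A ≤ Cfsg.centrallyLargeJoin G := by
    unfold Cfsg.centrallyLargeJoin at h1 ⊢
    exact le_sSup h1
  exact le_sup_right.trans h2

theorem thompsonA_le_centrallyLargeJoin : Cfsg.thompsonSubgroupA G ≤ Cfsg.centrallyLargeJoin G := by
  unfold Cfsg.thompsonSubgroupA
  exact sSup_le (fun A hA => maxAbelian_le_centrallyLargeJoin hA)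

/-- If `T` is centrally large and contains `J(G)`, then `C(Z(J(G))) ≤ T`. -/
theorem centralizer_center_thompsonA_le {T : Subgroup G} (hT : Cfsg.IsCentrallyLarge T)
    (hJ : Cfsg.thompsonSubgroupA G ≤ T) :
    Subgroup.centralizer ((Cfsg.thompsonSubgroupA G ⊓
      Subgroup.centralizer (Cfsg.thompsonSubgroupA G : Set G) : Subgroup G) : Set G) ≤ T := by
  obtain ⟨A, hA⟩ := exists_maxAbelian (G := G)
  have hAJ : A ≤ Cfsg.thompsonSubgroupA G := le_sSup hA
  have hCA := maxAbelian_centralizer hA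
  have h1 : Subgroup.centralizer (T : Set G) ≤ Cfsg.thompsonSubgroupA G := by
    calc Subgroup.centralizer (T : Set G) ≤ Subgroup.centralizer (A : Set G) :=
          Subgroup.centralizer_le (by exact_mod_cast hAJ.trans hJ)
      _ = A := hCA
      _ ≤ _ := hAJ
  have h2 : Subgroup.centralizer (T : Set G) ≤
      Subgroup.centralizer (Cfsg.thompsonSubgroupA G : Set G) :=
    Subgroup.centralizer_le (by exact_mod_cast hJ)
  have h3 := (cdm_centralizer_max (cdm_le_max (G := G)) T (cl_imp hT).1).2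
  calc _ ≤ Subgroup.centralizer ((Subgroup.centralizer (T : Set G) : Subgroup G) : Set G) :=
        Subgroup.centralizer_le (by exact_mod_cast le_inf h1 h2)
    _ = T := h3.symm

end Cfsg.Agent.Helper50
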