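import Cfsg.Agent.Lib.Helper50.ChermakDelgado
import Cfsg.Prelude.Def_BaumannBlocks

set_option autoImplicit false
open scoped Pointwise

namespace Cfsg.Agent.Helper50

variable {G : Type*} [Group G]

theorem map_subtype_center (R : Subgroup G) :
    (Subgroup.center ↥R).map R.subtype = R ⊓ Subgroup.centralizer (R : Set G) := by
  ext x
  constructor
  · rintro ⟨y, hy, rfl⟩
    refine ⟨y.2, ?_⟩
    show R.subtype y ∈ Subgroup.centralizer (R : Set G)
    rw [Subgroup.mem_centralizer_iff]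
    intro h hh
    have := Subgroup.mem_center_iff.mp hy ⟨h, hh⟩
    exact congrArg Subtype.val this
  · rintro ⟨hx1, hx2⟩
    refine ⟨⟨x, hx1⟩, ?_, rfl⟩
    show (⟨x, hx1⟩ : ↥R) ∈ Subgroup.center ↥R
    rw [Subgroup.mem_center_iff]
    intro g
    apply Subtype.ext
    exact Subgroup.mem_centralizer_iff.mp hx2 g g.2

theorem card_center_eq (R : Subgroup G) :
    Nat.card ↥(Subgroup.center ↥R) = Nat.card ↥(R ⊓ Subgroup.centralizer (R : Set G)) := by
  rw [← map_subtype_center]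
  exact (Nat.card_congr ((Subgroup.center ↥R).equivMapOfInjective R.subtype
    (Subgroup.subtype_injective R)).toEquiv)

/-- the `|R||Z(R)|` measure -/
noncomputable def clm (H : Subgroup G) : ℕ :=
  Nat.card H * Nat.card ↥(H ⊓ Subgroup.centralizer (H : Set G))

variable [Finite G]

theorem clm_le_cdm (H : Subgroup G) : clm H ≤ cdm H := by
  unfold clm cdm
  exact Nat.mul_le_mul_left _ (Subgroup.card_le_of_le inf_le_right)

theorem cdm_le_sq (H : Subgroup G) : cdm H ≤ Nat.card G * Nat.card G := by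
  unfold cdm
  exact Nat.mul_le_mul (Subgroup.card_le_card_group H) (Subgroup.card_le_card_group _)

theorem bddAbove_cdm_set :
    BddAbove {k : ℕ | ∃ R : Subgroup G, Nat.card ↥R * Nat.card ↥(Subgroup.centralizer (R : Set G)) = k} := by
  refine ⟨Nat.card G * Nat.card G, ?_⟩
  rintro k ⟨R, rfl⟩
  exact cdm_le_sq R

theorem bddAbove_clm_set :
    BddAbove {k : ℕ | ∃ R : Subgroup G, Nat.card ↥R * Nat.card ↥(Subgroup.center ↥R) = k} := by
  refine ⟨Nat.card G * Nat.card G, ?_⟩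
  rintro k ⟨R, rfl⟩
  rw [card_center_eq]
  exact (clm_le_cdm R).trans (cdm_le_sq R)

theorem cdm_le_max (R : Subgroup G) : cdm R ≤ Cfsg.maxCentralizerProduct G :=
  le_csSup bddAbove_cdm_set ⟨R, rfl⟩

theorem exists_cdm_eq_max : ∃ R : Subgroup G, cdm R = Cfsg.maxCentralizerProduct G := by
  have hne : {k : ℕ | ∃ R : Subgroup G,
      Nat.card ↥R * Nat.card ↥(Subgroup.centralizer (R : Set G)) = k}.Nonempty := ⟨_, ⟨⊥, rfl⟩⟩
  obtain ⟨R, hR⟩ := Nat.sSup_mem hne bddAbove_cdm_set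
  exact ⟨R, hR⟩

theorem clm_le_max (R : Subgroup G) : clm R ≤ Cfsg.maxCentralProduct G := by
  have : Nat.card ↥R * Nat.card ↥(Subgroup.center ↥R) ≤ Cfsg.maxCentralProduct G :=
    le_csSup bddAbove_clm_set ⟨R, rfl⟩
  rwa [card_center_eq] at this

theorem exists_clm_eq_max : ∃ R : Subgroup G, clm R = Cfsg.maxCentralProduct G := by
  have hne : {k : ℕ | ∃ R : Subgroup G,
      Nat.card ↥R * Nat.card ↥(Subgroup.center ↥R) = k}.Nonempty := ⟨_, ⟨⊥, rfl⟩⟩
  obtain ⟨R, hR⟩ := Nat.sSup_mem hne bddAbove_clm_set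
  refine ⟨R, ?_⟩
  unfold clm
  rw [← card_center_eq]; exact hR

omit [Finite G] in
theorem isCentralizerLarge_iff (R : Subgroup G) :
    Cfsg.IsCentralizerLarge R ↔ cdm R = Cfsg.maxCentralizerProduct G := Iff.rfl

omit [Finite G] in
theorem isCentrallyLarge_iff (R : Subgroup G) :
    Cfsg.IsCentrallyLarge R ↔ clm R = Cfsg.maxCentralProduct G := by
  unfold Cfsg.IsCentrallyLarge clm
  rw [card_center_eq]

end Cfsg.Agent.Helper50
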