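import Cfsg.Agent.Lib.Helper50.CLBasic

set_option autoImplicit false
open scoped Pointwise

namespace Cfsg.Agent.Helper50

variable {G : Type*} [Group G] [Finite G]

omit [Finite G] in
theorem clm_eq_cdm_of_le {T : Subgroup G} (h : Subgroup.centralizer (T : Set G) ≤ T) :
    clm T = cdm T := by
  unfold clm cdm
  rw [inf_eq_right.mpr h]

theorem maxCentralProduct_eq : Cfsg.maxCentralProduct G = Cfsg.maxCentralizerProduct G := by
  apply le_antisymm
  · obtain ⟨R, hR⟩ := exists_clm_eq_max (G := G)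
    rw [← hR]
    exact (clm_le_cdm R).trans (cdm_le_max R)
  · obtain ⟨R, hR⟩ := exists_cdm_eq_max (G := G)
    have hM := cdm_le_max (G := G)
    obtain ⟨hC, hCC⟩ := cdm_centralizer_max hM R hR
    obtain ⟨h1, -, -, -⟩ := cdm_max_sup_inf hM R _ hR hC
    have h2 : Subgroup.centralizer ((R ⊔ Subgroup.centralizer (R : Set G) : Subgroup G) : Set G) ≤
        R ⊔ Subgroup.centralizer (R : Set G) := by
      rw [centralizer_sup_eq]
      exact inf_le_left.trans le_sup_right
    rw [← h1, ← clm_eq_cdm_of_le h2]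
    exact clm_le_max _

theorem cl_imp {Q : Subgroup G} (hQ : Cfsg.IsCentrallyLarge Q) :
    Cfsg.IsCentralizerLarge Q ∧ Subgroup.centralizer (Q : Set G) = Q ⊓ Subgroup.centralizer (Q : Set G) := by
  rw [isCentrallyLarge_iff, maxCentralProduct_eq] at hQ
  have h1 : cdm Q = Cfsg.maxCentralizerProduct G :=
    le_antisymm (cdm_le_max Q) (hQ ▸ clm_le_cdm Q)
  refine ⟨h1, ?_⟩
  have h2 : clm Q = cdm Q := by rw [hQ, h1]
  unfold clm cdm at h2
  have h3 := Nat.eq_of_mul_eq_mul_left Nat.card_pos h2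
  exact (Subgroup.eq_of_le_of_card_ge inf_le_right (le_of_eq h3.symm)).symm

theorem cl_centralizer_le {Q : Subgroup G} (hQ : Cfsg.IsCentrallyLarge Q) :
    Subgroup.centralizer (Q : Set G) ≤ Q := by
  rw [(cl_imp hQ).2]; exact inf_le_left

theorem cl_iff_of_centralizerLarge {Q : Subgroup G} (hQ : Cfsg.IsCentralizerLarge Q) :
    Cfsg.IsCentrallyLarge Q ↔ Subgroup.centralizer (Q : Set G) ≤ Q := by
  constructor
  · exact cl_centralizer_le
  · intro h
    rw [isCentrallyLarge_iff, maxCentralProduct_eq, clm_eq_cdm_of_le h]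
    exact hQ

theorem cl_sup {Q R : Subgroup G} (hQ : Cfsg.IsCentrallyLarge Q) (hR : Cfsg.IsCentrallyLarge R) :
    ((Q ⊔ R : Subgroup G) : Set G) = (Q : Set G) * (R : Set G) ∧ Cfsg.IsCentrallyLarge (Q ⊔ R) := by
  have hM := cdm_le_max (G := G)
  have hQ' := (cl_imp hQ).1
  have hR' := (cl_imp hR).1
  obtain ⟨h1, -, h3, -⟩ := cdm_max_sup_inf hM Q R hQ' hR'
  refine ⟨coe_sup_eq_mul_of_card Q R h3, ?_⟩
  rw [cl_iff_of_centralizerLarge (Q := Q ⊔ R) h1, centralizer_sup_eq]
  exact inf_le_left.trans ((cl_centralizer_le hQ).trans le_sup_left)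

/-- the join of a nonempty family of centrally large subgroups is centrally large -/
theorem cl_sSup {s : Set (Subgroup G)} (hs : s.Nonempty) (h : ∀ R ∈ s, Cfsg.IsCentrallyLarge R) :
    Cfsg.IsCentrallyLarge (sSup s) := by
  classical
  obtain ⟨R0, hR0⟩ := hs
  obtain ⟨T, hTmem, hTmax⟩ := Set.Finite.exists_maximalFor (fun L : Subgroup G => Nat.card L)
    {L : Subgroup G | Cfsg.IsCentrallyLarge L ∧ L ≤ sSup s} (Set.toFinite _)
    ⟨R0, h R0 hR0, le_sSup hR0⟩
  have hT : sSup s = T := by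
    apply le_antisymm
    · apply sSup_le
      intro R hR
      have h1 : Cfsg.IsCentrallyLarge (R ⊔ T) := (cl_sup (h R hR) hTmem.1).2
      have h2 : R ⊔ T ≤ sSup s := sup_le (le_sSup hR) hTmem.2
      have h3 : Nat.card ↥(R ⊔ T) ≤ Nat.card T := by
        by_contra hlt
        push Not at hlt
        exact absurd (hTmax ⟨h1, h2⟩ hlt.le) (not_le.mpr hlt)
      have h4 : T = R ⊔ T := Subgroup.eq_of_le_of_card_ge le_sup_right h3
      rw [h4]; exact le_sup_left
    · exact hTmem.2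
  rw [hT]; exact hTmem.1

theorem exists_cl : ∃ R : Subgroup G, Cfsg.IsCentrallyLarge R := by
  obtain ⟨R, hR⟩ := exists_clm_eq_max (G := G)
  exact ⟨R, (isCentrallyLarge_iff R).mpr hR⟩

/-- below every centrally large subgroup there is a minimal one -/
theorem exists_minimal_cl_le {Q : Subgroup G} (hQ : Cfsg.IsCentrallyLarge Q) :
    ∃ R : Subgroup G, Cfsg.IsMinimalCentrallyLarge R ∧ R ≤ Q := by
  classical
  obtain ⟨T, hTmem, hTmin⟩ := Set.Finite.exists_minimalFor (fun L : Subgroup G => Nat.card L)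
    {L : Subgroup G | Cfsg.IsCentrallyLarge L ∧ L ≤ Q} (Set.toFinite _) ⟨Q, hQ, le_rfl⟩
  refine ⟨T, ⟨hTmem.1, ?_⟩, hTmem.2⟩
  intro R' hR'le hR'
  have h1 : Nat.card T ≤ Nat.card R' := by
    by_contra hlt
    push Not at hlt
    exact absurd (hTmin ⟨hR', hR'le.trans hTmem.2⟩ hlt.le) (not_le.mpr hlt)
  exact Subgroup.eq_of_le_of_card_ge hR'le h1

theorem exists_minimal_cl : ∃ R : Subgroup G, Cfsg.IsMinimalCentrallyLarge R := by
  obtain ⟨Q, hQ⟩ := exists_cl (G := G)
  obtain ⟨R, hR, -⟩ := exists_minimal_cl_le hQ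
  exact ⟨R, hR⟩

theorem cl_centrallyLargeJoin : Cfsg.IsCentrallyLarge (Cfsg.centrallyLargeJoin G) := by
  unfold Cfsg.centrallyLargeJoin
  exact cl_sSup exists_cl (fun R hR => hR)

theorem cl_minimalCentrallyLargeJoin : Cfsg.IsCentrallyLarge (Cfsg.minimalCentrallyLargeJoin G) := by
  unfold Cfsg.minimalCentrallyLargeJoin
  exact cl_sSup exists_minimal_cl (fun R hR => hR.1)

end Cfsg.Agent.Helper50
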