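import Cfsg.Agent.Lib.Helper50.CLAbelian

set_option autoImplicit false
open scoped Pointwise commutatorElement

namespace Cfsg.Agent.Helper50

variable {G : Type*} [Group G] [Finite G]

/-- For a minimal CL subgroup `Q` and any CL subgroup `R`: `Q = (Q ∩ R) C(Q)`. -/
theorem minimalCL_eq_inf_sup {Q R : Subgroup G} (hQ : Cfsg.IsMinimalCentrallyLarge Q)
    (hR : Cfsg.IsCentrallyLarge R) :
    (Q ⊓ R) ⊔ Subgroup.centralizer (Q : Set G) = Q := by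
  have hM := cdm_le_max (G := G)
  have hQ1 := (cl_imp hQ.1).1
  have hR1 := (cl_imp hR).1
  have hCQ := cl_centralizer_le hQ.1
  have hCR := cl_centralizer_le hR
  obtain ⟨-, hD, -, -⟩ := cdm_max_sup_inf hM Q R hQ1 hR1
  obtain ⟨hZ, hCC⟩ := cdm_centralizer_max hM Q hQ1
  obtain ⟨hQ₁, -, -, -⟩ := cdm_max_sup_inf hM (Q ⊓ R) _ hD hZ
  obtain ⟨hmul, hcen⟩ := centralizer_sup_mul_of_max hM Q R hQ1 hR1
  have hle : (Q ⊓ R) ⊔ Subgroup.centralizer (Q : Set G) ≤ Q := sup_le inf_le_left hCQ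
  apply hQ.2 _ hle
  rw [cl_iff_of_centralizerLarge hQ₁, centralizer_sup_eq, hcen, ← hCC]
  intro x hx
  have hx1 : x ∈ ((Subgroup.centralizer (Q : Set G) ⊔ Subgroup.centralizer (R : Set G) : Subgroup G) :
      Set G) := hx.1
  rw [hmul] at hx1
  obtain ⟨c₁, hc₁, c₂, hc₂, rfl⟩ := Set.mem_mul.mp hx1
  have hc₁' : c₁ ∈ Subgroup.centralizer (Q : Set G) := hc₁
  have hc₂' : c₂ ∈ Subgroup.centralizer (R : Set G) := hc₂
  have hc₂Q : c₂ ∈ Q := by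
    have := Q.mul_mem (Q.inv_mem (hCQ hc₁')) hx.2
    simpa using this
  exact (Subgroup.mul_mem _ ((le_sup_right : _ ≤ (Q ⊓ R) ⊔ Subgroup.centralizer (Q : Set G)) hc₁')
    ((le_sup_left : Q ⊓ R ≤ (Q ⊓ R) ⊔ Subgroup.centralizer (Q : Set G)) ⟨hc₂Q, hCR hc₂'⟩))

omit [Finite G] in
/-- derived subgroup of `(D ⊔ Z)` when `Z` centralizes everything. -/
theorem commutator_eq_of_central {Q D Z : Subgroup G} (hQ : D ⊔ Z = Q) (hD : D ≤ Q)
    (hZ : Z ≤ Subgroup.centralizer (Q : Set G))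
    (hmul : ((D ⊔ Z : Subgroup G) : Set G) = (D : Set G) * (Z : Set G)) :
    ⁅Q, Q⁆ = ⁅D, D⁆ := by
  apply le_antisymm
  · rw [Subgroup.commutator_le]
    intro a ha b hb
    have ha' : a ∈ ((D ⊔ Z : Subgroup G) : Set G) := by rw [hQ]; exact ha
    have hb' : b ∈ ((D ⊔ Z : Subgroup G) : Set G) := by rw [hQ]; exact hb
    rw [hmul] at ha' hb'
    obtain ⟨d₁, hd₁, z₁, hz₁, rfl⟩ := Set.mem_mul.mp ha'
    obtain ⟨d₂, hd₂, z₂, hz₂, rfl⟩ := Set.mem_mul.mp hb'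
    have hz₁c := Subgroup.mem_centralizer_iff.mp (hZ hz₁)
    have hz₂c := Subgroup.mem_centralizer_iff.mp (hZ hz₂)
    have hd₁Q : d₁ ∈ Q := hD hd₁
    have hd₂Q : d₂ ∈ Q := hD hd₂
    have hz₁Q : z₁ ∈ Q := by rw [← hQ]; exact (le_sup_right : Z ≤ D ⊔ Z) hz₁
    have hz₂Q : z₂ ∈ Q := by rw [← hQ]; exact (le_sup_right : Z ≤ D ⊔ Z) hz₂
    have key : ⁅d₁ * z₁, d₂ * z₂⁆ = ⁅d₁, d₂⁆ := by
      rw [commutatorElement_def, commutatorElement_def]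
      have e1 : d₂ * z₁ = z₁ * d₂ := hz₁c d₂ hd₂Q
      have e2 : d₁ * z₂ = z₂ * d₁ := hz₂c d₁ hd₁Q
      have e3 : z₁ * z₂ = z₂ * z₁ := (hz₂c z₁ hz₁Q)
      have e4 : d₁ * z₁ = z₁ * d₁ := hz₁c d₁ hd₁Q
      have e5 : d₂ * z₂ = z₂ * d₂ := hz₂c d₂ hd₂Q
      have e6 : d₁⁻¹ * z₁ = z₁ * d₁⁻¹ := hz₁c d₁⁻¹ (Q.inv_mem hd₁Q)
      have e7 : d₂⁻¹ * z₁ = z₁ * d₂⁻¹ := hz₁c d₂⁻¹ (Q.inv_mem hd₂Q)
      have e8 : d₁⁻¹ * z₂ = z₂ * d₁⁻¹ := hz₂c d₁⁻¹ (Q.inv_mem hd₁Q)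
      have e9 : d₂⁻¹ * z₂ = z₂ * d₂⁻¹ := hz₂c d₂⁻¹ (Q.inv_mem hd₂Q)
      calc d₁ * z₁ * (d₂ * z₂) * (d₁ * z₁)⁻¹ * (d₂ * z₂)⁻¹
          = z₁ * d₁ * (z₂ * d₂) * (z₁ * d₁)⁻¹ * (z₂ * d₂)⁻¹ := by rw [e4, e5]
        _ = z₁ * (d₁ * z₂) * d₂ * d₁⁻¹ * z₁⁻¹ * d₂⁻¹ * z₂⁻¹ := by group
        _ = z₁ * (z₂ * d₁) * d₂ * d₁⁻¹ * z₁⁻¹ * d₂⁻¹ * z₂⁻¹ := by rw [e2]
        _ = z₁ * z₂ * (d₁ * d₂ * d₁⁻¹) * z₁⁻¹ * d₂⁻¹ * z₂⁻¹ := by group
        _ = z₁ * z₂ * (d₁ * d₂ * d₁⁻¹) * (d₂ * z₁)⁻¹ * z₂⁻¹ := by group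
        _ = z₁ * z₂ * (d₁ * d₂ * d₁⁻¹) * (z₁ * d₂)⁻¹ * z₂⁻¹ := by rw [e1]
        _ = z₁ * z₂ * (d₁ * d₂ * d₁⁻¹ * d₂⁻¹) * z₁⁻¹ * z₂⁻¹ := by group
        _ = z₁ * (z₂ * (d₁ * d₂ * d₁⁻¹ * d₂⁻¹)) * z₁⁻¹ * z₂⁻¹ := by group
        _ = z₁ * ((d₁ * d₂ * d₁⁻¹ * d₂⁻¹) * z₂) * z₁⁻¹ * z₂⁻¹ := by
            rw [← hz₂c (d₁ * d₂ * d₁⁻¹ * d₂⁻¹)
              (Q.mul_mem (Q.mul_mem (Q.mul_mem hd₁Q hd₂Q) (Q.inv_mem hd₁Q)) (Q.inv_mem hd₂Q))]
        _ = (z₁ * (d₁ * d₂ * d₁⁻¹ * d₂⁻¹)) * z₂ * z₁⁻¹ * z₂⁻¹ := by group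
        _ = ((d₁ * d₂ * d₁⁻¹ * d₂⁻¹) * z₁) * z₂ * z₁⁻¹ * z₂⁻¹ := by
            rw [← hz₁c (d₁ * d₂ * d₁⁻¹ * d₂⁻¹)
              (Q.mul_mem (Q.mul_mem (Q.mul_mem hd₁Q hd₂Q) (Q.inv_mem hd₁Q)) (Q.inv_mem hd₂Q))]
        _ = (d₁ * d₂ * d₁⁻¹ * d₂⁻¹) * (z₁ * z₂) * z₁⁻¹ * z₂⁻¹ := by group
        _ = (d₁ * d₂ * d₁⁻¹ * d₂⁻¹) * (z₂ * z₁) * z₁⁻¹ * z₂⁻¹ := by rw [e3]
        _ = d₁ * d₂ * d₁⁻¹ * d₂⁻¹ := by group
    rw [key]
    exact Subgroup.commutator_mem_commutator hd₁ hd₂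
  · exact Subgroup.commutator_mono hD hD

theorem minimalCL_commutator_eq {Q R : Subgroup G} (hQ : Cfsg.IsMinimalCentrallyLarge Q)
    (hR : Cfsg.IsCentrallyLarge R) : ⁅Q, Q⁆ = ⁅Q ⊓ R, Q ⊓ R⁆ := by
  have hM := cdm_le_max (G := G)
  have hQ1 := (cl_imp hQ.1).1
  have hR1 := (cl_imp hR).1
  obtain ⟨-, hD, -, -⟩ := cdm_max_sup_inf hM Q R hQ1 hR1
  obtain ⟨hZ, -⟩ := cdm_centralizer_max hM Q hQ1
  obtain ⟨-, -, h3, -⟩ := cdm_max_sup_inf hM (Q ⊓ R) _ hD hZ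
  exact commutator_eq_of_central (minimalCL_eq_inf_sup hQ hR) inf_le_left le_rfl
    (coe_sup_eq_mul_of_card _ _ h3)

theorem minimalCL_card_eq {Q R : Subgroup G} (hQ : Cfsg.IsMinimalCentrallyLarge Q)
    (hR : Cfsg.IsMinimalCentrallyLarge R) :
    Nat.card Q = Nat.card R ∧
      Nat.card (Subgroup.centralizer (Q : Set G)) = Nat.card (Subgroup.centralizer (R : Set G)) := by
  have hM := cdm_le_max (G := G)
  have hQ1 := (cl_imp hQ.1).1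
  have hR1 := (cl_imp hR.1).1
  have hCQ := cl_centralizer_le hQ.1
  have hCR := cl_centralizer_le hR.1
  obtain ⟨-, hD, -, h4⟩ := cdm_max_sup_inf hM Q R hQ1 hR1
  obtain ⟨hZQ, -⟩ := cdm_centralizer_max hM Q hQ1
  obtain ⟨hZR, -⟩ := cdm_centralizer_max hM R hR1
  obtain ⟨-, -, e1, -⟩ := cdm_max_sup_inf hM (Q ⊓ R) _ hD hZQ
  have hD' : cdm (R ⊓ Q) = Cfsg.maxCentralizerProduct G := by rw [inf_comm]; exact hD
  obtain ⟨-, -, e2, -⟩ := cdm_max_sup_inf hM (R ⊓ Q) _ hD' hZR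
  rw [minimalCL_eq_inf_sup hQ hR.1] at e1
  rw [minimalCL_eq_inf_sup hR hQ.1] at e2
  have i1 : (Q ⊓ R) ⊓ Subgroup.centralizer (Q : Set G) = R ⊓ Subgroup.centralizer (Q : Set G) := by
    rw [inf_comm Q R, inf_assoc, inf_eq_right.mpr hCQ]
  have i2 : (R ⊓ Q) ⊓ Subgroup.centralizer (R : Set G) = Q ⊓ Subgroup.centralizer (R : Set G) := by
    rw [inf_comm R Q, inf_assoc, inf_eq_right.mpr hCR]
  rw [i1] at e1
  rw [i2, inf_comm R Q] at e2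
  rw [centralizer_sup_eq] at h4
  -- names
  set q := Nat.card Q
  set r := Nat.card R
  set zq := Nat.card (Subgroup.centralizer (Q : Set G))
  set zr := Nat.card (Subgroup.centralizer (R : Set G))
  set d := Nat.card ↥(Q ⊓ R)
  set wq := Nat.card ↥(R ⊓ Subgroup.centralizer (Q : Set G))
  set wr := Nat.card ↥(Q ⊓ Subgroup.centralizer (R : Set G))
  set z0 := Nat.card ↥(Subgroup.centralizer (Q : Set G) ⊓ Subgroup.centralizer (R : Set G))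
  set cd := Nat.card (Subgroup.centralizer ((Q ⊓ R : Subgroup G) : Set G))
  have hq : 0 < q := Nat.card_pos
  have hr : 0 < r := Nat.card_pos
  have hzq : 0 < zq := Nat.card_pos
  have hzr : 0 < zr := Nat.card_pos
  have hd : 0 < d := Nat.card_pos
  have hz0 : 0 < z0 := Nat.card_pos
  have f1 : q * zq = d * cd := by
    have a : cdm Q = cdm (Q ⊓ R) := (show cdm Q = _ from hQ1).trans hD.symm
    exact a
  have f2 : r * zr = d * cd := by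
    have a : cdm R = cdm (Q ⊓ R) := (show cdm R = _ from hR1).trans hD.symm
    exact a
  -- e1 : d * zq = q * wq ; e2 : d * zr = r * wr ; h4 : zq * zr = z0 * cd
  have hle1 : z0 ≤ wq := Subgroup.card_le_of_le (le_inf (inf_le_right.trans hCR) inf_le_left)
  have hle2 : z0 ≤ wr := Subgroup.card_le_of_le (le_inf (inf_le_left.trans hCQ) inf_le_right)
  have g5 : q * z0 = d * zr := by
    have : zq * (q * z0) = zq * (d * zr) := by
      calc zq * (q * z0) = (q * zq) * z0 := by ring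
        _ = d * cd * z0 := by rw [f1]
        _ = d * (z0 * cd) := by ring
        _ = d * (zq * zr) := by rw [h4]
        _ = zq * (d * zr) := by ring
    exact Nat.eq_of_mul_eq_mul_left hzq this
  have g6 : r * z0 = d * zq := by
    have : zr * (r * z0) = zr * (d * zq) := by
      calc zr * (r * z0) = (r * zr) * z0 := by ring
        _ = d * cd * z0 := by rw [f2]
        _ = d * (z0 * cd) := by ring
        _ = d * (zq * zr) := by rw [h4]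
        _ = zr * (d * zq) := by ring
    exact Nat.eq_of_mul_eq_mul_left hzr this
  have g7 : r * z0 = q * wq := by rw [g6, e1]
  have g8 : q * z0 = r * wr := by rw [g5, e2]
  have g9 : z0 * z0 = wq * wr := by
    have : (q * r) * (z0 * z0) = (q * r) * (wq * wr) := by
      calc (q * r) * (z0 * z0) = (r * z0) * (q * z0) := by ring
        _ = (q * wq) * (r * wr) := by rw [g7, g8]
        _ = (q * r) * (wq * wr) := by ring
    exact Nat.eq_of_mul_eq_mul_left (Nat.mul_pos hq hr) this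
  have g10 : wq = z0 := by
    by_contra hne
    have hlt : z0 < wq := lt_of_le_of_ne hle1 (Ne.symm hne)
    have : z0 * z0 < wq * wr := Nat.mul_lt_mul_of_lt_of_le hlt hle2 (lt_of_lt_of_le hz0 hle2)
    omega
  have g11 : q = r := by
    rw [g10] at g7
    have : z0 * r = z0 * q := by rw [mul_comm, g7, mul_comm]
    exact (Nat.eq_of_mul_eq_mul_left hz0 this).symm
  refine ⟨g11, ?_⟩
  have : q * zq = q * zr := by rw [f1, g11, ← f2]
  exact Nat.eq_of_mul_eq_mul_left hq this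

theorem minimalCL_iff_maxAbelian {Q : Subgroup G} (hQ : Cfsg.IsMinimalCentrallyLarge Q)
    (hQab : IsMulCommutative ↥Q) (X : Subgroup G) :
    Cfsg.IsMinimalCentrallyLarge X ↔ X ∈ Cfsg.maxAbelianSubgroups G := by
  have hCQ := cl_centralizer_le hQ.1
  have hQC : Q ≤ Subgroup.centralizer (Q : Set G) := Subgroup.le_centralizer_iff_isMulCommutative.mpr hQab
  have hCQeq : Subgroup.centralizer (Q : Set G) = Q := le_antisymm hCQ hQC
  have hf : Cfsg.maxCentralProduct G = Nat.card Q * Nat.card Q := by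
    rw [← (isCentrallyLarge_iff Q).mp hQ.1]
    unfold clm
    rw [hCQeq, inf_idem]
  have hab : ∀ B : Subgroup G, IsMulCommutative B → clm B = Nat.card B * Nat.card B := by
    intro B hB
    unfold clm
    rw [inf_eq_left.mpr (Subgroup.le_centralizer_iff_isMulCommutative.mpr hB)]
  have hle : ∀ B : Subgroup G, IsMulCommutative B → Nat.card B ≤ Nat.card Q := by
    intro B hB
    have h1 := clm_le_max B
    rw [hab B hB, hf] at h1
    exact Nat.mul_self_le_mul_self_iff.mp h1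
  constructor
  · intro hX
    obtain ⟨h1, h2⟩ := minimalCL_card_eq hQ hX
    rw [hCQeq] at h2
    have hCX := cl_centralizer_le hX.1
    have h3 : Subgroup.centralizer (X : Set G) = X :=
      Subgroup.eq_of_le_of_card_ge hCX (by rw [← h2, h1])
    have hXab : IsMulCommutative X := by
      rw [← Subgroup.le_centralizer_iff_isMulCommutative, h3]
    exact ⟨hXab, fun B hB => h1 ▸ hle B hB⟩
  · intro hX
    have h1 : Nat.card X = Nat.card Q := le_antisymm (hle X hX.1) (hX.2 Q hQab)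
    have hXcl : Cfsg.IsCentrallyLarge X := by
      rw [isCentrallyLarge_iff, hab X hX.1, hf, h1]
    refine ⟨hXcl, ?_⟩
    intro R' hR'le hR'
    have hR'ab : IsMulCommutative R' := isMulCommutative_of_le hX.1 hR'le
    have h2 := (isCentrallyLarge_iff R').mp hR'
    rw [hab R' hR'ab, hf, ← h1] at h2
    have h3 : Nat.card R' = Nat.card X := by
      have := Nat.mul_self_inj.mp h2
      exact this
    exact Subgroup.eq_of_le_of_card_ge hR'le (le_of_eq h3.symm)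

end Cfsg.Agent.Helper50
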