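import Mathlib
import Cfsg.Agent.Lib.Helper87.OmegaLemma
import Cfsg.Agent.Lib.Helper9.MinNonNilp
import Cfsg.Agent.Lib.Helper50.ExtClosed

set_option autoImplicit false

/-!
# `p'`-elements normalizing all subgroups of a fixed order of a `p`-group (helper50)

Main result `centralizes_of_family`: if `p` is the smallest prime divisor of `|G|`, `Q` is a `p`-subgroup,
`p ^ d < |Q|` (`d ≥ 1`) and the `p'`-element `g ∈ N_G(Q)` normalizes every subgroup of `Q` of order `p ^ d`
(and of order `4` when `p ^ d = 2`), then `g` centralizes `Q`.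
-/

namespace Cfsg.Agent.Helper50

open Subgroup

variable {G : Type*} [Group G]

/-- An element normalizing a finite cyclic subgroup `H` whose order is prime to `φ(|H|)` centralizes it. -/
theorem mem_centralizer_of_normalizes_cyclic (H : Subgroup G) [Finite H] (hH : IsCyclic H) {g : G}
    (hg : g ∈ normalizer (H : Set G)) (hcop : Nat.Coprime (orderOf g) (Nat.totient (Nat.card H))) :
    g ∈ centralizer (H : Set G) := by
  obtain ⟨g', hg'⟩ : ∃ g' : normalizer (H : Set G), g' = ⟨g, hg⟩ := ⟨_, rfl⟩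
  have h1 : orderOf (H.normalizerMonoidHom g') ∣ orderOf g := by
    have h2 : orderOf g' = orderOf g := by
      rw [hg', ← Subgroup.orderOf_coe]
    rw [← h2]
    exact orderOf_map_dvd _ _
  have h3 : orderOf (H.normalizerMonoidHom g') ∣ Nat.totient (Nat.card H) := by
    rw [← IsCyclic.card_mulAut (G := H)]
    exact orderOf_dvd_natCard _
  have h4 : orderOf (H.normalizerMonoidHom g') = 1 :=
    Nat.eq_one_of_dvd_coprimes hcop h1 h3
  rw [orderOf_eq_one_iff, ← MonoidHom.mem_ker, Subgroup.normalizerMonoidHom_ker,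
    Subgroup.mem_subgroupOf, hg'] at h4
  exact h4

/-- A conjugation of prime power order `r ^ k` on an invariant finite set of size prime to `r` has a
fixed point. -/
theorem exists_fixed_of_conj_invariant {r k : ℕ} [Fact r.Prime] (g : G) (hg : g ^ r ^ k = 1)
    (S : Set G) [Finite S] (hS : ∀ s ∈ S, g * s * g⁻¹ ∈ S) (hS' : ∀ s ∈ S, g⁻¹ * s * g ∈ S)
    (hcard : ¬ r ∣ Nat.card S) : ∃ s ∈ S, g * s * g⁻¹ = s := by
  classical
  haveI : Fintype S := Fintype.ofFinite S
  let σ : Equiv.Perm S :=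
    { toFun := fun s => ⟨g * s.1 * g⁻¹, hS s.1 s.2⟩
      invFun := fun s => ⟨g⁻¹ * s.1 * g, hS' s.1 s.2⟩
      left_inv := by
        intro s
        apply Subtype.ext
        simp only
        group
      right_inv := by
        intro s
        apply Subtype.ext
        simp only
        group }
  have hσ : ∀ (n : ℕ) (s : S), ((σ ^ n) s).1 = g ^ n * s.1 * (g ^ n)⁻¹ := by
    intro n
    induction n with
    | zero => intro s; simp
    | succ n ih =>
      intro s
      rw [pow_succ, Equiv.Perm.mul_apply, ih]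
      show g ^ n * (g * s.1 * g⁻¹) * (g ^ n)⁻¹ = g ^ (n + 1) * s.1 * (g ^ (n + 1))⁻¹
      rw [pow_succ, mul_inv_rev]
      group
  have hσ1 : σ ^ r ^ k = 1 := by
    ext s
    rw [hσ, hg]
    simp
  have hc : ¬ r ∣ Fintype.card S := by
    rwa [← Nat.card_eq_fintype_card]
  obtain ⟨s, hs⟩ := Equiv.Perm.exists_fixed_point_of_prime hc hσ1
  exact ⟨s.1, s.2, congrArg Subtype.val hs⟩

/-- subgroups of every intermediate `p`-power order between `H` and `Q`. -/
theorem exists_between_card [Finite G] {p : ℕ} [Fact p.Prime] {n m : ℕ} {H Q : Subgroup G}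
    (hHQ : H ≤ Q) (hH : Nat.card H = p ^ n) (hQ : p ^ m ∣ Nat.card Q) (hnm : n ≤ m) :
    ∃ K : Subgroup G, H ≤ K ∧ K ≤ Q ∧ Nat.card K = p ^ m := by
  have h1 : Nat.card (H.subgroupOf Q) = p ^ n := by
    rw [← hH]
    exact Nat.card_congr (Subgroup.subgroupOfEquivOfLe hHQ).toEquiv
  obtain ⟨K', hK', hHK'⟩ := Sylow.exists_subgroup_card_pow_prime_le (G := Q) p hQ
    (H.subgroupOf Q) h1 hnm
  refine ⟨K'.map Q.subtype, ?_, Subgroup.map_subtype_le K', ?_⟩
  · intro h hh
    exact ⟨⟨h, hHQ hh⟩, hHK' (Subgroup.mem_subgroupOf.mpr hh), rfl⟩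
  · rw [Subgroup.card_map_of_injective Q.subtype_injective, hK']

/-- nothing strictly between subgroups of prime index -/
theorem eq_or_eq_of_card_prime_mul' [Finite G] {X Z Y : Subgroup G} {p : ℕ} (hp : p.Prime)
    (hXZ : X ≤ Z) (hZY : Z ≤ Y) (hc : Nat.card Y = p * Nat.card X) : Z = X ∨ Z = Y := by
  obtain ⟨k, hk⟩ := Subgroup.card_dvd_of_le hXZ
  obtain ⟨l, hl⟩ := Subgroup.card_dvd_of_le hZY
  have hXpos : 0 < Nat.card X := Nat.card_pos
  have hlk : l * k = p := by
    have : Nat.card X * (l * k) = Nat.card X * p := by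
      rw [mul_comm (Nat.card X) p, ← hc, hl, hk]; ring
    exact Nat.eq_of_mul_eq_mul_left hXpos this
  have hdvd : k ∣ p := Dvd.intro_left l hlk
  rcases (Nat.dvd_prime hp).mp hdvd with h1 | h1
  · left
    symm
    apply Subgroup.eq_of_le_of_card_ge hXZ
    rw [hk, h1, mul_one]
  · right
    apply Subgroup.eq_of_le_of_card_ge hZY
    have hl1 : l = 1 := by
      rw [h1] at hlk
      have : l * p = 1 * p := by rw [hlk, one_mul]
      exact Nat.eq_of_mul_eq_mul_right hp.pos this
    rw [hl, hl1, mul_one]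

/-- an element normalizing `X` and `Y` normalizes `X ⊔ Y`. -/
theorem mem_normalizer_sup' [Finite G] {X Y : Subgroup G} {x : G}
    (hX : x ∈ normalizer (X : Set G)) (hY : x ∈ normalizer (Y : Set G)) :
    x ∈ normalizer ((X ⊔ Y : Subgroup G) : Set G) := by
  apply map_conj_le_iff_mem
  have h1 : X.map (MulAut.conj x).toMonoidHom = X := Subgroup.mem_normalizer_iff_map_conj_eq.mp hX
  have h2 : Y.map (MulAut.conj x).toMonoidHom = Y := Subgroup.mem_normalizer_iff_map_conj_eq.mp hY
  rw [Subgroup.map_sup, h1, h2]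

/-- the order of a subgroup of a `p`-group of order `< p ^ (e + 1)` is `p ^ c` with `c ≤ e` -/
theorem exists_card_eq_pow_le [Finite G] {p : ℕ} [hp : Fact p.Prime] {C Y : Subgroup G}
    (hY : IsPGroup p Y) (hCY : C < Y) {e : ℕ} (hYc : Nat.card Y = p ^ (e + 1)) :
    ∃ c, c ≤ e ∧ Nat.card C = p ^ c := by
  obtain ⟨c, hc⟩ := IsPGroup.iff_card.mp (hY.to_le hCY.le)
  refine ⟨c, ?_, hc⟩
  have h1 : Nat.card C < Nat.card Y := by
    have h1 : (C : Set G) ⊂ (Y : Set G) := SetLike.coe_ssubset_coe.mpr hCY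
    have h2 := Set.ncard_lt_ncard h1 (Set.toFinite _)
    rwa [← Nat.card_coe_set_eq, ← Nat.card_coe_set_eq] at h2
  rw [hc, hYc] at h1
  have := (Nat.pow_lt_pow_iff_right hp.out.one_lt).mp h1
  omega

end Cfsg.Agent.Helper50
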