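import Mathlib
import Cfsg.Agent.Lib.Helper50.CoprimeFamily
import Cfsg.Agent.Lib.Helper33.TameStep

set_option autoImplicit false

/-!
# `p'`-elements normalizing all subgroups of a fixed order of a `p`-group, II (helper50)
-/

namespace Cfsg.Agent.Helper50

open Subgroup

variable {G : Type*} [Group G]

/-- commuting form of membership in the centralizer of `zpowers` -/
theorem conj_eq_of_mem_centralizer {H : Subgroup G} {g x : G} (hg : g ∈ centralizer (H : Set G))
    (hx : x ∈ H) : g * x * g⁻¹ = x := by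
  have := (Subgroup.mem_centralizer_iff.mp hg) x hx
  rw [← this, mul_inv_cancel_right]

/-- a `p`-group all of whose subgroups of index `p` coincide is cyclic; here in the form: if `M` is the
only subgroup of order `p ^ d` of `Y` (of order `p ^ (d+1)`), then `M` is cyclic. -/
theorem isCyclic_of_unique_max [Finite G] {p : ℕ} [hp : Fact p.Prime] {d : ℕ} {M Y : Subgroup G}
    (hY : IsPGroup p Y) (hMY : M ≤ Y) (hMc : Nat.card M = p ^ d) (hYc : Nat.card Y = p ^ (d + 1))
    (huniq : ∀ M' : Subgroup G, M' ≤ Y → Nat.card M' = p ^ d → M' = M) : IsCyclic M := by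
  have hlt : M < Y := by
    refine lt_of_le_of_ne hMY ?_
    intro h
    rw [h, hYc] at hMc
    have := Nat.pow_right_injective hp.out.two_le hMc
    omega
  obtain ⟨y, hyY, hyM⟩ := SetLike.exists_of_lt hlt
  have hzY : zpowers y ≤ Y := (zpowers_le).mpr hyY
  have hz : zpowers y = Y := by
    by_contra hne
    have hlt' : zpowers y < Y := lt_of_le_of_ne hzY hne
    obtain ⟨c, hc, hcc⟩ := exists_card_eq_pow_le hY hlt' hYc
    obtain ⟨M', h1, h2, h3⟩ := exists_between_card (p := p) hzY hcc
      (by rw [hYc]; exact pow_dvd_pow p (Nat.le_succ d)) hc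
    rw [huniq M' h2 h3] at h1
    exact hyM (h1 (mem_zpowers y))
  have hMz : M ≤ zpowers y := hz ▸ hMY
  haveI : IsCyclic (M.subgroupOf (zpowers y)) := inferInstance
  exact isCyclic_of_surjective (Subgroup.subgroupOfEquivOfLe hMz).toMonoidHom
    (Subgroup.subgroupOfEquivOfLe hMz).surjective

/-- the cardinality of `Y \ M` for subgroups of orders `p ^ (d+1)` and `p ^ d` -/
theorem card_sdiff_subgroup [Finite G] {p d : ℕ} {M Y : Subgroup G} (hMY : M ≤ Y)
    (hMc : Nat.card M = p ^ d) (hYc : Nat.card Y = p ^ (d + 1)) :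
    Nat.card ↥((Y : Set G) \ (M : Set G)) = p ^ d * (p - 1) := by
  have h1 := Set.ncard_sdiff_add_ncard_of_subset (s := (M : Set G)) (t := (Y : Set G))
    (SetLike.coe_subset_coe.mpr hMY)
  have h2 : (M : Set G).ncard = p ^ d := by
    rw [← Nat.card_coe_set_eq]; exact hMc
  have h3 : (Y : Set G).ncard = p ^ (d + 1) := by
    rw [← Nat.card_coe_set_eq]; exact hYc
  rw [Nat.card_coe_set_eq, Nat.mul_sub_one, ← pow_succ]
  omega

/-- **Key lemma**, prime power case. -/
theorem centralizes_of_family_prime_pow [Finite G] {p d : ℕ} [hp : Fact p.Prime] (hd : 1 ≤ d)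
    (Q : Subgroup G) (hQ : IsPGroup p Q) (hQd : p ^ d < Nat.card Q)
    {r k : ℕ} [hr : Fact r.Prime] (hrp : ¬ r ∣ p) (hrp1 : ¬ r ∣ (p - 1))
    (g : G) (hgo : orderOf g = r ^ k) (hgQ : g ∈ normalizer (Q : Set G))
    (hfam : ∀ E : Subgroup G, E ≤ Q → (Nat.card E = p ^ d ∨ (p ^ d = 2 ∧ Nat.card E = 4)) →
      g ∈ normalizer (E : Set G)) :
    g ∈ centralizer (Q : Set G) := by
  obtain ⟨q, hq⟩ := IsPGroup.iff_card.mp hQ
  have hdq : d + 1 ≤ q := by
    rw [hq] at hQd
    exact (Nat.pow_lt_pow_iff_right hp.out.one_lt).mp hQd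
  have hcop_r_p : Nat.Coprime r p :=
    (Nat.coprime_primes hr.out hp.out).mpr (fun h => hrp (h ▸ dvd_rfl))
  have hm : Nat.Coprime (r ^ k) p := Nat.Coprime.pow_left k hcop_r_p
  have hgpow : g ^ r ^ k = 1 := by rw [← hgo]; exact pow_orderOf_eq_one g
  -- cyclic family members are centralized
  have hcyc : ∀ E : Subgroup G, E ≤ Q → IsCyclic E → g ∈ normalizer (E : Set G) →
      g ∈ centralizer (E : Set G) := by
    intro E hEQ hEc hgE
    obtain ⟨e, he⟩ := IsPGroup.iff_card.mp (hQ.to_le hEQ)
    apply mem_centralizer_of_normalizes_cyclic E hEc hgE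
    rw [hgo, he]
    rcases Nat.eq_zero_or_pos e with h0 | h0
    · rw [h0, pow_zero, Nat.totient_one]; exact Nat.coprime_one_right _
    · rw [Nat.totient_prime_pow hp.out h0]
      apply Nat.Coprime.pow_left
      apply Nat.Coprime.mul_right
      · exact Nat.Coprime.pow_right _ hcop_r_p
      · exact (Nat.Prime.coprime_iff_not_dvd hr.out).mpr hrp1
  -- the omega lemma
  have key : ∀ x ∈ Q, (MulAut.conj g) x = x := by
    apply Cfsg.Agent.Helper87.omega_lemma (MulAut.conj g) (r ^ k) hm Q hQ
    · intro x hx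
      rw [MulAut.conj_apply]
      exact (Subgroup.mem_normalizer_iff.mp hgQ x).mp hx
    · intro x hx
      rw [← map_pow, hgpow, map_one]
      rfl
    · intro x hx hxo
      rw [MulAut.conj_apply]
      obtain ⟨j, hj⟩ := Cfsg.Agent.Helper33.isPElem_of_mem hQ hx
      have hXQ : zpowers x ≤ Q := (zpowers_le).mpr hx
      have hXc : Nat.card (zpowers x) = p ^ j := by rw [Nat.card_zpowers, hj]
      have hXcyc : IsCyclic (zpowers x) := inferInstance
      have hjdvd : p ^ j ∣ Cfsg.Agent.Helper87.omegaExp p := by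
        rw [← hj]; exact orderOf_dvd_of_pow_eq_one hxo
      rcases lt_or_ge j d with hjd | hjd
      · -- small order: `j < d`
        obtain ⟨M, hXM, hMQ, hMc⟩ := exists_between_card (p := p) hXQ hXc
          (by rw [hq]; exact pow_dvd_pow p (by omega)) hjd.le
        obtain ⟨Y, hMY, hYQ, hYc⟩ := exists_between_card (p := p) hMQ hMc
          (by rw [hq]; exact pow_dvd_pow p hdq) (Nat.le_succ d)
        have hxM : x ∈ M := hXM (mem_zpowers x)
        have hgM : g ∈ normalizer (M : Set G) := hfam M hMQ (Or.inl hMc)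
        have hYp : IsPGroup p Y := hQ.to_le hYQ
        by_cases huniq : ∀ M' : Subgroup G, M' ≤ Y → Nat.card M' = p ^ d → M' = M
        · have hMcyc := isCyclic_of_unique_max hYp hMY hMc hYc huniq
          exact conj_eq_of_mem_centralizer (hcyc M hMQ hMcyc hgM) hxM
        · push Not at huniq
          obtain ⟨M', hM'Y, hM'c, hne⟩ := huniq
          have hgM' : g ∈ normalizer (M' : Set G) := hfam M' (hM'Y.trans hYQ) (Or.inl hM'c)
          have hsup : M ⊔ M' = Y := by
            have hYc' : Nat.card Y = p * Nat.card M := by rw [hYc, hMc, pow_succ, mul_comm]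
            rcases eq_or_eq_of_card_prime_mul' hp.out (le_sup_left : M ≤ M ⊔ M')
              (sup_le hMY hM'Y) hYc' with h1 | h1
            · exfalso
              apply hne
              have hle : M' ≤ M := h1 ▸ le_sup_right
              exact Subgroup.eq_of_le_of_card_ge hle (by rw [hMc, hM'c])
            · exact h1
          have hgY : g ∈ normalizer (Y : Set G) := hsup ▸ mem_normalizer_sup' hgM hgM'
          by_contra hfix
          obtain ⟨C, hC⟩ : ∃ C : Subgroup G, C = Y ⊓ centralizer ({g} : Set G) := ⟨_, rfl⟩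
          have hCmem : ∀ y, y ∈ C ↔ y ∈ Y ∧ g * y * g⁻¹ = y := by
            intro y
            rw [hC, Subgroup.mem_inf, Subgroup.mem_centralizer_singleton_iff]
            constructor
            · rintro ⟨h1, h2⟩
              exact ⟨h1, by rw [← h2, mul_inv_cancel_right]⟩
            · rintro ⟨h1, h2⟩
              refine ⟨h1, ?_⟩
              calc y * g = (g * y * g⁻¹) * g := by rw [h2]
                _ = g * y := by group
          have hCY : C < Y := by
            refine lt_of_le_of_ne (hC ▸ inf_le_left) ?_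
            intro h
            apply hfix
            exact ((hCmem x).mp (h ▸ hMY hxM)).2
          obtain ⟨c, hc, hcc⟩ := exists_card_eq_pow_le hYp hCY hYc
          obtain ⟨M'', hCM'', hM''Y, hM''c⟩ := exists_between_card (p := p) hCY.le hcc
            (by rw [hYc]; exact pow_dvd_pow p (Nat.le_succ d)) hc
          have hgM'' : g ∈ normalizer (M'' : Set G) :=
            hfam M'' (hM''Y.trans hYQ) (Or.inl hM''c)
          have hScard := card_sdiff_subgroup hM''Y hM''c hYc
          have hnd : ¬ r ∣ Nat.card ↥((Y : Set G) \ (M'' : Set G)) := by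
            rw [hScard, Nat.Prime.dvd_mul hr.out]
            rintro (h1 | h1)
            · exact hrp (Nat.Prime.dvd_of_dvd_pow hr.out h1)
            · exact hrp1 h1
          obtain ⟨s, hs, hsfix⟩ := exists_fixed_of_conj_invariant (r := r) (k := k) g hgpow
            ((Y : Set G) \ (M'' : Set G))
            (fun s hs => ⟨(Subgroup.mem_normalizer_iff.mp hgY s).mp hs.1,
              fun h => hs.2 ((Subgroup.mem_normalizer_iff.mp hgM'' s).mpr h)⟩)
            (fun s hs => ⟨(Subgroup.mem_normalizer_iff''.mp hgY s).mp hs.1,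
              fun h => hs.2 ((Subgroup.mem_normalizer_iff''.mp hgM'' s).mpr h)⟩) hnd
          exact hs.2 (hCM'' ((hCmem s).mpr ⟨hs.1, hsfix⟩))
      · -- `zpowers x` is in the family
        have hfamX : Nat.card (zpowers x) = p ^ d ∨ (p ^ d = 2 ∧ Nat.card (zpowers x) = 4) := by
          rcases hjd.eq_or_lt with h1 | h1
          · left; rw [hXc, h1]
          · right
            by_cases hp2 : p = 2
            · subst hp2
              rw [Cfsg.Agent.Helper87.omegaExp_two] at hjdvd
              have hj2' : j ≤ 2 := by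
                have : (2:ℕ) ^ j ∣ 2 ^ 2 := hjdvd
                exact (Nat.pow_dvd_pow_iff_le_right (by norm_num)).mp this
              have hj2 : j = 2 := by omega
              have hd1 : d = 1 := by omega
              rw [hXc, hj2, hd1]; norm_num
            · exfalso
              rw [Cfsg.Agent.Helper87.omegaExp_odd hp2] at hjdvd
              have h2 : p ^ j ∣ p ^ 1 := by simpa using hjdvd
              have := (Nat.pow_dvd_pow_iff_le_right hp.out.one_lt).mp h2
              omega
        have h1 := hcyc _ hXQ hXcyc (hfam _ hXQ hfamX)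
        exact conj_eq_of_mem_centralizer h1 (mem_zpowers x)
  rw [Subgroup.mem_centralizer_iff]
  intro x hx
  have := key x hx
  rw [MulAut.conj_apply] at this
  calc x * g = (g * x * g⁻¹) * g := by rw [this]
    _ = g * x := by group

/-- **Key lemma**: if `p` is the smallest prime divisor of `|G|`, a `p'`-element `g` normalizing the
`p`-subgroup `Q` and all its subgroups of order `p ^ d < |Q|` (and `4` when `p ^ d = 2`) centralizes `Q`. -/
theorem centralizes_of_family [Finite G] {p d : ℕ} [hp : Fact p.Prime] (hd : 1 ≤ d)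
    (hmin : ∀ q : ℕ, q.Prime → q ∣ Nat.card G → p ≤ q)
    (Q : Subgroup G) (hQ : IsPGroup p Q) (hQd : p ^ d < Nat.card Q)
    (g : G) (hgo : Nat.Coprime (orderOf g) p) (hgQ : g ∈ normalizer (Q : Set G))
    (hfam : ∀ E : Subgroup G, E ≤ Q → (Nat.card E = p ^ d ∨ (p ^ d = 2 ∧ Nat.card E = 4)) →
      g ∈ normalizer (E : Set G)) :
    g ∈ centralizer (Q : Set G) := by
  by_contra hgC
  obtain ⟨m, r, k, hr, hord, hnot⟩ := Cfsg.Agent.Helper9.exists_pow_prime_pow_not_mem
    (centralizer (Q : Set G)) (orderOf g) g rfl (orderOf_pos g) hgC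
  haveI : Fact r.Prime := ⟨hr⟩
  have hk0 : k ≠ 0 := by
    rintro rfl
    rw [pow_zero, orderOf_eq_one_iff] at hord
    exact hnot (hord ▸ Subgroup.one_mem _)
  have hr1 : r ∣ orderOf g := by
    have h1 : r ∣ orderOf (g ^ m) := by rw [hord]; exact dvd_pow_self r hk0
    exact h1.trans (orderOf_pow_dvd m)
  have hpr : p ≤ r := hmin r hr (hr1.trans (orderOf_dvd_natCard g))
  have hne : r ≠ p := by
    rintro rfl
    have h5 : r ∣ Nat.gcd (orderOf g) r := Nat.dvd_gcd hr1 dvd_rfl
    rw [Nat.Coprime] at hgo
    rw [hgo] at h5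
    exact hr.one_lt.ne' (Nat.dvd_one.mp h5)
  have hlt : p < r := lt_of_le_of_ne hpr (Ne.symm hne)
  have hrp : ¬ r ∣ p := fun h => hne ((Nat.prime_dvd_prime_iff_eq hr hp.out).mp h)
  have hrp1 : ¬ r ∣ (p - 1) := by
    intro h
    have h1 : 0 < p - 1 := by have := hp.out.one_lt; omega
    have := Nat.le_of_dvd h1 h
    omega
  apply hnot
  exact centralizes_of_family_prime_pow hd Q hQ hQd hrp hrp1 (g ^ m) hord
    (Subgroup.pow_mem _ hgQ m) (fun E hE hc => Subgroup.pow_mem _ (hfam E hE hc) m)

end Cfsg.Agent.Helper50
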