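import Mathlib
import Cfsg.Agent.Lib.Helper9.SupersolvableCLT
import Cfsg.Agent.Lib.Helper49.Eigen
import Cfsg.Agent.Lib.Helper2.Frobenius

set_option autoImplicit false

/-!
# Supersolvably embedded normal `p`-subgroups (helper50)

`reach_of_pgroup_by_abelian`: a normal `p`-subgroup `N` of a finite group `G` such that
`G / C_G(N)` is an extension of a `p`-group `S / C_S(N)` by an abelian group of exponent dividing `p - 1`
is reachable from `⊥` through normal subgroups of `G` with cyclic steps (helper9's `Reach`).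
-/

namespace Cfsg.Agent.Helper50

open Subgroup Cfsg.Agent.Helper9 Cfsg.Agent.Helper2
open scoped commutatorElement

universe u

/-- `G` acts on a normal subgroup of prime order `p` through an abelian group of exponent dividing
`p - 1`. -/
theorem commutator_pow_mem_centralizer_of_card_prime {Q : Type*} [Group Q] {p : ℕ} (hp : p.Prime)
    (C : Subgroup Q) [hC : C.Normal] (hcard : Nat.card C = p) (g h : Q) :
    ⁅g, h⁆ ∈ centralizer (C : Set Q) ∧ g ^ (p - 1) ∈ centralizer (C : Set Q) := by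
  haveI : Fact p.Prime := ⟨hp⟩
  haveI : Finite C := Nat.finite_of_card_ne_zero (by rw [hcard]; exact hp.ne_zero)
  haveI hcyc : IsCyclic C := isCyclic_of_prime_card hcard
  have hker : ∀ x : Q, (MulAut.conjNormal x : MulAut C) = 1 → x ∈ centralizer (C : Set Q) := by
    intro x hx
    rw [Subgroup.mem_centralizer_iff]
    intro c hc
    have h1 := congrArg (fun f : MulAut C => ((f ⟨c, hc⟩ : C) : Q)) hx
    simp only [MulAut.conjNormal_apply, MulAut.one_apply] at h1
    calc c * x = (x * c * x⁻¹) * x := by rw [h1]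
      _ = x * c := by group
  have hcomm : ∀ a b : MulAut C, a * b = b * a := by
    intro a b
    apply (IsCyclic.mulAutMulEquiv C).injective
    rw [map_mul, map_mul, mul_comm]
  constructor
  · apply hker
    rw [commutatorElement_def, map_mul, map_mul, map_mul, map_inv, map_inv,
      hcomm (MulAut.conjNormal g) (MulAut.conjNormal h)]
    group
  · apply hker
    rw [map_pow]
    have h1 : Nat.card (MulAut C) = p - 1 := by
      rw [IsCyclic.card_mulAut, hcard, Nat.totient_prime hp]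
    rw [← h1]
    haveI : Finite (MulAut C) := Nat.finite_of_card_ne_zero (by
      rw [h1]; have := hp.one_lt; omega)
    exact pow_card_eq_one'

/-- existence of minimal normal subgroups -/
theorem exists_minimal_normal_le {G : Type*} [Group G] [Finite G] :
    ∀ (n : ℕ) (V : Subgroup G), V.Normal → V ≠ ⊥ → Nat.card V = n →
      ∃ L : Subgroup G, L ≤ V ∧ L.Normal ∧ L ≠ ⊥ ∧
        ∀ K : Subgroup G, K.Normal → K ≤ L → K = ⊥ ∨ K = L := by
  intro n
  induction n using Nat.strong_induction_on with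
  | _ n ih =>
  intro V hVn hV hcard
  by_cases hmin : ∀ K : Subgroup G, K.Normal → K ≤ V → K = ⊥ ∨ K = V
  · exact ⟨V, le_rfl, hVn, hV, hmin⟩
  · push Not at hmin
    obtain ⟨K, hKn, hKV, hK1, hK2⟩ := hmin
    have hlt : Nat.card K < n := by
      rw [← hcard]; exact card_lt_card_of_lt' (lt_of_le_of_ne hKV hK2)
    obtain ⟨L, hLK, hLn, hL1, hLmin⟩ := ih _ hlt K hKn hK1 rfl
    exact ⟨L, hLK.trans hKV, hLn, hL1, hLmin⟩

/-- a `p`-group of automorphisms (the image of `S`) of the nontrivial normal `p`-subgroup `N` has a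
nontrivial fixed point -/
theorem exists_ne_one_mem_inf_centralizer {G : Type*} [Group G] [Finite G] {p : ℕ} [hp : Fact p.Prime]
    (N S : Subgroup G) [hN : N.Normal] (hNp : IsPGroup p N) (hN1 : N ≠ ⊥)
    (hS : ∀ s ∈ S, ∃ k : ℕ, s ^ p ^ k ∈ centralizer (N : Set G)) :
    ∃ b ∈ N, b ≠ 1 ∧ b ∈ centralizer (S : Set G) := by
  obtain ⟨φ, hφ⟩ : ∃ φ : S →* MulAut N, φ = (MulAut.conjNormal (H := N)).comp S.subtype :=
    ⟨_, rfl⟩
  have hφapp : ∀ (s : S) (n : N), ((φ s n : N) : G) = s * n * (s : G)⁻¹ := by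
    intro s n
    rw [hφ]
    rfl
  have hRp : IsPGroup p φ.range := by
    rintro ⟨r, s, rfl⟩
    obtain ⟨k, hk⟩ := hS s s.2
    refine ⟨k, ?_⟩
    apply Subtype.ext
    rw [Subgroup.coe_pow, Subgroup.coe_one]
    show (φ s) ^ p ^ k = 1
    rw [← map_pow]
    ext n
    rw [hφapp, MulAut.one_apply]
    have h1 := (Subgroup.mem_centralizer_iff.mp hk) n n.2
    rw [Subgroup.coe_pow]
    rw [← h1, mul_inv_cancel_right]
  have hdvd : p ∣ Nat.card N := by
    obtain ⟨k, hk⟩ := IsPGroup.iff_card.mp hNp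
    rcases Nat.eq_zero_or_pos k with h0 | h0
    · exfalso
      apply hN1
      rw [h0, pow_zero] at hk
      exact Subgroup.card_eq_one.mp hk
    · rw [hk]; exact dvd_pow_self p h0.ne'
  have hfix : (1 : N) ∈ MulAction.fixedPoints φ.range N := by
    rintro ⟨r, s, rfl⟩
    show (φ s) (1 : N) = 1
    exact map_one _
  obtain ⟨b, hb, hb1⟩ := hRp.exists_fixed_point_of_prime_dvd_card_of_fixed_point N hdvd hfix
  refine ⟨b, b.2, ?_, ?_⟩
  · intro h
    apply hb1
    exact (Subtype.ext h).symm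
  · rw [Subgroup.mem_centralizer_iff]
    intro s hs
    have h1 : (φ ⟨s, hs⟩) b = b := hb ⟨φ ⟨s, hs⟩, ⟨⟨s, hs⟩, rfl⟩⟩
    have h2 := congrArg (fun x : N => (x : G)) h1
    simp only [hφapp] at h2
    calc s * b = (s * b * s⁻¹) * s := by group
      _ = b * s := by rw [h2]

/-- **Hypercyclic embedding**: by induction on `|N|`. -/
theorem reach_of_pgroup_by_abelian_aux (p : ℕ) [hp : Fact p.Prime] :
    ∀ (n : ℕ) (G : Type u) [Group G] [Finite G] (N S : Subgroup G), N.Normal → S.Normal →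
      IsPGroup p N →
      (∀ s ∈ S, ∃ k : ℕ, s ^ p ^ k ∈ centralizer (N : Set G)) →
      (∀ g h : G, ⁅g, h⁆ ∈ S) → (∀ g : G, g ^ (p - 1) ∈ S) →
      Nat.card N = n → Reach N := by
  intro n
  induction n using Nat.strong_induction_on with
  | _ n ih =>
  intro G _ _ N S hNn hSn hNp hS hcom hpow hcard
  by_cases hN1 : N = ⊥
  · rw [hN1]; exact Reach.bot
  -- fixed points of `S` on `N`
  obtain ⟨N₁, hN₁⟩ : ∃ N₁ : Subgroup G, N₁ = N ⊓ centralizer (S : Set G) := ⟨_, rfl⟩
  have hN₁n : N₁.Normal := by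
    rw [hN₁]
    haveI : (centralizer (S : Set G)).Normal := Subgroup.normal_centralizer
    infer_instance
  have hN₁1 : N₁ ≠ ⊥ := by
    obtain ⟨b, hbN, hb1, hbS⟩ := exists_ne_one_mem_inf_centralizer N S hNp hN1 hS
    intro h
    apply hb1
    have : b ∈ N₁ := by rw [hN₁]; exact ⟨hbN, hbS⟩
    rw [h] at this
    exact Subgroup.mem_bot.mp this
  have hN₁p : IsPGroup p N₁ := hNp.to_le (hN₁ ▸ inf_le_left)
  -- the center of `N₁`
  obtain ⟨Z₁, hZ₁⟩ : ∃ Z₁ : Subgroup G, Z₁ = N₁ ⊓ centralizer (N₁ : Set G) := ⟨_, rfl⟩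
  have hZ₁n : Z₁.Normal := by
    rw [hZ₁]
    haveI : (centralizer (N₁ : Set G)).Normal := Subgroup.normal_centralizer
    infer_instance
  have hZ₁comm : ∀ a ∈ Z₁, ∀ b ∈ Z₁, a * b = b * a := by
    intro a ha b hb
    rw [hZ₁] at ha hb
    exact ((Subgroup.mem_centralizer_iff.mp hb.2) a ha.1)
  -- an element of order `p` in `Z₁`
  obtain ⟨z, hzZ, hzo⟩ : ∃ z ∈ Z₁, orderOf z = p := by
    haveI : Nontrivial N₁ := (Subgroup.nontrivial_iff_ne_bot N₁).mpr hN₁1
    haveI : Nontrivial (center N₁) := hN₁p.center_nontrivial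
    have hcp : IsPGroup p (center N₁) := hN₁p.to_subgroup _
    obtain ⟨k, hk⟩ := IsPGroup.iff_card.mp hcp
    have hdvd : p ∣ Nat.card (center N₁) := by
      rcases Nat.eq_zero_or_pos k with h0 | h0
      · exfalso
        rw [h0, pow_zero] at hk
        have := Finite.one_lt_card (α := center N₁)
        omega
      · rw [hk]; exact dvd_pow_self p h0.ne'
    obtain ⟨c, hc⟩ := exists_prime_orderOf_dvd_card' p hdvd
    refine ⟨((c : N₁) : G), ?_, ?_⟩
    · rw [hZ₁]
      refine ⟨(c : N₁).2, ?_⟩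
      show ((c : N₁) : G) ∈ centralizer (N₁ : Set G)
      rw [Subgroup.mem_centralizer_iff]
      intro m hm
      have h1 := (Subgroup.mem_center_iff.mp c.2) ⟨m, hm⟩
      exact congrArg (fun x : N₁ => (x : G)) h1
    · rw [Subgroup.orderOf_coe, Subgroup.orderOf_coe]; exact hc
  -- `V = Ω₁(Z₁)`
  let V : Subgroup G :=
    { carrier := {v | v ∈ Z₁ ∧ v ^ p = 1}
      one_mem' := ⟨Z₁.one_mem, one_pow p⟩
      mul_mem' := by
        rintro a b ⟨ha, ha'⟩ ⟨hb, hb'⟩
        refine ⟨Z₁.mul_mem ha hb, ?_⟩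
        have hab : Commute a b := hZ₁comm a ha b hb
        rw [hab.mul_pow, ha', hb', one_mul]
      inv_mem' := by
        rintro a ⟨ha, ha'⟩
        exact ⟨Z₁.inv_mem ha, by rw [inv_pow, ha', inv_one]⟩ }
  have hVmem : ∀ v, v ∈ V ↔ v ∈ Z₁ ∧ v ^ p = 1 := fun v => Iff.rfl
  have hVn : V.Normal := by
    constructor
    intro v hv g
    rw [hVmem] at hv ⊢
    refine ⟨hZ₁n.conj_mem v hv.1 g, ?_⟩
    rw [conj_pow, hv.2]; group
  have hV1 : V ≠ ⊥ := by
    intro h
    have hzV : z ∈ V := (hVmem z).mpr ⟨hzZ, by rw [← hzo]; exact pow_orderOf_eq_one z⟩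
    rw [h, Subgroup.mem_bot] at hzV
    rw [hzV, orderOf_one] at hzo
    exact hp.out.one_lt.ne hzo
  obtain ⟨L, hLV, hLn, hL1, hLmin⟩ := exists_minimal_normal_le _ V hVn hV1 rfl
  have hLZ : L ≤ Z₁ := fun x hx => ((hVmem x).mp (hLV hx)).1
  have hLN₁ : L ≤ N₁ := fun x hx => by
    have := hLZ hx
    rw [hZ₁] at this
    exact this.1
  have hLN : L ≤ N := fun x hx => by
    have := hLN₁ hx
    rw [hN₁] at this
    exact this.1
  have hLS : ∀ x ∈ L, ∀ s ∈ S, s * x = x * s := by
    intro x hx s hs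
    have := hLN₁ hx
    rw [hN₁] at this
    exact (Subgroup.mem_centralizer_iff.mp this.2) s hs
  have hLcard : Nat.card L = p :=
    Cfsg.Agent.Helper49.card_eq_prime_of_minNormal_of_abelian_action p L hL1 hLmin
      (fun a ha b hb => hZ₁comm a (hLZ ha) b (hLZ hb))
      (fun a ha => ((hVmem a).mp (hLV ha)).2)
      (fun g h n hn => hLS n hn _ (hcom g h))
      (fun g n hn => hLS n hn _ (hpow g))
  -- `L` is reachable
  have hLreach : Reach L := by
    haveI : IsCyclic L := isCyclic_of_prime_card hLcard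
    obtain ⟨g, hg⟩ := (Subgroup.isCyclic_iff_exists_zpowers_eq_top L).mp inferInstance
    rw [← hg]
    apply reach_zpowers
    rw [hg]; exact hLn
  -- the quotient
  haveI := hLn
  obtain ⟨π, hπ⟩ : ∃ π : G →* G ⧸ L, π = QuotientGroup.mk' L := ⟨_, rfl⟩
  have hπs : Function.Surjective π := by rw [hπ]; exact QuotientGroup.mk'_surjective L
  have hker : π.ker = L := by rw [hπ]; exact QuotientGroup.ker_mk' L
  have hcomap : (N.map π).comap π = N := by
    rw [Subgroup.comap_map_eq, hker]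
    exact sup_eq_left.mpr hLN
  have hcardlt : Nat.card (N.map π) < n := by
    have h1 := card_comap_mk' L (N.map (QuotientGroup.mk' L))
    rw [← hπ, hcomap, hcard, hLcard] at h1
    have h2 : 0 < Nat.card (N.map π) := Nat.card_pos
    have h3 := hp.out.two_le
    nlinarith
  have hreach' : Reach (N.map π) := by
    apply ih _ hcardlt (G ⧸ L) (N.map π) (S.map π) (hNn.map π hπs) (hSn.map π hπs)
      (hNp.map π) ?_ ?_ ?_ rfl
    · rintro _ ⟨s, hs, rfl⟩
      obtain ⟨k, hk⟩ := hS s hs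
      refine ⟨k, ?_⟩
      rw [← map_pow, Subgroup.mem_centralizer_iff]
      rintro _ ⟨m, hm, rfl⟩
      rw [← map_mul, ← map_mul, (Subgroup.mem_centralizer_iff.mp hk) m hm]
    · intro g h
      obtain ⟨g, rfl⟩ := hπs g
      obtain ⟨h, rfl⟩ := hπs h
      rw [← map_commutatorElement]
      exact ⟨_, hcom g h, rfl⟩
    · intro g
      obtain ⟨g, rfl⟩ := hπs g
      rw [← map_pow]
      exact ⟨_, hpow g, rfl⟩
  have hkreach : Reach π.ker := by rw [hker]; exact hLreach
  have := Reach.comap π hkreach hreach'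
  rwa [hcomap] at this

/-- **Hypercyclic embedding**: if `G` acts on the normal `p`-subgroup `N` through an extension of a
`p`-group (the image of `S`) by an abelian group of exponent dividing `p - 1`, then `N` is reachable. -/
theorem reach_of_pgroup_by_abelian {G : Type u} [Group G] [Finite G] (p : ℕ) [Fact p.Prime]
    (N S : Subgroup G) (hN : N.Normal) (hSn : S.Normal) (hNp : IsPGroup p N)
    (hS : ∀ s ∈ S, ∃ k : ℕ, s ^ p ^ k ∈ centralizer (N : Set G))
    (hcom : ∀ g h : G, ⁅g, h⁆ ∈ S) (hpow : ∀ g : G, g ^ (p - 1) ∈ S) : Reach N :=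
  reach_of_pgroup_by_abelian_aux p _ G N S hN hSn hNp hS hcom hpow rfl

end Cfsg.Agent.Helper50
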