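import Mathlib
import Cfsg.Agent.Lib.Helper50.HyperEmbed
import Cfsg.Agent.Lib.Helper50.CoprimeFamily2

set_option autoImplicit false

/-!
# Normal `p`-subgroups all of whose subgroups of a fixed order are normal (helper50)

`reach_of_family_normal`: if `N` is a normal `p`-subgroup of the finite group `G`, `1 ≤ d`, `p ^ d < |N|`
and every subgroup of `N` of order `p ^ d` (and of order `4` when `p ^ d = 2`) is normal in `G`, then `N` is
supersolvably embedded in `G` (helper9's `Reach N`).
-/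

namespace Cfsg.Agent.Helper50

open Subgroup Cfsg.Agent.Helper9 Cfsg.Agent.Helper2
open scoped commutatorElement

universe u

variable {G : Type*} [Group G]

/-- elements acting trivially on every `G`-section `A / B` of order `p` inside `N` -/
def sectionStab (p : ℕ) (N : Subgroup G) : Subgroup G where
  carrier := {g | ∀ A B : Subgroup G, A.Normal → B.Normal → B ≤ A → A ≤ N →
    Nat.card A = p * Nat.card B → ∀ a ∈ A, a⁻¹ * (g * a * g⁻¹) ∈ B}
  one_mem' := by
    intro A B _ _ _ _ _ a _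
    simp [B.one_mem]
  mul_mem' := by
    intro g h hg hh A B hA hB hBA hAN hc a ha
    have h1 := hg A B hA hB hBA hAN hc a ha
    have h2 := hh A B hA hB hBA hAN hc a ha
    have h3 : g * (a⁻¹ * (h * a * h⁻¹)) * g⁻¹ ∈ B := hB.conj_mem _ h2 g
    have : a⁻¹ * (g * h * a * (g * h)⁻¹) =
        (a⁻¹ * (g * a * g⁻¹)) * (g * (a⁻¹ * (h * a * h⁻¹)) * g⁻¹) := by group
    rw [this]; exact B.mul_mem h1 h3
  inv_mem' := by
    intro g hg A B hA hB hBA hAN hc a ha
    have h1 := hg A B hA hB hBA hAN hc a⁻¹ (A.inv_mem ha)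
    have h2 := hB.conj_mem _ h1 (g⁻¹ * a⁻¹)
    have : a⁻¹ * (g⁻¹ * a * g⁻¹⁻¹) =
        (g⁻¹ * a⁻¹) * ((a⁻¹)⁻¹ * (g * a⁻¹ * g⁻¹)) * (g⁻¹ * a⁻¹)⁻¹ := by group
    rw [this]; exact h2

theorem mem_sectionStab_iff {p : ℕ} {N : Subgroup G} {g : G} :
    g ∈ sectionStab p N ↔ ∀ A B : Subgroup G, A.Normal → B.Normal → B ≤ A → A ≤ N →
      Nat.card A = p * Nat.card B → ∀ a ∈ A, a⁻¹ * (g * a * g⁻¹) ∈ B := Iff.rfl

theorem sectionStab_normal (p : ℕ) (N : Subgroup G) : (sectionStab p N).Normal := by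
  constructor
  intro g hg h
  rw [mem_sectionStab_iff] at hg ⊢
  intro A B hA hB hBA hAN hc a ha
  have ha' : h⁻¹ * a * h ∈ A := by
    have := hA.conj_mem a ha h⁻¹
    simpa using this
  have h1 := hg A B hA hB hBA hAN hc _ ha'
  have h2 := hB.conj_mem _ h1 h
  have : a⁻¹ * (h * g * h⁻¹ * a * (h * g * h⁻¹)⁻¹) =
      h * ((h⁻¹ * a * h)⁻¹ * (g * (h⁻¹ * a * h) * g⁻¹)) * h⁻¹ := by group
  rw [this]; exact h2

theorem section_key (A B : Subgroup G) [hB : B.Normal] (x : G)
    (hx : QuotientGroup.mk' B x ∈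
      centralizer ((A.map (QuotientGroup.mk' B) : Subgroup (G ⧸ B)) : Set (G ⧸ B))) :
    ∀ a ∈ A, a⁻¹ * (x * a * x⁻¹) ∈ B := by
  intro a ha
  have h1 := (Subgroup.mem_centralizer_iff.mp hx) _ ⟨a, ha, rfl⟩
  rw [← QuotientGroup.eq_one_iff (N := B)]
  have h2 : ((a⁻¹ * (x * a * x⁻¹) : G) : G ⧸ B) =
      (QuotientGroup.mk' B a)⁻¹ * (QuotientGroup.mk' B x * QuotientGroup.mk' B a *
        (QuotientGroup.mk' B x)⁻¹) := by
    simp
  rw [h2, ← h1]
  group

theorem section_card [Finite G] {p : ℕ} (A B : Subgroup G) [hB : B.Normal] (hBA : B ≤ A)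
    (hc : Nat.card A = p * Nat.card B) :
    Nat.card (A.map (QuotientGroup.mk' B) : Subgroup (G ⧸ B)) = p := by
  have h1 := card_comap_mk' B (A.map (QuotientGroup.mk' B))
  rw [Subgroup.comap_map_eq, QuotientGroup.ker_mk', sup_eq_left.mpr hBA, hc] at h1
  have hpos : 0 < Nat.card B := Nat.card_pos
  exact (Nat.eq_of_mul_eq_mul_right hpos h1).symm

/-- commutators and `(p-1)`-th powers lie in `sectionStab` -/
theorem commutator_pow_mem_sectionStab [Finite G] {p : ℕ} (hp : p.Prime) (N : Subgroup G) (g h : G) :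
    ⁅g, h⁆ ∈ sectionStab p N ∧ g ^ (p - 1) ∈ sectionStab p N := by
  constructor
  · rw [mem_sectionStab_iff]
    intro A B hA hB hBA hAN hc
    apply section_key A B
    haveI : (A.map (QuotientGroup.mk' B)).Normal :=
      hA.map _ (QuotientGroup.mk'_surjective B)
    have := (commutator_pow_mem_centralizer_of_card_prime hp (A.map (QuotientGroup.mk' B))
      (section_card A B hBA hc) (QuotientGroup.mk' B g) (QuotientGroup.mk' B h)).1
    rwa [← map_commutatorElement] at this
  · rw [mem_sectionStab_iff]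
    intro A B hA hB hBA hAN hc
    apply section_key A B
    haveI : (A.map (QuotientGroup.mk' B)).Normal :=
      hA.map _ (QuotientGroup.mk'_surjective B)
    have := (commutator_pow_mem_centralizer_of_card_prime hp (A.map (QuotientGroup.mk' B))
      (section_card A B hBA hc) (QuotientGroup.mk' B g) (QuotientGroup.mk' B g)).2
    rwa [← map_pow] at this

/-- **Burnside by counting**: a `p'`-element `s` acting trivially on `Y / M` for every subgroup `M` of
index `p` of the `p`-group `Y` (of order `p ^ (d+1)`) centralizes `Y`. The hypothesis is stated for a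
subgroup `S ∋ s` so that it passes to powers. -/
theorem centralizes_of_section_trivial [Finite G] {p d : ℕ} [hp : Fact p.Prime]
    (Y : Subgroup G) (hYp : IsPGroup p Y) (hYc : Nat.card Y = p ^ (d + 1)) (S : Subgroup G)
    (hS : ∀ t ∈ S, ∀ M : Subgroup G, M ≤ Y → Nat.card M = p ^ d →
      ∀ y ∈ Y, y⁻¹ * (t * y * t⁻¹) ∈ M)
    (s : G) (hsS : s ∈ S) (hso : Nat.Coprime (orderOf s) p) :
    s ∈ centralizer (Y : Set G) := by
  by_contra hsC
  obtain ⟨m, r, k, hr, hord, hnot⟩ := Cfsg.Agent.Helper9.exists_pow_prime_pow_not_mem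
    (centralizer (Y : Set G)) (orderOf s) s rfl (orderOf_pos s) hsC
  haveI : Fact r.Prime := ⟨hr⟩
  obtain ⟨t, ht⟩ : ∃ t, t = s ^ m := ⟨_, rfl⟩
  rw [← ht] at hord hnot
  have htS : t ∈ S := ht ▸ S.pow_mem hsS m
  have hk0 : k ≠ 0 := by
    rintro rfl
    rw [pow_zero, orderOf_eq_one_iff] at hord
    exact hnot (hord ▸ Subgroup.one_mem _)
  have hr1 : r ∣ orderOf s := by
    have h1 : r ∣ orderOf t := by rw [hord]; exact dvd_pow_self r hk0
    exact h1.trans (ht ▸ orderOf_pow_dvd m)
  have hne : r ≠ p := by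
    rintro rfl
    have h5 : r ∣ Nat.gcd (orderOf s) r := Nat.dvd_gcd hr1 dvd_rfl
    rw [Nat.Coprime] at hso
    rw [hso] at h5
    exact hr.one_lt.ne' (Nat.dvd_one.mp h5)
  have htpow : t ^ r ^ k = 1 := by rw [← hord]; exact pow_orderOf_eq_one t
  -- the centralizer of `t` in `Y`
  obtain ⟨C, hC⟩ : ∃ C : Subgroup G, C = Y ⊓ centralizer ({t} : Set G) := ⟨_, rfl⟩
  have hCmem : ∀ y, y ∈ C ↔ y ∈ Y ∧ t * y * t⁻¹ = y := by
    intro y
    rw [hC, Subgroup.mem_inf, Subgroup.mem_centralizer_singleton_iff]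
    constructor
    · rintro ⟨h1, h2⟩
      exact ⟨h1, by rw [← h2, mul_inv_cancel_right]⟩
    · rintro ⟨h1, h2⟩
      refine ⟨h1, ?_⟩
      calc y * t = (t * y * t⁻¹) * t := by rw [h2]
        _ = t * y := by group
  have hCY : C < Y := by
    refine lt_of_le_of_ne (hC ▸ inf_le_left) ?_
    intro h
    apply hnot
    rw [Subgroup.mem_centralizer_iff]
    intro y hy
    have := ((hCmem y).mp (h ▸ hy)).2
    calc y * t = (t * y * t⁻¹) * t := by rw [this]
      _ = t * y := by group
  obtain ⟨c, hc, hcc⟩ := exists_card_eq_pow_le hYp hCY hYc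
  obtain ⟨M, hCM, hMY, hMc⟩ := exists_between_card (p := p) hCY.le hcc
    (by rw [hYc]; exact pow_dvd_pow p (Nat.le_succ d)) hc
  have hMltY : M < Y := by
    refine lt_of_le_of_ne hMY ?_
    intro h
    rw [h, hYc] at hMc
    have := Nat.pow_right_injective hp.out.two_le hMc
    omega
  obtain ⟨y, hyY, hyM⟩ := SetLike.exists_of_lt hMltY
  -- `t` and `t⁻¹` normalize `M` and act trivially on `Y / M`
  have hact : ∀ u ∈ S, ∀ z ∈ Y, z⁻¹ * (u * z * u⁻¹) ∈ M := fun u hu z hz => hS u hu M hMY hMc z hz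
  have hnorm : ∀ u ∈ S, ∀ z ∈ M, u * z * u⁻¹ ∈ M := by
    intro u hu z hz
    have := M.mul_mem hz (hact u hu z (hMY hz))
    rwa [mul_inv_cancel_left] at this
  -- the coset `y M`
  obtain ⟨T, hT⟩ : ∃ T : Set G, T = {z | y⁻¹ * z ∈ M} := ⟨_, rfl⟩
  have hTmem : ∀ z, z ∈ T ↔ y⁻¹ * z ∈ M := fun z => by rw [hT]; rfl
  have hTcard : Nat.card T = p ^ d := by
    rw [← hMc]
    symm
    refine Nat.card_congr
      { toFun := fun z => ⟨y * z.1, (hTmem _).mpr (by rw [inv_mul_cancel_left]; exact z.2)⟩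
        invFun := fun z => ⟨y⁻¹ * z.1, (hTmem _).mp z.2⟩
        left_inv := by intro z; apply Subtype.ext; simp
        right_inv := by intro z; apply Subtype.ext; simp }
  have hinvT : ∀ u ∈ S, ∀ z ∈ T, u * z * u⁻¹ ∈ T := by
    intro u hu z hz
    rw [hTmem] at hz ⊢
    have h1 := hact u hu y hyY
    have h2 := hnorm u hu _ hz
    have : y⁻¹ * (u * z * u⁻¹) = (y⁻¹ * (u * y * u⁻¹)) * (u * (y⁻¹ * z) * u⁻¹) := by group
    rw [this]; exact M.mul_mem h1 h2
  have hnd : ¬ r ∣ Nat.card T := by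
    rw [hTcard]
    intro h
    exact hne ((Nat.prime_dvd_prime_iff_eq hr hp.out).mp (hr.dvd_of_dvd_pow h))
  obtain ⟨z, hzT, hzfix⟩ := exists_fixed_of_conj_invariant (r := r) (k := k) t htpow T
    (fun z hz => hinvT t htS z hz)
    (fun z hz => by
      have := hinvT t⁻¹ (S.inv_mem htS) z hz
      rwa [inv_inv] at this) hnd
  have hzY : z ∈ Y := by
    have h1 : y⁻¹ * z ∈ Y := hMY ((hTmem z).mp hzT)
    have := Y.mul_mem hyY h1
    rwa [mul_inv_cancel_left] at this
  have hzM : z ∈ M := hCM ((hCmem z).mpr ⟨hzY, hzfix⟩)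
  apply hyM
  have h1 : y⁻¹ * z ∈ M := (hTmem z).mp hzT
  have h2 := M.mul_mem hzM (M.inv_mem h1)
  have h3 : z * (y⁻¹ * z)⁻¹ = y := by group
  rwa [h3] at h2

/-- a normal cyclic subgroup: every subgroup generated by an element is normal -/
theorem zpowers_normal_of_mem_cyclic_normal {M : Subgroup G} (hM : M.Normal) (hMc : IsCyclic M)
    {x : G} (hx : x ∈ M) : (zpowers x).Normal := by
  obtain ⟨m, hm⟩ := (Subgroup.isCyclic_iff_exists_zpowers_eq_top M).mp hMc
  have hmM : m ∈ M := hm ▸ mem_zpowers m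
  obtain ⟨i, hi⟩ := Subgroup.mem_zpowers_iff.mp (hm ▸ hx : x ∈ zpowers m)
  constructor
  intro n hn g
  obtain ⟨j, rfl⟩ := Subgroup.mem_zpowers_iff.mp hn
  have hgm : g * m * g⁻¹ ∈ zpowers m := by rw [hm]; exact hM.conj_mem m hmM g
  obtain ⟨a, ha⟩ := Subgroup.mem_zpowers_iff.mp hgm
  -- `g x g⁻¹ = x ^ a`
  have h1 : g * x * g⁻¹ = x ^ a := by
    rw [← hi, ← conj_zpow, ← ha, ← zpow_mul, ← zpow_mul, mul_comm]
  rw [← conj_zpow, h1, ← zpow_mul]
  exact Subgroup.zpow_mem _ (mem_zpowers x) _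

/-- **Normal subgroups of fixed order**: the supersolvable embedding. -/
theorem reach_of_family_normal {G : Type u} [Group G] [Finite G] {p d : ℕ} [hp : Fact p.Prime]
    (hd : 1 ≤ d) (N : Subgroup G) (hN : N.Normal) (hNp : IsPGroup p N) (hNd : p ^ d < Nat.card N)
    (hfam : ∀ F : Subgroup G, F ≤ N → (Nat.card F = p ^ d ∨ (p ^ d = 2 ∧ Nat.card F = 4)) →
      F.Normal) : Reach N := by
  obtain ⟨q, hq⟩ := IsPGroup.iff_card.mp hNp
  have hdq : d + 1 ≤ q := by
    rw [hq] at hNd
    exact (Nat.pow_lt_pow_iff_right hp.out.one_lt).mp hNd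
  apply reach_of_pgroup_by_abelian p N (sectionStab p N) hN (sectionStab_normal p N) hNp ?_
    (fun g h => (commutator_pow_mem_sectionStab hp.out N g h).1)
    (fun g => (commutator_pow_mem_sectionStab hp.out N g g).2)
  intro s hs
  refine ⟨(orderOf s).factorization p, ?_⟩
  obtain ⟨t, ht⟩ : ∃ t, t = s ^ p ^ (orderOf s).factorization p := ⟨_, rfl⟩
  rw [← ht]
  have htS : t ∈ sectionStab p N := ht ▸ Subgroup.pow_mem _ hs _
  have hto : Nat.Coprime (orderOf t) p := ht ▸ coprime_orderOf_pow_ordProj s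
  have htN : t ∈ normalizer (N : Set G) := by
    rw [Subgroup.normalizer_eq_top_iff.mpr hN]; exact Subgroup.mem_top t
  by_cases hp2 : p = 2
  · subst hp2
    exact centralizes_of_family hd (fun q hq _ => hq.two_le) N hNp hNd t hto htN
      (fun E hE hc => by
        rw [Subgroup.normalizer_eq_top_iff.mpr (hfam E hE hc)]; exact Subgroup.mem_top t)
  · have key : ∀ x ∈ N, (MulAut.conj t) x = x := by
      apply Cfsg.Agent.Helper87.omega_lemma (MulAut.conj t) (orderOf t) hto N hNp
      · intro x hx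
        rw [MulAut.conj_apply]
        exact hN.conj_mem x hx t
      · intro x _
        rw [← map_pow, pow_orderOf_eq_one, map_one]
        rfl
      · intro x hx hxo
        rw [MulAut.conj_apply, Cfsg.Agent.Helper87.omegaExp_odd hp2] at *
        by_cases hx1 : x = 1
        · rw [hx1]; group
        have hxord : orderOf x = p := orderOf_eq_prime hxo hx1
        have hXN : zpowers x ≤ N := (zpowers_le).mpr hx
        have hXc : Nat.card (zpowers x) = p ^ 1 := by rw [Nat.card_zpowers, hxord, pow_one]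
        obtain ⟨M, hXM, hMN, hMc⟩ := exists_between_card (p := p) hXN hXc
          (by rw [hq]; exact pow_dvd_pow p (by omega)) hd
        obtain ⟨Y, hMY, hYN, hYc⟩ := exists_between_card (p := p) hMN hMc
          (by rw [hq]; exact pow_dvd_pow p hdq) (Nat.le_succ d)
        have hxM : x ∈ M := hXM (mem_zpowers x)
        have hMn : M.Normal := hfam M hMN (Or.inl hMc)
        have hYp : IsPGroup p Y := hNp.to_le hYN
        by_cases huniq : ∀ M' : Subgroup G, M' ≤ Y → Nat.card M' = p ^ d → M' = M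
        · have hMcyc := isCyclic_of_unique_max hYp hMY hMc hYc huniq
          have hXn : (zpowers x).Normal := zpowers_normal_of_mem_cyclic_normal hMn hMcyc hxM
          have h1 := (mem_sectionStab_iff.mp htS) (zpowers x) ⊥ hXn Subgroup.normal_bot bot_le hXN
            (by rw [hXc, pow_one, Subgroup.card_bot, mul_one]) x (mem_zpowers x)
          rw [Subgroup.mem_bot] at h1
          calc t * x * t⁻¹ = x * (x⁻¹ * (t * x * t⁻¹)) := by group
            _ = x := by rw [h1, mul_one]
        · push Not at huniq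
          obtain ⟨M', hM'Y, hM'c, hne⟩ := huniq
          have hM'n : M'.Normal := hfam M' (hM'Y.trans hYN) (Or.inl hM'c)
          have hsup : M ⊔ M' = Y := by
            have hYc' : Nat.card Y = p * Nat.card M := by rw [hYc, hMc, pow_succ, mul_comm]
            rcases eq_or_eq_of_card_prime_mul' hp.out (le_sup_left : M ≤ M ⊔ M')
              (sup_le hMY hM'Y) hYc' with h1 | h1
            · exfalso
              apply hne
              have hle : M' ≤ M := h1 ▸ le_sup_right
              exact Subgroup.eq_of_le_of_card_ge hle (by rw [hMc, hM'c])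
            · exact h1
          have hYn : Y.Normal := hsup ▸ Subgroup.sup_normal M M'
          have hcent := centralizes_of_section_trivial Y hYp hYc (sectionStab p N)
            (fun u hu M'' hM''Y hM''c y hy =>
              (mem_sectionStab_iff.mp hu) Y M'' hYn (hfam M'' (hM''Y.trans hYN) (Or.inl hM''c))
                hM''Y hYN (by rw [hYc, hM''c, pow_succ, mul_comm]) y hy)
            t htS hto
          exact conj_eq_of_mem_centralizer hcent (hMY hxM)
    rw [Subgroup.mem_centralizer_iff]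
    intro x hx
    have := key x hx
    rw [MulAut.conj_apply] at this
    calc x * t = (t * x * t⁻¹) * t := by rw [this]
      _ = t * x := by group

end Cfsg.Agent.Helper50
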