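import Mathlib
import Cfsg.Prelude.Def_Transfer
import Cfsg.Agent.Lib.Helper2.Tate
import Cfsg.Agent.Lib.Helper2.Frobenius
import Cfsg.Agent.Lib.Helper33.TameStep

set_option autoImplicit false

/-!
# Focal subgroup inside the Frattini subgroup gives a normal `p`-complement (helper50)

* `hasNormalPComplement_of_focal_le_frattini`: if the focal subgroup of a Sylow `p`-subgroup `P` lies in
  `Φ(P)`, then `G` has a normal `p`-complement (transfer into `P/P*` + Tate's theorem of helper2).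
* `focal_le_of_tame_step`: Alperin's fusion theorem (tame intersections, helper33) reduces the
  inclusion `P* ≤ Φ` to the single conjugation steps `u ↦ x⁻¹ u x`, `x ∈ N_G(T)`, `T` tame.
-/

namespace Cfsg.Agent.Helper50

open Pointwise
open scoped commutatorElement

variable {G : Type*} [Group G] [Finite G] {p : ℕ} [Fact p.Prime]

theorem hasNormalPComplement_of_focal_le_frattini (P : Sylow p G)
    (h : (P : Subgroup G).focalSubgroup ≤ (frattini P).map (P : Subgroup G).subtype) :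
    Cfsg.HasNormalPComplement p G := by
  obtain ⟨N, hNdef⟩ : ∃ N : Subgroup G, N = (P : Subgroup G).transferFocal.ker := ⟨_, rfl⟩
  have hN : N.Normal := by rw [hNdef]; infer_instance
  have h1 : N ⊓ (P : Subgroup G) ≤ (frattini P).map (P : Subgroup G).subtype := by
    rw [hNdef, Subgroup.ker_transferFocal_inf_eq_focalSubgroup]
    exact h
  have hc := Cfsg.Agent.Helper2.tate_aux P _ N hN rfl h1
  have hidx : N.index = Nat.card (P ⧸ (P : Subgroup G).focalSubgroupOf) := by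
    rw [hNdef, Subgroup.index_ker,
      MonoidHom.range_eq_top.mpr (Subgroup.transferFocal_surjective P)]
    exact Nat.card_congr (Equiv.Set.univ _)
  obtain ⟨j, hj⟩ := IsPGroup.iff_card.mp (P.2.to_quotient (P : Subgroup G).focalSubgroupOf)
  exact Cfsg.Agent.Helper2.hasNormalPComplement_of_normal_index_pow N hN j (hidx.trans hj) hc

open Cfsg.Agent.Helper33 in
theorem chain_step_mem (P : Sylow p G) (Φ : Subgroup G)
    (hstep : ∀ (T : Subgroup G) (x : G), TameP p P T x → x ∈ Subgroup.normalizer (T : Set G) →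
      ∀ u ∈ T, u⁻¹ * (x⁻¹ * u * x) ∈ Φ) :
    ∀ (l : List (Subgroup G × G)) (A : Set G), IsChainP (TameP p P) A l →
      ∀ a ∈ A, a⁻¹ * (((l.map Prod.snd).prod)⁻¹ * a * (l.map Prod.snd).prod) ∈ Φ := by
  intro l
  induction l with
  | nil =>
    intro A _ a _
    simp
  | cons hd tl ih =>
    intro A hA a ha
    obtain ⟨T, x⟩ := hd
    obtain ⟨h1, h2, h3, h4⟩ := hA
    have hmem : x⁻¹ * a * x ∈ rc x A := ⟨a, ha, rfl⟩
    have h5 := ih (rc x A) h4 (x⁻¹ * a * x) hmem
    have h6 := hstep T x h1 h2 a (h3 ha)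
    have h7 := Φ.mul_mem h6 h5
    have heq : a⁻¹ * (x⁻¹ * a * x) * ((x⁻¹ * a * x)⁻¹ * (((tl.map Prod.snd).prod)⁻¹ * (x⁻¹ * a * x) *
        (tl.map Prod.snd).prod)) =
        a⁻¹ * ((((T, x) :: tl).map Prod.snd).prod⁻¹ * a * (((T, x) :: tl).map Prod.snd).prod) := by
      simp only [List.map_cons, List.prod_cons, mul_inv_rev]
      group
    rw [heq] at h7
    exact h7

open Cfsg.Agent.Helper33 in
/-- Alperin's fusion theorem with tame intersections: to show `P* ≤ Φ` it suffices to control each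
conjugation step `u ↦ x⁻¹ u x` with `x ∈ N_G(T)`, `T` a tame intersection. -/
theorem focal_le_of_tame_step (P : Sylow p G) (Φ : Subgroup G)
    (hstep : ∀ (T : Subgroup G) (x : G), TameP p P T x → x ∈ Subgroup.normalizer (T : Set G) →
      ∀ u ∈ T, u⁻¹ * (x⁻¹ * u * x) ∈ Φ) :
    (P : Subgroup G).focalSubgroup ≤ Φ := by
  rw [Subgroup.focalSubgroup_def, Subgroup.closure_le]
  rintro g ⟨hgP, x, hxP, u, rfl⟩
  -- `a = x⁻¹`, `γ = u⁻¹`
  have haP : x⁻¹ ∈ (P : Subgroup G) := inv_mem hxP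
  have hconj : u * x⁻¹ * u⁻¹ ∈ (P : Subgroup G) := by
    have h1 := (P : Subgroup G).mul_mem haP hgP
    have h2 : x⁻¹ * ⁅x, u⁆ = u * x⁻¹ * u⁻¹ := by
      rw [commutatorElement_def]; group
    rwa [h2] at h1
  have hA : Subgroup.zpowers x⁻¹ ≤ (P : Subgroup G) := (Subgroup.zpowers_le).mpr haP
  have hg : MulAut.conj (u⁻¹)⁻¹ • Subgroup.zpowers x⁻¹ ≤ (P : Subgroup G) := by
    rw [inv_inv, conj_smul_le_iff]
    intro y hy
    obtain ⟨k, rfl⟩ := Subgroup.mem_zpowers_iff.mp hy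
    have h3 : u * x⁻¹ ^ k * u⁻¹ = (u * x⁻¹ * u⁻¹) ^ k := by
      rw [conj_zpow]
    rw [h3]
    exact (P : Subgroup G).zpow_mem hconj k
  obtain ⟨l, hl, hprod⟩ := reachP_tame P (Subgroup.zpowers x⁻¹) hA u⁻¹ hg
  have h4 := chain_step_mem P Φ hstep l _ hl x⁻¹ (Subgroup.mem_zpowers x⁻¹)
  rw [hprod] at h4
  have h5 : (x⁻¹)⁻¹ * ((u⁻¹)⁻¹ * x⁻¹ * u⁻¹) = ⁅x, u⁆ := by
    rw [commutatorElement_def]; group
  rw [h5] at h4
  exact h4

end Cfsg.Agent.Helper50
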