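import Mathlib
import Cfsg.Agent.Lib.Helper50.Higman4

set_option autoImplicit false

/-!
Decomposition of a "natural" module into a direct sum of copies of the natural module `K²`.
-/

namespace Cfsg.Agent.Helper50.Higman

open Matrix

section act
variable {K : Type*} [Field K] [CharP K 2] [Finite K]
variable {W : Type*} [AddCommGroup W]
variable {ρ : Matrix.SpecialLinearGroup (Fin 2) K →* AddMonoid.End W}

/-- the action of `g` in the coordinates `W = W₁ ⊕ b W₁` is given by the matrix `g` -/
theorem ModHyp.act_formula (h : ModHyp ρ) (g : Matrix.SpecialLinearGroup (Fin 2) K) {u u' : W}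
    (hu : eA ρ u = 0) (hu' : eA ρ u' = 0) :
    ρ g (u + eB ρ u') =
      (eAc ρ (g 0 0) u + eAc ρ (g 0 1) u') + eB ρ (eAc ρ (g 1 0) u + eAc ρ (g 1 1) u') := by
  let M : Submonoid (Matrix.SpecialLinearGroup (Fin 2) K) :=
    { carrier := {g | ∀ u u' : W, eA ρ u = 0 → eA ρ u' = 0 → ρ g (u + eB ρ u') =
        (eAc ρ (g 0 0) u + eAc ρ (g 0 1) u') + eB ρ (eAc ρ (g 1 0) u + eAc ρ (g 1 1) u')}
      one_mem' := by
        intro u u' _ _
        simp only [map_one, end_one_apply, Matrix.SpecialLinearGroup.coe_one, Matrix.one_apply_eq,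
          h.Ac_one]
        simp [h.Ac_zero]
      mul_mem' := by
        intro g g' hg hg' u u' hu hu'
        have hv : eA ρ (eAc ρ (g' 0 0) u + eAc ρ (g' 0 1) u') = 0 := by
          rw [map_add, ← h.Ac_a, ← h.Ac_a, hu, hu', map_zero, map_zero, add_zero]
        have hv' : eA ρ (eAc ρ (g' 1 0) u + eAc ρ (g' 1 1) u') = 0 := by
          rw [map_add, ← h.Ac_a, ← h.Ac_a, hu, hu', map_zero, map_zero, add_zero]
        rw [map_mul, end_mul_apply, hg' u u' hu hu', hg _ _ hv hv']
        simp only [Matrix.SpecialLinearGroup.coe_mul, Matrix.mul_apply, Fin.sum_univ_two,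
          h.Ac_add, h.Ac_mul, map_add]
        abel }
  let T : Subgroup (Matrix.SpecialLinearGroup (Fin 2) K) :=
    { M with
      inv_mem' := by
        intro g hg
        have hfin : IsOfFinOrder g := isOfFinOrder_of_finite g
        have hpos : 0 < orderOf g := hfin.orderOf_pos
        have hinv : g⁻¹ = g ^ (orderOf g - 1) := by
          rw [inv_eq_iff_mul_eq_one, ← pow_succ', Nat.sub_add_cancel hpos, pow_orderOf_eq_one]
        rw [hinv]
        exact M.pow_mem hg _ }
  have hT : T = ⊤ := by
    apply eq_top_of_tU_tL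
    · intro c u u' hu hu'
      have e1 : eA ρ (eB ρ u') = u' := h.ab_of hu'
      rw [h.tU_apply, map_add, hu, zero_add, e1]
      simp only [tU_coe, Matrix.of_apply, Matrix.cons_val_zero, Matrix.cons_val_one,
        Matrix.cons_val', Matrix.cons_val_fin_one, h.Ac_one, h.Ac_zero, zero_add]
      abel
    · intro c u u' hu hu'
      rw [h.tL_apply, map_add, h.bb, add_zero, h.Ac_b]
      simp only [tL_coe, Matrix.of_apply, Matrix.cons_val_zero, Matrix.cons_val_one,
        Matrix.cons_val', Matrix.cons_val_fin_one, h.Ac_one, h.Ac_zero, add_zero, map_add]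
      abel
  have hg : g ∈ T := by
    rw [hT]
    exact Subgroup.mem_top g
  exact hg u u' hu hu'

end act

section decomp
variable {K : Type*} [Field K] [CharP K 2] [Finite K]
variable {W : Type*} [AddCommGroup W] [Finite W]
variable {ρ : Matrix.SpecialLinearGroup (Fin 2) K →* AddMonoid.End W}

theorem vec2_add (x y x' y' : K) : (![x + x', y + y'] : Fin 2 → K) = ![x, y] + ![x', y'] := by
  ext j
  fin_cases j <;> simp

theorem ModHyp.exists_decomp (h : ModHyp ρ) :
    ∃ (d : ℕ) (φ : Fin d → (Fin 2 → K) →+ W) (Ψ : W →+ (Fin d → Fin 2 → K)),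
      (∀ i j c, Ψ (φ i c) j = if i = j then c else 0) ∧ Function.Injective Ψ ∧
      (∀ g i c, ρ g (φ i c) = φ i ((g : Matrix (Fin 2) (Fin 2) K).mulVec c)) := by
  letI : Module K W := Module.compHom W h.nat.ringHom
  have hsmul : ∀ (c : K) (w : W), c • w = eAc ρ c w := by
    intro c w
    rw [← h.ringHom_eq]
    rfl
  let W₁ : Submodule K W :=
    { carrier := {w | eA ρ w = 0}
      zero_mem' := map_zero _
      add_mem' := by
        intro x y hx hy
        show eA ρ (x + y) = 0
        rw [map_add, hx, hy, add_zero]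
      smul_mem' := by
        intro c w hw
        show eA ρ (c • w) = 0
        rw [hsmul, ← h.Ac_a, hw, map_zero] }
  have hW₁ : ∀ w : W, w ∈ W₁ ↔ eA ρ w = 0 := fun w => Iff.rfl
  haveI : Module.Finite K W₁ := Module.Finite.of_finite
  let bs : Module.Basis (Fin (Module.finrank K W₁)) K W₁ := Module.finBasis K W₁
  have hbs : ∀ i, eA ρ (bs i : W) = 0 := fun i => (bs i).2
  let φ : Fin (Module.finrank K W₁) → (Fin 2 → K) →+ W := fun i =>
    { toFun := fun c => c 0 • (bs i : W) + eB ρ (c 1 • (bs i : W))
      map_zero' := by simp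
      map_add' := by
        intro c c'
        simp only [Pi.add_apply, add_smul, map_add]
        abel }
  have hφ : ∀ i c, φ i c = c 0 • (bs i : W) + eB ρ (c 1 • (bs i : W)) := fun i c => rfl
  let p1 : W → W₁ := fun w => ⟨eA ρ (eB ρ w), h.aa _⟩
  let p2 : W → W₁ := fun w => ⟨eA ρ w, h.aa _⟩
  have hp1 : ∀ w w', p1 (w + w') = p1 w + p1 w' := by
    intro w w'
    apply Subtype.ext
    show eA ρ (eB ρ (w + w')) = eA ρ (eB ρ w) + eA ρ (eB ρ w')
    rw [map_add, map_add]
  have hp2 : ∀ w w', p2 (w + w') = p2 w + p2 w' := by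
    intro w w'
    apply Subtype.ext
    show eA ρ (w + w') = eA ρ w + eA ρ w'
    rw [map_add]
  let Ψ : W →+ (Fin (Module.finrank K W₁) → Fin 2 → K) :=
    { toFun := fun w i => ![bs.equivFun (p1 w) i, bs.equivFun (p2 w) i]
      map_zero' := by
        have e1 : p1 0 = 0 := by
          apply Subtype.ext
          show eA ρ (eB ρ 0) = 0
          rw [map_zero, map_zero]
        have e2 : p2 0 = 0 := by
          apply Subtype.ext
          show eA ρ 0 = 0
          rw [map_zero]
        funext i
        rw [e1, e2, map_zero]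
        ext j
        fin_cases j <;> simp
      map_add' := by
        intro w w'
        funext i
        rw [hp1, hp2, map_add, map_add]
        exact vec2_add _ _ _ _ }
  have hΨ : ∀ w i, Ψ w i = ![bs.equivFun (p1 w) i, bs.equivFun (p2 w) i] := fun w i => rfl
  -- the two projections of `φ i c`
  have hp1φ : ∀ i c, p1 (φ i c) = c 0 • bs i := by
    intro i c
    apply Subtype.ext
    show eA ρ (eB ρ (φ i c)) = c 0 • (bs i : W)
    have e0 : eA ρ (c 0 • (bs i : W)) = 0 := by rw [hsmul, ← h.Ac_a, hbs, map_zero]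
    rw [hφ, map_add, h.bb, add_zero, h.ab_of e0]
  have hp2φ : ∀ i c, p2 (φ i c) = c 1 • bs i := by
    intro i c
    apply Subtype.ext
    show eA ρ (φ i c) = c 1 • (bs i : W)
    have e0 : eA ρ (c 0 • (bs i : W)) = 0 := by rw [hsmul, ← h.Ac_a, hbs, map_zero]
    have e1 : eA ρ (c 1 • (bs i : W)) = 0 := by rw [hsmul, ← h.Ac_a, hbs, map_zero]
    rw [hφ, map_add, e0, zero_add, h.ab_of e1]
  refine ⟨Module.finrank K W₁, φ, Ψ, ?_, ?_, ?_⟩
  · intro i j c
    rw [hΨ, hp1φ, hp2φ]
    simp only [map_smul, Module.Basis.equivFun_self, Pi.smul_apply, smul_eq_mul]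
    by_cases hij : i = j
    · simp only [hij, if_true, mul_one]
      ext k
      fin_cases k <;> simp
    · simp only [hij, if_false, mul_zero]
      ext k
      fin_cases k <;> simp
  · intro w w' hww'
    have hsub : Ψ (w - w') = 0 := by rw [map_sub, hww', sub_self]
    have h1 : p1 (w - w') = 0 := by
      apply bs.equivFun.injective
      rw [map_zero]
      funext i
      have := congrFun (congrFun hsub i) 0
      rw [hΨ] at this
      simpa using this
    have h2 : p2 (w - w') = 0 := by
      apply bs.equivFun.injective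
      rw [map_zero]
      funext i
      have := congrFun (congrFun hsub i) 1
      rw [hΨ] at this
      simpa using this
    have h1' : eA ρ (eB ρ (w - w')) = 0 := congrArg Subtype.val h1
    have h2' : eA ρ (w - w') = 0 := congrArg Subtype.val h2
    have := h.ab (w - w')
    rw [h1', h2', map_zero, add_zero] at this
    exact sub_eq_zero.mp this.symm
  · intro g i c
    have e0 : eA ρ (c 0 • (bs i : W)) = 0 := by rw [hsmul, ← h.Ac_a, hbs, map_zero]
    have e1 : eA ρ (c 1 • (bs i : W)) = 0 := by rw [hsmul, ← h.Ac_a, hbs, map_zero]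
    rw [hφ, h.act_formula g e0 e1, hφ]
    simp only [Matrix.mulVec, dotProduct, Fin.sum_univ_two, ← hsmul, smul_smul, add_smul]

end decomp

end Cfsg.Agent.Helper50.Higman
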