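import Mathlib
import Cfsg.Statements.S3050
import Cfsg.Agent.Lib.Helper50.Higman9
import Cfsg.Agent.Lib.Helper50.Higman10

set_option autoImplicit false

/-!
Higman's theorem, second half: an elementary abelian `Q` is a direct product of natural modules.
-/

namespace Cfsg.Agent.Helper50.Higman

open Matrix

section toG
variable {G : Type*} [Group G] {Q : Subgroup G}
  {hcomm : ∀ u ∈ Q, ∀ u' ∈ Q, u * u' = u' * u}

/-- from the module back to the group -/
def toG (w : SecMod Q hcomm) : G := ((SecMod.val w : ↥Q) : G)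

theorem toG_mem (w : SecMod Q hcomm) : toG w ∈ Q := (SecMod.val w).2

theorem toG_add (w w' : SecMod Q hcomm) : toG (w + w') = toG w * toG w' := rfl

theorem toG_zero : toG (0 : SecMod Q hcomm) = 1 := rfl

theorem toG_neg (w : SecMod Q hcomm) : toG (-w) = (toG w)⁻¹ := rfl

theorem toG_mk (u : ↥Q) : toG (SecMod.mk u : SecMod Q hcomm) = u := rfl

theorem mk_toG (w : SecMod Q hcomm) : SecMod.mk ⟨toG w, toG_mem w⟩ = w := rfl

theorem toG_injective : Function.Injective (toG : SecMod Q hcomm → G) := by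
  intro w w' h
  rw [← mk_toG w, ← mk_toG w']
  congr 1
  exact Subtype.ext h

theorem toG_eq_one_iff (w : SecMod Q hcomm) : toG w = 1 ↔ w = 0 := by
  constructor
  · intro h
    apply toG_injective
    rw [h, toG_zero]
  · rintro rfl
    rfl

/-- the subgroup of `G` attached to an additive map into the module -/
def vSub {A : Type*} [AddCommGroup A] (φ : A →+ SecMod Q hcomm) : Subgroup G where
  carrier := {g | ∃ c, toG (φ c) = g}
  one_mem' := ⟨0, by rw [map_zero, toG_zero]⟩
  mul_mem' := by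
    rintro _ _ ⟨c, rfl⟩ ⟨c', rfl⟩
    exact ⟨c + c', by rw [map_add, toG_add]⟩
  inv_mem' := by
    rintro _ ⟨c, rfl⟩
    exact ⟨-c, by rw [map_neg, toG_neg]⟩

theorem mem_vSub {A : Type*} [AddCommGroup A] (φ : A →+ SecMod Q hcomm) (g : G) :
    g ∈ vSub φ ↔ ∃ c, toG (φ c) = g := Iff.rfl

theorem vSub_le {A : Type*} [AddCommGroup A] (φ : A →+ SecMod Q hcomm) : vSub φ ≤ Q := by
  rintro _ ⟨c, rfl⟩
  exact toG_mem _

/-- the kernel-type subgroup attached to an additive map out of the module -/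
def kSub {A : Type*} [AddCommGroup A] (π : SecMod Q hcomm →+ A) : Subgroup G where
  carrier := {g | ∃ hg : g ∈ Q, π (SecMod.mk ⟨g, hg⟩) = 0}
  one_mem' := ⟨Q.one_mem, map_zero π⟩
  mul_mem' := by
    rintro a b ⟨ha, ha0⟩ ⟨hb, hb0⟩
    refine ⟨Q.mul_mem ha hb, ?_⟩
    have : (SecMod.mk ⟨a * b, Q.mul_mem ha hb⟩ : SecMod Q hcomm) =
        SecMod.mk ⟨a, ha⟩ + SecMod.mk ⟨b, hb⟩ := rfl
    rw [this, map_add, ha0, hb0, add_zero]
  inv_mem' := by
    rintro a ⟨ha, ha0⟩
    refine ⟨Q.inv_mem ha, ?_⟩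
    have : (SecMod.mk ⟨a⁻¹, Q.inv_mem ha⟩ : SecMod Q hcomm) = - SecMod.mk ⟨a, ha⟩ := rfl
    rw [this, map_neg, ha0, neg_zero]

end toG

section second
variable {K : Type*} [Field K] [CharP K 2] [Fintype K]
variable {G : Type*} [Group G] [Finite G] {Q : Subgroup G} [hQn : Q.Normal]

theorem Setup.decomp (S : Setup K Q) (hsq : ∀ c : K, ∃ s : K, s * s = c)
    (hcomm : ∀ u ∈ Q, ∀ u' ∈ Q, u * u' = u' * u) (h2 : ∀ u ∈ Q, u * u = 1) :
    ∃ (k : ℕ) (V : Fin k → Subgroup G), (∀ i, V i ≤ Q ∧ (V i).Normal ∧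
        Cfsg.ActsAsSL2OnSection K ⊤ ⊤ (V i) ⊥) ∧ iSupIndep V ∧ ⨆ i, V i = Q := by
  haveI : Finite (SecMod Q hcomm) := inferInstanceAs (Finite (Additive ↥Q))
  have hM : ModHyp (secRep Q S.e Q hcomm hcomm) :=
    ⟨secMod_two _ hcomm h2, secRep_fpf Q S.e Q hcomm hcomm S.x S.hxe S.hfpf le_rfl, hsq⟩
  obtain ⟨d, φ, Ψ, hΨφ, hΨinj, hequiv⟩ := hM.exists_decomp
  have hconj : ∀ (g : G) (i : Fin d) (c : Fin 2 → K),
      g * toG (φ i c) * g⁻¹ =
        toG (φ i ((S.e (QuotientGroup.mk g) : Matrix (Fin 2) (Fin 2) K).mulVec c)) := by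
    intro g i c
    rw [← hequiv]
    have := secRep_apply Q S.e Q hcomm hcomm g (SecMod.val (φ i c))
    rw [SecMod.mk_val] at this
    rw [this]
    rfl
  refine ⟨d, fun i => vSub (φ i), ?_, ?_, ?_⟩
  · intro i
    show vSub (φ i) ≤ Q ∧ (vSub (φ i)).Normal ∧ Cfsg.ActsAsSL2OnSection K ⊤ ⊤ (vSub (φ i)) ⊥
    have hnorm : (vSub (φ i)).Normal := by
      constructor
      rintro _ ⟨c, rfl⟩ g
      exact ⟨_, (hconj g i c).symm⟩
    refine ⟨vSub_le _, hnorm, ?_, bot_le, ?_⟩
    · rw [Subgroup.normalizer_eq_top]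
    · let ρ' : ↥(⊤ : Subgroup G) →* Matrix.SpecialLinearGroup (Fin 2) K :=
        (S.e.toMonoidHom.comp (QuotientGroup.mk' Q)).comp (Subgroup.subtype ⊤)
      have hρ' : ∀ e : ↥(⊤ : Subgroup G), ρ' e = S.e (QuotientGroup.mk (e : G)) := fun e => rfl
      let ψ : ↥(vSub (φ i)) →* Multiplicative (Fin 2 → K) :=
        { toFun := fun v => Multiplicative.ofAdd (Ψ (SecMod.mk ⟨v, vSub_le _ v.2⟩) i)
          map_one' := by
            have : (SecMod.mk ⟨((1 : ↥(vSub (φ i))) : G), vSub_le _ (1 : ↥(vSub (φ i))).2⟩ :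
                SecMod Q hcomm) = 0 := rfl
            rw [this, map_zero]
            rfl
          map_mul' := by
            intro v v'
            have : (SecMod.mk ⟨((v * v' : ↥(vSub (φ i))) : G), vSub_le _ (v * v').2⟩ :
                SecMod Q hcomm) =
                SecMod.mk ⟨(v : G), vSub_le _ v.2⟩ + SecMod.mk ⟨(v' : G), vSub_le _ v'.2⟩ := rfl
            rw [this, map_add]
            rfl }
      have hψ : ∀ (c : Fin 2 → K) (hv : toG (φ i c) ∈ vSub (φ i)),
          ψ ⟨toG (φ i c), hv⟩ = Multiplicative.ofAdd c := by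
        intro c hv
        show Multiplicative.ofAdd (Ψ (SecMod.mk ⟨toG (φ i c), _⟩) i) = Multiplicative.ofAdd c
        rw [mk_toG, hΨφ, if_pos rfl]
      refine ⟨ρ', ψ, ?_, ?_, ?_, ?_⟩
      · rw [MonoidHom.range_eq_top]
        intro g
        obtain ⟨yq, rfl⟩ := S.e.surjective g
        obtain ⟨y, rfl⟩ := QuotientGroup.mk_surjective yq
        exact ⟨⟨y, Subgroup.mem_top y⟩, rfl⟩
      · intro m
        exact ⟨⟨toG (φ i (Multiplicative.toAdd m)), ⟨_, rfl⟩⟩, hψ _ _⟩
      · rintro ⟨_, ⟨c, rfl⟩⟩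
        have e1 := hψ c ⟨c, rfl⟩
        rw [e1, Subgroup.mem_bot]
        show Multiplicative.ofAdd c = 1 ↔ toG (φ i c) = 1
        constructor
        · intro hc
          have : c = 0 := Multiplicative.ofAdd.injective hc
          rw [this, map_zero, toG_zero]
        · intro hc
          have h0 : φ i c = 0 := (toG_eq_one_iff _).mp hc
          have h1 := hΨφ i i c
          rw [h0, map_zero, if_pos rfl] at h1
          show Multiplicative.ofAdd c = Multiplicative.ofAdd 0
          rw [← h1]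
          rfl
      · rintro e ⟨_, ⟨c, rfl⟩⟩
        refine ⟨⟨toG (φ i ((S.e (QuotientGroup.mk (e : G)) :
          Matrix (Fin 2) (Fin 2) K).mulVec c)), ⟨_, rfl⟩⟩, ?_, ?_⟩
        · exact (hconj e i c).symm
        · have e1 := hψ c ⟨c, rfl⟩
          have e2 := hψ ((S.e (QuotientGroup.mk (e : G)) :
            Matrix (Fin 2) (Fin 2) K).mulVec c) ⟨_, rfl⟩
          rw [e1, e2, hρ']
          rfl
  · -- independence
    rw [iSupIndep_def]
    intro i
    rw [Subgroup.disjoint_def]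
    intro g hgi hgs
    let π : SecMod Q hcomm →+ (Fin 2 → K) := (Pi.evalAddMonoidHom _ i).comp Ψ
    have hπ : ∀ w, π w = Ψ w i := fun w => rfl
    have hle : (⨆ j, ⨆ (_ : j ≠ i), vSub (φ j)) ≤ kSub π := by
      apply iSup_le
      intro j
      apply iSup_le
      intro hji
      rintro _ ⟨c, rfl⟩
      refine ⟨toG_mem _, ?_⟩
      rw [mk_toG, hπ, hΨφ, if_neg hji]
    obtain ⟨hgQ, hg0⟩ := hle hgs
    obtain ⟨c, rfl⟩ := hgi
    rw [mk_toG, hπ, hΨφ, if_pos rfl] at hg0
    rw [hg0, map_zero, toG_zero]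
  · apply le_antisymm
    · apply iSup_le
      intro i
      exact vSub_le _
    · intro u hu
      -- u = toG (Σ φ i (Ψ w i))
      set w : SecMod Q hcomm := SecMod.mk ⟨u, hu⟩ with hw
      have hsum : w = ∑ i, φ i (Ψ w i) := by
        apply hΨinj
        funext j
        rw [map_sum, Finset.sum_apply]
        simp only [hΨφ]
        rw [Finset.sum_ite_eq' Finset.univ j]
        simp
      have hmem : ∀ s : Finset (Fin d), toG (∑ i ∈ s, φ i (Ψ w i)) ∈ ⨆ i, vSub (φ i) := by
        intro s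
        induction s using Finset.induction_on with
        | empty =>
          rw [Finset.sum_empty, toG_zero]
          exact Subgroup.one_mem _
        | insert a s ha ih =>
          rw [Finset.sum_insert ha, toG_add]
          apply Subgroup.mul_mem _ _ ih
          apply Subgroup.mem_iSup_of_mem a
          exact ⟨_, rfl⟩
      have := hmem Finset.univ
      rw [← hsum] at this
      exact this

end second

end Cfsg.Agent.Helper50.Higman
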