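import Mathlib
import Cfsg.Agent.Lib.Helper50.Higman2

set_option autoImplicit false

/-!
In `SL₂(K)`, `K` a perfect field of characteristic two, every element of order three is
conjugate to `D0 = [[0,1],[1,1]]`.
-/

namespace Cfsg.Agent.Helper50.Higman

open Matrix

section conj
variable {K : Type*} [Field K] [CharP K 2]

theorem trace_eq_one_of_cube {p q r s : K} (hdet : p * s - q * r = 1)
    (h3 : !![p, q; r, s] * !![p, q; r, s] * !![p, q; r, s] = (1 : Matrix (Fin 2) (Fin 2) K))
    (hne : !![p, q; r, s] ≠ (1 : Matrix (Fin 2) (Fin 2) K)) : p + s = 1 := by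
  have h2 : (2 : K) = 0 := CharTwo.two_eq_zero
  rw [Matrix.mul_fin_two, Matrix.mul_fin_two, Matrix.one_fin_two] at h3
  have e00 := congrFun (congrFun h3 0) 0
  have e01 := congrFun (congrFun h3 0) 1
  have e10 := congrFun (congrFun h3 1) 0
  have e11 := congrFun (congrFun h3 1) 1
  simp only [Matrix.of_apply, Matrix.cons_val_zero, Matrix.cons_val_one, Matrix.cons_val',
    Matrix.cons_val_fin_one] at e00 e01 e10 e11
  by_contra hτ
  have hτ1 : p + s + 1 ≠ 0 := by
    intro h
    apply hτ
    have := eq_neg_of_add_eq_zero_left h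
    rwa [CharTwo.neg_eq] at this
  have hτ2 : (p + s + 1) * (p + s + 1) ≠ 0 := mul_ne_zero hτ1 hτ1
  -- (τ² + 1) q = 0 etc.
  have hq : (p + s + 1) * (p + s + 1) * q = 0 := by
    linear_combination e01 + q * hdet + (p * q + q * s + q) * h2
  have hr : (p + s + 1) * (p + s + 1) * r = 0 := by
    linear_combination e10 + r * hdet + (p * r + r * s + r) * h2
  have hq0 : q = 0 := by
    rcases mul_eq_zero.mp hq with h | h
    · exact absurd h hτ2
    · exact h
  have hr0 : r = 0 := by
    rcases mul_eq_zero.mp hr with h | h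
    · exact absurd h hτ2
    · exact h
  subst hq0
  subst hr0
  simp only [mul_zero, sub_zero, zero_mul, add_zero] at hdet e00 e11
  -- p^3 = 1, s^3 = 1, ps = 1
  have hp : (p + s + 1) * (p + s + 1) * p = p + s + 1 := by
    linear_combination e00 + s * hdet + (p * p * s + p * p + p * s) * h2
  have hs : (p + s + 1) * (p + s + 1) * s = p + s + 1 := by
    linear_combination e11 + p * hdet + (p * s * s + p * s + s * s) * h2
  have hp' : (p + s + 1) * p = 1 := by
    have : (p + s + 1) * ((p + s + 1) * p) = (p + s + 1) * 1 := by rw [← mul_assoc, hp, mul_one]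
    exact mul_left_cancel₀ hτ1 this
  have hs' : (p + s + 1) * s = 1 := by
    have : (p + s + 1) * ((p + s + 1) * s) = (p + s + 1) * 1 := by rw [← mul_assoc, hs, mul_one]
    exact mul_left_cancel₀ hτ1 this
  have hps : p = s := by
    have : (p + s + 1) * p = (p + s + 1) * s := by rw [hp', hs']
    exact mul_left_cancel₀ hτ1 this
  subst hps
  have hp1 : p = 1 := by
    have : (p + p + 1) = 1 := by rw [CharTwo.add_self_eq_zero, zero_add]
    rw [this, one_mul] at hp'
    exact hp'
  subst hp1
  exact hne (by rw [Matrix.one_fin_two])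

/-- every element of order three of `SL₂(K)` is conjugate to `D0` -/
theorem exists_conj_D0 (hsq : ∀ c : K, ∃ s : K, s * s = c)
    (d : Matrix.SpecialLinearGroup (Fin 2) K) (h3 : d ^ 3 = 1) (hne : d ≠ 1) :
    ∃ g : Matrix.SpecialLinearGroup (Fin 2) K, g * d * g⁻¹ = D0 := by
  have h2 : (2 : K) = 0 := CharTwo.two_eq_zero
  obtain ⟨p, q, r, s, hd⟩ : ∃ p q r s,
      (d : Matrix (Fin 2) (Fin 2) K) = !![p, q; r, s] := ⟨_, _, _, _, Matrix.eta_fin_two _⟩
  have hdet : p * s - q * r = 1 := by
    have := d.2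
    rw [hd, Matrix.det_fin_two_of] at this
    exact this
  have htr : p + s = 1 := by
    apply trace_eq_one_of_cube hdet
    · have := congrArg (fun g : Matrix.SpecialLinearGroup (Fin 2) K =>
        (g : Matrix (Fin 2) (Fin 2) K)) h3
      simp only [pow_succ, pow_zero, one_mul, Matrix.SpecialLinearGroup.coe_mul,
        Matrix.SpecialLinearGroup.coe_one, hd] at this
      exact this
    · intro h
      apply hne
      apply Subtype.ext
      rw [hd, h, Matrix.SpecialLinearGroup.coe_one]
  suffices h : ∃ G : Matrix.SpecialLinearGroup (Fin 2) K, d * G = G * D0 by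
    obtain ⟨G, hG⟩ := h
    refine ⟨G⁻¹, ?_⟩
    rw [inv_inv, mul_assoc, hG, ← mul_assoc, inv_mul_cancel, one_mul]
  by_cases hr : r = 0
  · by_cases hq : q = 0
    · subst hr
      subst hq
      obtain ⟨G, hG⟩ : ∃ G : Matrix.SpecialLinearGroup (Fin 2) K,
          (G : Matrix (Fin 2) (Fin 2) K) = !![1, p; 1, s] := by
        refine ⟨⟨!![1, p; 1, s], ?_⟩, rfl⟩
        rw [Matrix.det_fin_two_of]
        linear_combination htr - p * h2
      refine ⟨G, ?_⟩
      · apply Subtype.ext
        rw [Matrix.SpecialLinearGroup.coe_mul, Matrix.SpecialLinearGroup.coe_mul, hd, D0_coe, hG]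
        rw [Matrix.mul_fin_two, Matrix.mul_fin_two, mat_eq_iff]
        refine ⟨by ring, ?_, by ring, ?_⟩
        · linear_combination p * htr + hdet - (p * s) * h2
        · linear_combination s * htr + hdet - (p * s) * h2
    · obtain ⟨σ, hσ0⟩ := hsq q⁻¹
      have hσ : σ * σ * q = 1 := by rw [hσ0, inv_mul_cancel₀ hq]
      obtain ⟨G, hG⟩ : ∃ G : Matrix.SpecialLinearGroup (Fin 2) K,
          (G : Matrix (Fin 2) (Fin 2) K) = !![0, σ * q; σ, σ * s] := by
        refine ⟨⟨!![0, σ * q; σ, σ * s], ?_⟩, rfl⟩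
        rw [Matrix.det_fin_two_of]
        linear_combination -hσ - h2
      refine ⟨G, ?_⟩
      · apply Subtype.ext
        rw [Matrix.SpecialLinearGroup.coe_mul, Matrix.SpecialLinearGroup.coe_mul, hd, D0_coe, hG]
        rw [Matrix.mul_fin_two, Matrix.mul_fin_two, mat_eq_iff]
        refine ⟨by ring, ?_, by ring, ?_⟩
        · linear_combination σ * q * htr
        · linear_combination σ * s * htr - σ * hdet - σ * h2
  · obtain ⟨σ, hσ0⟩ := hsq r⁻¹
    have hσ : σ * σ * r = 1 := by rw [hσ0, inv_mul_cancel₀ hr]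
    obtain ⟨G, hG⟩ : ∃ G : Matrix.SpecialLinearGroup (Fin 2) K,
        (G : Matrix (Fin 2) (Fin 2) K) = !![σ, σ * p; 0, σ * r] := by
      refine ⟨⟨!![σ, σ * p; 0, σ * r], ?_⟩, rfl⟩
      rw [Matrix.det_fin_two_of]
      linear_combination hσ
    refine ⟨G, ?_⟩
    · apply Subtype.ext
      rw [Matrix.SpecialLinearGroup.coe_mul, Matrix.SpecialLinearGroup.coe_mul, hd, D0_coe, hG]
      rw [Matrix.mul_fin_two, Matrix.mul_fin_two, mat_eq_iff]
      refine ⟨by ring, ?_, by ring, ?_⟩
      · linear_combination σ * p * htr - σ * hdet - σ * h2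
      · linear_combination σ * r * htr

end conj

end Cfsg.Agent.Helper50.Higman
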