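import Mathlib
import Cfsg.Prelude.Def_LocalEven
import Cfsg.Agent.Lib.Helper46.McBride

set_option autoImplicit false
set_option linter.unusedSectionVars false

/-!
Relative version of McBride's lemma: a subgroup `M` containing a Sylow `p`-subgroup `S` is
generated by `N_M(S)` and the `p`-minimal subgroups `P'` with `S ≤ P' ≤ M`.
-/

namespace Cfsg.Agent.Helper50.IsoPMin

open Cfsg

variable {G : Type*} [Group G] [Finite G] {p : ℕ} [Fact p.Prime]

/-- the join of the `p`-minimal subgroups between `S` and `M` -/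
def pminJoin (S : Sylow p G) (M : Subgroup G) : Subgroup G :=
  ⨆ P' : {P' : Subgroup G // (S : Subgroup G) ≤ P' ∧ P' ≤ M ∧ IsPMinimal p ↥P'}, (P' : Subgroup G)

theorem le_pminJoin (S : Sylow p G) {M P' : Subgroup G} (h1 : (S : Subgroup G) ≤ P') (h2 : P' ≤ M)
    (h3 : IsPMinimal p ↥P') : P' ≤ pminJoin S M :=
  le_iSup (fun P' : {P' : Subgroup G // (S : Subgroup G) ≤ P' ∧ P' ≤ M ∧ IsPMinimal p ↥P'} =>
    (P' : Subgroup G)) ⟨P', h1, h2, h3⟩

theorem pminJoin_mono (S : Sylow p G) {M M' : Subgroup G} (h : M ≤ M') :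
    pminJoin S M ≤ pminJoin S M' := by
  apply iSup_le
  rintro ⟨P', h1, h2, h3⟩
  exact le_pminJoin S h1 (h2.trans h) h3

theorem le_pminJoin_sup_normalizer (S : Sylow p G) :
    ∀ n : ℕ, ∀ M : Subgroup G, Nat.card M = n → (S : Subgroup G) ≤ M →
      M ≤ pminJoin S M ⊔ (Subgroup.normalizer ((S : Subgroup G) : Set G) ⊓ M) := by
  intro n
  induction n using Nat.strong_induction_on with
  | _ n ih =>
    intro M hMn hSM
    by_cases hn : ((S : Subgroup G).subgroupOf M).Normal
    · have := (Subgroup.normal_subgroupOf_iff_le_normalizer hSM).mp hn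
      exact (le_inf this le_rfl).trans le_sup_right
    · by_cases hu : ∃! M₀ : Subgroup ↥M, IsCoatom M₀ ∧ (S : Subgroup G).subgroupOf M ≤ M₀
      · have hmin : IsPMinimal p ↥M :=
          Cfsg.Agent.Helper46.isPMinimal_of_one_sylow (S.subtype hSM) ⟨hn, hu⟩
        exact (le_pminJoin S hSM le_rfl hmin).trans le_sup_left
      · have hne : (S : Subgroup G).subgroupOf M ≠ ⊤ := by
          intro h
          apply hn
          rw [h]
          infer_instance
        obtain ⟨M₁, hM₁c, hM₁⟩ :=
          (eq_top_or_exists_le_coatom ((S : Subgroup G).subgroupOf M)).resolve_left hne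
        have hex : ∃ M₂ : Subgroup ↥M, IsCoatom M₂ ∧ (S : Subgroup G).subgroupOf M ≤ M₂ ∧
            M₂ ≠ M₁ := by
          by_contra hcon
          push Not at hcon
          exact hu ⟨M₁, ⟨hM₁c, hM₁⟩, fun M₂ h2 => hcon M₂ h2.1 h2.2⟩
        obtain ⟨M₂, hM₂c, hM₂, hne12⟩ := hex
        have hsup : M₁ ⊔ M₂ = ⊤ := by
          apply hM₁c.2
          refine lt_of_le_of_ne le_sup_left ?_
          intro h
          have h21 : M₂ ≤ M₁ := by rw [h]; exact le_sup_right
          rcases h21.lt_or_eq with hlt | heq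
          · exact hM₁c.1 (hM₂c.2 _ hlt)
          · exact hne12 heq
        have hstep : ∀ M' : Subgroup ↥M, IsCoatom M' → (S : Subgroup G).subgroupOf M ≤ M' →
            M'.map M.subtype ≤
              pminJoin S M ⊔ (Subgroup.normalizer ((S : Subgroup G) : Set G) ⊓ M) := by
          intro M' hM'c hM'
          have hle : M'.map M.subtype ≤ M := Subgroup.map_subtype_le M'
          have hcard : Nat.card (M'.map M.subtype) < n := by
            rw [← hMn, Subgroup.card_map_of_injective (Subgroup.subtype_injective M)]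
            have hlt : M' < ⊤ := lt_top_iff_ne_top.mpr hM'c.1
            have := Cfsg.Agent.Helper33.card_lt_of_lt hlt
            rwa [Subgroup.card_top] at this
          have hS' : (S : Subgroup G) ≤ M'.map M.subtype := by
            intro s hs
            exact ⟨⟨s, hSM hs⟩, hM' (by simpa [Subgroup.mem_subgroupOf] using hs), rfl⟩
          refine (ih _ hcard _ rfl hS').trans ?_
          exact sup_le_sup (pminJoin_mono S hle) (inf_le_inf_left _ hle)
        have hMeq : M = (M₁ ⊔ M₂).map M.subtype := by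
          rw [hsup, ← MonoidHom.range_eq_map, Subgroup.range_subtype]
        nth_rewrite 1 [hMeq]
        rw [Subgroup.map_sup]
        exact sup_le (hstep M₁ hM₁c hM₁) (hstep M₂ hM₂c hM₂)

/-- Relative McBride lemma. -/
theorem le_pminJoin_sup (S : Sylow p G) (M : Subgroup G) (hSM : (S : Subgroup G) ≤ M) :
    M ≤ pminJoin S M ⊔ (Subgroup.normalizer ((S : Subgroup G) : Set G) ⊓ M) :=
  le_pminJoin_sup_normalizer S _ M rfl hSM

end Cfsg.Agent.Helper50.IsoPMin
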