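import Mathlib
import Cfsg.Prelude.Def_LocalEven
import Cfsg.Agent.Lib.Helper50.IsoPMin1
import Cfsg.Agent.Lib.Helper46.PCore
import Cfsg.Agent.Lib.Helper47.PRes
import Cfsg.Agent.Lib.Helper47.Minimal
import Cfsg.Agent.Lib.Helper22.Radical

set_option autoImplicit false
set_option linter.unusedSectionVars false

/-!
Isolated `p`-minimal subgroups (Meierfrankenfeld–Parker–Rowley): consequences at the level of `G`.
-/

namespace Cfsg.Agent.Helper50.IsoPMin

open Cfsg
open scoped commutatorElement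

variable {G : Type*} [Group G] [Finite G] {p : ℕ} [Fact p.Prime]

/-- the hypotheses on an isolated `p`-minimal subgroup -/
structure Setup (S : Sylow p G) (P L : Subgroup G) : Prop where
  SP : (S : Subgroup G) ≤ P
  Pmin : IsPMinimal p ↥P
  hL : L = Subgroup.normalizer ((S : Subgroup G) : Set G) ⊔
    ⨆ P' : {P' : Subgroup G // (S : Subgroup G) ≤ P' ∧ IsPMinimal p ↥P' ∧ P' ≠ P}, (P' : Subgroup G)
  iso : ¬ (pCore p ↥L).map L.subtype ≤ (pCore p ↥P).map P.subtype

/-- `O^p(P)` in `G` -/
def resP (p : ℕ) (P : Subgroup G) : Subgroup G := (pResidual p ↥P).map P.subtype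

/-- `O_p(L)` in `G` -/
def coreL (p : ℕ) (L : Subgroup G) : Subgroup G := (pCore p ↥L).map L.subtype

variable {S : Sylow p G} {P L : Subgroup G}

namespace Setup

theorem normalizer_le_L (h : Setup S P L) :
    Subgroup.normalizer ((S : Subgroup G) : Set G) ≤ L := by
  rw [h.hL]; exact le_sup_left

theorem S_le_L (h : Setup S P L) : (S : Subgroup G) ≤ L :=
  Subgroup.le_normalizer.trans h.normalizer_le_L

theorem pmin_le_L (h : Setup S P L) {P' : Subgroup G} (h1 : (S : Subgroup G) ≤ P')
    (h2 : IsPMinimal p ↥P') (h3 : P' ≠ P) : P' ≤ L := by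
  rw [h.hL]
  exact (le_iSup (fun P' : {P' : Subgroup G // (S : Subgroup G) ≤ P' ∧ IsPMinimal p ↥P' ∧ P' ≠ P} =>
    (P' : Subgroup G)) ⟨P', h1, h2, h3⟩).trans le_sup_right

/-- a subgroup containing `S` but not `P` lies in `L` -/
theorem le_L_of_not_le (h : Setup S P L) {M : Subgroup G} (hSM : (S : Subgroup G) ≤ M)
    (hPM : ¬ P ≤ M) : M ≤ L := by
  refine (le_pminJoin_sup S M hSM).trans (sup_le ?_ (inf_le_left.trans h.normalizer_le_L))
  apply iSup_le
  rintro ⟨P', h1, h2, h3⟩
  apply h.pmin_le_L h1 h3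
  rintro rfl
  exact hPM h2

/-- a subgroup containing `P` is generated by `P` and its intersection with `L` -/
theorem le_sup_inf (h : Setup S P L) {M : Subgroup G} (hSM : (S : Subgroup G) ≤ M) :
    M ≤ P ⊔ (L ⊓ M) := by
  refine (le_pminJoin_sup S M hSM).trans
    (sup_le ?_ ((inf_le_inf_right M h.normalizer_le_L).trans le_sup_right))
  apply iSup_le
  rintro ⟨P', h1, h2, h3⟩
  by_cases hP : P' = P
  · exact hP.le.trans le_sup_left
  · exact (le_inf (h.pmin_le_L h1 h3 hP) h2).trans le_sup_right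

theorem coreL_isPGroup (L : Subgroup G) : IsPGroup p (coreL p L) :=
  (Cfsg.Agent.Helper22.isPGroup_pCore p).map _

theorem coreL_le_L (L : Subgroup G) : coreL p L ≤ L := Subgroup.map_subtype_le _

theorem coreL_le_S (h : Setup S P L) : coreL p L ≤ (S : Subgroup G) := by
  have h1 : pCore p ↥L ≤ ((S.subtype h.S_le_L : Sylow p ↥L) : Subgroup ↥L) :=
    Cfsg.Agent.Helper46.pCore_le_sylow _
  rw [Sylow.coe_subtype] at h1
  have h2 := Subgroup.map_mono (f := L.subtype) h1
  rw [Subgroup.subgroupOf_map_subtype] at h2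
  exact h2.trans inf_le_left

theorem L_le_normalizer_coreL (L : Subgroup G) :
    L ≤ Subgroup.normalizer ((coreL p L : Subgroup G) : Set G) := by
  have hn : (pCore p ↥L).Normal := Cfsg.pCore_normal p ↥L
  have h1 := Subgroup.le_normalizer_map (H := pCore p ↥L) L.subtype
  rw [Subgroup.normalizer_eq_top_iff.mpr hn, ← MonoidHom.range_eq_map, Subgroup.range_subtype] at h1
  exact h1

theorem resP_le_P (P : Subgroup G) : resP p P ≤ P := Subgroup.map_subtype_le _

theorem P_le_normalizer_resP (P : Subgroup G) :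
    P ≤ Subgroup.normalizer ((resP p P : Subgroup G) : Set G) := by
  have hn : (pResidual p ↥P).Normal := Cfsg.Agent.Helper47.pResidual_normal
  have h1 := Subgroup.le_normalizer_map (H := pResidual p ↥P) P.subtype
  rw [Subgroup.normalizer_eq_top_iff.mpr hn, ← MonoidHom.range_eq_map, Subgroup.range_subtype] at h1
  exact h1

theorem P_le_resP_sup_S (h : Setup S P L) : P ≤ resP p P ⊔ (S : Subgroup G) := by
  have h1 := Cfsg.Agent.Helper47.sylow_sup_pResidual_eq_top (S.subtype h.SP : Sylow p ↥P)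
  rw [Sylow.coe_subtype] at h1
  have h2 : P = (⊤ : Subgroup ↥P).map P.subtype := by
    rw [← MonoidHom.range_eq_map, Subgroup.range_subtype]
  nth_rewrite 1 [h2]
  rw [← h1, Subgroup.map_sup, Subgroup.subgroupOf_map_subtype]
  exact sup_le (inf_le_left.trans le_sup_right) le_sup_left

theorem pCore_le_coreP (h : Setup S P L) : pCore p G ≤ (pCore p ↥P).map P.subtype := by
  have hZS : pCore p G ≤ (S : Subgroup G) := Cfsg.Agent.Helper46.pCore_le_sylow S
  have hZP : pCore p G ≤ P := hZS.trans h.SP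
  have hn : (pCore p G).Normal := Cfsg.pCore_normal p G
  have h1 : (pCore p G).subgroupOf P ≤ pCore p ↥P := by
    apply Cfsg.Agent.Helper22.le_pCore
    · infer_instance
    · exact (Cfsg.Agent.Helper22.isPGroup_pCore p).comap_subtype
  have h2 := Subgroup.map_mono (f := P.subtype) h1
  rw [Subgroup.subgroupOf_map_subtype, inf_of_le_left hZP] at h2
  exact h2

/-- the dichotomy for `S`-invariant subgroups -/
theorem dich (h : Setup S P L) (X : Subgroup G)
    (hX : (S : Subgroup G) ≤ Subgroup.normalizer (X : Set G)) : resP p P ≤ X ∨ X ≤ L := by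
  by_cases hPM : P ≤ X ⊔ (S : Subgroup G)
  · left
    have hXM : X ≤ X ⊔ (S : Subgroup G) := le_sup_left
    have hSM : (S : Subgroup G) ≤ X ⊔ (S : Subgroup G) := le_sup_right
    have hMn : X ⊔ (S : Subgroup G) ≤ Subgroup.normalizer (X : Set G) :=
      sup_le Subgroup.le_normalizer hX
    have : (X.subgroupOf (X ⊔ (S : Subgroup G))).Normal :=
      (Subgroup.normal_subgroupOf_iff_le_normalizer hXM).mpr hMn
    have hT : IsPGroup p ((S : Subgroup G).subgroupOf (X ⊔ (S : Subgroup G))) :=
      S.isPGroup'.comap_subtype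
    have htop : X.subgroupOf (X ⊔ (S : Subgroup G)) ⊔
        (S : Subgroup G).subgroupOf (X ⊔ (S : Subgroup G)) = ⊤ := by
      rw [← Subgroup.subgroupOf_sup hXM hSM, Subgroup.subgroupOf_self]
    have h1 := Cfsg.Agent.Helper47.pResidual_le_of_sup_eq_top hT htop
    have h2 := Subgroup.map_mono (f := (X ⊔ (S : Subgroup G)).subtype) h1
    rw [Subgroup.subgroupOf_map_subtype] at h2
    exact (Cfsg.Agent.Helper47.map_pResidual_mono hPM).trans (h2.trans inf_le_left)
  · right
    exact le_sup_left.trans (h.le_L_of_not_le le_sup_right hPM)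

/-- the dichotomy for normal subgroups -/
theorem normal_dich (h : Setup S P L) (N : Subgroup G) [hN : N.Normal] :
    resP p P ≤ N ∨ ⁅N, coreL p L⁆ ≤ pCore p G := by
  have hXn : (S : Subgroup G) ≤ Subgroup.normalizer (N : Set G) := by
    rw [Subgroup.normalizer_eq_top_iff.mpr hN]; exact le_top
  rcases h.dich N hXn with h1 | h1
  · left; exact h1
  · right
    have hNQ : N ≤ Subgroup.normalizer ((coreL p L : Subgroup G) : Set G) :=
      h1.trans (L_le_normalizer_coreL L)
    have hle : ⁅N, coreL p L⁆ ≤ N ⊓ coreL p L := by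
      apply le_inf (Subgroup.commutator_le_left _ _)
      rw [Subgroup.commutator_le]
      intro n hn q hq
      have h2 : n * q * n⁻¹ ∈ coreL p L := (Subgroup.mem_normalizer_iff.mp (hNQ hn) q).mp hq
      rw [commutatorElement_def]
      exact Subgroup.mul_mem _ h2 (Subgroup.inv_mem _ hq)
    refine hle.trans ?_
    apply Cfsg.Agent.Helper22.le_pCore_of_subnormal (K := N) hN.isSubnormal inf_le_left
    · intro n hn
      rw [Subgroup.mem_normalizer_iff]
      intro x
      rw [Subgroup.mem_inf, Subgroup.mem_inf, ← Subgroup.mem_normalizer_iff.mp (hNQ hn) x]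
      constructor
      · rintro ⟨hx1, hx2⟩
        exact ⟨hN.conj_mem x hx1 n, hx2⟩
      · rintro ⟨hx1, hx2⟩
        refine ⟨?_, hx2⟩
        have := hN.conj_mem _ hx1 n⁻¹
        simpa [mul_assoc] using this
    · exact (coreL_isPGroup L).to_le inf_le_right

/-- `O_p(L)` does not centralise `O^p(P)` modulo `O_p(G)` -/
theorem not_comm_le (h : Setup S P L) : ¬ ⁅resP p P, coreL p L⁆ ≤ pCore p G := by
  intro hc
  apply h.iso
  have hZn : (pCore p G).Normal := Cfsg.pCore_normal p G
  have hWp : IsPGroup p ↥(coreL p L ⊔ pCore p G) :=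
    IsPGroup.to_sup_of_normal_right (coreL_isPGroup L) (Cfsg.Agent.Helper22.isPGroup_pCore p)
  have hZS : pCore p G ≤ (S : Subgroup G) := Cfsg.Agent.Helper46.pCore_le_sylow S
  have hWS : coreL p L ⊔ pCore p G ≤ (S : Subgroup G) := sup_le h.coreL_le_S hZS
  have hWP : coreL p L ⊔ pCore p G ≤ P := hWS.trans h.SP
  -- conjugates of `Q` under `R`
  have hconj : ∀ r ∈ resP p P, Cfsg.Agent.Helper22.conjS r (coreL p L) ≤ coreL p L ⊔ pCore p G := by
    rintro r hr _ ⟨q, hq, rfl⟩
    have h1 : ⁅r, q⁆ ∈ pCore p G := hc (Subgroup.commutator_mem_commutator hr hq)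
    have h2 : (MulAut.conj r).toMonoidHom q = ⁅r, q⁆ * q := by
      rw [commutatorElement_def]
      simp
    rw [h2]
    exact Subgroup.mul_mem _ (Subgroup.mem_sup_right h1) (Subgroup.mem_sup_left hq)
  have hZconj : ∀ g : G, Cfsg.Agent.Helper22.conjS g (pCore p G) ≤ pCore p G := by
    rintro g _ ⟨z, hz, rfl⟩
    have := hZn.conj_mem z hz g
    simpa using this
  have hRW : resP p P ≤ Subgroup.normalizer ((coreL p L ⊔ pCore p G : Subgroup G) : Set G) := by
    intro r hr
    apply Cfsg.Agent.Helper22.mem_normalizer_of_conjS_le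
    · rw [Cfsg.Agent.Helper22.conjS_sup]
      exact sup_le (hconj r hr) ((hZconj r).trans le_sup_right)
    · rw [Cfsg.Agent.Helper22.conjS_sup]
      exact sup_le (hconj r⁻¹ (Subgroup.inv_mem _ hr)) ((hZconj r⁻¹).trans le_sup_right)
  have hSW : (S : Subgroup G) ≤ Subgroup.normalizer ((coreL p L ⊔ pCore p G : Subgroup G) : Set G) := by
    refine le_trans ?_ (Cfsg.Agent.Helper22.normalizer_inf_le_normalizer_sup _ _)
    apply le_inf (h.S_le_L.trans (L_le_normalizer_coreL L))
    rw [Subgroup.normalizer_eq_top_iff.mpr hZn]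
    exact le_top
  have hPW : P ≤ Subgroup.normalizer ((coreL p L ⊔ pCore p G : Subgroup G) : Set G) :=
    h.P_le_resP_sup_S.trans (sup_le hRW hSW)
  have hn : ((coreL p L ⊔ pCore p G).subgroupOf P).Normal :=
    (Subgroup.normal_subgroupOf_iff_le_normalizer hWP).mpr hPW
  have h1 : (coreL p L ⊔ pCore p G).subgroupOf P ≤ pCore p ↥P :=
    Cfsg.Agent.Helper22.le_pCore hn hWp.comap_subtype
  have h2 := Subgroup.map_mono (f := P.subtype) h1
  rw [Subgroup.subgroupOf_map_subtype, inf_of_le_left hWP] at h2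
  exact le_sup_left.trans h2

/-- `G = Y L` -/
theorem top_le (h : Setup S P L) :
    ⊤ ≤ Subgroup.normalClosure ((resP p P : Subgroup G) : Set G) ⊔ L := by
  have h1 : (⊤ : Subgroup G) ≤ P ⊔ (L ⊓ ⊤) := h.le_sup_inf le_top
  refine h1.trans (sup_le ?_ (inf_le_left.trans le_sup_right))
  refine h.P_le_resP_sup_S.trans (sup_le ?_ (h.S_le_L.trans le_sup_right))
  exact Subgroup.le_normalClosure.trans le_sup_left

/-- generation of overgroups of `P` -/
theorem gen (h : Setup S P L) {M : Subgroup G} (hSM : (S : Subgroup G) ≤ M) :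
    M ≤ (resP p P ⊔ (S : Subgroup G)) ⊔ (L ⊓ M) :=
  (h.le_sup_inf hSM).trans (sup_le_sup_right h.P_le_resP_sup_S _)

end Setup

end Cfsg.Agent.Helper50.IsoPMin
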