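import Mathlib
import Cfsg.Prelude.Def_Local
import Cfsg.Agent.Lib.Helper22.Radical
import Cfsg.Agent.Lib.Helper22.Fitting
import Cfsg.Agent.Lib.Helper22.Components
import Cfsg.Agent.Lib.Helper22.Bender

set_option autoImplicit false
set_option linter.unusedSectionVars false

/-!
Isolated `p`-minimal subgroups: the abstract situation in a group `H` with `O_p(H) = 1`
(to be applied to `H = G / O_p(G)`), part 1: `O^p(P) ≤ F*(H)`.
-/

namespace Cfsg.Agent.Helper50.IsoPMin

open Cfsg Subgroup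
open scoped commutatorElement

variable {H : Type*} [Group H] [Finite H] {p : ℕ} [Fact p.Prime]

/-- the abstract hypotheses -/
structure IsoAbs (p : ℕ) (R Q S L : Subgroup H) : Prop where
  core : Cfsg.pCore p H = ⊥
  Qp : IsPGroup p Q
  QS : Q ≤ S
  SL : S ≤ L
  LQ : L ≤ normalizer (Q : Set H)
  SR : S ≤ normalizer (R : Set H)
  dich : ∀ X : Subgroup H, S ≤ normalizer (X : Set H) → R ≤ X ∨ X ≤ L
  nc : ⁅R, Q⁆ ≠ ⊥
  gen : ∀ M : Subgroup H, S ≤ M → M ≤ (R ⊔ S) ⊔ (L ⊓ M)
  YL : ⊤ ≤ normalClosure (R : Set H) ⊔ L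
  Sp : IsPGroup p S

variable {R Q S L : Subgroup H}

namespace IsoAbs

theorem sub_dich (h : IsoAbs p R Q S L) {X : Subgroup H} (hXs : X.IsSubnormal)
    (hSX : S ≤ normalizer (X : Set H)) : R ≤ X ∨ ⁅X, Q⁆ = ⊥ := by
  rcases h.dich X hSX with h1 | h1
  · left; exact h1
  · right
    have hXQ : X ≤ normalizer (Q : Set H) := h1.trans h.LQ
    have hQX : Q ≤ normalizer (X : Set H) := h.QS.trans hSX
    have hle : ⁅X, Q⁆ ≤ X ⊓ Q := by
      apply le_inf
      · rw [commutator_le]
        intro x hx q hq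
        have h2 : q * x⁻¹ * q⁻¹ ∈ X :=
          (mem_normalizer_iff.mp (hQX hq) x⁻¹).mp (X.inv_mem hx)
        rw [commutatorElement_def]
        have : x * q * x⁻¹ * q⁻¹ = x * (q * x⁻¹ * q⁻¹) := by group
        rw [this]
        exact X.mul_mem hx h2
      · rw [commutator_le]
        intro x hx q hq
        have h2 : x * q * x⁻¹ ∈ Q := (mem_normalizer_iff.mp (hXQ hx) q).mp hq
        rw [commutatorElement_def]
        exact Q.mul_mem h2 (Q.inv_mem hq)
    have h3 : X ⊓ Q ≤ Cfsg.pCore p H := by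
      apply Cfsg.Agent.Helper22.le_pCore_of_subnormal (K := X) hXs inf_le_left
      · intro n hn
        rw [mem_normalizer_iff]
        intro x
        rw [mem_inf, mem_inf, ← mem_normalizer_iff.mp (hXQ hn) x,
          ← mem_normalizer_iff.mp (le_normalizer hn) x]
      · exact h.Qp.to_le inf_le_right
    rw [h.core] at h3
    exact le_bot_iff.mp (hle.trans h3)

theorem normal_dich (h : IsoAbs p R Q S L) (N : Subgroup H) [hN : N.Normal] :
    R ≤ N ∨ ⁅N, Q⁆ = ⊥ := by
  apply h.sub_dich hN.isSubnormal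
  rw [normalizer_eq_top_iff.mpr hN]
  exact le_top

theorem comm_ne_bot_of_le (h : IsoAbs p R Q S L) {X : Subgroup H} (hRX : R ≤ X) : ⁅X, Q⁆ ≠ ⊥ := by
  intro hX
  apply h.nc
  rw [eq_bot_iff, ← hX]
  exact commutator_mono hRX le_rfl

theorem R_le_of_normal (h : IsoAbs p R Q S L) (N : Subgroup H) [hN : N.Normal]
    (hNQ : ⁅N, Q⁆ ≠ ⊥) : R ≤ N :=
  (h.normal_dich N).resolve_right hNQ

theorem Q_ne_bot (h : IsoAbs p R Q S L) : Q ≠ ⊥ := by
  intro hQ
  apply h.nc
  rw [hQ]
  exact commutator_bot_right R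

/-- a subnormal subgroup that is a `p`-group is trivial -/
theorem eq_bot_of_subnormal_pgroup (h : IsoAbs p R Q S L) {X : Subgroup H} (hXs : X.IsSubnormal)
    (hXp : IsPGroup p X) : X = ⊥ := by
  have := Cfsg.Agent.Helper22.subnormal_isPGroup_le_pCore hXs hXp
  rw [h.core] at this
  exact le_bot_iff.mp this

theorem not_comm_Fstar (h : IsoAbs p R Q S L) : ⁅Cfsg.generalizedFittingSubgroup H, Q⁆ ≠ ⊥ := by
  intro hc
  apply h.Q_ne_bot
  have h1 : Q ≤ centralizer (Cfsg.generalizedFittingSubgroup H : Set H) := by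
    rw [← commutator_eq_bot_iff_le_centralizer, commutator_comm]
    exact hc
  have h2 : Q ≤ Cfsg.generalizedFittingSubgroup H :=
    h1.trans Cfsg.Agent.Helper22.centralizer_generalizedFittingSubgroup_le
  -- `A = Z(F*)`
  have hAn : (Cfsg.generalizedFittingSubgroup H ⊓
      centralizer (Cfsg.generalizedFittingSubgroup H : Set H)).Normal := inferInstance
  have hQA : Q ≤ Cfsg.generalizedFittingSubgroup H ⊓
      centralizer (Cfsg.generalizedFittingSubgroup H : Set H) := le_inf h2 h1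
  have hQn : (Q.subgroupOf (Cfsg.generalizedFittingSubgroup H ⊓
      centralizer (Cfsg.generalizedFittingSubgroup H : Set H))).Normal := by
    rw [normal_subgroupOf_iff_le_normalizer hQA]
    intro a ha
    rw [mem_normalizer_iff]
    intro q
    have hcomm : ∀ x ∈ Q, a * x * a⁻¹ = x := by
      intro x hx
      have := mem_centralizer_iff.mp (h1 hx) a ha.1
      rw [this, mul_inv_cancel_right]
    constructor
    · intro hq
      rw [hcomm q hq]
      exact hq
    · intro hq
      have h3 := hcomm _ hq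
      have h4 : q = a⁻¹ * (a * q * a⁻¹) * a := by group
      have h5 : a⁻¹ * (a * q * a⁻¹) * a = a * q * a⁻¹ := by
        have := mem_centralizer_iff.mp (h1 hq) a ha.1
        rw [mul_assoc a⁻¹, ← this, inv_mul_cancel_left]
      rw [h4, h5]
      exact hq
  have hQs : Q.IsSubnormal := IsSubnormal.step _ _ hQA hAn.isSubnormal hQn
  exact h.eq_bot_of_subnormal_pgroup hQs h.Qp

theorem R_le_Fstar (h : IsoAbs p R Q S L) : R ≤ Cfsg.generalizedFittingSubgroup H :=
  h.R_le_of_normal _ h.not_comm_Fstar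

theorem R_le_F_or_layer (h : IsoAbs p R Q S L) :
    R ≤ Cfsg.fittingSubgroup H ∨ R ≤ Cfsg.layer H := by
  by_contra hcon
  push Not at hcon
  have hFn : (Cfsg.fittingSubgroup H).Normal := inferInstance
  have hEn : (Cfsg.layer H).Normal := inferInstance
  have h1 : ⁅Cfsg.fittingSubgroup H, Q⁆ = ⊥ := (h.normal_dich _).resolve_left hcon.1
  have h2 : ⁅Cfsg.layer H, Q⁆ = ⊥ := (h.normal_dich _).resolve_left hcon.2
  apply h.not_comm_Fstar
  rw [commutator_eq_bot_iff_le_centralizer] at h1 h2 ⊢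
  rw [Cfsg.Agent.Helper22.generalizedFittingSubgroup_eq]
  exact sup_le h2 h1

end IsoAbs

end Cfsg.Agent.Helper50.IsoPMin
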