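import Mathlib
import Cfsg.Agent.Lib.Helper50.IsoPMin3

set_option autoImplicit false
set_option linter.unusedSectionVars false

/-!
Isolated `p`-minimal subgroups: the abstract situation, part 2: the solvable case.
-/

namespace Cfsg.Agent.Helper50.IsoPMin

open Cfsg Subgroup
open scoped commutatorElement

section general
variable {H : Type*} [Group H]

/-- commutators with a join -/
theorem comm_sup_le (A B Q T : Subgroup H) (hA : ⁅A, Q⁆ ≤ T) (hB : ⁅B, Q⁆ ≤ T)
    (hN : A ⊔ B ≤ normalizer (T : Set H)) : ⁅A ⊔ B, Q⁆ ≤ T := by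
  let K : Subgroup H :=
    { carrier := {g | g ∈ normalizer (T : Set H) ∧ ∀ q ∈ Q, ⁅g, q⁆ ∈ T}
      one_mem' := ⟨Subgroup.one_mem _, fun q _ => by
        rw [commutatorElement_one_left]; exact T.one_mem⟩
      mul_mem' := by
        rintro g₁ g₂ ⟨hg₁, h₁⟩ ⟨hg₂, h₂⟩
        refine ⟨Subgroup.mul_mem _ hg₁ hg₂, fun q hq => ?_⟩
        rw [commutatorElement_mul_left_eq_conj_mul]
        exact T.mul_mem ((mem_normalizer_iff.mp hg₁ _).mp (h₂ q hq)) (h₁ q hq)
      inv_mem' := by
        rintro g ⟨hg, h₁⟩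
        refine ⟨Subgroup.inv_mem _ hg, fun q hq => ?_⟩
        rw [commutatorElement_inv_left]
        have h2 : ⁅q, g⁆ ∈ T := by
          rw [← commutatorElement_inv]
          exact T.inv_mem (h₁ q hq)
        have h3 := (mem_normalizer_iff.mp (Subgroup.inv_mem _ hg) _).mp h2
        rwa [inv_inv] at h3 }
  have hAK : A ≤ K := fun a ha =>
    ⟨hN (mem_sup_left ha), fun q hq => hA (commutator_mem_commutator ha hq)⟩
  have hBK : B ≤ K := fun b hb =>
    ⟨hN (mem_sup_right hb), fun q hq => hB (commutator_mem_commutator hb hq)⟩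
  rw [commutator_le]
  intro g hg q hq
  exact ((sup_le hAK hBK) hg).2 q hq

/-- the normaliser of two subgroups normalises their commutator -/
theorem normalizer_inf_le_normalizer_commutator (A B : Subgroup H) :
    normalizer (A : Set H) ⊓ normalizer (B : Set H) ≤ normalizer ((⁅A, B⁆ : Subgroup H) : Set H) := by
  intro g hg
  rw [Cfsg.Agent.Helper22.mem_normalizer_iff_conjS]
  have hA := Cfsg.Agent.Helper22.mem_normalizer_iff_conjS.mp hg.1
  have hB := Cfsg.Agent.Helper22.mem_normalizer_iff_conjS.mp hg.2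
  unfold Cfsg.Agent.Helper22.conjS at hA hB ⊢
  rw [map_commutator, hA, hB]

/-- stability: a `p`-group stabilising `1 ≤ [Y,Q] ≤ Y` with `[Y,Q]` a `t`-group acts trivially -/
theorem comm_eq_bot_of_stab {p t : ℕ} (hp : p.Prime) (ht : t.Prime) (hne : t ≠ p)
    (Y Q : Subgroup H) (hYt : IsPGroup t Y) (hQp : IsPGroup p Q) (hYn : Q ≤ normalizer (Y : Set H))
    (hstab : ⁅⁅Y, Q⁆, Q⁆ = ⊥) : ⁅Y, Q⁆ = ⊥ := by
  rw [eq_bot_iff, commutator_le]
  intro y hy q hq
  rw [mem_bot]
  have hcD : ⁅y, q⁆ ∈ ⁅Y, Q⁆ := commutator_mem_commutator hy hq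
  have hcY : ⁅y, q⁆ ∈ Y := by
    rw [commutatorElement_def]
    have h2 : q * y⁻¹ * q⁻¹ ∈ Y := (mem_normalizer_iff.mp (hYn hq) y⁻¹).mp (Y.inv_mem hy)
    have : y * q * y⁻¹ * q⁻¹ = y * (q * y⁻¹ * q⁻¹) := by group
    rw [this]
    exact Y.mul_mem hy h2
  have hcomm : Commute ⁅y, q⁆ q := by
    have h1 : ⁅⁅y, q⁆, q⁆ ∈ ⁅⁅Y, Q⁆, Q⁆ := commutator_mem_commutator hcD hq
    rw [hstab, mem_bot] at h1
    exact commutatorElement_eq_one_iff_commute.mp h1
  obtain ⟨k, hk⟩ := hQp ⟨q, hq⟩
  have hk' : q ^ p ^ k = 1 := by simpa using congrArg Subtype.val hk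
  obtain ⟨j, hj⟩ := hYt ⟨⁅y, q⁆, hcY⟩
  have hj' : ⁅y, q⁆ ^ t ^ j = 1 := by simpa using congrArg Subtype.val hj
  have hconj : y * q * y⁻¹ = ⁅y, q⁆ * q := by
    rw [commutatorElement_def]; group
  have h3 : ⁅y, q⁆ ^ p ^ k = 1 := by
    have h4 : (y * q * y⁻¹) ^ p ^ k = 1 := by
      rw [conj_pow, hk']; group
    rw [hconj, hcomm.mul_pow, hk', mul_one] at h4
    exact h4
  have h5 : orderOf ⁅y, q⁆ ∣ Nat.gcd (p ^ k) (t ^ j) :=
    Nat.dvd_gcd (orderOf_dvd_of_pow_eq_one h3) (orderOf_dvd_of_pow_eq_one hj')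
  have h6 : Nat.Coprime (p ^ k) (t ^ j) :=
    Nat.Coprime.pow _ _ ((Nat.coprime_primes hp ht).mpr (Ne.symm hne))
  rw [h6, Nat.dvd_one] at h5
  exact orderOf_eq_one_iff.mp h5

end general

variable {H : Type*} [Group H] [Finite H] {p : ℕ} [Fact p.Prime]
variable {R Q S L : Subgroup H}

namespace IsoAbs

theorem R_le_F_of_solvable (h : IsoAbs p R Q S L)
    (hsol : Group.IsSolvable ↥(normalClosure (R : Set H))) : R ≤ Cfsg.fittingSubgroup H := by
  rcases h.R_le_F_or_layer with h1 | h1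
  · exact h1
  · have hEn : (Cfsg.layer H).Normal := inferInstance
    have hAn : (normalClosure (R : Set H) ⊓ Cfsg.layer H).Normal := inferInstance
    have hAsol : Group.IsSolvable ↥(normalClosure (R : Set H) ⊓ Cfsg.layer H) :=
      Group.isSolvable_of_isSolvable_injective
        (f := Subgroup.inclusion (inf_le_left : normalClosure (R : Set H) ⊓ Cfsg.layer H ≤ _))
        (Subgroup.inclusion_injective _)
    have hcent : Cfsg.layer H ≤
        centralizer ((normalClosure (R : Set H) ⊓ Cfsg.layer H : Subgroup H) : Set H) := by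
      apply sSup_le
      intro K hK
      rcases Cfsg.Agent.Helper22.component_le_or_commutator_eq_bot hK hAn.isSubnormal with h2 | h2
      · exact absurd h2 (Cfsg.Agent.Helper22.IsComponent.not_le_of_isSolvable hK hAsol)
      · exact commutator_eq_bot_iff_le_centralizer.mp h2
    have hab : ⁅normalClosure (R : Set H) ⊓ Cfsg.layer H,
        normalClosure (R : Set H) ⊓ Cfsg.layer H⁆ = ⊥ := by
      rw [commutator_eq_bot_iff_le_centralizer]
      exact inf_le_right.trans hcent
    have hnil : Group.IsNilpotent ↥(normalClosure (R : Set H) ⊓ Cfsg.layer H) := by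
      apply isNilpotent_of_lowerCentralSeries_eq_bot (n := 1)
      exact hab
    exact (le_inf le_normalClosure h1).trans (Cfsg.Agent.Helper22.le_fittingSubgroup hAn hnil)

/-- in the nilpotent case the normal closure of `R` is a `t`-group for a prime `t ≠ p` -/
theorem exists_prime (h : IsoAbs p R Q S L) (hRF : R ≤ Cfsg.fittingSubgroup H) :
    ∃ t : ℕ, t.Prime ∧ t ≠ p ∧ normalClosure (R : Set H) ≤ Cfsg.pCore t H := by
  by_contra hcon
  push Not at hcon
  have hall : ∀ t : {t : ℕ // t.Prime}, Cfsg.pCore (t : ℕ) H ≤ centralizer (Q : Set H) := by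
    intro t
    rw [← commutator_eq_bot_iff_le_centralizer]
    by_contra hne
    have hn : (Cfsg.pCore (t : ℕ) H).Normal := Cfsg.pCore_normal _ _
    have h1 : R ≤ Cfsg.pCore (t : ℕ) H := h.R_le_of_normal _ hne
    have h2 : normalClosure (R : Set H) ≤ Cfsg.pCore (t : ℕ) H := normalClosure_le_normal h1
    by_cases htp : (t : ℕ) = p
    · apply hne
      rw [htp, h.core]
      exact commutator_bot_left Q
    · exact hcon t t.2 htp h2
  apply h.comm_ne_bot_of_le hRF
  rw [commutator_eq_bot_iff_le_centralizer, Cfsg.Agent.Helper22.fittingSubgroup_eq_iSup_pCore]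
  exact iSup_le hall

end IsoAbs

end Cfsg.Agent.Helper50.IsoPMin
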