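import Mathlib
import Cfsg.Agent.Lib.Helper50.IsoPMin4

set_option autoImplicit false
set_option linter.unusedSectionVars false

/-!
Isolated `p`-minimal subgroups: the abstract situation, part 3: structure in the solvable case.
-/

namespace Cfsg.Agent.Helper50.IsoPMin

open Cfsg Subgroup
open scoped commutatorElement Pointwise

section general
variable {H : Type*} [Group H]

theorem commutator_lt_of_solvable (Y : Subgroup H) [Group.IsSolvable ↥Y] (hY : Y ≠ ⊥) :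
    ⁅Y, Y⁆ < Y := by
  rw [← nontrivial_iff_ne_bot] at hY
  rw [← Y.range_subtype, MonoidHom.range_eq_map, ← map_commutator, map_subtype_lt_map_subtype]
  exact Group.IsSolvable.commutator_lt_top_of_nontrivial ↥Y

/-- a subgroup of `Y` containing `[Y,Y]` is normalised by `Y` -/
theorem le_normalizer_of_commutator_le {Y T : Subgroup H} (hTY : T ≤ Y) (hYT : ⁅Y, Y⁆ ≤ T) :
    Y ≤ normalizer (T : Set H) := by
  have key : ∀ y ∈ Y, ∀ x ∈ T, y * x * y⁻¹ ∈ T := by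
    intro y hy x hx
    have h1 : ⁅y, x⁆ ∈ T := hYT (commutator_mem_commutator hy (hTY hx))
    have h2 : y * x * y⁻¹ = ⁅y, x⁆ * x := by
      rw [commutatorElement_def]; group
    rw [h2]
    exact T.mul_mem h1 hx
  intro y hy
  rw [mem_normalizer_iff]
  intro x
  constructor
  · exact key y hy x
  · intro hx
    have := key y⁻¹ (Y.inv_mem hy) _ hx
    simpa [mul_assoc] using this

end general

variable {H : Type*} [Group H] [Finite H] {p : ℕ} [Fact p.Prime]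
variable {R Q S L : Subgroup H}

namespace IsoAbs

theorem structure_of_tgroup (h : IsoAbs p R Q S L) {t : ℕ} (ht : t.Prime) (hne : t ≠ p)
    (hYt' : normalClosure (R : Set H) ≤ Cfsg.pCore t H) :
    normalClosure (R : Set H) = R ∧
      ⁅normalClosure (R : Set H), ⁅normalClosure (R : Set H), normalClosure (R : Set H)⁆⁆ = ⊥ := by
  have := Fact.mk ht
  obtain ⟨Y, hYdef⟩ : ∃ Y : Subgroup H, Y = normalClosure (R : Set H) := ⟨_, rfl⟩
  rw [← hYdef] at hYt' ⊢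
  have hYn : Y.Normal := by rw [hYdef]; infer_instance
  have hRY : R ≤ Y := by rw [hYdef]; exact le_normalClosure
  have hYle : ∀ N : Subgroup H, N.Normal → R ≤ N → Y ≤ N := by
    intro N hN hRN
    rw [hYdef]
    exact normalClosure_le_normal (SetLike.coe_subset_coe.mpr hRN)
  have hYt : IsPGroup t Y := (Cfsg.Agent.Helper22.isPGroup_pCore t).to_le hYt'
  have hYS : Y ⊓ S = ⊥ := (IsPGroup.disjoint_of_ne t p hne Y S hYt h.Sp).eq_bot
  have hYQ : Y ⊓ Q = ⊥ := (IsPGroup.disjoint_of_ne t p hne Y Q hYt h.Qp).eq_bot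
  have hQY : Q ≤ normalizer (Y : Set H) := by
    rw [normalizer_eq_top_iff.mpr hYn]; exact le_top
  have hYne : ⁅Y, Q⁆ ≠ ⊥ := h.comm_ne_bot_of_le hRY
  have hYbot : Y ≠ ⊥ := by
    rintro rfl
    exact hYne (commutator_bot_left Q)
  -- `[Y,Q] = Y`
  have hDn : (⁅Y, Q⁆ : Subgroup H).Normal := by
    rw [← normalizer_eq_top_iff, eq_top_iff]
    refine h.YL.trans ?_
    rw [← hYdef]
    apply sup_le (normalizer_commutator_ge_left Y Q)
    refine le_trans ?_ (normalizer_inf_le_normalizer_commutator Y Q)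
    apply le_inf _ h.LQ
    rw [normalizer_eq_top_iff.mpr hYn]; exact le_top
  have hRD : R ≤ ⁅Y, Q⁆ := by
    apply h.R_le_of_normal
    intro hstab
    exact hYne (comm_eq_bot_of_stab (Fact.out : p.Prime) ht hne Y Q hYt h.Qp hQY hstab)
  have hD : ⁅Y, Q⁆ = Y := by
    exact le_antisymm (commutator_le_left Y Q) (hYle _ hDn hRD)
  -- the derived subgroup
  have : Group.IsNilpotent ↥Y := hYt.isNilpotent
  have hlt : ⁅Y, Y⁆ < Y := commutator_lt_of_solvable Y hYbot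
  have hY'n : (⁅Y, Y⁆ : Subgroup H).Normal := inferInstance
  have hY'Q : ⁅⁅Y, Y⁆, Q⁆ = ⊥ := by
    rcases h.normal_dich ⁅Y, Y⁆ with h1 | h1
    · exfalso
      have : Y ≤ ⁅Y, Y⁆ := hYle _ hY'n h1
      exact absurd hlt (not_lt_of_ge this)
    · exact h1
  have hclass : ⁅Y, ⁅Y, Y⁆⁆ = ⊥ := by
    have h1 : ⁅⁅Q, ⁅Y, Y⁆⁆, Y⁆ = ⊥ := by
      rw [commutator_comm Q, hY'Q]
      exact commutator_bot_left Y
    have h2 : ⁅⁅⁅Y, Y⁆, Y⁆, Q⁆ = ⊥ := by
      rw [eq_bot_iff, ← hY'Q]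
      exact commutator_mono (commutator_le_left _ _) le_rfl
    have h3 := commutator_commutator_eq_bot_of_rotate h1 h2
    rwa [hD] at h3
  -- `Y ∩ L` is centralised by `Q`
  have hC₀ : ⁅Y ⊓ L, Q⁆ = ⊥ := by
    rw [eq_bot_iff, ← hYQ]
    apply le_inf
    · exact (commutator_mono inf_le_left le_rfl).trans (commutator_le_left Y Q)
    · rw [commutator_le]
      intro x hx q hq
      have h2 : x * q * x⁻¹ ∈ Q := (mem_normalizer_iff.mp (h.LQ hx.2) q).mp hq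
      rw [commutatorElement_def]
      exact Q.mul_mem h2 (Q.inv_mem hq)
  -- generation
  have hSW : S ≤ normalizer ((R ⊔ Y ⊓ L : Subgroup H) : Set H) := by
    refine le_trans ?_ (normalizer_inf_normalizer_le_normalizer_sup R (Y ⊓ L))
    apply le_inf h.SR
    refine le_trans ?_ (Cfsg.Agent.Helper22.normalizer_inf_le Y L)
    apply le_inf
    · rw [normalizer_eq_top_iff.mpr hYn]; exact le_top
    · exact h.SL.trans le_normalizer
  have hgen : Y ≤ R ⊔ Y ⊓ L := by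
    intro y hy
    have h1 : y ∈ (R ⊔ S) ⊔ (L ⊓ (Y ⊔ S)) := h.gen (Y ⊔ S) le_sup_right (mem_sup_left hy)
    have h2 : L ⊓ (Y ⊔ S) ≤ (Y ⊓ L) ⊔ S := by
      intro x hx
      obtain ⟨y', hy', s, hs, rfl⟩ := mem_sup_of_normal_left.mp hx.2
      have : y' ∈ L := by
        have := L.mul_mem hx.1 (L.inv_mem (h.SL hs))
        simpa using this
      exact mul_mem (mem_sup_left ⟨hy', this⟩) (mem_sup_right hs)
    have h3 : (R ⊔ S) ⊔ (L ⊓ (Y ⊔ S)) ≤ (R ⊔ Y ⊓ L) ⊔ S := by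
      refine sup_le (sup_le (le_sup_left.trans le_sup_left) le_sup_right) (h2.trans ?_)
      exact sup_le (le_sup_right.trans le_sup_left) le_sup_right
    have h4 : y ∈ ((R ⊔ Y ⊓ L) ⊔ S : Subgroup H) := h3 h1
    have h5 : ((R ⊔ Y ⊓ L) ⊔ S : Subgroup H) = ((R ⊔ Y ⊓ L : Subgroup H) : Set H) * (S : Set H) :=
      coe_mul_of_right_le_normalizer_left _ _ hSW
    have h6 : y ∈ ((R ⊔ Y ⊓ L : Subgroup H) : Set H) * (S : Set H) := by
      rw [← h5]; exact h4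
    obtain ⟨w, hw, s, hs, hws⟩ := Set.mem_mul.mp h6
    have hwY : w ∈ Y := (sup_le hRY inf_le_left : R ⊔ Y ⊓ L ≤ Y) hw
    have hsY : s ∈ Y ⊓ S := by
      refine ⟨?_, hs⟩
      have : s = w⁻¹ * y := by rw [← hws]; group
      rw [this]
      exact Y.mul_mem (Y.inv_mem hwY) hy
    rw [hYS, mem_bot] at hsY
    rw [← hws, hsY, mul_one]
    exact hw
  -- `Y = R [Y,Y]`
  have hT : Y ≤ R ⊔ ⁅Y, Y⁆ := by
    have hTY : R ⊔ ⁅Y, Y⁆ ≤ Y := sup_le hRY (commutator_le_left Y Y)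
    have hYT : Y ≤ normalizer ((R ⊔ ⁅Y, Y⁆ : Subgroup H) : Set H) :=
      le_normalizer_of_commutator_le hTY le_sup_right
    have h1 : ⁅R, Q⁆ ≤ R ⊔ ⁅Y, Y⁆ := by
      refine le_trans ?_ le_sup_left
      rw [commutator_le]
      intro r hr q hq
      have h2 : q * r⁻¹ * q⁻¹ ∈ R :=
        (mem_normalizer_iff.mp (h.SR (h.QS hq)) r⁻¹).mp (R.inv_mem hr)
      rw [commutatorElement_def]
      have : r * q * r⁻¹ * q⁻¹ = r * (q * r⁻¹ * q⁻¹) := by group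
      rw [this]
      exact R.mul_mem hr h2
    have h2 : ⁅Y ⊓ L, Q⁆ ≤ R ⊔ ⁅Y, Y⁆ := by rw [hC₀]; exact bot_le
    have h3 : R ⊔ Y ⊓ L ≤ normalizer ((R ⊔ ⁅Y, Y⁆ : Subgroup H) : Set H) :=
      (sup_le hRY inf_le_left : R ⊔ Y ⊓ L ≤ Y).trans hYT
    have h4 := comm_sup_le R (Y ⊓ L) Q (R ⊔ ⁅Y, Y⁆) h1 h2 h3
    calc Y = ⁅Y, Q⁆ := hD.symm
      _ ≤ ⁅R ⊔ Y ⊓ L, Q⁆ := commutator_mono hgen le_rfl
      _ ≤ R ⊔ ⁅Y, Y⁆ := h4
  -- `[Y,Y] ≤ R`
  have hcent : ∀ z ∈ ⁅Y, Y⁆, ∀ y ∈ Y, ⁅z, y⁆ = 1 := by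
    intro z hz y hy
    have : ⁅y, z⁆ ∈ ⁅Y, ⁅Y, Y⁆⁆ := commutator_mem_commutator hy hz
    rw [hclass, mem_bot] at this
    rw [← commutatorElement_inv, this, inv_one]
  have hY'R : ⁅Y, Y⁆ ≤ R := by
    rw [commutator_le]
    intro y₁ hy₁ y₂ hy₂
    obtain ⟨r₁, hr₁, z₁, hz₁, rfl⟩ := mem_sup_of_normal_right.mp (hT hy₁)
    obtain ⟨r₂, hr₂, z₂, hz₂, rfl⟩ := mem_sup_of_normal_right.mp (hT hy₂)
    have e1 : ⁅r₁ * z₁, r₂ * z₂⁆ = ⁅r₁, r₂ * z₂⁆ := by
      rw [commutatorElement_mul_left_eq_conj_mul, hcent z₁ hz₁ _ hy₂]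
      group
    have e2 : ⁅r₁, r₂ * z₂⁆ = ⁅r₁, r₂⁆ := by
      rw [← commutatorElement_inv (r₂ * z₂) r₁, commutatorElement_mul_left_eq_conj_mul,
        hcent z₂ hz₂ _ (hRY hr₁), ← commutatorElement_inv r₁ r₂]
      group
    rw [e1, e2]
    exact (commutator_le_self R) (commutator_mem_commutator hr₁ hr₂)
  refine ⟨le_antisymm (hT.trans (sup_le le_rfl hY'R)) hRY, hclass⟩

end IsoAbs

end Cfsg.Agent.Helper50.IsoPMin
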