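import Mathlib
import Cfsg.Agent.Lib.Helper50.IsoPMin2
import Cfsg.Agent.Lib.Helper50.IsoPMin5

set_option autoImplicit false
set_option linter.unusedSectionVars false

/-!
Isolated `p`-minimal subgroups: passage to `G / O_p(G)`.
-/

namespace Cfsg.Agent.Helper50.IsoPMin

open Cfsg Subgroup
open scoped commutatorElement Pointwise

variable {G : Type*} [Group G] [Finite G] {p : ℕ} [Fact p.Prime]

/-- `O_p(G / O_p(G)) = 1` -/
theorem pCore_quotient_pCore_eq_bot' : pCore p (G ⧸ pCore p G) = ⊥ := by
  apply Cfsg.Agent.Helper46.pCore_quotient_eq_bot_of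
  intro D hD hpow
  apply Cfsg.Agent.Helper46.le_pCore hD
  rw [Cfsg.Agent.Helper46.isPGroup_subgroup_iff]
  intro d hd
  obtain ⟨k, hk⟩ := hpow d hd
  obtain ⟨j, hj⟩ := Cfsg.Agent.Helper46.pCore_pow_eq_one hk
  refine ⟨k + j, ?_⟩
  rw [pow_add, pow_mul]; exact hj

variable {S : Sylow p G} {P L : Subgroup G}

theorem Setup.isoAbs (h : Setup S P L) :
    IsoAbs p ((resP p P).map (QuotientGroup.mk' (pCore p G)))
      ((coreL p L).map (QuotientGroup.mk' (pCore p G)))
      ((S : Subgroup G).map (QuotientGroup.mk' (pCore p G)))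
      (L.map (QuotientGroup.mk' (pCore p G))) where
  core := pCore_quotient_pCore_eq_bot'
  Qp := (Setup.coreL_isPGroup L).map _
  QS := map_mono h.coreL_le_S
  SL := map_mono h.S_le_L
  LQ := (map_mono (Setup.L_le_normalizer_coreL L)).trans (le_normalizer_map _)
  SR := (map_mono (h.SP.trans (Setup.P_le_normalizer_resP P))).trans (le_normalizer_map _)
  dich := by
    intro X hX
    have hSX : (S : Subgroup G) ≤ normalizer ((X.comap (QuotientGroup.mk' (pCore p G)) :
        Subgroup G) : Set G) := by
      refine le_trans ?_ (le_normalizer_comap (QuotientGroup.mk' (pCore p G)))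
      exact (le_comap_map _ _).trans (comap_mono hX)
    rcases h.dich _ hSX with h1 | h1
    · left
      exact (map_mono h1).trans (map_comap_le _ _)
    · right
      have := map_mono (f := QuotientGroup.mk' (pCore p G)) h1
      rwa [map_comap_eq_self_of_surjective (QuotientGroup.mk'_surjective _)] at this
  nc := by
    rw [← map_commutator, Ne, Subgroup.map_eq_bot_iff, QuotientGroup.ker_mk']
    exact h.not_comm_le
  gen := by
    intro M hSM
    have hSM' : (S : Subgroup G) ≤ M.comap (QuotientGroup.mk' (pCore p G)) :=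
      (le_comap_map _ _).trans (comap_mono hSM)
    have h1 := map_mono (f := QuotientGroup.mk' (pCore p G)) (h.gen hSM')
    rw [map_comap_eq_self_of_surjective (QuotientGroup.mk'_surjective _), Subgroup.map_sup,
      Subgroup.map_sup] at h1
    refine h1.trans (sup_le_sup_left ?_ _)
    refine (map_inf_le _ _ _).trans ?_
    rw [map_comap_eq_self_of_surjective (QuotientGroup.mk'_surjective _)]
  YL := by
    have h1 := map_mono (f := QuotientGroup.mk' (pCore p G)) h.top_le
    rw [Subgroup.map_sup, map_normalClosure _ _ (QuotientGroup.mk'_surjective _), ← coe_map,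
      ← MonoidHom.range_eq_map, MonoidHom.range_eq_top.mpr (QuotientGroup.mk'_surjective _)] at h1
    exact h1
  Sp := S.isPGroup'.map _

/-- the `p`-core of a normal subgroup -/
theorem pCore_subgroup_eq (Y : Subgroup G) [hYn : Y.Normal] :
    pCore p ↥Y = (pCore p G).subgroupOf Y := by
  apply le_antisymm
  · have hn : (pCore p ↥Y).Normal := Cfsg.pCore_normal p ↥Y
    have h1 : (pCore p ↥Y).map Y.subtype ≤ pCore p G := by
      apply Cfsg.Agent.Helper22.le_pCore_of_subnormal (K := Y) hYn.isSubnormal (map_subtype_le _)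
      · have h2 := le_normalizer_map (H := pCore p ↥Y) Y.subtype
        rw [normalizer_eq_top_iff.mpr hn, ← MonoidHom.range_eq_map, range_subtype] at h2
        exact h2
      · exact (Cfsg.Agent.Helper22.isPGroup_pCore p).map _
    exact (le_comap_map Y.subtype _).trans (comap_mono h1)
  · apply Cfsg.Agent.Helper22.le_pCore
    · infer_instance
    · exact (Cfsg.Agent.Helper22.isPGroup_pCore p).comap_subtype

end Cfsg.Agent.Helper50.IsoPMin
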