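import Mathlib
import Cfsg.Agent.Lib.Helper50.IsoPMin6

set_option autoImplicit false
set_option linter.unusedSectionVars false

/-!
Isolated `p`-minimal subgroups: `O^p(P) ≤ F*_p(G)` and the solvable case.
-/

namespace Cfsg.Agent.Helper50.IsoPMin

open Cfsg Subgroup
open scoped commutatorElement Pointwise

variable {G : Type*} [Group G] [Finite G] {p : ℕ} [Fact p.Prime]
variable {S : Sylow p G} {P L : Subgroup G}

/-- `O^p(P) ≤ F*_p(G)` -/
theorem Setup.resP_le_Fstar (h : Setup S P L) :
    resP p P ≤ (Cfsg.generalizedFittingSubgroup (G ⧸ Cfsg.pCore p G)).comap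
      (QuotientGroup.mk' (Cfsg.pCore p G)) :=
  map_le_iff_le_comap.mp h.isoAbs.R_le_Fstar

/-- `p'`-elements of `R O_p(G)` lie in `R = O^p(P)` -/
theorem Setup.mem_resP_of_coprime (h : Setup S P L) {u : G} (hu : u ∈ resP p P ⊔ pCore p G)
    (hcop : (orderOf u).Coprime p) : u ∈ resP p P := by
  have hZS : pCore p G ≤ (S : Subgroup G) := Cfsg.Agent.Helper46.pCore_le_sylow S
  have hZn : pCore p G ≤ normalizer ((resP p P : Subgroup G) : Set G) :=
    (hZS.trans h.SP).trans (Setup.P_le_normalizer_resP P)
  have hRM : resP p P ≤ resP p P ⊔ pCore p G := le_sup_left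
  have hZM : pCore p G ≤ resP p P ⊔ pCore p G := le_sup_right
  have hMn : resP p P ⊔ pCore p G ≤ normalizer ((resP p P : Subgroup G) : Set G) :=
    sup_le le_normalizer hZn
  have : ((resP p P).subgroupOf (resP p P ⊔ pCore p G)).Normal :=
    (normal_subgroupOf_iff_le_normalizer hRM).mpr hMn
  have hT : IsPGroup p ((pCore p G).subgroupOf (resP p P ⊔ pCore p G)) :=
    (Cfsg.Agent.Helper22.isPGroup_pCore p).comap_subtype
  have htop : (resP p P).subgroupOf (resP p P ⊔ pCore p G) ⊔
      (pCore p G).subgroupOf (resP p P ⊔ pCore p G) = ⊤ := by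
    rw [← subgroupOf_sup hRM hZM, subgroupOf_self]
  have h1 := Cfsg.Agent.Helper47.pResidual_le_of_sup_eq_top hT htop
  have h2 : (⟨u, hu⟩ : ↥(resP p P ⊔ pCore p G)) ∈ pResidual p ↥(resP p P ⊔ pCore p G) := by
    apply Cfsg.Agent.Helper47.mem_pResidual_of_coprime
    have : orderOf (⟨u, hu⟩ : ↥(resP p P ⊔ pCore p G)) = orderOf u :=
      (orderOf_injective (resP p P ⊔ pCore p G).subtype (subtype_injective _) ⟨u, hu⟩).symm
    rw [this]
    exact hcop
  exact h1 h2

/-- if `Y ≤ R O_p(G)` then `R` is normal, so `Y = R` -/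
theorem Setup.normalClosure_eq_of_le (h : Setup S P L)
    (hle : normalClosure ((resP p P : Subgroup G) : Set G) ≤ resP p P ⊔ pCore p G) :
    normalClosure ((resP p P : Subgroup G) : Set G) = resP p P := by
  have hconj : ∀ g : G, ∀ r ∈ resP p P, g * r * g⁻¹ ∈ resP p P := by
    intro g r hr
    have hr' := hr
    unfold resP at hr'
    rw [Cfsg.Agent.Helper47.map_pResidual_eq_closure] at hr'
    induction hr' using closure_induction with
    | mem x hx =>
      have hxR : x ∈ resP p P := by
        unfold resP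
        rw [Cfsg.Agent.Helper47.map_pResidual_eq_closure]
        exact subset_closure hx
      have h1 : g * x * g⁻¹ ∈ normalClosure ((resP p P : Subgroup G) : Set G) :=
        (normalClosure_normal).conj_mem x (le_normalClosure hxR) g
      apply h.mem_resP_of_coprime (hle h1)
      have : g * x * g⁻¹ = MulAut.conj g x := by simp
      rw [this, MulEquiv.orderOf_eq]
      exact hx.2
    | one => simp [Subgroup.one_mem]
    | mul a b _ _ iha ihb =>
      have : g * (a * b) * g⁻¹ = (g * a * g⁻¹) * (g * b * g⁻¹) := by group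
      rw [this]
      refine Subgroup.mul_mem _ (iha ?_) (ihb ?_)
      · unfold resP; rw [Cfsg.Agent.Helper47.map_pResidual_eq_closure]; assumption
      · unfold resP; rw [Cfsg.Agent.Helper47.map_pResidual_eq_closure]; assumption
    | inv a _ iha =>
      have : g * a⁻¹ * g⁻¹ = (g * a * g⁻¹)⁻¹ := by group
      rw [this]
      refine Subgroup.inv_mem _ (iha ?_)
      unfold resP; rw [Cfsg.Agent.Helper47.map_pResidual_eq_closure]; assumption
  have hn : (resP p P).Normal := ⟨fun r hr g => hconj g r hr⟩
  exact le_antisymm (normalClosure_le_normal (le_refl _)) le_normalClosure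

end Cfsg.Agent.Helper50.IsoPMin
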