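import Mathlib
import Cfsg.Agent.Lib.Helper50.IsoPMin7

set_option autoImplicit false
set_option linter.unusedSectionVars false

/-!
Isolated `p`-minimal subgroups: the statement of S3045.
-/

namespace Cfsg.Agent.Helper50.IsoPMin

open Cfsg Subgroup
open scoped commutatorElement Pointwise

variable {G : Type*} [Group G] [Finite G] {p : ℕ} [Fact p.Prime]
variable {S : Sylow p G} {P L : Subgroup G}

theorem Setup.solvable_case (h : Setup S P L)
    (hsol : Group.IsSolvable ↥(normalClosure ((resP p P : Subgroup G) : Set G))) :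
    resP p P = normalClosure ((resP p P : Subgroup G) : Set G) ∧
      ∃ t : ℕ, t.Prime ∧ t ≠ p ∧
        IsPGroup t (↥(normalClosure ((resP p P : Subgroup G) : Set G)) ⧸
          Cfsg.pCore p ↥(normalClosure ((resP p P : Subgroup G) : Set G))) ∧
        ∃ _ : Group.IsNilpotent (↥(normalClosure ((resP p P : Subgroup G) : Set G)) ⧸
          Cfsg.pCore p ↥(normalClosure ((resP p P : Subgroup G) : Set G))),
          Group.nilpotencyClass (↥(normalClosure ((resP p P : Subgroup G) : Set G)) ⧸
            Cfsg.pCore p ↥(normalClosure ((resP p P : Subgroup G) : Set G))) ≤ 2 := by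
  have hA := h.isoAbs
  have hsurj := QuotientGroup.mk'_surjective (pCore p G)
  have hmapY : (normalClosure ((resP p P : Subgroup G) : Set G)).map (QuotientGroup.mk' (pCore p G)) =
      normalClosure ((Subgroup.map (QuotientGroup.mk' (pCore p G)) (resP p P) : Subgroup (G ⧸ pCore p G)) : Set (G ⧸ pCore p G)) := by
    rw [map_normalClosure _ _ hsurj, ← coe_map]
  have hsol' : Group.IsSolvable ↥(normalClosure
      ((Subgroup.map (QuotientGroup.mk' (pCore p G)) (resP p P) : Subgroup (G ⧸ pCore p G)) : Set (G ⧸ pCore p G))) := by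
    rw [← hmapY]
    exact Group.isSolvable_of_surjective
      (f := (QuotientGroup.mk' (pCore p G)).subgroupMap _)
      ((QuotientGroup.mk' (pCore p G)).subgroupMap_surjective _)
  have hRF := hA.R_le_F_of_solvable hsol'
  obtain ⟨t, ht, hne, hYt⟩ := hA.exists_prime hRF
  obtain ⟨hYR, hclass⟩ := hA.structure_of_tgroup ht hne hYt
  have hle : normalClosure ((resP p P : Subgroup G) : Set G) ≤ resP p P ⊔ pCore p G := by
    have e : (normalClosure ((resP p P : Subgroup G) : Set G)).map (QuotientGroup.mk' (pCore p G)) =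
        (resP p P).map (QuotientGroup.mk' (pCore p G)) := by rw [hmapY, hYR]
    have h1 := le_comap_map (QuotientGroup.mk' (pCore p G))
      (normalClosure ((resP p P : Subgroup G) : Set G))
    rw [e, comap_map_eq, QuotientGroup.ker_mk'] at h1
    exact h1
  have hYeq := h.normalClosure_eq_of_le hle
  refine ⟨hYeq.symm, t, ht, hne, ?_⟩
  have := Fact.mk ht
  -- elements of `Y` map into `O_t(G/Z)`
  have hmem : ∀ y : ↥(normalClosure ((resP p P : Subgroup G) : Set G)),
      (QuotientGroup.mk' (pCore p G)) (y : G) ∈ normalClosure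
        ((Subgroup.map (QuotientGroup.mk' (pCore p G)) (resP p P) : Subgroup (G ⧸ pCore p G)) : Set (G ⧸ pCore p G)) := by
    intro y
    rw [← hmapY]
    exact mem_map_of_mem _ y.2
  have hker : ∀ y : ↥(normalClosure ((resP p P : Subgroup G) : Set G)),
      (QuotientGroup.mk' (pCore p G)) (y : G) = 1 →
      (QuotientGroup.mk y : ↥(normalClosure ((resP p P : Subgroup G) : Set G)) ⧸
          Cfsg.pCore p ↥(normalClosure ((resP p P : Subgroup G) : Set G))) = 1 := by
    intro y hy
    rw [QuotientGroup.eq_one_iff, pCore_subgroup_eq, mem_subgroupOf]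
    rw [← QuotientGroup.ker_mk' (pCore p G)]
    exact hy
  have hT : IsPGroup t (↥(normalClosure ((resP p P : Subgroup G) : Set G)) ⧸
      Cfsg.pCore p ↥(normalClosure ((resP p P : Subgroup G) : Set G))) := by
    intro x
    obtain ⟨y, rfl⟩ := QuotientGroup.mk_surjective x
    have h1 := hYt (hmem y)
    obtain ⟨k, hk⟩ := (Cfsg.Agent.Helper22.isPGroup_pCore t) ⟨_, h1⟩
    have hk' : ((QuotientGroup.mk' (pCore p G)) (y : G)) ^ t ^ k = 1 := by
      simpa using congrArg Subtype.val hk
    refine ⟨k, ?_⟩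
    rw [← QuotientGroup.mk_pow]
    apply hker
    rw [Subgroup.coe_pow, map_pow]
    exact hk'
  refine ⟨hT, hT.isNilpotent, ?_⟩
  have hnil : Group.IsNilpotent (↥(normalClosure ((resP p P : Subgroup G) : Set G)) ⧸
      Cfsg.pCore p ↥(normalClosure ((resP p P : Subgroup G) : Set G))) := hT.isNilpotent
  rw [← Subgroup.lowerCentralSeries_eq_bot_iff_nilpotencyClass_le]
  rw [show (2 : ℕ) = 0 + 1 + 1 from rfl, Subgroup.lowerCentralSeries_succ,
    Subgroup.lowerCentralSeries_succ, Subgroup.lowerCentralSeries_zero,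
    commutator_eq_bot_iff_le_centralizer, commutator_le]
  intro a _ b _
  rw [mem_centralizer_iff]
  intro c _
  obtain ⟨y₁, rfl⟩ := QuotientGroup.mk_surjective a
  obtain ⟨y₂, rfl⟩ := QuotientGroup.mk_surjective b
  obtain ⟨y₃, rfl⟩ := QuotientGroup.mk_surjective c
  have e1 : ⁅(QuotientGroup.mk y₁ : ↥(normalClosure ((resP p P : Subgroup G) : Set G)) ⧸
      Cfsg.pCore p ↥(normalClosure ((resP p P : Subgroup G) : Set G))),
      (QuotientGroup.mk y₂ : ↥(normalClosure ((resP p P : Subgroup G) : Set G)) ⧸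
      Cfsg.pCore p ↥(normalClosure ((resP p P : Subgroup G) : Set G)))⁆ =
      QuotientGroup.mk ⁅y₁, y₂⁆ := by
    rw [commutatorElement_def, commutatorElement_def]
    simp
  rw [e1, ← QuotientGroup.mk_mul, ← QuotientGroup.mk_mul, QuotientGroup.eq,
    ← QuotientGroup.eq_one_iff]
  apply hker
  have h3 : ⁅(QuotientGroup.mk' (pCore p G)) (y₃ : G),
      ⁅(QuotientGroup.mk' (pCore p G)) (y₁ : G), (QuotientGroup.mk' (pCore p G)) (y₂ : G)⁆⁆ = 1 := by
    have := commutator_mem_commutator (hmem y₃)
      (commutator_mem_commutator (hmem y₁) (hmem y₂))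
    rw [hclass, mem_bot] at this
    exact this
  rw [commutatorElement_eq_one_iff_mul_comm] at h3
  simp only [Subgroup.coe_mul, Subgroup.coe_inv, map_mul, map_inv, mul_inv_rev]
  have e2 : (QuotientGroup.mk' (pCore p G)) ((⁅y₁, y₂⁆ : ↥(normalClosure
      ((resP p P : Subgroup G) : Set G))) : G) =
      ⁅(QuotientGroup.mk' (pCore p G)) (y₁ : G), (QuotientGroup.mk' (pCore p G)) (y₂ : G)⁆ := by
    rw [commutatorElement_def, commutatorElement_def]
    simp
  rw [e2, ← h3]
  group

end Cfsg.Agent.Helper50.IsoPMin
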