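import Mathlib
import Cfsg.Agent.Lib.Helper50.IsoPMin8

set_option autoImplicit false
set_option linter.unusedSectionVars false

/-!
Isolated `p`-minimal subgroups: families of components.
-/

namespace Cfsg.Agent.Helper50.IsoPMin

open Cfsg Subgroup
open scoped commutatorElement Pointwise

section general
variable {H : Type*} [Group H]

open Cfsg.Agent.Helper22 in
/-- a subgroup permuting a family normalises its join -/
theorem le_normalizer_sSup (𝒜 : Set (Subgroup H)) (T : Subgroup H)
    (hT : ∀ g ∈ T, ∀ K ∈ 𝒜, conjS g K ∈ 𝒜) : T ≤ normalizer ((sSup 𝒜 : Subgroup H) : Set H) := by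
  intro g hg
  apply mem_normalizer_of_conjS_le
  · exact conjS_sSup_le 𝒜 g (hT g hg)
  · exact conjS_sSup_le 𝒜 g⁻¹ (hT g⁻¹ (T.inv_mem hg))

/-- joins of commuting families commute -/
theorem commutator_sSup_sSup_eq_bot (𝒜 ℬ : Set (Subgroup H))
    (hc : ∀ K ∈ 𝒜, ∀ K' ∈ ℬ, ⁅K, K'⁆ = ⊥) : ⁅sSup 𝒜, sSup ℬ⁆ = ⊥ := by
  rw [commutator_eq_bot_iff_le_centralizer]
  apply sSup_le
  intro K hK
  rw [← commutator_eq_bot_iff_le_centralizer, commutator_comm,
    commutator_eq_bot_iff_le_centralizer]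
  apply sSup_le
  intro K' hK'
  rw [← commutator_eq_bot_iff_le_centralizer, commutator_comm]
  exact hc K hK K' hK'

open Cfsg.Agent.Helper22 in
theorem conjS_le_normal_iff {Y A : Subgroup H} [hY : Y.Normal] (g : H) :
    conjS g A ≤ Y ↔ A ≤ Y := by
  constructor
  · intro h a ha
    have h1 : g * a * g⁻¹ ∈ Y := h ⟨a, ha, by simp [MulAut.conj_apply]⟩
    have h2 := hY.conj_mem _ h1 g⁻¹
    simpa [mul_assoc] using h2
  · rintro h _ ⟨a, ha, rfl⟩
    simpa [MulAut.conj_apply] using hY.conj_mem a (h ha) g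

open Cfsg.Agent.Helper22 in
/-- the join of a family of components is subnormal -/
theorem isSubnormal_sSup_components (𝒜 : Set (Subgroup H)) (h𝒜 : ∀ K ∈ 𝒜, IsComponent K) :
    (sSup 𝒜 : Subgroup H).IsSubnormal := by
  have hle : sSup 𝒜 ≤ layer H := sSup_le fun K hK => IsComponent.le_layer (h𝒜 K hK)
  have hn : layer H ≤ normalizer ((sSup 𝒜 : Subgroup H) : Set H) := by
    apply le_normalizer_sSup
    intro g hg K hK
    have : g ∈ normalizer (K : Set H) := layer_le_normalizer_of_subnormal (h𝒜 K hK).1 hg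
    rw [mem_normalizer_iff_conjS.mp this]
    exact hK
  have hEn : (layer H).Normal := inferInstance
  exact IsSubnormal.step _ _ hle hEn.isSubnormal ((normal_subgroupOf_iff_le_normalizer hle).mpr hn)

open Cfsg.Agent.Helper22 in
/-- the layer normalises the join of a family of components -/
theorem layer_le_normalizer_sSup (𝒜 : Set (Subgroup H)) (h𝒜 : ∀ K ∈ 𝒜, IsComponent K) :
    layer H ≤ normalizer ((sSup 𝒜 : Subgroup H) : Set H) :=
  layer_le_normalizer_of_subnormal (isSubnormal_sSup_components 𝒜 h𝒜)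

open Cfsg.Agent.Helper22 in
/-- a component outside a family of components is not contained in its join -/
theorem not_le_sSup_components (𝒜 : Set (Subgroup H)) (h𝒜 : ∀ K ∈ 𝒜, IsComponent K)
    {K : Subgroup H} (hK : IsComponent K) (hK𝒜 : K ∉ 𝒜) : ¬ K ≤ sSup 𝒜 := by
  intro hle
  have h1 : ⁅sSup ({K} : Set (Subgroup H)), sSup 𝒜⁆ = ⊥ := by
    apply commutator_sSup_sSup_eq_bot
    intro K₁ hK₁ K' hK'
    rw [Set.mem_singleton_iff] at hK₁
    subst hK₁
    apply component_commute hK (h𝒜 K' hK')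
    rintro rfl
    exact hK𝒜 hK'
  rw [sSup_singleton] at h1
  apply IsQuasisimple.not_commutator_eq_bot hK.2
  rw [eq_bot_iff, ← h1]
  exact commutator_mono le_rfl hle

end general

end Cfsg.Agent.Helper50.IsoPMin
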