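import Mathlib
import Cfsg.Agent.Lib.Helper50.IsoPMin9

set_option autoImplicit false
set_option linter.unusedSectionVars false

/-!
Isolated `p`-minimal subgroups: the abstract situation, the component case.
-/

namespace Cfsg.Agent.Helper50.IsoPMin

open Cfsg Subgroup Cfsg.Agent.Helper22
open scoped commutatorElement Pointwise

variable {H : Type*} [Group H] [Finite H] {p : ℕ} [Fact p.Prime]
variable {R Q S L : Subgroup H}

namespace IsoAbs

/-- Step A: the normal closure of `R` is the join of the components it contains -/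
theorem normalClosure_eq_sSup (h : IsoAbs p R Q S L) (hRF : ¬ R ≤ fittingSubgroup H)
    (hRE : R ≤ layer H) :
    normalClosure (R : Set H) =
      sSup {K : Subgroup H | IsComponent K ∧ K ≤ normalClosure (R : Set H)} := by
  obtain ⟨Y, hYdef⟩ : ∃ Y : Subgroup H, Y = normalClosure (R : Set H) := ⟨_, rfl⟩
  rw [← hYdef]
  have hYn : Y.Normal := by rw [hYdef]; infer_instance
  have hRY : R ≤ Y := by rw [hYdef]; exact le_normalClosure
  have hYle : ∀ N : Subgroup H, N.Normal → R ≤ N → Y ≤ N := by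
    intro N hN hRN
    rw [hYdef]
    exact normalClosure_le_normal (SetLike.coe_subset_coe.mpr hRN)
  have hEn : (layer H).Normal := inferInstance
  have hYE : Y ≤ layer H := hYle _ hEn hRE
  obtain ⟨𝒦, h𝒦⟩ : ∃ 𝒦 : Set (Subgroup H), 𝒦 = {K | IsComponent K ∧ K ≤ Y} := ⟨_, rfl⟩
  obtain ⟨𝒦', h𝒦'⟩ : ∃ 𝒦' : Set (Subgroup H), 𝒦' = {K | IsComponent K ∧ ¬ K ≤ Y} := ⟨_, rfl⟩
  rw [← h𝒦]
  have hE₁Y : sSup 𝒦 ≤ Y := by
    apply sSup_le
    intro K hK
    rw [h𝒦] at hK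
    exact hK.2
  have hE₁n : (sSup 𝒦).Normal := by
    rw [← normalizer_eq_top_iff, eq_top_iff]
    apply le_normalizer_sSup
    intro g _ K hK
    rw [h𝒦] at hK ⊢
    exact ⟨IsComponent.conj hK.1 g, (conjS_le_normal_iff g).mpr hK.2⟩
  have hE₂n : (sSup 𝒦').Normal := by
    rw [← normalizer_eq_top_iff, eq_top_iff]
    apply le_normalizer_sSup
    intro g _ K hK
    rw [h𝒦'] at hK ⊢
    exact ⟨IsComponent.conj hK.1 g, fun hle => hK.2 ((conjS_le_normal_iff g).mp hle)⟩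
  have hE₂Y : ⁅sSup 𝒦', Y⁆ = ⊥ := by
    rw [commutator_eq_bot_iff_le_centralizer]
    apply sSup_le
    intro K hK
    rw [h𝒦'] at hK
    rw [← commutator_eq_bot_iff_le_centralizer]
    exact (component_le_or_commutator_eq_bot hK.1 hYn.isSubnormal).resolve_left hK.2
  have hlayer : layer H ≤ sSup 𝒦 ⊔ sSup 𝒦' := by
    apply sSup_le
    intro K hK
    by_cases hKY : K ≤ Y
    · exact (le_sSup (show K ∈ 𝒦 by rw [h𝒦]; exact ⟨hK, hKY⟩)).trans le_sup_left
    · exact (le_sSup (show K ∈ 𝒦' by rw [h𝒦']; exact ⟨hK, hKY⟩)).trans le_sup_right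
  have hRE₁ : R ≤ sSup 𝒦 := by
    by_contra hcon
    have hE₁Q : ⁅sSup 𝒦, Q⁆ = ⊥ := (h.normal_dich _).resolve_left hcon
    have hNn : (Y ⊓ sSup 𝒦').Normal := inferInstance
    have hab : ⁅Y ⊓ sSup 𝒦', Y ⊓ sSup 𝒦'⁆ = ⊥ := by
      rw [eq_bot_iff, ← hE₂Y]
      exact commutator_mono inf_le_right inf_le_left
    have hnil : Group.IsNilpotent ↥(Y ⊓ sSup 𝒦') := by
      apply isNilpotent_of_lowerCentralSeries_eq_bot (n := 1)
      exact hab
    have hNF : Y ⊓ sSup 𝒦' ≤ fittingSubgroup H := le_fittingSubgroup hNn hnil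
    have hNQ : ⁅Y ⊓ sSup 𝒦', Q⁆ = ⊥ := by
      rcases h.normal_dich (Y ⊓ sSup 𝒦') with h1 | h1
      · exact absurd (h1.trans hNF) hRF
      · exact h1
    have hYsup : Y ≤ sSup 𝒦 ⊔ (Y ⊓ sSup 𝒦') := by
      intro y hy
      obtain ⟨e₁, he₁, e₂, he₂, rfl⟩ := mem_sup_of_normal_left.mp (hlayer (hYE hy))
      have : e₂ ∈ Y := by
        have := Y.mul_mem (Y.inv_mem (hE₁Y he₁)) hy
        simpa using this
      exact mul_mem (mem_sup_left he₁) (mem_sup_right ⟨this, he₂⟩)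
    have hYQ : ⁅Y, Q⁆ = ⊥ := by
      rw [eq_bot_iff]
      refine (commutator_mono hYsup le_rfl).trans ?_
      apply comm_sup_le
      · rw [hE₁Q]
      · rw [hNQ]
      · rw [normalizer_eq_top_iff.mpr (inferInstance : (⊥ : Subgroup H).Normal)]
        exact le_top
    exact h.comm_ne_bot_of_le hRY hYQ
  exact le_antisymm (hYle _ hE₁n hRE₁) hE₁Y

/-- Step B: no component in the normal closure of `R` is centralised by `Q` -/
theorem comm_component_ne_bot (h : IsoAbs p R Q S L) (hRF : ¬ R ≤ fittingSubgroup H)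
    (hRE : R ≤ layer H) {K : Subgroup H} (hK : IsComponent K)
    (hKY : K ≤ normalClosure (R : Set H)) : ⁅K, Q⁆ ≠ ⊥ := by
  have hYeq := h.normalClosure_eq_sSup hRF hRE
  obtain ⟨Y, hYdef⟩ : ∃ Y : Subgroup H, Y = normalClosure (R : Set H) := ⟨_, rfl⟩
  rw [← hYdef] at hYeq hKY
  have hYn : Y.Normal := by rw [hYdef]; infer_instance
  have hRY : R ≤ Y := by rw [hYdef]; exact le_normalClosure
  have hYle : ∀ N : Subgroup H, N.Normal → R ≤ N → Y ≤ N := by
    intro N hN hRN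
    rw [hYdef]
    exact normalClosure_le_normal (SetLike.coe_subset_coe.mpr hRN)
  have hEn : (layer H).Normal := inferInstance
  have hYE : Y ≤ layer H := hYle _ hEn hRE
  obtain ⟨𝒦₁, h𝒦₁⟩ : ∃ 𝒦₁ : Set (Subgroup H),
      𝒦₁ = {K | IsComponent K ∧ K ≤ Y ∧ ⁅K, Q⁆ ≠ ⊥} := ⟨_, rfl⟩
  have h𝒦₁c : ∀ K ∈ 𝒦₁, IsComponent K := by
    intro K hK
    rw [h𝒦₁] at hK
    exact hK.1
  have hE₁n : (sSup 𝒦₁).Normal := by
    rw [← normalizer_eq_top_iff, eq_top_iff]
    refine h.YL.trans ?_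
    rw [← hYdef]
    apply sup_le
    · exact hYE.trans (layer_le_normalizer_sSup 𝒦₁ h𝒦₁c)
    · apply le_normalizer_sSup
      intro g hg K hK
      rw [h𝒦₁] at hK ⊢
      refine ⟨IsComponent.conj hK.1 g, (conjS_le_normal_iff g).mpr hK.2.1, ?_⟩
      intro hc
      apply hK.2.2
      have hgQ : conjS g Q = Q := mem_normalizer_iff_conjS.mp (h.LQ hg)
      have h1 : conjS g ⁅K, Q⁆ = ⊥ := by
        unfold conjS
        rw [map_commutator]
        unfold conjS at hgQ hc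
        rw [hgQ, hc]
      unfold conjS at h1
      exact (map_eq_bot_iff_of_injective _ (MulAut.conj g).injective).mp h1
  intro hKQ
  have hRE₁ : R ≤ sSup 𝒦₁ := by
    by_contra hcon
    have hE₁Q : ⁅sSup 𝒦₁, Q⁆ = ⊥ := (h.normal_dich _).resolve_left hcon
    apply h.comm_ne_bot_of_le hRY
    rw [commutator_eq_bot_iff_le_centralizer, hYeq]
    apply sSup_le
    intro K' hK'
    by_cases hc : ⁅K', Q⁆ = ⊥
    · exact commutator_eq_bot_iff_le_centralizer.mp hc
    · have : K' ∈ 𝒦₁ := by rw [h𝒦₁]; exact ⟨hK'.1, hK'.2, hc⟩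
      exact (le_sSup this).trans (commutator_eq_bot_iff_le_centralizer.mp hE₁Q)
  have hYE₁ : Y ≤ sSup 𝒦₁ := hYle _ hE₁n hRE₁
  have hK𝒦₁ : K ∉ 𝒦₁ := by
    rw [h𝒦₁]
    intro hmem
    exact hmem.2.2 hKQ
  exact not_le_sSup_components 𝒦₁ h𝒦₁c hK hK𝒦₁ (hKY.trans hYE₁)

/-- the `S`-orbit of a component in the normal closure of `R` generates a group containing `R` -/
theorem R_le_sSup_orbit (h : IsoAbs p R Q S L) (hRF : ¬ R ≤ fittingSubgroup H)
    (hRE : R ≤ layer H) {K : Subgroup H} (hK : IsComponent K)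
    (hKY : K ≤ normalClosure (R : Set H)) :
    R ≤ sSup {K' : Subgroup H | ∃ s ∈ S, K' = conjS s K} := by
  have hc : ∀ K' ∈ {K' : Subgroup H | ∃ s ∈ S, K' = conjS s K}, IsComponent K' := by
    rintro K' ⟨s, _, rfl⟩
    exact IsComponent.conj hK s
  have hsn := isSubnormal_sSup_components _ hc
  have hSN : S ≤ normalizer ((sSup {K' : Subgroup H | ∃ s ∈ S, K' = conjS s K} : Subgroup H) :
      Set H) := by
    apply le_normalizer_sSup
    rintro g hg K' ⟨s, hs, rfl⟩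
    exact ⟨g * s, S.mul_mem hg hs, (conjS_mul g s K).symm⟩
  rcases h.sub_dich hsn hSN with h1 | h1
  · exact h1
  · exfalso
    apply h.comm_component_ne_bot hRF hRE hK hKY
    rw [eq_bot_iff, ← h1]
    refine commutator_mono (le_sSup ⟨1, S.one_mem, (conjS_one K).symm⟩) le_rfl

/-- `S` permutes the components in the normal closure of `R` transitively -/
theorem exists_conj_component (h : IsoAbs p R Q S L) (hRF : ¬ R ≤ fittingSubgroup H)
    (hRE : R ≤ layer H) {K₁ K₂ : Subgroup H} (hK₁ : IsComponent K₁) (hK₂ : IsComponent K₂)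
    (h₁ : K₁ ≤ normalClosure (R : Set H)) (h₂ : K₂ ≤ normalClosure (R : Set H)) :
    ∃ s ∈ S, K₂ = conjS s K₁ := by
  by_contra hcon
  push Not at hcon
  have hR₁ := h.R_le_sSup_orbit hRF hRE hK₁ h₁
  have hR₂ := h.R_le_sSup_orbit hRF hRE hK₂ h₂
  have hc₁ : ∀ K' ∈ {K' : Subgroup H | ∃ s ∈ S, K' = conjS s K₁}, IsComponent K' := by
    rintro K' ⟨s, _, rfl⟩
    exact IsComponent.conj hK₁ s
  have hc₂ : ∀ K' ∈ {K' : Subgroup H | ∃ s ∈ S, K' = conjS s K₂}, IsComponent K' := by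
    rintro K' ⟨s, _, rfl⟩
    exact IsComponent.conj hK₂ s
  have hcomm : ⁅sSup {K' : Subgroup H | ∃ s ∈ S, K' = conjS s K₁},
      sSup {K' : Subgroup H | ∃ s ∈ S, K' = conjS s K₂}⁆ = ⊥ := by
    apply commutator_sSup_sSup_eq_bot
    rintro A ⟨s₁, hs₁, rfl⟩ B ⟨s₂, hs₂, rfl⟩
    apply component_commute (IsComponent.conj hK₁ s₁) (IsComponent.conj hK₂ s₂)
    intro heq
    apply hcon (s₂⁻¹ * s₁) (S.mul_mem (S.inv_mem hs₂) hs₁)
    have heq' : conjS s₁ K₁ = conjS s₂ K₂ := heq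
    rw [conjS_mul, heq', conjS_inv_conjS]
  apply hRF
  have hEn : (layer H).Normal := inferInstance
  have hle : sSup {K' : Subgroup H | ∃ s ∈ S, K' = conjS s K₁} ⊓
      sSup {K' : Subgroup H | ∃ s ∈ S, K' = conjS s K₂} ≤ layer H :=
    inf_le_left.trans (sSup_le fun K' hK' => IsComponent.le_layer (hc₁ K' hK'))
  have hn : layer H ≤ normalizer ((sSup {K' : Subgroup H | ∃ s ∈ S, K' = conjS s K₁} ⊓
      sSup {K' : Subgroup H | ∃ s ∈ S, K' = conjS s K₂} : Subgroup H) : Set H) :=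
    (le_inf (layer_le_normalizer_sSup _ hc₁) (layer_le_normalizer_sSup _ hc₂)).trans
      (normalizer_inf_le _ _)
  have hab : ⁅sSup {K' : Subgroup H | ∃ s ∈ S, K' = conjS s K₁} ⊓
      sSup {K' : Subgroup H | ∃ s ∈ S, K' = conjS s K₂},
      sSup {K' : Subgroup H | ∃ s ∈ S, K' = conjS s K₁} ⊓
      sSup {K' : Subgroup H | ∃ s ∈ S, K' = conjS s K₂}⁆ = ⊥ := by
    rw [eq_bot_iff, ← hcomm]
    exact commutator_mono inf_le_left inf_le_right
  have hnil : Group.IsNilpotent ↥(sSup {K' : Subgroup H | ∃ s ∈ S, K' = conjS s K₁} ⊓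
      sSup {K' : Subgroup H | ∃ s ∈ S, K' = conjS s K₂}) := by
    apply isNilpotent_of_lowerCentralSeries_eq_bot (n := 1)
    exact hab
  exact (le_inf hR₁ hR₂).trans (nilpotent_le_fittingSubgroup hEn.isSubnormal hle hn hnil)

end IsoAbs

end Cfsg.Agent.Helper50.IsoPMin
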