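import Mathlib
import Cfsg.Agent.Lib.Helper50.IsoPMin10
import Cfsg.Agent.Lib.Helper52.CoprimeSylow

set_option autoImplicit false
set_option linter.unusedSectionVars false

/-!
Isolated `p`-minimal subgroups: counting lemmas for the coprime case.
-/

namespace Cfsg.Agent.Helper50.IsoPMin

open Cfsg Subgroup
open scoped commutatorElement Pointwise

section general
variable {G : Type*} [Group G]

/-- a subgroup containing Sylow subgroups for all primes is everything -/
theorem le_of_forall_sylow_dvd [Finite G] (Y C : Subgroup G) (hCY : C ≤ Y)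
    (hC : ∀ u : ℕ, u.Prime → u ^ (Nat.card Y).factorization u ∣ Nat.card C) : Y ≤ C := by
  have hn : Nat.card Y ≠ 0 := Nat.card_pos.ne'
  have hc : Nat.card C ≠ 0 := Nat.card_pos.ne'
  have hdvd : Nat.card Y ∣ Nat.card C := by
    rw [← Nat.factorization_le_iff_dvd hn hc]
    intro u
    by_cases hu : u.Prime
    · exact (hu.pow_dvd_iff_le_factorization hc).mp (hC u hu)
    · rw [Nat.factorization_eq_zero_of_not_prime _ hu]
      exact Nat.zero_le _
  have hle : Nat.card Y ≤ Nat.card C := Nat.le_of_dvd Nat.card_pos hdvd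
  have h1 : C.subgroupOf Y = ⊤ := by
    apply Subgroup.eq_top_of_le_card
    rw [Nat.card_congr (subgroupOfEquivOfLe hCY).toEquiv]
    exact hle
  rw [← subgroupOf_eq_top]
  exact h1

/-- a Sylow `t`-subgroup and a subgroup of `t`-power index factorise the group -/
theorem exists_mul_of_sylow [Finite G] {t : ℕ} (ht : t.Prime) (Y T C : Subgroup G)
    (hTY : T ≤ Y) (hCY : C ≤ Y) (hT : Nat.card T = t ^ (Nat.card Y).factorization t)
    (hC : ∀ u : ℕ, u.Prime → u ≠ t → u ^ (Nat.card Y).factorization u ∣ Nat.card C) :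
    ∀ y ∈ Y, ∃ τ ∈ T, ∃ c ∈ C, y = τ * c := by
  have hn : Nat.card Y ≠ 0 := Nat.card_pos.ne'
  have hc : Nat.card C ≠ 0 := Nat.card_pos.ne'
  have hct : Nat.card (C ⊓ T : Subgroup G) ≠ 0 := Nat.card_pos.ne'
  have hTn : Nat.card T ≠ 0 := Nat.card_pos.ne'
  have e1 : Nat.card C * C.relIndex Y = Nat.card Y :=
    Cfsg.Agent.Helper52.card_mul_relIndex_eq hCY
  have e2 : Nat.card (C ⊓ T : Subgroup G) * C.relIndex T = Nat.card T := by
    rw [← inf_relIndex_right]
    exact Cfsg.Agent.Helper52.card_mul_relIndex_eq inf_le_right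
  have hm : C.relIndex Y ≠ 0 := by
    intro h0
    rw [h0, mul_zero] at e1
    exact hn e1.symm
  have hd : C.relIndex T ≠ 0 := by
    intro h0
    rw [h0, mul_zero] at e2
    exact hTn e2.symm
  have hdvd : C.relIndex Y ∣ C.relIndex T := by
    rw [← Nat.factorization_le_iff_dvd hm hd]
    intro u
    by_cases hu : u.Prime
    · have f1 : (Nat.card Y).factorization u =
          (Nat.card C).factorization u + (C.relIndex Y).factorization u := by
        rw [← e1, Nat.factorization_mul hc hm]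
        rfl
      by_cases hut : u = t
      · subst hut
        have f2 : (Nat.card (C ⊓ T : Subgroup G)).factorization u +
            (C.relIndex T).factorization u = (Nat.card Y).factorization u := by
          have h3 : (Nat.card (C ⊓ T : Subgroup G) * C.relIndex T).factorization u =
              (Nat.card T).factorization u := by rw [e2]
          rw [Nat.factorization_mul hct hd, hT, ht.factorization_pow] at h3
          simpa using h3
        have f3 : (Nat.card (C ⊓ T : Subgroup G)).factorization u ≤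
            (Nat.card C).factorization u :=
          (Nat.factorization_le_iff_dvd hct hc).mpr (Subgroup.card_dvd_of_le inf_le_left) u
        omega
      · have f2 : (Nat.card Y).factorization u ≤ (Nat.card C).factorization u :=
          (hu.pow_dvd_iff_le_factorization hc).mp (hC u hu hut)
        omega
    · rw [Nat.factorization_eq_zero_of_not_prime _ hu]
      exact Nat.zero_le _
  have hle : C.relIndex Y ≤ C.relIndex T := Nat.le_of_dvd (Nat.pos_of_ne_zero hd) hdvd
  have hbij : Function.Bijective (quotientSubgroupOfEmbeddingOfLE C hTY) := by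
    apply (quotientSubgroupOfEmbeddingOfLE C hTY).injective.bijective_of_nat_card_le
    rw [← index_eq_card, ← index_eq_card]
    exact hle
  intro y hy
  obtain ⟨q, hq⟩ := hbij.2 (QuotientGroup.mk ⟨y, hy⟩)
  induction q using QuotientGroup.induction_on with
  | H τ =>
    rw [quotientSubgroupOfEmbeddingOfLE_apply_mk, QuotientGroup.eq, mem_subgroupOf] at hq
    refine ⟨τ.1, τ.2, τ.1⁻¹ * y, hq, ?_⟩
    group

/-- stability for coprime action: a `p`-group stabilising `1 ≤ [Y,Q] ≤ Y`, `|Y|` prime to `p`,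
acts trivially -/
theorem comm_eq_bot_of_stab_coprime [Finite G] {p : ℕ} (hp : p.Prime)
    (Y Q : Subgroup G) (hYp : (Nat.card Y).Coprime p) (hQp : IsPGroup p Q)
    (hYn : Q ≤ normalizer (Y : Set G))
    (hstab : ⁅⁅Y, Q⁆, Q⁆ = ⊥) : ⁅Y, Q⁆ = ⊥ := by
  rw [eq_bot_iff, commutator_le]
  intro y hy q hq
  rw [mem_bot]
  have hcD : ⁅y, q⁆ ∈ ⁅Y, Q⁆ := commutator_mem_commutator hy hq
  have hcY : ⁅y, q⁆ ∈ Y := by
    rw [commutatorElement_def]
    have h2 : q * y⁻¹ * q⁻¹ ∈ Y := (mem_normalizer_iff.mp (hYn hq) y⁻¹).mp (Y.inv_mem hy)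
    have : y * q * y⁻¹ * q⁻¹ = y * (q * y⁻¹ * q⁻¹) := by group
    rw [this]
    exact Y.mul_mem hy h2
  have hcomm : Commute ⁅y, q⁆ q := by
    have h1 : ⁅⁅y, q⁆, q⁆ ∈ ⁅⁅Y, Q⁆, Q⁆ := commutator_mem_commutator hcD hq
    rw [hstab, mem_bot] at h1
    exact commutatorElement_eq_one_iff_commute.mp h1
  obtain ⟨k, hk⟩ := hQp ⟨q, hq⟩
  have hk' : q ^ p ^ k = 1 := by simpa using congrArg Subtype.val hk
  have hj' : ⁅y, q⁆ ^ Nat.card Y = 1 := by
    have h1 : (⟨⁅y, q⁆, hcY⟩ : ↥Y) ^ Nat.card Y = 1 := pow_card_eq_one'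
    have h2 := congrArg Subtype.val h1
    simp only [Subgroup.coe_pow, Subgroup.coe_one] at h2
    exact h2
  have hconj : y * q * y⁻¹ = ⁅y, q⁆ * q := by
    rw [commutatorElement_def]; group
  have h3 : ⁅y, q⁆ ^ p ^ k = 1 := by
    have h4 : (y * q * y⁻¹) ^ p ^ k = 1 := by
      rw [conj_pow, hk']; group
    rw [hconj, hcomm.mul_pow, hk', mul_one] at h4
    exact h4
  have h5 : orderOf ⁅y, q⁆ ∣ Nat.gcd (p ^ k) (Nat.card Y) :=
    Nat.dvd_gcd (orderOf_dvd_of_pow_eq_one h3) (orderOf_dvd_of_pow_eq_one hj')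
  have h6 : Nat.Coprime (p ^ k) (Nat.card Y) := Nat.Coprime.pow_left _ hYp.symm
  rw [h6, Nat.dvd_one] at h5
  exact orderOf_eq_one_iff.mp h5

end general

variable {H : Type*} [Group H] [Finite H] {p : ℕ} [Fact p.Prime]
variable {R Q S L : Subgroup H}

namespace IsoAbs

/-- `[Y, Q]` is normal, `Y` the normal closure of `R` -/
theorem commutator_normal (h : IsoAbs p R Q S L) :
    (⁅normalClosure (R : Set H), Q⁆ : Subgroup H).Normal := by
  rw [← normalizer_eq_top_iff, eq_top_iff]
  refine h.YL.trans ?_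
  apply sup_le (normalizer_commutator_ge_left _ Q)
  refine le_trans ?_ (normalizer_inf_le_normalizer_commutator _ Q)
  apply le_inf _ h.LQ
  rw [normalizer_eq_top_iff.mpr (normalClosure_normal)]
  exact le_top

/-- Step C: `p` divides the order of the normal closure of `R` unless `R ≤ F(H)` -/
theorem not_coprime (h : IsoAbs p R Q S L) (hRF : ¬ R ≤ fittingSubgroup H) :
    ¬ (Nat.card (normalClosure (R : Set H))).Coprime p := by
  intro hcop
  have hp : p.Prime := Fact.out
  obtain ⟨Y, hYdef⟩ : ∃ Y : Subgroup H, Y = normalClosure (R : Set H) := ⟨_, rfl⟩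
  have hDn := h.commutator_normal
  rw [← hYdef] at hcop hDn
  have hYn : Y.Normal := by rw [hYdef]; infer_instance
  have hRY : R ≤ Y := by rw [hYdef]; exact le_normalClosure
  have hYle : ∀ N : Subgroup H, N.Normal → R ≤ N → Y ≤ N := by
    intro N hN hRN
    rw [hYdef]
    exact normalClosure_le_normal (SetLike.coe_subset_coe.mpr hRN)
  have hSY : S ≤ normalizer (Y : Set H) := by
    rw [normalizer_eq_top_iff.mpr hYn]; exact le_top
  have hQY : Q ≤ normalizer (Y : Set H) := h.QS.trans hSY
  have hRbot : R ≠ ⊥ := by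
    intro hR
    apply h.nc
    rw [hR]
    exact commutator_bot_left Q
  obtain ⟨k, hk⟩ := IsPGroup.exists_card_eq h.Sp
  have hcopS : (Nat.card S).Coprime (Nat.card Y) := by
    rw [hk]
    exact Nat.Coprime.pow_left _ hcop.symm
  have hnilS : Group.IsNilpotent ↥S := h.Sp.isNilpotent
  have hsolS : Group.IsSolvable ↥S := inferInstance
  -- invariant Sylow subgroups
  have hU : ∀ u : ℕ, u.Prime → ∃ U : Subgroup H, U ≤ Y ∧
      Nat.card U = u ^ (Nat.card Y).factorization u ∧ S ≤ normalizer (U : Set H) ∧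
      (R ≤ U ∨ U ≤ L) := by
    intro u hu
    have := Fact.mk hu
    obtain ⟨U, hUY, hUc, hSU⟩ :=
      Cfsg.Agent.Helper52.exists_invariant_sylow S Y hSY hcopS (Or.inl hsolS) u
    exact ⟨U, hUY, hUc, hSU, h.dich U hSU⟩
  -- `Q` meets `Y` trivially
  have hYQ : Y ⊓ Q = ⊥ := by
    obtain ⟨j, hj⟩ := IsPGroup.exists_card_eq h.Qp
    apply Disjoint.eq_bot
    apply disjoint_of_coprime_natCard
    rw [hj]
    exact Nat.Coprime.pow_right _ hcop
  have hC₀ : ⁅Y ⊓ L, Q⁆ = ⊥ := by
    rw [eq_bot_iff, ← hYQ]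
    apply le_inf
    · exact (commutator_mono inf_le_left le_rfl).trans (commutator_le_left Y Q)
    · rw [commutator_le]
      intro x hx q hq
      have h2 : x * q * x⁻¹ ∈ Q := (mem_normalizer_iff.mp (h.LQ hx.2) q).mp hq
      rw [commutatorElement_def]
      exact Q.mul_mem h2 (Q.inv_mem hq)
  by_cases hall : ∀ u : ℕ, u.Prime → ∃ U : Subgroup H, U ≤ Y ⊓ L ∧
      Nat.card U = u ^ (Nat.card Y).factorization u
  · -- `Y ≤ L`
    have hYL : Y ≤ Y ⊓ L := by
      apply le_of_forall_sylow_dvd Y (Y ⊓ L) inf_le_left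
      intro u hu
      obtain ⟨U, hUC, hUc⟩ := hall u hu
      rw [← hUc]
      exact Subgroup.card_dvd_of_le hUC
    have hLtop : L = ⊤ := by
      rw [eq_top_iff]
      refine h.YL.trans ?_
      rw [← hYdef]
      exact sup_le (hYL.trans inf_le_right) le_rfl
    have hQn : Q.Normal := by
      rw [← normalizer_eq_top_iff, eq_top_iff, ← hLtop]
      exact h.LQ
    have := Cfsg.Agent.Helper22.le_pCore hQn h.Qp
    rw [h.core] at this
    exact h.Q_ne_bot (le_bot_iff.mp this)
  · push Not at hall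
    obtain ⟨t, ht, hbad⟩ := hall
    have := Fact.mk ht
    obtain ⟨T, hTY, hTc, hST, hT⟩ := hU t ht
    have hRT : R ≤ T := by
      rcases hT with h1 | h1
      · exact h1
      · exact absurd hTc (hbad T (le_inf hTY h1))
    have hTt : IsPGroup t T := by
      have := Fact.mk ht
      exact IsPGroup.of_card hTc
    -- the other primes
    have hother : ∀ u : ℕ, u.Prime → u ≠ t →
        u ^ (Nat.card Y).factorization u ∣ Nat.card (Y ⊓ L : Subgroup H) := by
      intro u hu hut
      have := Fact.mk hu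
      obtain ⟨U, hUY, hUc, _, hUd⟩ := hU u hu
      have hUL : U ≤ L := by
        rcases hUd with h1 | h1
        · exfalso
          apply hRbot
          have hUu : IsPGroup u U := by
            have := Fact.mk hu
            exact IsPGroup.of_card hUc
          have hdisj : T ⊓ U = ⊥ := (IsPGroup.disjoint_of_ne t u (Ne.symm hut) T U hTt hUu).eq_bot
          exact le_bot_iff.mp (hdisj ▸ le_inf hRT h1)
        · exact h1
      rw [← hUc]
      exact Subgroup.card_dvd_of_le (le_inf hUY hUL)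
    have hfac := exists_mul_of_sylow ht Y T (Y ⊓ L) hTY inf_le_left hTc hother
    -- `[Y, Q] ≤ T`
    have hDT : ⁅Y, Q⁆ ≤ T := by
      rw [commutator_le]
      intro y hy q hq
      obtain ⟨τ, hτ, c, hc, rfl⟩ := hfac y hy
      have hcq : ⁅c, q⁆ = 1 := by
        have : ⁅c, q⁆ ∈ ⁅Y ⊓ L, Q⁆ := commutator_mem_commutator hc hq
        rw [hC₀, mem_bot] at this
        exact this
      rw [commutatorElement_mul_left_eq_conj_mul, hcq]
      have h2 : q * τ⁻¹ * q⁻¹ ∈ T :=
        (mem_normalizer_iff.mp (hST (h.QS hq)) τ⁻¹).mp (T.inv_mem hτ)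
      have e : τ * 1 * τ⁻¹ * ⁅τ, q⁆ = τ * (q * τ⁻¹ * q⁻¹) := by
        rw [commutatorElement_def]; group
      rw [e]
      exact T.mul_mem hτ h2
    have hRD : R ≤ ⁅Y, Q⁆ := by
      haveI := hDn
      apply h.R_le_of_normal
      intro hstab
      exact h.comm_ne_bot_of_le hRY (comm_eq_bot_of_stab_coprime hp Y Q hcop h.Qp hQY hstab)
    have hYT : Y ≤ T := (hYle _ hDn hRD).trans hDT
    have hYt : IsPGroup t Y := hTt.to_le hYT
    have hnil : Group.IsNilpotent ↥Y := hYt.isNilpotent
    exact hRF (hRY.trans (Cfsg.Agent.Helper22.le_fittingSubgroup hYn hnil))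

end IsoAbs

end Cfsg.Agent.Helper50.IsoPMin
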