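import Mathlib
import Cfsg.Agent.Lib.Helper50.IsoPMin11

set_option autoImplicit false
set_option linter.unusedSectionVars false

/-!
Isolated `p`-minimal subgroups: transfer of the component case to `Y / O_p(Y)`.
-/

namespace Cfsg.Agent.Helper50.IsoPMin

open Cfsg Subgroup Cfsg.Agent.Helper22
open scoped commutatorElement Pointwise

section general
variable {A B : Type*} [Group A] [Group B]

/-- components are preserved by an embedding with subnormal image -/
theorem isComponent_map_of_injective (f : A →* B) (hf : Function.Injective f)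
    (hr : f.range.IsSubnormal) {K : Subgroup A} (hK : IsComponent K) : IsComponent (K.map f) := by
  have h1 : IsComponent (K.map (MonoidHom.ofInjective hf).toMonoidHom) :=
    IsComponent.map_injective hK _ (MonoidHom.ofInjective hf).bijective
  have h2 := IsComponent.of_subnormal hr h1
  rw [Subgroup.map_map] at h2
  have e : f.range.subtype.comp (MonoidHom.ofInjective hf).toMonoidHom = f := by
    ext x
    rfl
  rwa [e] at h2

/-- components in the image of an embedding with subnormal image pull back to components -/
theorem isComponent_comap_of_injective (f : A →* B) (hf : Function.Injective f)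
    {K' : Subgroup B} (hK' : IsComponent K') (hle : K' ≤ f.range) :
    IsComponent (K'.comap f) := by
  have h1 : IsComponent (K'.subgroupOf f.range) := IsComponent.subgroupOf hK' hle
  have h2 : IsComponent ((K'.subgroupOf f.range).map (MonoidHom.ofInjective hf).symm.toMonoidHom) :=
    IsComponent.map_injective h1 _ (MonoidHom.ofInjective hf).symm.bijective
  have e : (K'.subgroupOf f.range).map (MonoidHom.ofInjective hf).symm.toMonoidHom =
      K'.comap f := by
    ext x
    rw [mem_comap]
    constructor
    · rintro ⟨z, hz, rfl⟩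
      rw [SetLike.mem_coe, mem_subgroupOf] at hz
      have : f ((MonoidHom.ofInjective hf).symm z) = (z : B) := by
        have h3 := (MonoidHom.ofInjective hf).apply_symm_apply z
        exact congrArg Subtype.val h3
      change f ((MonoidHom.ofInjective hf).symm z) ∈ K'
      rw [this]
      exact hz
    · intro hx
      refine ⟨MonoidHom.ofInjective hf x, ?_, ?_⟩
      · rw [SetLike.mem_coe, mem_subgroupOf]
        exact hx
      · exact (MonoidHom.ofInjective hf).symm_apply_apply x
  rwa [e] at h2

end general

variable {G : Type*} [Group G] [Finite G] {p : ℕ} [Fact p.Prime]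

/-- the embedding of `Y / O_p(Y)` into `G / O_p(G)` for normal `Y` -/
noncomputable def quotEmb (p : ℕ) [Fact p.Prime] (Y : Subgroup G) [Y.Normal] :
    ↥Y ⧸ pCore p ↥Y →* G ⧸ pCore p G :=
  QuotientGroup.lift (pCore p ↥Y) ((QuotientGroup.mk' (pCore p G)).comp Y.subtype) (by
    intro y hy
    rw [pCore_subgroup_eq, mem_subgroupOf] at hy
    rw [MonoidHom.mem_ker, MonoidHom.comp_apply, Subgroup.coe_subtype, QuotientGroup.mk'_apply,
      QuotientGroup.eq_one_iff]
    exact hy)

theorem quotEmb_mk (Y : Subgroup G) [Y.Normal] (y : ↥Y) :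
    quotEmb p Y (QuotientGroup.mk y) = QuotientGroup.mk' (pCore p G) (y : G) := rfl

theorem quotEmb_injective (Y : Subgroup G) [Y.Normal] : Function.Injective (quotEmb p Y) := by
  rw [injective_iff_map_eq_one]
  intro x hx
  induction x using QuotientGroup.induction_on with
  | H y =>
    rw [quotEmb_mk, QuotientGroup.mk'_apply, QuotientGroup.eq_one_iff] at hx
    rw [QuotientGroup.eq_one_iff, pCore_subgroup_eq, mem_subgroupOf]
    exact hx

theorem quotEmb_range (Y : Subgroup G) [Y.Normal] :
    (quotEmb p Y).range = Y.map (QuotientGroup.mk' (pCore p G)) := by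
  ext z
  constructor
  · rintro ⟨x, rfl⟩
    induction x using QuotientGroup.induction_on with
    | H y =>
      rw [quotEmb_mk]
      exact mem_map_of_mem _ y.2
  · rintro ⟨g, hg, rfl⟩
    exact ⟨QuotientGroup.mk ⟨g, hg⟩, rfl⟩

/-- membership in the full preimage of a subgroup of `Y / O_p(Y)` -/
theorem mem_preimage_iff (Y : Subgroup G) [Y.Normal] (K : Subgroup (↥Y ⧸ pCore p ↥Y)) (g : G) :
    g ∈ (K.comap (QuotientGroup.mk' (pCore p ↥Y))).map Y.subtype ↔
      g ∈ Y ∧ QuotientGroup.mk' (pCore p G) g ∈ K.map (quotEmb p Y) := by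
  constructor
  · rintro ⟨y, hy, rfl⟩
    refine ⟨y.2, ?_⟩
    rw [SetLike.mem_coe, mem_comap] at hy
    exact ⟨_, hy, rfl⟩
  · rintro ⟨hgY, k, hk, hkg⟩
    have h1 : quotEmb p Y (QuotientGroup.mk ⟨g, hgY⟩) = quotEmb p Y k := by
      rw [hkg, quotEmb_mk]
    have h2 := quotEmb_injective Y h1
    refine ⟨⟨g, hgY⟩, ?_, rfl⟩
    rw [SetLike.mem_coe, mem_comap, QuotientGroup.mk'_apply, h2]
    exact hk

end Cfsg.Agent.Helper50.IsoPMin
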