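import Mathlib
import Cfsg.Agent.Lib.Helper50.IsoPMin12

set_option autoImplicit false
set_option linter.unusedSectionVars false

/-!
Isolated `p`-minimal subgroups: the component case of S3044.
-/

namespace Cfsg.Agent.Helper50.IsoPMin

open Cfsg Subgroup Cfsg.Agent.Helper22
open scoped commutatorElement Pointwise

variable {G : Type*} [Group G] [Finite G] {p : ℕ} [Fact p.Prime]
variable {S : Sylow p G} {P L : Subgroup G}

/-- the nilpotent case: `Y = O^p(P)` -/
theorem Setup.nilpotent_case (h : Setup S P L)
    (hRF : (resP p P).map (QuotientGroup.mk' (pCore p G)) ≤ fittingSubgroup (G ⧸ pCore p G)) :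
    resP p P = normalClosure ((resP p P : Subgroup G) : Set G) := by
  have hA := h.isoAbs
  have hsurj := QuotientGroup.mk'_surjective (pCore p G)
  have hmapY : (normalClosure ((resP p P : Subgroup G) : Set G)).map (QuotientGroup.mk' (pCore p G)) =
      normalClosure ((Subgroup.map (QuotientGroup.mk' (pCore p G)) (resP p P) : Subgroup (G ⧸ pCore p G)) : Set (G ⧸ pCore p G)) := by
    rw [map_normalClosure _ _ hsurj, ← coe_map]
  obtain ⟨t, ht, hne, hYt⟩ := hA.exists_prime hRF
  obtain ⟨hYR, -⟩ := hA.structure_of_tgroup ht hne hYt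
  have hle : normalClosure ((resP p P : Subgroup G) : Set G) ≤ resP p P ⊔ pCore p G := by
    have e : (normalClosure ((resP p P : Subgroup G) : Set G)).map (QuotientGroup.mk' (pCore p G)) =
        (resP p P).map (QuotientGroup.mk' (pCore p G)) := by rw [hmapY, hYR]
    have h1 := le_comap_map (QuotientGroup.mk' (pCore p G))
      (normalClosure ((resP p P : Subgroup G) : Set G))
    rw [e, comap_map_eq, QuotientGroup.ker_mk'] at h1
    exact h1
  exact (h.normalClosure_eq_of_le hle).symm

/-- the component case -/
theorem Setup.component_case (h : Setup S P L)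
    (hRF : ¬ (resP p P).map (QuotientGroup.mk' (pCore p G)) ≤ fittingSubgroup (G ⧸ pCore p G)) :
    p ∣ Nat.card (↥(normalClosure ((resP p P : Subgroup G) : Set G)) ⧸
      pCore p ↥(normalClosure ((resP p P : Subgroup G) : Set G))) ∧
    layer (↥(normalClosure ((resP p P : Subgroup G) : Set G)) ⧸
      pCore p ↥(normalClosure ((resP p P : Subgroup G) : Set G))) = ⊤ ∧
    ∀ K₁ K₂ : Subgroup (↥(normalClosure ((resP p P : Subgroup G) : Set G)) ⧸
      pCore p ↥(normalClosure ((resP p P : Subgroup G) : Set G))),
      IsComponent K₁ → IsComponent K₂ →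
      ∃ s ∈ (S : Subgroup G),
        ((K₂.comap (QuotientGroup.mk' (pCore p
          ↥(normalClosure ((resP p P : Subgroup G) : Set G))))).map
            (normalClosure ((resP p P : Subgroup G) : Set G)).subtype) =
        (((K₁.comap (QuotientGroup.mk' (pCore p
          ↥(normalClosure ((resP p P : Subgroup G) : Set G))))).map
            (normalClosure ((resP p P : Subgroup G) : Set G)).subtype)).map
              (MulAut.conj s).toMonoidHom := by
  have hp : p.Prime := Fact.out
  have hA := h.isoAbs
  have hRE := hA.R_le_F_or_layer.resolve_left hRF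
  have hsurj := QuotientGroup.mk'_surjective (pCore p G)
  obtain ⟨Y, hYdef⟩ : ∃ Y : Subgroup G, Y = normalClosure ((resP p P : Subgroup G) : Set G) :=
    ⟨_, rfl⟩
  have hYn : Y.Normal := by rw [hYdef]; infer_instance
  have hmapY : Y.map (QuotientGroup.mk' (pCore p G)) =
      normalClosure ((Subgroup.map (QuotientGroup.mk' (pCore p G)) (resP p P) :
        Subgroup (G ⧸ pCore p G)) : Set (G ⧸ pCore p G)) := by
    rw [hYdef, map_normalClosure _ _ hsurj, ← coe_map]
  rw [← hYdef]
  have hinj := quotEmb_injective (p := p) Y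
  have hrange : (quotEmb p Y).range = normalClosure
      ((Subgroup.map (QuotientGroup.mk' (pCore p G)) (resP p P) :
        Subgroup (G ⧸ pCore p G)) : Set (G ⧸ pCore p G)) := by
    rw [quotEmb_range, hmapY]
  have hrn : (quotEmb p Y).range.Normal := by
    rw [hrange]; infer_instance
  refine ⟨?_, ?_, ?_⟩
  · -- `p` divides the order
    have h1 := hA.not_coprime hRF
    rw [← hrange] at h1
    have h2 : Nat.card (↥Y ⧸ pCore p ↥Y) = Nat.card (quotEmb p Y).range :=
      Nat.card_congr (MonoidHom.ofInjective hinj).toEquiv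
    rw [h2, hp.dvd_iff_not_coprime]
    intro h3
    exact h1 h3.symm
  · -- the layer
    rw [eq_top_iff]
    have h1 : (⊤ : Subgroup (↥Y ⧸ pCore p ↥Y)).map (quotEmb p Y) ≤
        (layer (↥Y ⧸ pCore p ↥Y)).map (quotEmb p Y) := by
      rw [← MonoidHom.range_eq_map]
      refine (le_of_eq hrange).trans ?_
      refine (le_of_eq (hA.normalClosure_eq_sSup hRF hRE)).trans ?_
      apply sSup_le
      rintro K' ⟨hK', hle⟩
      have hle' : K' ≤ (quotEmb p Y).range := hle.trans (ge_of_eq hrange)
      have hcomp := isComponent_comap_of_injective (quotEmb p Y) hinj hK' hle'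
      have e : (K'.comap (quotEmb p Y)).map (quotEmb p Y) = K' :=
        map_comap_eq_self hle'
      rw [← e]
      exact map_mono (IsComponent.le_layer hcomp)
    exact (map_le_map_iff_of_injective hinj).mp h1
  · -- transitivity
    intro K₁ K₂ hK₁ hK₂
    have hK₁' := isComponent_map_of_injective (quotEmb p Y) hinj hrn.isSubnormal hK₁
    have hK₂' := isComponent_map_of_injective (quotEmb p Y) hinj hrn.isSubnormal hK₂
    have hle₁ : K₁.map (quotEmb p Y) ≤ normalClosure
        ((Subgroup.map (QuotientGroup.mk' (pCore p G)) (resP p P) :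
          Subgroup (G ⧸ pCore p G)) : Set (G ⧸ pCore p G)) :=
      (map_le_range _ K₁).trans (le_of_eq hrange)
    have hle₂ : K₂.map (quotEmb p Y) ≤ normalClosure
        ((Subgroup.map (QuotientGroup.mk' (pCore p G)) (resP p P) :
          Subgroup (G ⧸ pCore p G)) : Set (G ⧸ pCore p G)) :=
      (map_le_range _ K₂).trans (le_of_eq hrange)
    obtain ⟨s', hs', heq⟩ := hA.exists_conj_component hRF hRE hK₁' hK₂' hle₁ hle₂
    obtain ⟨s, hs, rfl⟩ := hs'
    refine ⟨s, hs, ?_⟩
    ext g
    rw [mem_preimage_iff, Cfsg.Agent.Helper52.mem_map_conj, mem_preimage_iff, heq]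
    unfold conjS
    rw [Cfsg.Agent.Helper52.mem_map_conj]
    have e1 : (QuotientGroup.mk' (pCore p G)) (s⁻¹ * g * s) =
        ((QuotientGroup.mk' (pCore p G)) s)⁻¹ * (QuotientGroup.mk' (pCore p G)) g *
          (QuotientGroup.mk' (pCore p G)) s := by
      rw [map_mul, map_mul, map_inv]
    rw [e1]
    have e2 : s⁻¹ * g * s ∈ Y ↔ g ∈ Y := by
      constructor
      · intro h1
        have := hYn.conj_mem _ h1 s
        simpa [mul_assoc] using this
      · intro h1
        have := hYn.conj_mem _ h1 s⁻¹
        simpa [mul_assoc] using this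
    rw [e2]

end Cfsg.Agent.Helper50.IsoPMin
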