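import Mathlib
import Cfsg.Agent.Lib.Helper50.JComp3
import Cfsg.Agent.Lib.Helper1.Coprime

/-!
# `J(T)`-components: normal `2`-subgroups normalize them (part 7)
-/

set_option autoImplicit false

namespace Cfsg.Agent.Helper50.JComp

open Subgroup
open scoped commutatorElement

variable {G : Type*} [Group G]

/-- If `R` normalizes `J` and is normalized by `K = [K, J]` and `J`, then `[R, K] ≤ N_R(K)`. -/
theorem comm_mem_normalizer {K J R : Subgroup G} (hcomm : ⁅K, J⁆ = K)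
    (hRJ : R ≤ normalizer (J : Set G)) (hKR : K ≤ normalizer (R : Set G))
    (hJR : J ≤ normalizer (R : Set G)) :
    ∀ y ∈ K, ∀ r ∈ R, r * y * r⁻¹ * y⁻¹ ∈ R ⊓ normalizer (K : Set G) := by
  have hJK : J ≤ normalizer (K : Set G) := by
    have := normalizer_commutator_ge_right K J
    rwa [hcomm] at this
  have hP : ∀ r ∈ R, ∀ j ∈ J, r * j * r⁻¹ * j⁻¹ ∈ J ⊓ R := by
    intro r hr j hj
    refine mem_inf.mpr ⟨?_, ?_⟩
    · exact J.mul_mem (conj_mem_of_le_normalizer hRJ hr hj) (J.inv_mem hj)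
    · have h1 : j * r⁻¹ * j⁻¹ ∈ R := conj_mem_of_le_normalizer hJR hj (R.inv_mem hr)
      have h2 : r * j * r⁻¹ * j⁻¹ = r * (j * r⁻¹ * j⁻¹) := by group
      rw [h2]; exact R.mul_mem hr h1
  have hPN : J ⊓ R ≤ normalizer (K : Set G) := inf_le_left.trans hJK
  obtain ⟨N, hN⟩ : ∃ N : Subgroup G, N = normalizer (K : Set G) := ⟨_, rfl⟩
  rw [← hN] at hPN hJK ⊢
  have hKN : K ≤ N := by rw [hN]; exact le_normalizer
  have hinR : ∀ y ∈ K, ∀ r ∈ R, r * y * r⁻¹ * y⁻¹ ∈ R := by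
    intro y hy r hr
    have h1 : y * r⁻¹ * y⁻¹ ∈ R := conj_mem_of_le_normalizer hKR hy (R.inv_mem hr)
    have h2 : r * y * r⁻¹ * y⁻¹ = r * (y * r⁻¹ * y⁻¹) := by group
    rw [h2]; exact R.mul_mem hr h1
  have key : ∀ y ∈ ⁅K, J⁆, y ∈ K ∧ ∀ r ∈ R, r * y * r⁻¹ * y⁻¹ ∈ N := by
    intro y hy
    rw [Subgroup.commutator_def] at hy
    induction hy using Subgroup.closure_induction with
    | mem y hy =>
      obtain ⟨k, hk, j, hj, rfl⟩ := hy
      have hyK : ⁅k, j⁆ ∈ K := by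
        have := commutator_mem_commutator hk hj
        rwa [hcomm] at this
      refine ⟨hyK, fun r hr => ?_⟩
      rw [commutatorElement_def]
      have hr' : k⁻¹ * r * k ∈ R := conj_mem_of_le_normalizer' hKR hk hr
      have h1 : (k⁻¹ * r * k) * j * (k⁻¹ * r * k)⁻¹ * j⁻¹ ∈ N := hPN (hP _ hr' j hj)
      have h2 : r * j⁻¹ * r⁻¹ * j⁻¹⁻¹ ∈ N := hPN (hP r hr j⁻¹ (J.inv_mem hj))
      have hkN : k ∈ N := hKN hk
      have hjN : j ∈ N := hJK hj
      have hj' : k * j * k⁻¹ ∈ N := N.mul_mem (N.mul_mem hkN hjN) (N.inv_mem hkN)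
      have h3 : r * (k * j * k⁻¹ * j⁻¹) * r⁻¹ * (k * j * k⁻¹ * j⁻¹)⁻¹ =
          (k * ((k⁻¹ * r * k) * j * (k⁻¹ * r * k)⁻¹ * j⁻¹) * k⁻¹) *
          ((k * j * k⁻¹) * (r * j⁻¹ * r⁻¹ * j⁻¹⁻¹) * (k * j * k⁻¹)⁻¹) := by group
      rw [h3]
      exact N.mul_mem (N.mul_mem (N.mul_mem hkN h1) (N.inv_mem hkN))
        (N.mul_mem (N.mul_mem hj' h2) (N.inv_mem hj'))
    | one =>
      refine ⟨K.one_mem, fun r _ => ?_⟩
      have : r * 1 * r⁻¹ * (1 : G)⁻¹ = 1 := by group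
      rw [this]; exact N.one_mem
    | mul y₁ y₂ _ _ h1 h2 =>
      refine ⟨K.mul_mem h1.1 h2.1, fun r hr => ?_⟩
      have h3 : r * (y₁ * y₂) * r⁻¹ * (y₁ * y₂)⁻¹ =
          (r * y₁ * r⁻¹ * y₁⁻¹) * (y₁ * (r * y₂ * r⁻¹ * y₂⁻¹) * y₁⁻¹) := by group
      rw [h3]
      have hy₁N : y₁ ∈ N := hKN h1.1
      exact N.mul_mem (h1.2 r hr) (N.mul_mem (N.mul_mem hy₁N (h2.2 r hr)) (N.inv_mem hy₁N))
    | inv y _ h =>
      refine ⟨K.inv_mem h.1, fun r hr => ?_⟩
      have h3 : r * y⁻¹ * r⁻¹ * y⁻¹⁻¹ = y⁻¹ * (r * y * r⁻¹ * y⁻¹)⁻¹ * y := by group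
      rw [h3]
      have hyN : y ∈ N := hKN h.1
      exact N.mul_mem (N.mul_mem (N.inv_mem hyN) (N.inv_mem (h.2 r hr))) hyN
  intro y hy r hr
  have hy' : y ∈ ⁅K, J⁆ := by rw [hcomm]; exact hy
  exact mem_inf.mpr ⟨hinR y hy r hr, (key y hy').2 r hr⟩

/-- A `2`-subgroup `R` normalizing `J`, normalized by `K = [K, J]` and `J`, normalizes `K`, provided `K`
is generated by its elements of odd order. -/
theorem le_normalizer_of_comm [Finite G] {K J R : Subgroup G} (hcomm : ⁅K, J⁆ = K)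
    (hodd : closure {g : G | g ∈ K ∧ Odd (orderOf g)} = K) (hR2 : IsPGroup 2 R)
    (hRJ : R ≤ normalizer (J : Set G)) (hKR : K ≤ normalizer (R : Set G))
    (hJR : J ≤ normalizer (R : Set G)) : R ≤ normalizer (K : Set G) := by
  have hc := comm_mem_normalizer hcomm hRJ hKR hJR
  obtain ⟨RK, hRK⟩ : ∃ RK : Subgroup G, RK = R ⊓ normalizer (K : Set G) := ⟨_, rfl⟩
  rw [← hRK] at hc
  have h1 : ⁅RK, K⁆ ≤ K := by
    rw [commutator_le]
    intro x hx y hy
    rw [commutatorElement_def]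
    rw [hRK] at hx
    have hxN : x ∈ normalizer (K : Set G) := (mem_inf.mp hx).2
    have h2 : x * y * x⁻¹ ∈ K := (mem_normalizer_iff.mp hxN y).mp hy
    exact K.mul_mem h2 (K.inv_mem hy)
  have h2 : ∀ y ∈ K, Odd (orderOf y) → ∀ r ∈ R, r * y * r⁻¹ ∈ K := by
    intro y hy hyodd r hr
    have hyK : zpowers y ≤ K := zpowers_le.mpr hy
    have hyR : zpowers y ≤ normalizer (R : Set G) := hyK.trans hKR
    have hcop : (Nat.card (zpowers y)).Coprime (Nat.card R) := by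
      rw [Nat.card_zpowers]
      obtain ⟨n, hn⟩ := IsPGroup.iff_card.mp hR2
      rw [hn]
      exact Nat.Coprime.pow_right n (Nat.coprime_comm.mp (Nat.coprime_two_left.mpr hyodd))
    have hsolv : Group.IsSolvable (zpowers y) := by
      apply Group.isSolvable_of_comm
      intro a b
      obtain ⟨m, hm⟩ := mem_zpowers_iff.mp a.2
      obtain ⟨n, hn⟩ := mem_zpowers_iff.mp b.2
      apply Subtype.ext
      rw [Subgroup.coe_mul, Subgroup.coe_mul, ← hm, ← hn, ← zpow_add, ← zpow_add, add_comm]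
    have h3 := Cfsg.Agent.Helper1.commutator_commutator_eq (zpowers y) R hyR hcop (Or.inl hsolv)
    have h4 : ⁅R, zpowers y⁆ ≤ RK := by
      rw [commutator_le]
      intro r' hr' z hz
      rw [commutatorElement_def]
      exact hc z (hyK hz) r' hr'
    have h5 : ⁅r, y⁆ ∈ K := by
      have h6 : ⁅r, y⁆ ∈ ⁅R, zpowers y⁆ := commutator_mem_commutator hr (mem_zpowers y)
      rw [← h3] at h6
      exact h1 (commutator_mono h4 hyK h6)
    rw [commutatorElement_def] at h5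
    have h7 : r * y * r⁻¹ = (r * y * r⁻¹ * y⁻¹) * y := by group
    rw [h7]; exact K.mul_mem h5 hy
  apply le_normalizer_of_conj_mem
  intro r hr
  have h3 : ∀ y ∈ closure {g : G | g ∈ K ∧ Odd (orderOf g)}, r * y * r⁻¹ ∈ K := by
    intro y hy
    induction hy using Subgroup.closure_induction with
    | mem y hy => exact h2 y hy.1 hy.2 r hr
    | one =>
      have : r * 1 * r⁻¹ = 1 := by group
      rw [this]; exact K.one_mem
    | mul a b _ _ ha hb =>
      have : r * (a * b) * r⁻¹ = (r * a * r⁻¹) * (r * b * r⁻¹) := by group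
      rw [this]; exact K.mul_mem ha hb
    | inv a _ ha =>
      have : r * a⁻¹ * r⁻¹ = (r * a * r⁻¹)⁻¹ := by group
      rw [this]; exact K.inv_mem ha
  rw [hodd] at h3
  exact h3

end Cfsg.Agent.Helper50.JComp
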