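import Mathlib
import Cfsg.Agent.Lib.Helper50.JComp5

/-!
# Groups generated by normal copies of `SL₂(2)` (part 8)

If `H` is generated by subgroups `E ≅ SL₂(2)` each normal in `H`, then the elements of odd order of `H`
lie in an abelian subgroup normalized by `N(H)`.
-/

set_option autoImplicit false
set_option linter.unusedSectionVars false

namespace Cfsg.Agent.Helper50.JComp

open Subgroup

/-- `SL₂(2)` -/
abbrev Sig := Matrix.SpecialLinearGroup (Fin 2) (ZMod 2)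

theorem sl2_sq_cube : ∀ s : Sig, (s * s) ^ 3 = 1 := by decide
theorem sl2_cube_mul : ∀ s t : Sig, s ^ 3 = 1 → t ^ 3 = 1 → (s * t) ^ 3 = 1 := by decide
theorem sl2_quot : ∀ s t : Sig, s ^ 3 ≠ 1 → t ^ 3 ≠ 1 → (s * t⁻¹) ^ 3 = 1 := by decide
theorem sl2_card_cube : (Finset.univ.filter (fun s : Sig => s ^ 3 = 1)).card = 3 := by decide

variable {Γ : Type*} [Group Γ]

/-- the elements of `E` with trivial cube, when `E ≅ SL₂(2)` -/
def cubeSub (E : Subgroup Γ) (φ : ↥E ≃* Sig) : Subgroup Γ where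
  carrier := {x | ∃ hx : x ∈ E, (φ ⟨x, hx⟩) ^ 3 = 1}
  one_mem' := ⟨E.one_mem, by
    have : (⟨1, E.one_mem⟩ : ↥E) = 1 := rfl
    rw [this, map_one, one_pow]⟩
  mul_mem' := by
    rintro x y ⟨hx, hx3⟩ ⟨hy, hy3⟩
    refine ⟨E.mul_mem hx hy, ?_⟩
    have : (⟨x * y, E.mul_mem hx hy⟩ : ↥E) = ⟨x, hx⟩ * ⟨y, hy⟩ := rfl
    rw [this, map_mul]
    exact sl2_cube_mul _ _ hx3 hy3
  inv_mem' := by
    rintro x ⟨hx, hx3⟩
    refine ⟨E.inv_mem hx, ?_⟩
    have : (⟨x⁻¹, E.inv_mem hx⟩ : ↥E) = (⟨x, hx⟩ : ↥E)⁻¹ := rfl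
    rw [this, map_inv, inv_pow, hx3, inv_one]

theorem mem_cubeSub {E : Subgroup Γ} {φ : ↥E ≃* Sig} {x : Γ} :
    x ∈ cubeSub E φ ↔ ∃ hx : x ∈ E, (φ ⟨x, hx⟩) ^ 3 = 1 := Iff.rfl

theorem mem_cubeSub_iff {E : Subgroup Γ} {φ : ↥E ≃* Sig} {x : Γ} (hx : x ∈ E) :
    x ∈ cubeSub E φ ↔ x ^ 3 = 1 := by
  rw [mem_cubeSub]
  constructor
  · rintro ⟨hx', h⟩
    have h1 : φ ((⟨x, hx'⟩ : ↥E) ^ 3) = φ 1 := by rw [map_pow, map_one]; exact h
    have h2 := φ.injective h1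
    have h3 := congrArg Subtype.val h2
    simpa using h3
  · intro h
    refine ⟨hx, ?_⟩
    rw [← map_pow]
    have : (⟨x, hx⟩ : ↥E) ^ 3 = 1 := by
      apply Subtype.ext
      simpa using h
    rw [this, map_one]

theorem cubeSub_le (E : Subgroup Γ) (φ : ↥E ≃* Sig) : cubeSub E φ ≤ E := fun _ hx => hx.1

theorem card_cubeSub (E : Subgroup Γ) (φ : ↥E ≃* Sig) : Nat.card ↥(cubeSub E φ) = 3 := by
  have e : ↥(cubeSub E φ) ≃ {s : Sig // s ^ 3 = 1} :=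
    { toFun := fun x => ⟨φ ⟨x.1, x.2.1⟩, x.2.2⟩
      invFun := fun s => ⟨(φ.symm s.1 : Γ), ⟨(φ.symm s.1).2, by
        have : (⟨((φ.symm s.1 : ↥E) : Γ), (φ.symm s.1).2⟩ : ↥E) = φ.symm s.1 := rfl
        rw [this, MulEquiv.apply_symm_apply]; exact s.2⟩⟩
      left_inv := by
        intro x
        apply Subtype.ext
        simp
      right_inv := by
        intro s
        apply Subtype.ext
        simp }
  rw [Nat.card_congr e, Nat.card_eq_fintype_card, Fintype.card_subtype]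
  exact sl2_card_cube

theorem sq_mem_cubeSub {E : Subgroup Γ} (φ : ↥E ≃* Sig) {x : Γ} (hx : x ∈ E) :
    x * x ∈ cubeSub E φ := by
  refine ⟨E.mul_mem hx hx, ?_⟩
  have : (⟨x * x, E.mul_mem hx hx⟩ : ↥E) = ⟨x, hx⟩ * ⟨x, hx⟩ := rfl
  rw [this, map_mul]
  exact sl2_sq_cube _

theorem quot_mem_cubeSub {E : Subgroup Γ} (φ : ↥E ≃* Sig) {x y : Γ} (hx : x ∈ E) (hy : y ∈ E)
    (hx3 : x ∉ cubeSub E φ) (hy3 : y ∉ cubeSub E φ) : x * y⁻¹ ∈ cubeSub E φ := by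
  refine ⟨E.mul_mem hx (E.inv_mem hy), ?_⟩
  have : (⟨x * y⁻¹, E.mul_mem hx (E.inv_mem hy)⟩ : ↥E) = ⟨x, hx⟩ * (⟨y, hy⟩ : ↥E)⁻¹ := rfl
  rw [this, map_mul, map_inv]
  apply sl2_quot
  · intro h; exact hx3 ⟨hx, h⟩
  · intro h; exact hy3 ⟨hy, h⟩

/-- the subgroups of order three normal in `H` -/
def N3 (H : Subgroup Γ) : Set (Subgroup Γ) :=
  {N | N ≤ H ∧ H ≤ normalizer (N : Set Γ) ∧ Nat.card N = 3}

/-- the join of the subgroups of order three normal in `H` -/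
def Fbar (H : Subgroup Γ) : Subgroup Γ := sSup (N3 H)

theorem Fbar_le (H : Subgroup Γ) : Fbar H ≤ H := sSup_le fun _ hN => hN.1

theorem N3_comm {H : Subgroup Γ} {N₁ N₂ : Subgroup Γ} (h1 : N₁ ∈ N3 H) (h2 : N₂ ∈ N3 H) :
    ∀ x ∈ N₁, ∀ y ∈ N₂, x * y = y * x := by
  intro x hx y hy
  have : Fact (Nat.Prime 3) := ⟨Nat.prime_three⟩
  have hfin : Finite ↥N₁ := Nat.finite_of_card_ne_zero (by rw [h1.2.2]; norm_num)
  have hpr : Fact (Nat.card ↥N₁).Prime := ⟨by rw [h1.2.2]; exact Nat.prime_three⟩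
  rcases Subgroup.eq_bot_or_eq_top_of_prime_card (N₂.subgroupOf N₁) with h | h
  · -- trivial intersection
    have hc1 : x * y * x⁻¹ * y⁻¹ ∈ N₁ := by
      have h3 : y * x⁻¹ * y⁻¹ ∈ N₁ := conj_mem_of_le_normalizer h1.2.1 (h2.1 hy) (N₁.inv_mem hx)
      have h4 : x * y * x⁻¹ * y⁻¹ = x * (y * x⁻¹ * y⁻¹) := by group
      rw [h4]; exact N₁.mul_mem hx h3
    have hc2 : x * y * x⁻¹ * y⁻¹ ∈ N₂ := by
      have h3 : x * y * x⁻¹ ∈ N₂ := conj_mem_of_le_normalizer h2.2.1 (h1.1 hx) hy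
      exact N₂.mul_mem h3 (N₂.inv_mem hy)
    have hc3 : (⟨x * y * x⁻¹ * y⁻¹, hc1⟩ : ↥N₁) ∈ N₂.subgroupOf N₁ := by
      rw [mem_subgroupOf]; exact hc2
    rw [h, mem_bot] at hc3
    have hc4 : x * y * x⁻¹ * y⁻¹ = 1 := congrArg Subtype.val hc3
    calc x * y = (x * y * x⁻¹ * y⁻¹) * (y * x) := by group
      _ = y * x := by rw [hc4, one_mul]
  · have hle : N₁ ≤ N₂ := by
      rw [← subgroupOf_eq_top]; exact h
    have hcyc : IsCyclic ↥N₂ := isCyclic_of_prime_card (p := 3) h2.2.2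
    have h3 := hcyc.isMulCommutative.is_comm.comm (⟨x, hle hx⟩ : ↥N₂) ⟨y, hy⟩
    exact congrArg Subtype.val h3

theorem Fbar_comm (H : Subgroup Γ) : ∀ x ∈ Fbar H, ∀ y ∈ Fbar H, x * y = y * x := by
  have h1 : Fbar H ≤ centralizer ((Fbar H : Subgroup Γ) : Set Γ) := by
    apply sSup_le
    intro N₁ hN₁
    rw [Subgroup.le_centralizer_iff]
    apply sSup_le
    intro N₂ hN₂
    rw [le_centralizer_iff_comm]
    exact N3_comm hN₂ hN₁
  exact le_centralizer_iff_comm.mp h1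

theorem normalizer_le_normalizer_Fbar (H : Subgroup Γ) :
    normalizer (H : Set Γ) ≤ normalizer ((Fbar H : Subgroup Γ) : Set Γ) := by
  apply le_normalizer_sSup'
  intro g hg N hN
  obtain ⟨hNH, hHN, hN3⟩ := hN
  refine ⟨?_, ?_, ?_⟩
  · intro z hz
    obtain ⟨y, hy, rfl⟩ := mem_map_conj.mp hz
    exact conj_mem_of_le_normalizer le_rfl hg (hNH hy)
  · apply le_normalizer_of_conj_mem
    intro h hh z hz
    obtain ⟨y, hy, rfl⟩ := mem_map_conj.mp hz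
    rw [mem_map_conj]
    have hh' : g⁻¹ * h * g ∈ H := conj_mem_of_le_normalizer' le_rfl hg hh
    refine ⟨(g⁻¹ * h * g) * y * (g⁻¹ * h * g)⁻¹, conj_mem_of_le_normalizer hHN hh' hy, ?_⟩
    group
  · rw [Subgroup.card_map_of_injective (MulAut.conj g).injective]
    exact hN3

section main

variable {H : Subgroup Γ} {ℰ : Set (Subgroup Γ)} (hsup : sSup ℰ = H)
  (hn : ∀ E ∈ ℰ, H ≤ normalizer (E : Set Γ)) (hiso : ∀ E ∈ ℰ, Nonempty (↥E ≃* Sig))
include hsup hn hiso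

theorem cubeSub_mem_N3 {E : Subgroup Γ} (hE : E ∈ ℰ) (φ : ↥E ≃* Sig) : cubeSub E φ ∈ N3 H := by
  have hEH : E ≤ H := by rw [← hsup]; exact le_sSup hE
  refine ⟨(cubeSub_le E φ).trans hEH, ?_, card_cubeSub E φ⟩
  apply le_normalizer_of_conj_mem
  intro h hh x hx
  have hxE : x ∈ E := cubeSub_le E φ hx
  have hcE : h * x * h⁻¹ ∈ E := conj_mem_of_le_normalizer (hn E hE) hh hxE
  rw [mem_cubeSub_iff hcE]
  have hx3 : x ^ 3 = 1 := (mem_cubeSub_iff hxE).mp hx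
  rw [conj_pow, hx3]; group

theorem comm_mem_Fbar : ∀ x ∈ H, ∀ z ∈ H, x * z * x⁻¹ * z⁻¹ ∈ Fbar H := by
  have hHF : H ≤ normalizer ((Fbar H : Subgroup Γ) : Set Γ) :=
    le_normalizer.trans (normalizer_le_normalizer_Fbar H)
  have key : H ≤ Dsub H H (Fbar H) hHF := by
    refine le_of_eq_of_le hsup.symm ?_
    apply sSup_le
    intro E hE e he
    have hEH : E ≤ H := by rw [← hsup]; exact le_sSup hE
    refine ⟨hEH he, fun z hz => ?_⟩
    obtain ⟨φ⟩ := hiso E hE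
    have hN := cubeSub_mem_N3 hsup hn hiso hE φ
    have hle : cubeSub E φ ≤ Fbar H := le_sSup hN
    apply hle
    -- e z e⁻¹ z⁻¹ = (z e z⁻¹ e⁻¹)⁻¹
    have hcE : z * e * z⁻¹ ∈ E := conj_mem_of_le_normalizer (hn E hE) hz he
    have h1 : z * e * z⁻¹ * e⁻¹ ∈ cubeSub E φ := by
      by_cases he3 : e ∈ cubeSub E φ
      · have h2 : z * e * z⁻¹ ∈ cubeSub E φ := conj_mem_of_le_normalizer hN.2.1 hz he3
        exact (cubeSub E φ).mul_mem h2 ((cubeSub E φ).inv_mem he3)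
      · apply quot_mem_cubeSub φ hcE he _ he3
        intro h2
        apply he3
        have h3 := conj_mem_of_le_normalizer' hN.2.1 hz h2
        have h4 : z⁻¹ * (z * e * z⁻¹) * z = e := by group
        rwa [h4] at h3
    have h5 : e * z * e⁻¹ * z⁻¹ = (z * e * z⁻¹ * e⁻¹)⁻¹ := by group
    rw [h5]
    exact (cubeSub E φ).inv_mem h1
  intro x hx z hz
  exact (key hx).2 z hz

theorem sq_mem_Fbar : ∀ x ∈ H, x * x ∈ Fbar H := by
  have hc := comm_mem_Fbar hsup hn hiso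
  let Sq : Subgroup Γ :=
    { carrier := {x | x ∈ H ∧ x * x ∈ Fbar H}
      one_mem' := ⟨H.one_mem, by rw [mul_one]; exact (Fbar H).one_mem⟩
      mul_mem' := by
        rintro x y ⟨hx, hx2⟩ ⟨hy, hy2⟩
        refine ⟨H.mul_mem hx hy, ?_⟩
        have h1 : x * y * (x * y) = (x * x) * (x⁻¹ * y * x⁻¹⁻¹ * y⁻¹) * (y * y) := by group
        rw [h1]
        exact (Fbar H).mul_mem ((Fbar H).mul_mem hx2 (hc _ (H.inv_mem hx) _ hy)) hy2
      inv_mem' := by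
        rintro x ⟨hx, hx2⟩
        refine ⟨H.inv_mem hx, ?_⟩
        have h1 : x⁻¹ * x⁻¹ = (x * x)⁻¹ := by group
        rw [h1]; exact (Fbar H).inv_mem hx2 }
  have key : H ≤ Sq := by
    refine le_of_eq_of_le hsup.symm ?_
    apply sSup_le
    intro E hE e he
    have hEH : E ≤ H := by rw [← hsup]; exact le_sSup hE
    obtain ⟨φ⟩ := hiso E hE
    have hN := cubeSub_mem_N3 hsup hn hiso hE φ
    have hle : cubeSub E φ ≤ Fbar H := le_sSup hN
    exact ⟨hEH he, hle (sq_mem_cubeSub φ he)⟩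
  intro x hx
  exact (key hx).2

theorem odd_mem_Fbar : ∀ y ∈ H, Odd (orderOf y) → y ∈ Fbar H := by
  intro y hy hodd
  obtain ⟨m, hm⟩ := hodd
  have h1 : y = (y * y) ^ (m + 1) := by
    rw [← pow_two, ← pow_mul]
    have : 2 * (m + 1) = orderOf y + 1 := by omega
    rw [this, pow_succ, pow_orderOf_eq_one, one_mul]
  rw [h1]
  exact (Fbar H).pow_mem (sq_mem_Fbar hsup hn hiso y hy) _

end main

end Cfsg.Agent.Helper50.JComp
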