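import Mathlib
import Cfsg.Agent.Lib.Helper50.JComp7
import Cfsg.Agent.Lib.Helper50.JComp8
import Cfsg.Agent.Lib.Helper1.FFY
import Cfsg.Agent.S0617
import Cfsg.Agent.Lib.Helper76.SolvPSolv

/-!
# `J(T)`-components are subnormal in the members of `ℒ(T)` (part 9): the abstract core
-/

set_option autoImplicit false

namespace Cfsg.Agent.Helper50.JComp

open Subgroup
open scoped commutatorElement
open Cfsg.Agent.Helper1.FF

section core

variable {Λ : Type*} [Group Λ] [Finite Λ]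

/-- `C(O₂) ≤ O₂` forces `O_{2'} = 1` -/
theorem pPrimeCore_eq_bot_of_centralizer_le
    (hR : centralizer (Cfsg.pCore 2 Λ : Set Λ) ≤ Cfsg.pCore 2 Λ) :
    Cfsg.pPrimeCore 2 Λ = ⊥ := by
  have : Fact (Nat.Prime 2) := ⟨Nat.prime_two⟩
  have hOn : (Cfsg.pPrimeCore 2 Λ).Normal := Cfsg.Agent.Helper54.pPrimeCore_normal' 2
  have hRn : (Cfsg.pCore 2 Λ).Normal := Cfsg.Agent.Helper54.pCore_normal' 2
  have hcop := Cfsg.Agent.Helper54.pPrimeCore_coprime (G := Λ) 2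
  have hR2 : IsPGroup 2 (Cfsg.pCore 2 Λ) := Cfsg.Agent.Helper54.isPGroup_pCore
  have hdisj : Disjoint (Cfsg.pPrimeCore 2 Λ) (Cfsg.pCore 2 Λ) := by
    apply Subgroup.disjoint_of_coprime_natCard
    obtain ⟨n, hn⟩ := IsPGroup.iff_card.mp hR2
    rw [hn]
    exact Nat.Coprime.pow_right n hcop
  have hinf : Cfsg.pPrimeCore 2 Λ ⊓ Cfsg.pCore 2 Λ = ⊥ := disjoint_iff.mp hdisj
  have hle : Cfsg.pPrimeCore 2 Λ ≤ centralizer (Cfsg.pCore 2 Λ : Set Λ) := by
    rw [le_centralizer_iff_comm]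
    intro x hx y hy
    exact Subgroup.commute_of_normal_of_disjoint _ _ hOn hRn hdisj x y hx hy
  rw [eq_bot_iff, ← hinf]
  exact le_inf le_rfl (hle.trans hR)

omit [Finite Λ] in
/-- `odd_mem_Fbar` for an indexed family -/
theorem odd_mem_Fbar_of_iSup {H : Subgroup Λ} {ι : Sort*} (E : ι → Subgroup Λ)
    (hsup : (⨆ i, E i) = H) (hn : ∀ i, H ≤ normalizer (E i : Set Λ))
    (hiso : ∀ i, Nonempty (↥(E i) ≃* Sig)) : ∀ y ∈ H, Odd (orderOf y) → y ∈ Fbar H :=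
  odd_mem_Fbar (ℰ := Set.range E) (by rw [sSup_range]; exact hsup)
    (by rintro _ ⟨i, rfl⟩; exact hn i) (by rintro _ ⟨i, rfl⟩; exact hiso i)

/-- the abstract core: in a solvable group `Λ` with `C(O₂(Λ)) ≤ O₂(Λ)` in which `C_Λ(V)` normalizes the
Sylow `2`-subgroup `T` (`V` the join of the `Ω₁(Z(S))`), a subgroup `K = [K, J]` generated by elements
of odd order, `J ≤ J(Λ) ∩ T` normal in `T`, is subnormal. -/
theorem subnormal_core (hsolv : Group.IsSolvable Λ)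
    (hR : centralizer (Cfsg.pCore 2 Λ : Set Λ) ≤ Cfsg.pCore 2 Λ)
    (T : Sylow 2 Λ) {J K : Subgroup Λ}
    (hTJ : (T : Subgroup Λ) ≤ normalizer (J : Set Λ))
    (hJth : J ≤ Cfsg.thompsonSubgroup 2 Λ) (hJT : J ≤ (T : Subgroup Λ)) (hcomm : ⁅K, J⁆ = K)
    (hodd : closure {g : Λ | g ∈ K ∧ Odd (orderOf g)} = K)
    (hZ : centralizer (VZ 2 Λ : Set Λ) ≤ normalizer ((T : Subgroup Λ) : Set Λ)) :
    K.IsSubnormal := by
  have : Fact (Nat.Prime 2) := ⟨Nat.prime_two⟩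
  have := hsolv
  have hsep : Cfsg.IsPSolvable 2 Λ := Cfsg.Agent.Helper76.isPSolvable_of_isSolvable' 2
  have hO : Cfsg.pPrimeCore 2 Λ = ⊥ := pPrimeCore_eq_bot_of_centralizer_le hR
  have hVn : (VZ 2 Λ).Normal := VZ_normal 2
  have hVea : EA 2 (VZ 2 Λ) := ea_VZ hsep hO
  have hOq : Cfsg.pCore 2 (Λ ⧸ centralizer (VZ 2 Λ : Set Λ)) = ⊥ := pCore_quot_VZ
  have hVZ := VZ_le_omegaZp hsep hO
  obtain ⟨R, hRdef⟩ : ∃ R : Subgroup Λ, R = Cfsg.pCore 2 Λ := ⟨_, rfl⟩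
  rw [← hRdef] at hVZ
  have hRn : R.Normal := hRdef ▸ Cfsg.Agent.Helper54.pCore_normal' 2
  have hR2 : IsPGroup 2 R := hRdef ▸ Cfsg.Agent.Helper54.isPGroup_pCore
  have hRT : R ≤ (T : Subgroup Λ) := hRdef ▸ Cfsg.Agent.Helper54.pCore_le_sylow T
  have hRtop : ∀ X : Subgroup Λ, X ≤ normalizer (R : Set Λ) := fun X => by
    rw [normalizer_eq_top_iff.mpr hRn]; exact le_top
  -- `R` normalizes `K`
  have hRK : R ≤ normalizer (K : Set Λ) :=
    le_normalizer_of_comm hcomm hodd hR2 (hRT.trans hTJ) (hRtop K) (hRtop J)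
  -- the centralizer of `V`
  obtain ⟨C, hCdef⟩ : ∃ C : Subgroup Λ, C = centralizer (VZ 2 Λ : Set Λ) := ⟨_, rfl⟩
  have hCn : C.Normal := by rw [hCdef]; infer_instance
  have hCT' : C ≤ normalizer ((T : Subgroup Λ) : Set Λ) := hCdef ▸ hZ
  have hRC : R ≤ C := by
    rw [hCdef]
    intro r hr
    rw [mem_centralizer_iff]
    intro v hv
    exact (hVZ hv).2.1 r hr
  -- `[C, T] ≤ R`
  have hCT : ∀ c ∈ C, ∀ t ∈ (T : Subgroup Λ), c * t * c⁻¹ * t⁻¹ ∈ R := by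
    have hD2 : IsPGroup 2 (C ⊓ (T : Subgroup Λ) : Subgroup Λ) := T.isPGroup'.to_le inf_le_right
    have hDn : C ≤ normalizer ((C ⊓ (T : Subgroup Λ) : Subgroup Λ) : Set Λ) := by
      apply le_normalizer_of_conj_mem
      intro c hc x hx
      exact mem_inf.mpr ⟨hCn.conj_mem x (mem_inf.mp hx).1 c,
        conj_mem_of_le_normalizer hCT' hc (mem_inf.mp hx).2⟩
    have h1 : C ⊓ (T : Subgroup Λ) ≤ Cfsg.pCoreOf 2 C :=
      Cfsg.Agent.Helper23.le_pCoreOf_of_normal_pgroup inf_le_left hD2 hDn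
    have h2 : Cfsg.pCoreOf 2 C ≤ R := by
      rw [hRdef]
      apply le_sSup
      refine ⟨?_, Cfsg.Agent.Helper23.pCoreOf_isPGroup C⟩
      have h3 := Cfsg.Agent.Helper23.normalizer_le_normalizer_pCoreOf (p := 2) C
      rw [normalizer_eq_top_iff.mpr hCn] at h3
      exact normalizer_eq_top_iff.mp (top_le_iff.mp h3)
    intro c hc t ht
    apply h2; apply h1
    refine mem_inf.mpr ⟨?_, ?_⟩
    · have h4 : c * t * c⁻¹ * t⁻¹ = c * (t * c⁻¹ * t⁻¹) := by group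
      rw [h4]; exact C.mul_mem hc (hCn.conj_mem _ (C.inv_mem hc) t)
    · exact (T : Subgroup Λ).mul_mem (conj_mem_of_le_normalizer hCT' hc ht)
        ((T : Subgroup Λ).inv_mem ht)
  -- `[C, K] ≤ R`
  have hXC : ∀ X : Subgroup Λ, X ≤ normalizer (C : Set Λ) := fun X => by
    rw [normalizer_eq_top_iff.mpr hCn]; exact le_top
  have hKD : K ≤ Dsub (K ⊔ J) C R (hRtop _) := by
    apply le_Dsub_of_comm (hRtop _) (hXC _) _ hcomm
    intro j hj
    refine ⟨mem_sup_right hj, fun z hz => ?_⟩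
    have h1 := hCT z hz j (hJT hj)
    have h2 : j * z * j⁻¹ * z⁻¹ = (z * j * z⁻¹ * j⁻¹)⁻¹ := by group
    rw [h2]; exact R.inv_mem h1
  have hCK : ∀ c ∈ C, ∀ k ∈ K, c * k * c⁻¹ * k⁻¹ ∈ R := by
    intro c hc k hk
    have h1 := (hKD hk).2 c hc
    have h2 : c * k * c⁻¹ * k⁻¹ = (k * c * k⁻¹ * c⁻¹)⁻¹ := by group
    rw [h2]; exact R.inv_mem h1
  -- the faithful action
  obtain ⟨θ, hθdef⟩ : ∃ θ : Λ →* GamV (VZ 2 Λ), θ = Th (VZ 2 Λ) := ⟨_, rfl⟩
  have hker : θ.ker = C := by rw [hθdef, hCdef]; exact ker_Th _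
  obtain ⟨H, hHdef⟩ : ∃ H : Subgroup (GamV (VZ 2 Λ)), H = HB 2 (VZ 2 Λ) := ⟨_, rfl⟩
  have hrH : θ.range ≤ normalizer (H : Set (GamV (VZ 2 Λ))) := by
    rw [hHdef, hθdef]; exact range_le_normalizer_HB _
  have hJH : J.map θ ≤ H := by
    rw [hHdef, hθdef]
    exact (Subgroup.map_mono hJth).trans (map_thompson_le_HB _ hVea)
  have hKH : K.map θ ≤ H := by
    rw [← hcomm, Subgroup.map_commutator, commutator_le]
    rintro _ ⟨k, hk, rfl⟩ _ ⟨j, hj, rfl⟩
    rw [commutatorElement_def]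
    have h1 : θ j ∈ H := hJH ⟨j, hj, rfl⟩
    have h2 : θ k * θ j * (θ k)⁻¹ ∈ H := conj_mem_of_le_normalizer hrH ⟨k, rfl⟩ h1
    exact H.mul_mem h2 (H.inv_mem h1)
  -- elements of odd order of `H` lie in the abelian subgroup `Fbar H`
  have hoddH : ∀ y ∈ H, Odd (orderOf y) → y ∈ Fbar H := by
    by_cases hH1 : H = ⊥
    · intro y hy _
      rw [hH1, mem_bot] at hy
      rw [hy]; exact (Fbar H).one_mem
    · have hS := Cfsg.Agent.S0617.result (VV (VZ 2 Λ)) (HB 2 (VZ 2 Λ))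
        (isElementaryAbelian_of_ea (ea_VV _ hVea))
        ((HB_le_range _).trans (range_le_normalizer_VV _))
        (by
          rw [eq_bot_iff]
          have h1 := map_Th_inf_centralizer (VZ 2 Λ) ⊤
          rw [← MonoidHom.range_eq_map] at h1
          rw [← h1]
          exact inf_le_inf_right _ (HB_le_range _))
        (HB_hS1 _ hsep hOq) (HB_hS3 _) (hHdef ▸ hH1)
      obtain ⟨-, hE, -, hsup, -, -⟩ := hS
      rw [hHdef]
      exact odd_mem_Fbar_of_iSup _ hsup (fun E => (hE E).1) (fun E => (hE E).2.1)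
  obtain ⟨F, hFdef⟩ : ∃ F : Subgroup Λ, F = (Fbar H).comap θ := ⟨_, rfl⟩
  have hKF : K ≤ F := by
    have h1 : closure {g : Λ | g ∈ K ∧ Odd (orderOf g)} ≤ F := by
      rw [closure_le]
      rintro g ⟨hgK, hgodd⟩
      rw [hFdef]
      show θ g ∈ Fbar H
      exact hoddH _ (hKH ⟨g, hgK, rfl⟩) (Odd.of_dvd_nat hgodd (orderOf_map_dvd θ g))
    rwa [hodd] at h1
  have hCF : C ≤ F := by rw [hFdef, ← hker]; exact θ.ker_le_comap _
  have hFn : F.Normal := by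
    rw [hFdef]
    constructor
    intro f hf g
    rw [mem_comap] at hf ⊢
    rw [map_mul, map_mul, map_inv]
    exact conj_mem_of_le_normalizer (hrH.trans (normalizer_le_normalizer_Fbar H)) ⟨g, rfl⟩ hf
  have hFC : ∀ f ∈ F, ∀ x ∈ F, f * x * f⁻¹ * x⁻¹ ∈ C := by
    intro f hf x hx
    rw [← hker, MonoidHom.mem_ker, map_mul, map_mul, map_mul, map_inv, map_inv]
    rw [hFdef, mem_comap] at hf hx
    rw [Fbar_comm H _ hf _ hx]; group
  -- the chain `K ⊴ K R ⊴ K C ⊴ F ⊴ Λ`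
  obtain ⟨M, hMdef⟩ : ∃ M : Subgroup Λ, M = K ⊔ C := ⟨_, rfl⟩
  obtain ⟨P, hPdef⟩ : ∃ P : Subgroup Λ, P = K ⊔ R := ⟨_, rfl⟩
  have hKP : K ≤ P := hPdef ▸ le_sup_left
  have hPM : P ≤ M := by rw [hPdef, hMdef]; exact sup_le_sup_left hRC K
  have hMF : M ≤ F := by rw [hMdef]; exact sup_le hKF hCF
  have hCM : C ≤ M := hMdef ▸ le_sup_right
  have hFM : F ≤ normalizer (M : Set Λ) := by
    apply le_normalizer_of_conj_mem
    intro f hf x hx
    have h1 := hFC f hf x (hMF hx)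
    have h2 : f * x * f⁻¹ = (f * x * f⁻¹ * x⁻¹) * x := by group
    rw [h2]; exact M.mul_mem (hCM h1) hx
  have hMP : M ≤ normalizer (P : Set Λ) := by
    rw [hMdef]
    apply sup_le (hKP.trans le_normalizer)
    apply le_normalizer_of_conj_mem
    intro c hc
    have hle : P ≤ P.comap (MulAut.conj c).toMonoidHom := by
      rw [hPdef]
      apply sup_le
      · intro k hk
        rw [mem_comap, MulEquiv.coe_toMonoidHom, MulAut.conj_apply]
        have h1 := hCK c hc k hk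
        have h2 : c * k * c⁻¹ = (c * k * c⁻¹ * k⁻¹) * k := by group
        rw [h2]; exact (K ⊔ R).mul_mem (mem_sup_right h1) (mem_sup_left hk)
      · intro r hr
        rw [mem_comap, MulEquiv.coe_toMonoidHom, MulAut.conj_apply]
        exact mem_sup_right (hRn.conj_mem r hr c)
    intro x hx
    have := hle hx
    rwa [mem_comap, MulEquiv.coe_toMonoidHom, MulAut.conj_apply] at this
  have hPK : P ≤ normalizer (K : Set Λ) := by
    rw [hPdef]; exact sup_le le_normalizer hRK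
  have hF : F.IsSubnormal := hFn.isSubnormal
  have hM : M.IsSubnormal :=
    IsSubnormal.step M F hMF hF ((normal_subgroupOf_iff_le_normalizer hMF).mpr hFM)
  have hP : P.IsSubnormal :=
    IsSubnormal.step P M hPM hM ((normal_subgroupOf_iff_le_normalizer hPM).mpr hMP)
  exact IsSubnormal.step K P hKP hP ((normal_subgroupOf_iff_le_normalizer hKP).mpr hPK)

end core

end Cfsg.Agent.Helper50.JComp
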