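import Mathlib
import Cfsg.Agent.Lib.Helper50.JComp9
import Cfsg.Agent.Lib.Helper10.Thompson
import Cfsg.Agent.Lib.Helper10.ThompsonMap

/-!
# `J(T)`-components are subnormal in the members of `ℒ(T)` (part 10): the bridge
-/

set_option autoImplicit false

namespace Cfsg.Agent.Helper50.JComp

open Subgroup
open scoped commutatorElement
open Cfsg.Agent.Helper1.FF

universe u

variable {G : Type u} [Group G] [Finite G]

/-- `T` normalizes `J(T)` -/
theorem le_normalizer_thompsonTwo (T : Subgroup G) :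
    T ≤ normalizer (Cfsg.thompsonSubgroupOf 2 T : Set G) := by
  rw [thompsonTwo_eq]
  apply le_normalizer_sSup'
  intro t ht A hA
  apply MaxEA.conj hA
  intro y hy
  exact T.mul_mem (T.mul_mem ht (hA.1 hy)) (T.inv_mem ht)

/-- a `J(T)`-component contained in a member `L` of `ℒ(T)` is subnormal in `L` -/
theorem jcomponent_subnormal
    (hN : ∀ N : Subgroup G, Cfsg.IsTwoLocal N → Group.IsSolvable ↥N)
    (hZ : ∀ S : Sylow 2 G, centralizer (Cfsg.omegaCenterOf (S : Subgroup G) : Set G) ≤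
      normalizer ((S : Subgroup G) : Set G))
    {T L K : Subgroup G} (hLT : L ∈ Cfsg.jOvergroups T) (hK : Cfsg.IsJComponent T K) (hKL : K ≤ L) :
    (K.subgroupOf L).IsSubnormal := by
  have : Fact (Nat.Prime 2) := ⟨Nat.prime_two⟩
  obtain ⟨⟨hTL, hT2, hTodd⟩, hJR, hCR⟩ := hLT
  obtain ⟨hodd, hcomm, -, -, -, -⟩ := hK
  obtain ⟨J, hJdef⟩ : ∃ J : Subgroup G, J = Cfsg.thompsonSubgroupOf 2 T := ⟨_, rfl⟩
  obtain ⟨R, hRdef⟩ : ∃ R : Subgroup G, R = Cfsg.pCoreOf 2 L := ⟨_, rfl⟩
  rw [← hJdef] at hcomm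
  rw [← hJdef, ← hRdef] at hJR
  rw [← hRdef] at hCR
  have hJT : J ≤ T := hJdef ▸ Cfsg.Agent.Helper10.thompsonSubgroupOf_le T
  have hJL : J ≤ L := hJT.trans hTL
  have hTJ : T ≤ normalizer (J : Set G) := hJdef ▸ le_normalizer_thompsonTwo T
  have hR2 : IsPGroup 2 R := hRdef ▸ Cfsg.Agent.Helper23.pCoreOf_isPGroup L
  have hRL : R ≤ L := hRdef ▸ Cfsg.Agent.Helper23.pCoreOf_le L
  have hLR : L ≤ normalizer (R : Set G) := hRdef ▸ Cfsg.Agent.Helper23.le_normalizer_pCoreOf L
  -- `O₂(L) ≠ 1`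
  have hR1 : R ≠ ⊥ := by
    intro h
    apply hJR
    intro x _
    apply hCR
    rw [mem_centralizer_iff]
    intro r hr
    rw [h] at hr
    have : r = 1 := hr
    rw [this, one_mul, mul_one]
  -- `L` is solvable
  have hsolvN : Group.IsSolvable ↥(normalizer (R : Set G)) := hN _ ⟨R, hR2, hR1, rfl⟩
  have hsolv : Group.IsSolvable ↥L :=
    Group.isSolvable_of_isSolvable_injective (Subgroup.inclusion_injective hLR)
  -- `C(O₂(L)) ≤ O₂(L)` inside `L`
  have hRmem : ∀ y : ↥L, y ∈ Cfsg.pCore 2 ↥L ↔ (y : G) ∈ R := by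
    intro y
    rw [hRdef]
    unfold Cfsg.pCoreOf
    constructor
    · intro hy; exact ⟨y, hy, rfl⟩
    · rintro ⟨z, hz, hzy⟩
      have : z = y := Subtype.ext hzy
      rwa [← this]
  have hR' : centralizer (Cfsg.pCore 2 ↥L : Set ↥L) ≤ Cfsg.pCore 2 ↥L := by
    intro x hx
    rw [hRmem]
    apply hCR
    rw [mem_centralizer_iff]
    intro r hr
    have h1 := mem_centralizer_iff.mp hx ⟨r, hRL hr⟩ ((hRmem _).mpr hr)
    exact congrArg Subtype.val h1
  -- the Sylow subgroup
  have hT2' : IsPGroup 2 (T.subgroupOf L) := hT2.comap_subtype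
  have hidx : ¬ 2 ∣ (T.subgroupOf L).index := by
    intro h
    have : Even (T.relIndex L) := even_iff_two_dvd.mpr h
    exact (Nat.not_even_iff_odd.mpr hTodd) this
  obtain ⟨T', hT'⟩ : ∃ T' : Sylow 2 ↥L, (T' : Subgroup ↥L) = T.subgroupOf L :=
    ⟨hT2'.toSylow hidx, IsPGroup.toSylow_coe hT2' hidx⟩
  have hT'mem : ∀ y : ↥L, y ∈ (T' : Subgroup ↥L) ↔ (y : G) ∈ T := by
    intro y; rw [hT', mem_subgroupOf]
  -- transport
  have hJ'T : J.subgroupOf L ≤ (T' : Subgroup ↥L) := by
    intro y hy; rw [hT'mem]; exact hJT (mem_subgroupOf.mp hy)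
  have hT'J : (T' : Subgroup ↥L) ≤ normalizer ((J.subgroupOf L : Subgroup ↥L) : Set ↥L) := by
    apply le_normalizer_of_conj_mem
    intro t ht y hy
    rw [mem_subgroupOf] at hy ⊢
    exact conj_mem_of_le_normalizer hTJ ((hT'mem t).mp ht) hy
  have hJ'th : J.subgroupOf L ≤ Cfsg.thompsonSubgroup 2 ↥L := by
    have h1 := Cfsg.Agent.Helper10.thompsonSubgroupOf_sylow_le_thompsonSubgroup T'
    refine le_trans ?_ h1
    rw [hT']
    have h2 := Cfsg.Agent.Helper10.thompsonSubgroupOf_map 2 L.subtype (T.subgroupOf L)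
      (fun x _ hx => Subtype.ext hx)
    rw [Subgroup.map_subgroupOf_eq_of_le hTL, ← hJdef] at h2
    intro y hy
    rw [mem_subgroupOf, h2] at hy
    obtain ⟨z, hz, hzy⟩ := hy
    have : z = y := Subtype.ext hzy
    rwa [← this]
  have hcomm' : ⁅K.subgroupOf L, J.subgroupOf L⁆ = K.subgroupOf L := by
    apply Subgroup.map_injective L.subtype_injective
    rw [Subgroup.map_commutator, Subgroup.map_subgroupOf_eq_of_le hKL,
      Subgroup.map_subgroupOf_eq_of_le hJL, hcomm]
  have hodd' : closure {g : ↥L | g ∈ K.subgroupOf L ∧ Odd (orderOf g)} = K.subgroupOf L := by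
    apply Subgroup.map_injective L.subtype_injective
    rw [MonoidHom.map_closure, Subgroup.map_subgroupOf_eq_of_le hKL]
    have : (L.subtype '' {g : ↥L | g ∈ K.subgroupOf L ∧ Odd (orderOf g)}) =
        {g : G | g ∈ K ∧ Odd (orderOf g)} := by
      ext g
      constructor
      · rintro ⟨y, ⟨hyK, hyodd⟩, rfl⟩
        refine ⟨mem_subgroupOf.mp hyK, ?_⟩
        rw [Subgroup.coe_subtype, Subgroup.orderOf_coe]; exact hyodd
      · rintro ⟨hgK, hgodd⟩
        refine ⟨⟨g, hKL hgK⟩, ⟨mem_subgroupOf.mpr hgK, ?_⟩, rfl⟩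
        rw [← Subgroup.orderOf_coe]; exact hgodd
    rw [this]; exact hodd
  have hRT : R ≤ T := by
    intro r hr
    have h1 : (⟨r, hRL hr⟩ : ↥L) ∈ Cfsg.pCore 2 ↥L := (hRmem _).mpr hr
    have h2 := Cfsg.Agent.Helper54.pCore_le_sylow T' h1
    exact (hT'mem _).mp h2
  have hZ' : centralizer (VZ 2 ↥L : Set ↥L) ≤ normalizer ((T' : Subgroup ↥L) : Set ↥L) := by
    obtain ⟨S, hTS⟩ := hT2.exists_le_sylow
    have hSL : (S : Subgroup G).subgroupOf L = (T' : Subgroup ↥L) := by
      have hS2 : IsPGroup 2 ((S : Subgroup G).subgroupOf L) := S.isPGroup'.comap_subtype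
      apply T'.is_maximal' hS2
      rw [hT']
      intro y hy
      rw [mem_subgroupOf] at hy ⊢
      exact hTS hy
    intro c hc
    have hcS : (c : G) ∈ centralizer (Cfsg.omegaCenterOf (S : Subgroup G) : Set G) := by
      have hle : Cfsg.omegaCenterOf (S : Subgroup G) ≤ centralizer ({(c : G)} : Set G) := by
        unfold Cfsg.omegaCenterOf Cfsg.omegaOne
        rw [closure_le]
        rintro x ⟨hx, hx2⟩
        obtain ⟨hxS, hxC⟩ := mem_inf.mp hx
        have hxR : x ∈ R := by
          apply hCR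
          rw [mem_centralizer_iff]
          intro r hr
          exact mem_centralizer_iff.mp hxC r (hTS (hRT hr))
        have hxT : x ∈ T := hRT hxR
        have hxL : x ∈ L := hTL hxT
        have hxV : (⟨x, hxL⟩ : ↥L) ∈ VZ 2 ↥L := by
          apply mem_VZ_of T'
          · rw [hT'mem]; exact hxT
          · intro s hs
            apply Subtype.ext
            exact mem_centralizer_iff.mp hxC s (hTS ((hT'mem s).mp hs))
          · apply Subtype.ext
            rw [Subgroup.coe_pow]; exact hx2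
        have h1 := mem_centralizer_iff.mp hc _ hxV
        show x ∈ centralizer ({(c : G)} : Set G)
        rw [mem_centralizer_iff]
        intro z hz
        rw [Set.mem_singleton_iff] at hz
        rw [hz]
        exact (congrArg Subtype.val h1).symm
      rw [mem_centralizer_iff]
      intro v hv
      exact (mem_centralizer_iff.mp (hle hv) (c : G) rfl).symm
    have hcN : (c : G) ∈ normalizer ((S : Subgroup G) : Set G) := hZ S hcS
    rw [← hSL, mem_normalizer_iff]
    intro y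
    rw [mem_subgroupOf, mem_subgroupOf]
    exact mem_normalizer_iff.mp hcN y
  exact subnormal_core hsolv hR' T' hT'J hJ'th hJ'T hcomm' hodd' hZ'

end Cfsg.Agent.Helper50.JComp
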