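import Mathlib
import Cfsg.Agent.Lib.Helper50.JComp3

/-!
# Existence of `J(T)`-components (part B1): general lemmas on `p`-groups acting on `p`-groups
-/

set_option autoImplicit false

namespace Cfsg.Agent.Helper50.JComp

open Subgroup
open scoped commutatorElement

variable {X : Type*} [Group X]

/-- a `p`-group `P` normalizing `p`-groups `Z ≤ Y` (with `Y` normalizing `Z`, `Y ≠ Z`) centralizes
an element of `Y` outside `Z`, modulo `Z`. -/
theorem exists_fixed_mod [Finite X] {p : ℕ} [Fact p.Prime] {P Y Z : Subgroup X}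
    (hP : IsPGroup p P) (hY : IsPGroup p Y) (hYZ : Y ≤ normalizer (Z : Set X))
    (hPZ : P ≤ normalizer (Z : Set X)) (hPY : P ≤ normalizer (Y : Set X)) (hne : ¬ Y ≤ Z) :
    ∃ u ∈ Y, u ∉ Z ∧ ∀ b ∈ P, b * u * b⁻¹ * u⁻¹ ∈ Z := by
  obtain ⟨N, hN⟩ : ∃ N : Subgroup X, N = normalizer (Z : Set X) := ⟨_, rfl⟩
  have hZN : Z ≤ N := hN ▸ le_normalizer
  have hZn : (Z.subgroupOf N).Normal := by rw [hN]; exact normal_in_normalizer
  rw [← hN] at hYZ hPZ
  let π : ↥N →* ↥N ⧸ Z.subgroupOf N := QuotientGroup.mk' _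
  have hπ1 : ∀ g : ↥N, π g = 1 ↔ (g : X) ∈ Z := by
    intro g
    rw [QuotientGroup.mk'_apply, QuotientGroup.eq_one_iff, mem_subgroupOf]
  have hP' : IsPGroup p ((P.subgroupOf N).map π) := (hP.comap_subtype).map π
  have hY' : IsPGroup p ((Y.subgroupOf N).map π) := (hY.comap_subtype).map π
  have hY1 : (Y.subgroupOf N).map π ≠ ⊥ := by
    intro h
    apply hne
    intro u hu
    have h1 : π ⟨u, hYZ hu⟩ ∈ (Y.subgroupOf N).map π := ⟨⟨u, hYZ hu⟩, mem_subgroupOf.mpr hu, rfl⟩
    rw [h, mem_bot, hπ1] at h1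
    exact h1
  have hPY' : (P.subgroupOf N).map π ≤ normalizer (((Y.subgroupOf N).map π : Subgroup _) : Set _) := by
    refine le_trans (Subgroup.map_mono ?_) (Subgroup.le_normalizer_map π)
    apply le_normalizer_of_conj_mem
    intro b hb u hu
    rw [mem_subgroupOf] at hb hu ⊢
    exact conj_mem_of_le_normalizer hPY hb hu
  have hfix := Cfsg.Agent.Helper23.inf_centralizer_ne_bot_of_le_normalizer hP' hY' hY1 hPY'
  obtain ⟨q, hq1⟩ := (Subgroup.ne_bot_iff_exists_ne_one).mp hfix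
  have hq' : (q : ↥N ⧸ Z.subgroupOf N) ∈ (Y.subgroupOf N).map π ⊓
      centralizer (((P.subgroupOf N).map π : Subgroup _) : Set _) := q.2
  obtain ⟨hqY, hqC⟩ := mem_inf.mp hq'
  obtain ⟨u, hu, huq⟩ := hqY
  refine ⟨(u : X), mem_subgroupOf.mp hu, ?_, ?_⟩
  · intro huZ
    apply hq1
    apply Subtype.ext
    rw [← huq]
    exact (hπ1 u).mpr huZ
  · intro b hb
    have hbN : b ∈ N := hPZ hb
    have h1 : π ⟨b, hbN⟩ ∈ (P.subgroupOf N).map π := ⟨⟨b, hbN⟩, mem_subgroupOf.mpr hb, rfl⟩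
    have h2 := mem_centralizer_iff.mp hqC _ h1
    rw [← huq] at h2
    have h3 : π (⟨b, hbN⟩ * u * ⟨b, hbN⟩⁻¹ * u⁻¹) = 1 := by
      rw [map_mul, map_mul, map_mul, map_inv, map_inv, h2]
      group
    exact (hπ1 _).mp h3

/-- an involutory automorphism of an elementary abelian `2`-group has many fixed points -/
theorem card_le_sq_fixed [Finite X] {N : Subgroup X} (hN2 : ∀ u ∈ N, u * u = 1) {a : X}
    (haN : ∀ u ∈ N, a * u * a⁻¹ ∈ N) (ha2 : ∀ u ∈ N, a * (a * u * a⁻¹) * a⁻¹ = u)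
    {F : Subgroup X} (hF : ∀ u ∈ N, a * u * a⁻¹ = u → u ∈ F) :
    Nat.card N ≤ Nat.card F * Nat.card F := by
  have hcomm := comm_of_exp_two hN2
  let τ : ↥N →* ↥N :=
    { toFun := fun u => ⟨u * (a * u * a⁻¹), N.mul_mem u.2 (haN u u.2)⟩
      map_one' := by
        apply Subtype.ext
        simp
      map_mul' := by
        intro u v
        apply Subtype.ext
        show (u : X) * v * (a * ((u : X) * v) * a⁻¹) = (u * (a * u * a⁻¹)) * (v * (a * v * a⁻¹))
        have h1 : a * ((u : X) * v) * a⁻¹ = (a * u * a⁻¹) * (a * v * a⁻¹) := by group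
        rw [h1]
        have h2 := hcomm v v.2 (a * u * a⁻¹) (haN u u.2)
        calc (u : X) * v * ((a * u * a⁻¹) * (a * v * a⁻¹))
            = u * (v * (a * u * a⁻¹)) * (a * v * a⁻¹) := by group
          _ = u * ((a * u * a⁻¹) * v) * (a * v * a⁻¹) := by rw [h2]
          _ = _ := by group }
  have hτ : ∀ u : ↥N, ((τ u : ↥N) : X) = u * (a * u * a⁻¹) := fun _ => rfl
  have h1 : Nat.card ↥N = Nat.card τ.ker * Nat.card τ.range := by
    rw [← Subgroup.index_ker, Subgroup.card_mul_index]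
  have h2 : Nat.card τ.ker ≤ Nat.card F := by
    have hmem : ∀ u : τ.ker, (((u : ↥N) : X)) ∈ F := by
      intro u
      apply hF _ (u : ↥N).2
      have h3 : τ (u : ↥N) = 1 := u.2
      have h4 : ((u : ↥N) : X) * (a * ((u : ↥N) : X) * a⁻¹) = 1 := by
        rw [← hτ, h3]; rfl
      have h5 := hN2 _ (u : ↥N).2
      calc a * ((u : ↥N) : X) * a⁻¹
          = (((u : ↥N) : X) * ((u : ↥N) : X)) * (a * ((u : ↥N) : X) * a⁻¹) := by rw [h5, one_mul]
        _ = ((u : ↥N) : X) * (((u : ↥N) : X) * (a * ((u : ↥N) : X) * a⁻¹)) := by group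
        _ = ((u : ↥N) : X) := by rw [h4, mul_one]
    apply Nat.card_le_card_of_injective (fun u : τ.ker => (⟨((u : ↥N) : X), hmem u⟩ : ↥F))
    intro u v huv
    have := congrArg Subtype.val huv
    exact Subtype.ext (Subtype.ext this)
  have h3 : Nat.card τ.range ≤ Nat.card F := by
    have hmem : ∀ w : τ.range, (((w : ↥N) : X)) ∈ F := by
      rintro ⟨w, u, rfl⟩
      apply hF _ (τ u).2
      rw [hτ]
      have h4 : a * ((u : X) * (a * u * a⁻¹)) * a⁻¹ = (a * u * a⁻¹) * (a * (a * u * a⁻¹) * a⁻¹) := by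
        group
      rw [h4, ha2 u u.2]
      exact hcomm _ (haN u u.2) _ u.2
    apply Nat.card_le_card_of_injective (fun w : τ.range => (⟨((w : ↥N) : X), hmem w⟩ : ↥F))
    intro u v huv
    have := congrArg Subtype.val huv
    exact Subtype.ext (Subtype.ext this)
  rw [h1]
  exact Nat.mul_le_mul h2 h3

/-- a subgroup covering `A` with one translate has index at most two -/
theorem card_le_two_mul [Finite X] {A H : Subgroup X} {a : X}
    (h : ∀ b ∈ A, b ∈ H ∨ a * b ∈ H) : Nat.card A ≤ 2 * Nat.card H := by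
  classical
  let f : ↥A → Bool × ↥H := fun b =>
    if hb : (b : X) ∈ H then (false, ⟨b, hb⟩)
    else (true, ⟨a * b, (h b b.2).resolve_left hb⟩)
  have hf : Function.Injective f := by
    intro b c hbc
    by_cases hb : (b : X) ∈ H
    · by_cases hc : (c : X) ∈ H
      · simp only [f, dif_pos hb, dif_pos hc] at hbc
        have := congrArg (fun z => ((z.2 : ↥H) : X)) hbc
        exact Subtype.ext this
      · simp only [f, dif_pos hb, dif_neg hc] at hbc
        have := congrArg Prod.fst hbc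
        simp at this
    · by_cases hc : (c : X) ∈ H
      · simp only [f, dif_neg hb, dif_pos hc] at hbc
        have := congrArg Prod.fst hbc
        simp at this
      · simp only [f, dif_neg hb, dif_neg hc] at hbc
        have := congrArg (fun z => ((z.2 : ↥H) : X)) hbc
        exact Subtype.ext (mul_left_cancel this)
  have := Nat.card_le_card_of_injective f hf
  rwa [Nat.card_prod, Nat.card_eq_fintype_card (α := Bool), Fintype.card_bool] at this

theorem card_three_cases {N : Subgroup X} (hN : Nat.card N = 3) {q x : X} (hq : q ∈ N)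
    (hq1 : q ≠ 1) (hx : x ∈ N) : x = 1 ∨ x = q ∨ x = q⁻¹ := by
  have : Fact (Nat.Prime 3) := ⟨Nat.prime_three⟩
  have hq1' : (⟨q, hq⟩ : ↥N) ≠ 1 := fun h => hq1 (congrArg Subtype.val h)
  have h1 : (⟨x, hx⟩ : ↥N) ∈ zpowers (⟨q, hq⟩ : ↥N) := mem_zpowers_of_prime_card hN hq1'
  obtain ⟨n, hn⟩ := Subgroup.mem_zpowers_iff.mp h1
  have hn' : q ^ n = x := by
    have := congrArg Subtype.val hn
    simpa using this
  have hq3 : q ^ (3 : ℤ) = 1 := by
    have h2 := pow_card_eq_one' (G := ↥N) (x := ⟨q, hq⟩)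
    rw [hN] at h2
    have := congrArg Subtype.val h2
    have h3 : q ^ 3 = 1 := by simpa using this
    rw [← h3]; exact zpow_natCast q 3
  have hn2 : q ^ n = q ^ (n % 3) := by
    conv_lhs => rw [← Int.emod_add_mul_ediv n 3]
    rw [zpow_add, zpow_mul, hq3, one_zpow, mul_one]
  have h0 : 0 ≤ n % 3 := Int.emod_nonneg n (by norm_num)
  have h3 : n % 3 < 3 := Int.emod_lt_of_pos n (by norm_num)
  rw [← hn', hn2]
  have hcases : n % 3 = 0 ∨ n % 3 = 1 ∨ n % 3 = 2 := by omega
  rcases hcases with h | h | h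
  · left; rw [h, zpow_zero]
  · right; left; rw [h, zpow_one]
  · right; right; rw [h]
    have h4 : q ^ (2 : ℤ) * q = 1 := by
      have : q ^ (2 : ℤ) * q = q ^ (3 : ℤ) := by
        rw [show (3 : ℤ) = 2 + 1 from rfl, zpow_add, zpow_one]
      rw [this, hq3]
    exact eq_inv_of_mul_eq_one_left h4

end Cfsg.Agent.Helper50.JComp
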