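import Mathlib
import Cfsg.Agent.Lib.Helper50.JCompB1
import Cfsg.Agent.Lib.Helper1.Coprime
import Cfsg.Agent.Lib.Helper1.ZCoprime

/-!
# Existence of `J(T)`-components (part B2): a `2`-group acting on a group of odd order
-/

set_option autoImplicit false

namespace Cfsg.Agent.Helper50.JComp

open Subgroup
open scoped commutatorElement

variable {X : Type*} [Group X]

/-- Let the `2`-group `J` act on the group `D = C ⟨d⟩` of odd order, centralizing the normal subgroup `C`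
of index three, with some `a ∈ J` inverting `D / C`.  Then `[D, J]` has order three and avoids `C`. -/
theorem commutator_odd_three [Finite X] {D C J : Subgroup X} (hCn : C.Normal) {d a : X}
    (hD : D = C ⊔ zpowers d) (hd3 : d ^ 3 ∈ C) (hdC : d ∉ C)
    (hJ2 : IsPGroup 2 J) (hDodd : Odd (Nat.card D)) (hJD : J ≤ normalizer (D : Set X))
    (hJC : ∀ j ∈ J, ∀ c ∈ C, j * c = c * j) (ha : a ∈ J) (had : a * d * a⁻¹ * d ∈ C) :
    ⁅D, J⁆ ⊓ C = ⊥ ∧ ∃ y ∈ ⁅D, J⁆, y ∉ C ∧ y ^ 3 = 1 ∧ ⁅D, J⁆ = zpowers y ∧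
      a * y * a⁻¹ * y = 1 := by
  have : Fact (Nat.Prime 2) := ⟨Nat.prime_two⟩
  have : Fact (Nat.Prime 3) := ⟨Nat.prime_three⟩
  have hCD : C ≤ D := hD ▸ le_sup_left
  have hdD : d ∈ D := hD ▸ mem_sup_right (mem_zpowers d)
  obtain ⟨Y, hYdef⟩ : ∃ Y : Subgroup X, Y = ⁅D, J⁆ := ⟨_, rfl⟩
  rw [← hYdef]
  have hcop : (Nat.card J).Coprime (Nat.card D) := by
    obtain ⟨n, hn⟩ := IsPGroup.iff_card.mp hJ2
    rw [hn]; exact Nat.Coprime.pow_left n (Nat.coprime_two_left.mpr hDodd)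
  have hJsolv : Group.IsSolvable ↥J := by
    have := hJ2.isNilpotent
    infer_instance
  have hYY : ⁅Y, J⁆ = Y := by
    rw [hYdef]
    exact Cfsg.Agent.Helper1.commutator_commutator_eq J D hJD hcop (Or.inl hJsolv)
  have hYD : Y ≤ D := hYdef ▸ Cfsg.Agent.Helper1.commutator_le_of_le_normalizer hJD
  have hJY : J ≤ normalizer (Y : Set X) :=
    hYdef ▸ Cfsg.Agent.Helper1.le_normalizer_commutator_right hJD
  -- the quotient by `C`
  let π : X →* X ⧸ C := QuotientGroup.mk' C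
  have hπ1 : ∀ g : X, π g = 1 ↔ g ∈ C := fun g => by
    rw [QuotientGroup.mk'_apply, QuotientGroup.eq_one_iff]
  have he1 : π d ≠ 1 := fun h => hdC ((hπ1 d).mp h)
  have he3 : (π d) ^ 3 = 1 := by rw [← map_pow]; exact (hπ1 _).mpr hd3
  have hea : π a * π d * (π a)⁻¹ * π d = 1 := by
    rw [← map_inv, ← map_mul, ← map_mul, ← map_mul]; exact (hπ1 _).mpr had
  have hord : orderOf (π d) = 3 := orderOf_eq_prime he3 he1
  -- the element `[d, a]`
  have hy₁Y : ⁅d, a⁆ ∈ Y := hYdef ▸ commutator_mem_commutator hdD ha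
  have hπy : π ⁅d, a⁆ = π d * π d := by
    rw [commutatorElement_def, map_mul, map_mul, map_mul, map_inv, map_inv]
    have h1 : π a * (π d)⁻¹ * (π a)⁻¹ = π d := by
      have h2 : π a * π d * (π a)⁻¹ = (π d)⁻¹ := by
        rw [eq_inv_iff_mul_eq_one]; exact hea
      calc π a * (π d)⁻¹ * (π a)⁻¹ = (π a * π d * (π a)⁻¹)⁻¹ := by group
        _ = π d := by rw [h2, inv_inv]
    calc π d * π a * (π d)⁻¹ * (π a)⁻¹ = π d * (π a * (π d)⁻¹ * (π a)⁻¹) := by group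
      _ = π d * π d := by rw [h1]
  have hy₁C : ⁅d, a⁆ ∉ C := by
    intro h
    have h1 := (hπ1 _).mpr h
    rw [hπy] at h1
    apply he1
    calc π d = (π d) ^ 3 * (π d * π d)⁻¹ := by group
      _ = 1 := by rw [he3, h1]; group
  -- `Y ∩ C` is central in `Y`
  have h1 : ⁅Y ⊓ C, J⁆ = ⊥ := by
    rw [commutator_eq_bot_iff_le_centralizer, le_centralizer_iff_comm]
    intro c hc j hj
    exact (hJC j hj c (mem_inf.mp hc).2).symm
  have h2 : ⁅Y, Y ⊓ C⁆ ≤ Y ⊓ C := by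
    rw [commutator_le]
    intro y hy c hc
    rw [commutatorElement_def]
    refine mem_inf.mpr ⟨?_, ?_⟩
    · exact Y.mul_mem (Y.mul_mem (Y.mul_mem hy (mem_inf.mp hc).1) (Y.inv_mem hy))
        (Y.inv_mem (mem_inf.mp hc).1)
    · exact C.mul_mem (hCn.conj_mem c (mem_inf.mp hc).2 y) (C.inv_mem (mem_inf.mp hc).2)
  have h3 : ⁅⁅J, Y⁆, Y ⊓ C⁆ = ⊥ := by
    apply commutator_commutator_eq_bot_of_rotate
    · rw [eq_bot_iff, ← h1]
      exact commutator_mono h2 le_rfl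
    · rw [h1, eq_bot_iff]
      exact commutator_le_left ⊥ Y |>.trans (le_of_eq rfl) |>.trans (by simp)
  have h4 : ⁅Y, Y ⊓ C⁆ = ⊥ := by
    rw [commutator_comm J Y, hYY] at h3; exact h3
  have h5 : Y ⊓ C ≤ centralizer (Y : Set X) := by
    rw [← commutator_eq_bot_iff_le_centralizer, commutator_comm]; exact h4
  -- the map `Y → ⟨π d⟩`
  have hπY : ∀ y ∈ Y, π y ∈ zpowers (π d) := by
    intro y hy
    have h6 : y ∈ C ⊔ zpowers d := hD ▸ hYD hy
    have h7 : π y ∈ (C ⊔ zpowers d).map π := ⟨y, h6, rfl⟩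
    rw [Subgroup.map_sup, MonoidHom.map_zpowers] at h7
    have h8 : C.map π = ⊥ := by
      rw [eq_bot_iff]; rintro _ ⟨c, hc, rfl⟩; rw [mem_bot]; exact (hπ1 c).mpr hc
    rwa [h8, bot_sup_eq] at h7
  let f : ↥Y →* ↥(zpowers (π d)) := (π.comp Y.subtype).codRestrict _ (fun y => hπY y y.2)
  have hf : ∀ y : ↥Y, ((f y : ↥(zpowers (π d))) : X ⧸ C) = π (y : X) := fun _ => rfl
  have hfker : f.ker ≤ center ↥Y := by
    intro y hy
    rw [MonoidHom.mem_ker] at hy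
    have h6 : π (y : X) = 1 := by rw [← hf, hy]; rfl
    have h7 : (y : X) ∈ Y ⊓ C := mem_inf.mpr ⟨y.2, (hπ1 _).mp h6⟩
    rw [mem_center_iff]
    intro z
    apply Subtype.ext
    exact mem_centralizer_iff.mp (h5 h7) z z.2
  have hYcomm : IsMulCommutative ↥Y :=
    MonoidHom.isMulCommutative_of_isCyclic_of_ker_le_center f hfker
  have hcop' : (Nat.card J).Coprime (Nat.card Y) :=
    Nat.Coprime.coprime_dvd_right (Subgroup.card_dvd_of_le hYD) hcop
  have h6 := Cfsg.Agent.Helper1.ZCoprime.commutator_inf_centralizer_eq_bot J Y hJY hcop'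
  rw [hYY] at h6
  have hYC : Y ⊓ C = ⊥ := by
    rw [eq_bot_iff, ← h6]
    apply le_inf inf_le_left
    intro c hc
    rw [mem_centralizer_iff]
    intro j hj
    exact hJC j hj c (mem_inf.mp hc).2
  have hfinj : Function.Injective f := by
    rw [← MonoidHom.ker_eq_bot_iff, eq_bot_iff]
    intro y hy
    rw [MonoidHom.mem_ker] at hy
    have h7 : π (y : X) = 1 := by rw [← hf, hy]; rfl
    have h8 : (y : X) ∈ Y ⊓ C := mem_inf.mpr ⟨y.2, (hπ1 _).mp h7⟩
    rw [hYC, mem_bot] at h8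
    rw [mem_bot]; exact Subtype.ext h8
  have hcard : Nat.card Y ∣ 3 := by
    have := Subgroup.card_dvd_of_injective f hfinj
    rwa [Nat.card_zpowers, hord] at this
  have hy1 : ⁅d, a⁆ ≠ 1 := fun h => hy₁C (h ▸ C.one_mem)
  have hcard3 : Nat.card Y = 3 := by
    rcases (Nat.dvd_prime Nat.prime_three).mp hcard with h | h
    · exfalso
      have h9 : Y = ⊥ := Subgroup.card_eq_one.mp h
      rw [h9, mem_bot] at hy₁Y; exact hy1 hy₁Y
    · exact h
  have hy3 : ⁅d, a⁆ ^ 3 = 1 := by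
    have h9 := pow_card_eq_one' (G := ↥Y) (x := ⟨⁅d, a⁆, hy₁Y⟩)
    rw [hcard3] at h9
    have := congrArg Subtype.val h9
    simpa using this
  have hinv : a * ⁅d, a⁆ * a⁻¹ * ⁅d, a⁆ = 1 := by
    have h9 : a * ⁅d, a⁆ * a⁻¹ * ⁅d, a⁆ ∈ Y ⊓ C := by
      refine mem_inf.mpr ⟨Y.mul_mem (conj_mem_of_le_normalizer hJY ha hy₁Y) hy₁Y, ?_⟩
      rw [← hπ1, map_mul, map_mul, map_mul, map_inv, hπy]
      have h2 : π a * π d * (π a)⁻¹ = (π d)⁻¹ := by
        rw [eq_inv_iff_mul_eq_one]; exact hea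
      calc π a * (π d * π d) * (π a)⁻¹ * (π d * π d)
          = (π a * π d * (π a)⁻¹) * (π a * π d * (π a)⁻¹) * (π d * π d) := by group
        _ = 1 := by rw [h2]; group
    rw [hYC, mem_bot] at h9
    exact h9
  refine ⟨hYC, ⁅d, a⁆, hy₁Y, hy₁C, hy3, ?_, hinv⟩
  symm
  apply Subgroup.eq_of_le_of_card_ge (zpowers_le.mpr hy₁Y)
  rw [hcard3, Nat.card_zpowers, orderOf_eq_prime hy3 hy1]

end Cfsg.Agent.Helper50.JComp
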