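import Mathlib
import Cfsg.Agent.Lib.Helper50.JComp9
import Cfsg.Agent.Lib.Helper50.JCompB2
import Cfsg.Agent.Lib.Helper10.JCompUniq

/-!
# Existence of `J(T)`-components (part B4): the element of order three

In a solvable group `Λ` of characteristic `2` in which `C_Λ(V)` normalizes the Sylow `2`-subgroup `T`,
every `a ∈ J ≤ J(Λ) ∩ T` acting nontrivially on `V` inverts modulo `O₂(Λ)` an element `y` of order three
with `O₂(Λ)⟨y⟩` normalized by `J`.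
-/

set_option autoImplicit false

namespace Cfsg.Agent.Helper50.JComp

open Subgroup
open scoped commutatorElement
open Cfsg.Agent.Helper1.FF
open Cfsg.Agent.Helper10.JCompSub (Setup)

section gamma

variable {Γ : Type*} [Group Γ]

/-- a nontrivial `2`-element of `H` inverts some normal subgroup of order three -/
theorem exists_inverted_N3 [Finite Γ] (H : Subgroup Γ)
    (hodd : ∀ y ∈ H, Odd (orderOf y) → y ∈ Fbar H)
    (hS1 : centralizer (Cfsg.pPrimeCore 2 ↥H : Set ↥H) ≤ Cfsg.pPrimeCore 2 ↥H) {a : Γ}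
    (haH : a ∈ H) {k : ℕ} (ha2 : a ^ (2 ^ k) = 1) (ha1 : a ≠ 1) :
    ∃ N ∈ N3 H, ∃ q ∈ N, q ≠ 1 ∧ a * q * a⁻¹ * q = 1 := by
  by_contra hcon
  push Not at hcon
  have h1 : ∀ N ∈ N3 H, ∀ q ∈ N, a * q * a⁻¹ = q := by
    intro N hN q hq
    by_cases hq1 : q = 1
    · rw [hq1]; group
    · have h2 : a * q * a⁻¹ ∈ N := conj_mem_of_le_normalizer hN.2.1 haH hq
      rcases card_three_cases hN.2.2 hq hq1 h2 with h | h | h
      · exfalso; apply hq1
        calc q = a⁻¹ * (a * q * a⁻¹) * a := by group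
          _ = 1 := by rw [h]; group
      · exact h
      · exfalso
        apply hcon N hN q hq hq1
        rw [h]; group
  have h2 : Fbar H ≤ centralizer ({a} : Set Γ) := by
    apply sSup_le
    intro N hN q hq
    rw [mem_centralizer_iff]
    intro x hx
    rw [Set.mem_singleton_iff] at hx
    rw [hx]
    have := h1 N hN q hq
    calc a * q = (a * q * a⁻¹) * a := by group
      _ = q * a := by rw [this]
  have hcop := Cfsg.Agent.Helper54.pPrimeCore_coprime (G := ↥H) 2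
  have h3 : (⟨a, haH⟩ : ↥H) ∈ centralizer (Cfsg.pPrimeCore 2 ↥H : Set ↥H) := by
    rw [mem_centralizer_iff]
    intro z hz
    have hzodd : Odd (orderOf z) := by
      have hd1 : orderOf (⟨z, hz⟩ : ↥(Cfsg.pPrimeCore 2 ↥H)) ∣ Nat.card ↥(Cfsg.pPrimeCore 2 ↥H) :=
        orderOf_dvd_natCard _
      have hd2 : orderOf (⟨z, hz⟩ : ↥(Cfsg.pPrimeCore 2 ↥H)) = orderOf z :=
        Subgroup.orderOf_mk z hz
      rw [hd2] at hd1
      exact Nat.coprime_two_right.mp (Nat.Coprime.coprime_dvd_left hd1 hcop)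
    have hz' : (z : Γ) ∈ Fbar H := by
      apply hodd _ z.2
      rwa [Subgroup.orderOf_coe]
    have h4 := mem_centralizer_iff.mp (h2 hz') a rfl
    apply Subtype.ext
    show (z : Γ) * a = a * (z : Γ)
    exact h4.symm
  have h4 := hS1 h3
  have hodd' : Odd (orderOf (⟨a, haH⟩ : ↥H)) := by
    have hd1 : orderOf (⟨(⟨a, haH⟩ : ↥H), h4⟩ : ↥(Cfsg.pPrimeCore 2 ↥H)) ∣
        Nat.card ↥(Cfsg.pPrimeCore 2 ↥H) := orderOf_dvd_natCard _
    rw [Subgroup.orderOf_mk] at hd1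
    exact Nat.coprime_two_right.mp (Nat.Coprime.coprime_dvd_left hd1 hcop)
  rw [Subgroup.orderOf_mk] at hodd'
  have hd : orderOf a ∣ 2 ^ k := orderOf_dvd_of_pow_eq_one ha2
  have h5 : orderOf a = 1 := by
    obtain ⟨m, -, hm⟩ := (Nat.dvd_prime_pow Nat.prime_two).mp hd
    rw [hm] at hodd' ⊢
    rcases Nat.eq_zero_or_pos m with h0 | h0
    · rw [h0, pow_zero]
    · exfalso
      have : Even (2 ^ m) := (Nat.even_pow.mpr ⟨even_two, h0.ne'⟩)
      exact (Nat.not_even_iff_odd.mpr hodd') this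
  exact ha1 (orderOf_eq_one_iff.mp h5)

end gamma

section lam

variable {Λ : Type*} [Group Λ] [Finite Λ]

theorem four_pow_mod (n : ℕ) : (2 ^ n * 2 ^ n) % 3 = 1 := by
  rw [← Nat.mul_pow, Nat.pow_mod]
  norm_num

/-- elements of odd order of `HB` lie in the abelian group `Fbar` -/
theorem odd_mem_Fbar_HB [(VZ 2 Λ).Normal] {T : Sylow 2 Λ} (h : Setup T) :
    ∀ y ∈ HB 2 (VZ 2 Λ), Odd (orderOf y) → y ∈ Fbar (HB 2 (VZ 2 Λ)) := by
  have : Fact (Nat.Prime 2) := ⟨Nat.prime_two⟩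
  have hsep : Cfsg.IsPSolvable 2 Λ := h.psolv
  have hO : Cfsg.pPrimeCore 2 Λ = ⊥ := h.pprime
  have hVea : EA 2 (VZ 2 Λ) := ea_VZ hsep hO
  have hOq : Cfsg.pCore 2 (Λ ⧸ centralizer (VZ 2 Λ : Set Λ)) = ⊥ := pCore_quot_VZ
  by_cases hH1 : HB 2 (VZ 2 Λ) = ⊥
  · intro y hy _
    rw [hH1, mem_bot] at hy
    rw [hy]; exact Subgroup.one_mem _
  · have hS := Cfsg.Agent.S0617.result (VV (VZ 2 Λ)) (HB 2 (VZ 2 Λ))
      (isElementaryAbelian_of_ea (ea_VV _ hVea))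
      ((HB_le_range _).trans (range_le_normalizer_VV _))
      (by
        rw [eq_bot_iff]
        have h1 := map_Th_inf_centralizer (VZ 2 Λ) ⊤
        rw [← MonoidHom.range_eq_map] at h1
        rw [← h1]
        exact inf_le_inf_right _ (HB_le_range _))
      (HB_hS1 _ hsep hOq) (HB_hS3 _) hH1
    obtain ⟨-, hE, -, hsup, -, -⟩ := hS
    exact odd_mem_Fbar_of_iSup _ hsup (fun E => (hE E).1) (fun E => (hE E).2.1)

/-- the element of order three attached to a normal subgroup of order three of `HB` inverted by `a` -/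
theorem exists_comp_data_of_N3 [(VZ 2 Λ).Normal] {T : Sylow 2 Λ} (h : Setup T) {J : Subgroup Λ}
    (hJT : J ≤ (T : Subgroup Λ)) (hJth : J ≤ Cfsg.thompsonSubgroup 2 Λ) {a : Λ} (ha : a ∈ J)
    {N : Subgroup (GamV (VZ 2 Λ))} (hN : N ∈ N3 (HB 2 (VZ 2 Λ))) {q : GamV (VZ 2 Λ)} (hqN : q ∈ N)
    (hq1 : q ≠ 1) (hinv : Th (VZ 2 Λ) a * q * (Th (VZ 2 Λ) a)⁻¹ * q = 1) :
    ∃ y : Λ, y ^ 3 = 1 ∧ y ∉ centralizer (VZ 2 Λ : Set Λ) ∧
      a * y * a⁻¹ * y ∈ Cfsg.pCore 2 Λ ∧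
      J ≤ normalizer ((Cfsg.pCore 2 Λ ⊔ zpowers y : Subgroup Λ) : Set Λ) ∧
      N.comap (Th (VZ 2 Λ)) = centralizer (VZ 2 Λ : Set Λ) ⊔ zpowers y := by
  have : Fact (Nat.Prime 2) := ⟨Nat.prime_two⟩
  have : Fact (Nat.Prime 3) := ⟨Nat.prime_three⟩
  have hsep : Cfsg.IsPSolvable 2 Λ := h.psolv
  have hO : Cfsg.pPrimeCore 2 Λ = ⊥ := h.pprime
  have hVea : EA 2 (VZ 2 Λ) := ea_VZ hsep hO
  have hOq : Cfsg.pCore 2 (Λ ⧸ centralizer (VZ 2 Λ : Set Λ)) = ⊥ := pCore_quot_VZ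
  have hVZ := VZ_le_omegaZp hsep hO
  obtain ⟨R, hRdef⟩ : ∃ R : Subgroup Λ, R = Cfsg.pCore 2 Λ := ⟨_, rfl⟩
  rw [← hRdef] at hVZ
  have hRn : R.Normal := hRdef ▸ h.Qn
  have hR2 : IsPGroup 2 R := hRdef ▸ h.Q2
  obtain ⟨C, hCdef⟩ : ∃ C : Subgroup Λ, C = centralizer (VZ 2 Λ : Set Λ) := ⟨_, rfl⟩
  have hCn : C.Normal := hCdef ▸ h.Cn
  have hRC : R ≤ C := by
    rw [hCdef]
    intro r hr
    rw [mem_centralizer_iff]
    intro v hv
    exact (hVZ hv).2.1 r hr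
  have hCT : ∀ c ∈ C, ∀ t ∈ (T : Subgroup Λ), c * t * c⁻¹ * t⁻¹ ∈ R := by
    intro c hc t ht
    rw [hRdef]; rw [hCdef] at hc
    exact h.comm_C_T hc ht
  have hCTR : ∀ x ∈ C, ∀ k : ℕ, x ^ (2 ^ k) = 1 → x ∈ R := by
    intro x hx k hk
    rw [hCdef] at hx
    rw [hRdef]
    exact h.C_inf_T_le_Q (mem_inf.mpr ⟨hx, h.mem_T_of_two hx hk⟩)
  -- the faithful action
  obtain ⟨θ, hθdef⟩ : ∃ θ : Λ →* GamV (VZ 2 Λ), θ = Th (VZ 2 Λ) := ⟨_, rfl⟩
  have hker : θ.ker = C := by rw [hθdef, hCdef]; exact ker_Th _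
  have hθ1 : ∀ g : Λ, θ g = 1 ↔ g ∈ C := fun g => by rw [← hker, MonoidHom.mem_ker]
  have hHr : HB 2 (VZ 2 Λ) ≤ θ.range := by rw [hθdef]; exact HB_le_range _
  have hJH : J.map θ ≤ HB 2 (VZ 2 Λ) := by
    rw [hθdef]
    exact (Subgroup.map_mono hJth).trans (map_thompson_le_HB _ hVea)
  rw [← hθdef] at hinv
  suffices hmain : ∃ y : Λ, y ^ 3 = 1 ∧ y ∉ C ∧ a * y * a⁻¹ * y ∈ R ∧
      J ≤ normalizer ((R ⊔ zpowers y : Subgroup Λ) : Set Λ) ∧ N.comap θ = C ⊔ zpowers y by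
    rw [hRdef, hCdef, hθdef] at hmain
    exact hmain
  obtain ⟨d, hd⟩ : ∃ d : Λ, θ d = q := hHr (hN.1 hqN)
  have hq3 : q ^ 3 = 1 := by
    have h2 := pow_card_eq_one' (G := ↥N) (x := ⟨q, hqN⟩)
    rw [hN.2.2] at h2
    have := congrArg Subtype.val h2
    simpa using this
  -- the preimage `D` of `N`
  obtain ⟨D, hDdef⟩ : ∃ D : Subgroup Λ, D = N.comap θ := ⟨_, rfl⟩
  have hmemD : ∀ x : Λ, x ∈ D ↔ θ x ∈ N := fun x => by rw [hDdef, mem_comap]
  have hCD : C ≤ D := by rw [hDdef, ← hker]; exact θ.ker_le_comap _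
  have hdD : d ∈ D := by rw [hmemD, hd]; exact hqN
  have hDeq : D = C ⊔ zpowers d := by
    apply le_antisymm
    · intro x hx
      rw [hmemD] at hx
      rcases card_three_cases hN.2.2 hqN hq1 hx with h1 | h1 | h1
      · exact mem_sup_left ((hθ1 x).mp h1)
      · have h2 : x * d⁻¹ ∈ C := by
          rw [← hθ1, map_mul, map_inv, h1, hd]; group
        have h3 : x = (x * d⁻¹) * d := by group
        rw [h3]
        exact (C ⊔ zpowers d).mul_mem (mem_sup_left h2) (mem_sup_right (mem_zpowers d))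
      · have h2 : x * d ∈ C := by
          rw [← hθ1, map_mul, h1, hd]; group
        have h3 : x = (x * d) * d⁻¹ := by group
        rw [h3]
        exact (C ⊔ zpowers d).mul_mem (mem_sup_left h2)
          ((C ⊔ zpowers d).inv_mem (mem_sup_right (mem_zpowers d)))
    · exact sup_le hCD (zpowers_le.mpr hdD)
  have hd3 : d ^ 3 ∈ C := by rw [← hθ1, map_pow, hd, hq3]
  have hdC : d ∉ C := fun h1 => hq1 (by rw [← hd]; exact (hθ1 d).mpr h1)
  have hJD : J ≤ normalizer (D : Set Λ) := by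
    apply le_normalizer_of_conj_mem
    intro j hj x hx
    rw [hmemD] at hx ⊢
    rw [map_mul, map_mul, map_inv]
    exact conj_mem_of_le_normalizer hN.2.1 (hJH ⟨j, hj, rfl⟩) hx
  have had : a * d * a⁻¹ * d ∈ C := by
    rw [← hθ1, map_mul, map_mul, map_mul, map_inv, hd]; exact hinv
  -- the quotient by `R`
  let π : Λ →* Λ ⧸ R := QuotientGroup.mk' R
  have hπ1 : ∀ g : Λ, π g = 1 ↔ g ∈ R := fun g => by
    rw [QuotientGroup.mk'_apply, QuotientGroup.eq_one_iff]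
  have hπs : Function.Surjective π := QuotientGroup.mk'_surjective R
  have hπC : ∀ g : Λ, π g ∈ C.map π → g ∈ C := by
    rintro g ⟨c, hc, hcg⟩
    have h1 : c⁻¹ * g ∈ R := by rw [← hπ1, map_mul, map_inv, hcg]; group
    have h2 : g = c * (c⁻¹ * g) := by group
    rw [h2]; exact C.mul_mem hc (hRC h1)
  obtain ⟨n, hn⟩ := IsPGroup.iff_card.mp hR2
  have hRpow : ∀ r ∈ R, r ^ (2 ^ n) = 1 := by
    intro r hr
    have h2 := pow_card_eq_one' (G := ↥R) (x := ⟨r, hr⟩)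
    rw [hn] at h2
    have := congrArg Subtype.val h2
    simpa using this
  have hDodd : Odd (Nat.card ↥(D.map π)) := by
    by_contra hev
    rw [Nat.not_odd_iff_even] at hev
    obtain ⟨x, hx⟩ := exists_prime_orderOf_dvd_card' (G := ↥(D.map π)) 2 hev.two_dvd
    obtain ⟨x₀, hx₀D, hx₀⟩ := x.2
    have hx2 : (π x₀) ^ 2 = 1 := by
      rw [hx₀]
      have := pow_orderOf_eq_one x
      rw [hx] at this
      have := congrArg Subtype.val this
      simpa using this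
    have h1 : x₀ ^ 2 ∈ R := by rw [← hπ1, map_pow]; exact hx2
    have h2 : x₀ ^ (2 ^ (n + 1)) = 1 := by
      rw [pow_succ', pow_mul]; exact hRpow _ h1
    have h3 : θ x₀ = 1 := by
      have h4 : (θ x₀) ^ 3 = 1 := by
        have hx' : θ x₀ ∈ N := (hmemD x₀).mp hx₀D
        have h2 := pow_card_eq_one' (G := ↥N) (x := ⟨θ x₀, hx'⟩)
        rw [hN.2.2] at h2
        have := congrArg Subtype.val h2
        simpa using this
      have h5 : (θ x₀) ^ (2 ^ (n + 1)) = 1 := by rw [← map_pow, h2, map_one]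
      have hcop : Nat.Coprime (2 ^ (n + 1)) 3 := by
        apply Nat.Coprime.pow_left
        decide
      have h6 := orderOf_dvd_of_pow_eq_one h4
      have h7 := orderOf_dvd_of_pow_eq_one h5
      have := Nat.dvd_gcd h7 h6
      rw [hcop] at this
      exact orderOf_eq_one_iff.mp (Nat.dvd_one.mp this)
    have h4 : x₀ ∈ R := hCTR x₀ ((hθ1 x₀).mp h3) _ h2
    have h5 : x = 1 := by
      apply Subtype.ext
      rw [← hx₀]
      exact (hπ1 x₀).mpr h4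
    rw [h5, orderOf_one] at hx
    omega
  have hJD' : J.map π ≤ normalizer ((D.map π : Subgroup (Λ ⧸ R)) : Set (Λ ⧸ R)) := by
    apply le_normalizer_of_conj_mem
    rintro _ ⟨j, hj, rfl⟩ _ ⟨x, hx, rfl⟩
    exact ⟨j * x * j⁻¹, conj_mem_of_le_normalizer hJD hj hx, by
      rw [map_mul, map_mul, map_inv]⟩
  have hJC' : ∀ j ∈ J.map π, ∀ c ∈ C.map π, j * c = c * j := by
    rintro _ ⟨j, hj, rfl⟩ _ ⟨c, hc, rfl⟩
    have h1 := (hπ1 _).mpr (hCT c hc j (hJT hj))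
    rw [map_mul, map_mul, map_mul, map_inv, map_inv] at h1
    calc π j * π c = (π c * π j * (π c)⁻¹ * (π j)⁻¹)⁻¹ * (π c * π j) := by group
      _ = π c * π j := by rw [h1]; group
  obtain ⟨hYC, y', hy'Y, hy'C, hy'3, hYeq, hy'inv⟩ :=
    commutator_odd_three (X := Λ ⧸ R) (D := D.map π) (C := C.map π) (J := J.map π)
      (d := π d) (a := π a) (hCn.map π hπs)
      (by rw [hDeq, Subgroup.map_sup, MonoidHom.map_zpowers])
      ⟨d ^ 3, hd3, map_pow π d 3⟩ (fun h1 => hdC (hπC d h1))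
      ((T.2.to_le hJT).map π) hDodd hJD' hJC' ⟨a, ha, rfl⟩
      ⟨a * d * a⁻¹ * d, had, by rw [map_mul, map_mul, map_mul, map_inv]⟩
  obtain ⟨y₀, hy₀⟩ := hπs y'
  have hy₀3 : y₀ ^ 3 ∈ R := by rw [← hπ1, map_pow, hy₀]; exact hy'3
  have hπy : π (y₀ ^ (2 ^ n * 2 ^ n)) = y' := by
    rw [map_pow, hy₀, pow_eq_pow_mod _ hy'3, four_pow_mod, pow_one]
  have hyC : y₀ ^ (2 ^ n * 2 ^ n) ∉ C := by
    intro h1
    apply hy'C
    rw [← hπy]
    exact ⟨_, h1, rfl⟩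
  refine ⟨y₀ ^ (2 ^ n * 2 ^ n), ?_, hyC, ?_, ?_, ?_⟩
  · rw [← pow_mul, mul_comm, pow_mul, pow_mul]
    rw [hRpow _ hy₀3, one_pow]
  · rw [← hπ1, map_mul, map_mul, map_mul, map_inv, hπy]
    exact hy'inv
  · have hKeq : R ⊔ zpowers (y₀ ^ (2 ^ n * 2 ^ n)) = (zpowers y').comap π := by
      apply le_antisymm
      · apply sup_le
        · intro r hr
          rw [mem_comap, (hπ1 r).mpr hr]
          exact one_mem _
        · rw [zpowers_le, mem_comap, hπy]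
          exact mem_zpowers y'
      · intro x hx
        rw [mem_comap] at hx
        obtain ⟨m, hm⟩ := Subgroup.mem_zpowers_iff.mp hx
        have h1 : x * ((y₀ ^ (2 ^ n * 2 ^ n)) ^ m)⁻¹ ∈ R := by
          rw [← hπ1, map_mul, map_inv, map_zpow, hπy, hm]; group
        have h2 : x = (x * ((y₀ ^ (2 ^ n * 2 ^ n)) ^ m)⁻¹) * (y₀ ^ (2 ^ n * 2 ^ n)) ^ m := by
          group
        rw [h2]
        exact Subgroup.mul_mem _ (mem_sup_left h1)
          (mem_sup_right (Subgroup.zpow_mem _ (mem_zpowers _) m))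
    rw [hKeq]
    have hJY : J.map π ≤ normalizer ((zpowers y' : Subgroup (Λ ⧸ R)) : Set (Λ ⧸ R)) := by
      rw [← hYeq]
      exact le_normalizer_commutator hJD' le_normalizer
    apply le_normalizer_of_conj_mem
    intro j hj x hx
    rw [mem_comap] at hx ⊢
    rw [map_mul, map_mul, map_inv]
    exact conj_mem_of_le_normalizer hJY ⟨j, hj, rfl⟩ hx
  · rw [← hDdef, hDeq]
    have hy₀D : y₀ ∈ D := by
      have h1 : y' ∈ D.map π := Cfsg.Agent.Helper1.commutator_le_of_le_normalizer hJD' hy'Y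
      obtain ⟨x, hx, hxy⟩ := h1
      have h2 : x⁻¹ * y₀ ∈ R := by rw [← hπ1, map_mul, map_inv, hxy, hy₀]; group
      have h3 : y₀ = x * (x⁻¹ * y₀) := by group
      rw [h3]; exact D.mul_mem hx (hCD (hRC h2))
    have hyD : y₀ ^ (2 ^ n * 2 ^ n) ∈ D := D.pow_mem hy₀D _
    have hθy : θ (y₀ ^ (2 ^ n * 2 ^ n)) ∈ N := (hmemD _).mp hyD
    have hθy1 : θ (y₀ ^ (2 ^ n * 2 ^ n)) ≠ 1 := fun h1 => hyC ((hθ1 _).mp h1)
    apply le_antisymm
    · apply sup_le le_sup_left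
      rw [zpowers_le]
      rcases card_three_cases hN.2.2 hθy hθy1 hqN with h1 | h1 | h1
      · exact absurd h1 hq1
      · have h2 : d * (y₀ ^ (2 ^ n * 2 ^ n))⁻¹ ∈ C := by
          rw [← hθ1, map_mul, map_inv, hd, h1]; group
        have h3 : d = (d * (y₀ ^ (2 ^ n * 2 ^ n))⁻¹) * y₀ ^ (2 ^ n * 2 ^ n) := by group
        rw [h3]
        exact Subgroup.mul_mem _ (mem_sup_left h2) (mem_sup_right (mem_zpowers _))
      · have h2 : d * y₀ ^ (2 ^ n * 2 ^ n) ∈ C := by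
          rw [← hθ1, map_mul, hd, h1]; group
        have h3 : d = (d * y₀ ^ (2 ^ n * 2 ^ n)) * (y₀ ^ (2 ^ n * 2 ^ n))⁻¹ := by group
        rw [h3]
        exact Subgroup.mul_mem _ (mem_sup_left h2)
          (Subgroup.inv_mem _ (mem_sup_right (mem_zpowers _)))
    · exact sup_le le_sup_left (zpowers_le.mpr (hDeq ▸ hyD))

/-- the element of order three -/
theorem exists_comp_data {T : Sylow 2 Λ} (h : Setup T) {J : Subgroup Λ}
    (hJT : J ≤ (T : Subgroup Λ)) (hJth : J ≤ Cfsg.thompsonSubgroup 2 Λ) {a : Λ} (ha : a ∈ J)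
    (haC : a ∉ centralizer (VZ 2 Λ : Set Λ)) :
    ∃ y : Λ, y ^ 3 = 1 ∧ y ∉ centralizer (VZ 2 Λ : Set Λ) ∧
      a * y * a⁻¹ * y ∈ Cfsg.pCore 2 Λ ∧
      J ≤ normalizer ((Cfsg.pCore 2 Λ ⊔ zpowers y : Subgroup Λ) : Set Λ) := by
  have : Fact (Nat.Prime 2) := ⟨Nat.prime_two⟩
  have hsep : Cfsg.IsPSolvable 2 Λ := h.psolv
  have hO : Cfsg.pPrimeCore 2 Λ = ⊥ := h.pprime
  have hVn : (VZ 2 Λ).Normal := VZ_normal 2
  have hVea : EA 2 (VZ 2 Λ) := ea_VZ hsep hO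
  have hOq : Cfsg.pCore 2 (Λ ⧸ centralizer (VZ 2 Λ : Set Λ)) = ⊥ := pCore_quot_VZ
  have hJH : J.map (Th (VZ 2 Λ)) ≤ HB 2 (VZ 2 Λ) :=
    (Subgroup.map_mono hJth).trans (map_thompson_le_HB _ hVea)
  have haH : Th (VZ 2 Λ) a ∈ HB 2 (VZ 2 Λ) := hJH ⟨a, ha, rfl⟩
  have ha1 : Th (VZ 2 Λ) a ≠ 1 := by
    intro h1
    apply haC
    rw [← ker_Th (VZ 2 Λ), MonoidHom.mem_ker]
    exact h1
  obtain ⟨k, hk⟩ : ∃ k : ℕ, a ^ (2 ^ k) = 1 := by
    obtain ⟨k, hk⟩ := (IsPGroup.iff_orderOf.mp T.2) ⟨a, hJT ha⟩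
    refine ⟨k, ?_⟩
    have := pow_orderOf_eq_one (⟨a, hJT ha⟩ : ↥(T : Subgroup Λ))
    rw [hk] at this
    simpa using congrArg Subtype.val this
  have ha2 : (Th (VZ 2 Λ) a) ^ (2 ^ k) = 1 := by rw [← map_pow, hk, map_one]
  obtain ⟨N, hN, q, hqN, hq1, hinv⟩ :=
    exists_inverted_N3 (HB 2 (VZ 2 Λ)) (odd_mem_Fbar_HB h) (HB_hS1 _ hsep hOq) haH ha2 ha1
  obtain ⟨y, h1, h2, h3, h4, -⟩ := exists_comp_data_of_N3 h hJT hJth ha hN hqN hq1 hinv
  exact ⟨y, h1, h2, h3, h4⟩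

end lam

end Cfsg.Agent.Helper50.JComp
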