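import Mathlib
import Cfsg.Agent.Lib.Helper50.JCompB1

/-!
# Existence of `J(T)`-components (part B3): the offender lemma

A maximal elementary abelian `2`-subgroup `A` acts on an elementary abelian `2`-group `U` on which an
element `y` of order three acts fixed-point-freely, `A` normalizing `⟨y⟩` (as automorphisms of `U`) and
some `a ∈ A` inverting it.  Then `|U| ≤ 4`.
-/

set_option autoImplicit false
set_option linter.unusedSectionVars false

namespace Cfsg.Agent.Helper50.JComp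

open Subgroup

variable {X : Type*} [Group X] [Finite X]

theorem isPGroup_two_of_sq {H : Subgroup X} (h : ∀ x ∈ H, x * x = 1) : IsPGroup 2 H := by
  intro g
  refine ⟨1, ?_⟩
  apply Subtype.ext
  rw [pow_one, pow_two]
  exact h g g.2

theorem eq_of_card_le_two {F : Subgroup X} (h : Nat.card F ≤ 2) {f g : X} (hf : f ∈ F)
    (hg : g ∈ F) (hf2 : f * f = 1) (hf1 : f ≠ 1) (hg1 : g ≠ 1) : g = f := by
  have hord : orderOf f = 2 := orderOf_eq_prime (by rw [pow_two]; exact hf2) hf1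
  have heq : zpowers f = F := by
    apply Subgroup.eq_of_le_of_card_ge (zpowers_le.mpr hf)
    rw [Nat.card_zpowers, hord]; exact h
  rw [← heq] at hg
  rcases zpowers_cases hf2 hg with h1 | h1
  · exact absurd h1 hg1
  · exact h1

/-- conjugates of fixed points of `a` by `y` meet the fixed points trivially -/
theorem fixed_inf_conj_eq_bot {U : Subgroup X} {y a : X} (hy3 : y ^ 3 = 1)
    (hfpf : ∀ u ∈ U, y * u * y⁻¹ = u → u = 1)
    (hay : ∀ u ∈ U, a * (y * u * y⁻¹) * a⁻¹ = y⁻¹ * (a * u * a⁻¹) * y)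
    {P : Subgroup X} (hPU : P ≤ U) (hPa : ∀ u ∈ P, a * u * a⁻¹ = u) :
    P ⊓ P.map (MulAut.conj y).toMonoidHom = ⊥ := by
  rw [eq_bot_iff]
  intro u hu
  obtain ⟨hu1, hu2⟩ := mem_inf.mp hu
  obtain ⟨v, hv, rfl⟩ := mem_map_conj.mp hu2
  have h1 := hay v (hPU hv)
  rw [hPa _ hu1, hPa v hv] at h1
  -- y v y⁻¹ = y⁻¹ v y
  have hyi : y⁻¹ = y * y := by
    have : y * y * y = 1 := by rw [← hy3, pow_succ, pow_two]
    calc y⁻¹ = y⁻¹ * (y * y * y) := by rw [this, mul_one]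
      _ = y * y := by group
  have h2 : y * v * y⁻¹ = v := by
    have h3 : y * (y * v * y⁻¹) * y⁻¹ = y * (y⁻¹ * v * y) * y⁻¹ := by rw [← h1]
    have h4 : y * (y⁻¹ * v * y) * y⁻¹ = v := by group
    rw [h4] at h3
    -- y y v y⁻¹ y⁻¹ = v, so y⁻¹ v y = v
    have h5 : y⁻¹ * v * y = v := by
      have h6 : y * (y * v * y⁻¹) * y⁻¹ = y⁻¹ * v * y := by
        calc y * (y * v * y⁻¹) * y⁻¹ = (y * y) * v * (y * y)⁻¹ := by group
          _ = y⁻¹ * v * y⁻¹⁻¹ := by rw [← hyi]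
          _ = y⁻¹ * v * y := by rw [inv_inv]
      rw [← h6]; exact h3
    calc y * v * y⁻¹ = y * (y⁻¹ * v * y) * y⁻¹ := by rw [h5]
      _ = v := by group
  have hv1 : v = 1 := hfpf v (hPU hv) h2
  rw [mem_bot, hv1]; group

/-- **The offender lemma.** -/
theorem card_le_four_of_offender {U A : Subgroup X} {y a : X}
    (hU2 : ∀ u ∈ U, u * u = 1) (hyU : y ∈ normalizer (U : Set X)) (hy3 : y ^ 3 = 1)
    (hfpf : ∀ u ∈ U, y * u * y⁻¹ = u → u = 1)
    (hA2 : ∀ b ∈ A, b * b = 1) (hAU : A ≤ normalizer (U : Set X))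
    (hAy : ∀ b ∈ A, (∀ u ∈ U, b * (y * u * y⁻¹) * b⁻¹ = y * (b * u * b⁻¹) * y⁻¹) ∨
      (∀ u ∈ U, b * (y * u * y⁻¹) * b⁻¹ = y⁻¹ * (b * u * b⁻¹) * y))
    (ha : a ∈ A) (hay : ∀ u ∈ U, a * (y * u * y⁻¹) * a⁻¹ = y⁻¹ * (a * u * a⁻¹) * y)
    (hmax : ∀ B : Subgroup X, B ≤ A ⊔ U → (∀ x ∈ B, x * x = 1) → Nat.card B ≤ Nat.card A) :
    Nat.card U ≤ 4 := by
  have : Fact (Nat.Prime 2) := ⟨Nat.prime_two⟩
  by_cases hU1 : U = ⊥
  · rw [hU1, Subgroup.card_bot]; norm_num
  have hUcomm := comm_of_exp_two hU2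
  have hAcomm := comm_of_exp_two hA2
  have hyc : ∀ u ∈ U, y * u * y⁻¹ ∈ U := fun u hu => (mem_normalizer_iff.mp hyU u).mp hu
  have hyc' : ∀ u ∈ U, y⁻¹ * u * y ∈ U := fun u hu => by
    have := (mem_normalizer_iff.mp (inv_mem hyU) u).mp hu
    rwa [inv_inv] at this
  have hbc : ∀ b ∈ A, ∀ u ∈ U, b * u * b⁻¹ ∈ U := fun b hb u hu =>
    conj_mem_of_le_normalizer hAU hb hu
  -- the elements of `A` commuting with `y` on `U`
  let A₀ : Subgroup X :=
    { carrier := {b | b ∈ A ∧ ∀ u ∈ U, b * (y * u * y⁻¹) * b⁻¹ = y * (b * u * b⁻¹) * y⁻¹}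
      one_mem' := ⟨A.one_mem, fun u _ => by group⟩
      mul_mem' := by
        rintro b c ⟨hb, hb'⟩ ⟨hc, hc'⟩
        refine ⟨A.mul_mem hb hc, fun u hu => ?_⟩
        calc b * c * (y * u * y⁻¹) * (b * c)⁻¹ = b * (c * (y * u * y⁻¹) * c⁻¹) * b⁻¹ := by group
          _ = b * (y * (c * u * c⁻¹) * y⁻¹) * b⁻¹ := by rw [hc' u hu]
          _ = y * (b * (c * u * c⁻¹) * b⁻¹) * y⁻¹ := by rw [hb' _ (hbc c hc u hu)]
          _ = _ := by group
      inv_mem' := by
        rintro b ⟨hb, hb'⟩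
        refine ⟨A.inv_mem hb, fun u hu => ?_⟩
        have hbi : b⁻¹ = b := inv_eq_of_mul_eq_one_left (hA2 b hb)
        rw [hbi]; exact hb' u hu }
  have hA₀A : A₀ ≤ A := fun b hb => hb.1
  have hA₀y : ∀ b ∈ A₀, ∀ u ∈ U, b * (y * u * y⁻¹) * b⁻¹ = y * (b * u * b⁻¹) * y⁻¹ :=
    fun b hb => hb.2
  have hcover : ∀ b ∈ A, b ∈ A₀ ∨ a * b ∈ A₀ := by
    intro b hb
    rcases hAy b hb with h | h
    · exact Or.inl ⟨hb, h⟩
    · right
      refine ⟨A.mul_mem ha hb, fun u hu => ?_⟩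
      have key : ∀ w ∈ U, a * (y⁻¹ * w * y) * a⁻¹ = y * (a * w * a⁻¹) * y⁻¹ := by
        intro w hw
        have h1 := hay (y⁻¹ * w * y) (hyc' w hw)
        have h2 : y * (y⁻¹ * w * y) * y⁻¹ = w := by group
        rw [h2] at h1
        rw [h1]; group
      calc a * b * (y * u * y⁻¹) * (a * b)⁻¹ = a * (b * (y * u * y⁻¹) * b⁻¹) * a⁻¹ := by group
        _ = a * (y⁻¹ * (b * u * b⁻¹) * y) * a⁻¹ := by rw [h u hu]
        _ = y * (a * (b * u * b⁻¹) * a⁻¹) * y⁻¹ := key _ (hbc b hb u hu)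
        _ = _ := by group
  have hcardA : Nat.card A ≤ 2 * Nat.card A₀ := card_le_two_mul hcover
  -- the fixed points of `A`
  obtain ⟨F, hFdef⟩ : ∃ F : Subgroup X, F = U ⊓ centralizer (A : Set X) := ⟨_, rfl⟩
  have hFU : F ≤ U := hFdef ▸ inf_le_left
  have hFA : ∀ f ∈ F, ∀ b ∈ A, b * f * b⁻¹ = f := by
    intro f hf b hb
    rw [hFdef] at hf
    have := mem_centralizer_iff.mp (mem_inf.mp hf).2 b hb
    rw [this]; group
  have hAUF : A ⊓ U ≤ F := by
    intro x hx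
    rw [hFdef]
    refine mem_inf.mpr ⟨(mem_inf.mp hx).2, ?_⟩
    rw [mem_centralizer_iff]
    intro b hb
    exact hAcomm b hb x (mem_inf.mp hx).1
  have hA2g : IsPGroup 2 A := isPGroup_two_of_sq hA2
  have hU2g : IsPGroup 2 U := isPGroup_two_of_sq hU2
  have hF1 : F ≠ ⊥ := by
    rw [hFdef]
    exact Cfsg.Agent.Helper23.inf_centralizer_ne_bot_of_le_normalizer hA2g hU2g hU1 hAU
  have hF2 : 2 ≤ Nat.card F := F.one_lt_card_iff_ne_bot.mpr hF1
  -- the key inequality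
  have key : ∀ (P A' : Subgroup X), P ≤ U → (∀ u ∈ P, a * u * a⁻¹ = u) → A' ≤ A₀ →
      (∀ b ∈ A', ∀ u ∈ P, b * u * b⁻¹ = u) →
      Nat.card A' * (Nat.card P * Nat.card P) ≤ Nat.card A * Nat.card F := by
    intro P A' hPU hPa hA' hA'P
    obtain ⟨Py, hPy⟩ : ∃ Py : Subgroup X, Py = P.map (MulAut.conj y).toMonoidHom := ⟨_, rfl⟩
    have hdisj : P ⊓ Py = ⊥ := hPy ▸ fixed_inf_conj_eq_bot hy3 hfpf hay hPU hPa
    have hPyU : Py ≤ U := by
      rw [hPy]; intro z hz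
      obtain ⟨v, hv, rfl⟩ := mem_map_conj.mp hz
      exact hyc v (hPU hv)
    have hcardPy : Nat.card Py = Nat.card P := by
      rw [hPy]; exact Subgroup.card_map_of_injective (MulAut.conj y).injective
    obtain ⟨W, hW⟩ : ∃ W : Subgroup X, W = P ⊔ Py := ⟨_, rfl⟩
    have hWU : W ≤ U := hW ▸ sup_le hPU hPyU
    have hcardW : Nat.card W = Nat.card P * Nat.card P := by
      have h1 := card_sup_mul_card_inf_of_le_normalizer P Py
        (le_normalizer_of_commute (fun x hx z hz => hUcomm x (hPU hx) z (hPyU hz)))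
      rw [hdisj, Subgroup.card_bot, mul_one, hcardPy, ← hW] at h1
      exact h1
    have hWc : W ≤ centralizer (A' : Set X) := by
      rw [hW]
      apply sup_le
      · intro u hu
        rw [mem_centralizer_iff]
        intro b hb
        have := hA'P b hb u hu
        calc b * u = (b * u * b⁻¹) * b := by group
          _ = u * b := by rw [this]
      · rw [hPy]
        intro z hz
        obtain ⟨v, hv, rfl⟩ := mem_map_conj.mp hz
        rw [mem_centralizer_iff]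
        intro b hb
        have h1 := hA₀y b (hA' hb) v (hPU hv)
        rw [hA'P b hb v hv] at h1
        calc b * (y * v * y⁻¹) = (b * (y * v * y⁻¹) * b⁻¹) * b := by group
          _ = y * v * y⁻¹ * b := by rw [h1]
    have hWc' := le_centralizer_iff_comm.mp hWc
    have hB2 : ∀ x ∈ A' ⊔ W, x * x = 1 :=
      sq_of_sup (fun b hb => hA2 b (hA₀A (hA' hb))) (fun w hw => hU2 w (hWU hw))
        (fun b hb w hw => (hWc' w hw b hb).symm)
    have hBle := hmax _ (sup_le_sup ((hA'.trans hA₀A)) hWU) hB2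
    have hprod := card_sup_mul_card_inf_of_le_normalizer A' W
      (le_normalizer_of_commute (fun b hb w hw => (hWc' w hw b hb).symm))
    have hinf : Nat.card ↥(A' ⊓ W) ≤ Nat.card F :=
      Subgroup.card_le_of_le ((inf_le_inf (hA'.trans hA₀A) hWU).trans hAUF)
    calc Nat.card A' * (Nat.card P * Nat.card P) = Nat.card A' * Nat.card W := by rw [hcardW]
      _ = Nat.card ↥(A' ⊔ W) * Nat.card ↥(A' ⊓ W) := hprod.symm
      _ ≤ Nat.card A * Nat.card F := Nat.mul_le_mul hBle hinf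
  have hFa : ∀ u ∈ F, a * u * a⁻¹ = u := fun u hu => hFA u hu a ha
  have hA₀pos : 0 < Nat.card A₀ := Nat.card_pos
  have hFpos : 0 < Nat.card F := Nat.card_pos
  -- Step A: `|F| ≤ 2`
  have hFle : Nat.card F ≤ 2 := by
    have h1 := key F A₀ hFU hFa le_rfl (fun b hb u hu => hFA u hu b (hA₀A hb))
    have h2 : Nat.card A₀ * (Nat.card F * Nat.card F) ≤ 2 * Nat.card A₀ * Nat.card F :=
      h1.trans (Nat.mul_le_mul_right _ hcardA)
    have h3 : (Nat.card A₀ * Nat.card F) * Nat.card F ≤ (Nat.card A₀ * Nat.card F) * 2 := by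
      calc (Nat.card A₀ * Nat.card F) * Nat.card F = Nat.card A₀ * (Nat.card F * Nat.card F) := by
            ring
        _ ≤ 2 * Nat.card A₀ * Nat.card F := h2
        _ = (Nat.card A₀ * Nat.card F) * 2 := by ring
    exact Nat.le_of_mul_le_mul_left h3 (Nat.mul_pos hA₀pos hFpos)
  -- the fixed points of `a`
  obtain ⟨Ua, hUadef⟩ : ∃ Ua : Subgroup X, Ua = U ⊓ centralizer ({a} : Set X) := ⟨_, rfl⟩
  have hUaU : Ua ≤ U := hUadef ▸ inf_le_left
  have hUaa : ∀ u ∈ Ua, a * u * a⁻¹ = u := by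
    intro u hu
    rw [hUadef] at hu
    have := mem_centralizer_iff.mp (mem_inf.mp hu).2 a rfl
    rw [this]; group
  have hUamem : ∀ u ∈ U, a * u * a⁻¹ = u → u ∈ Ua := by
    intro u hu h
    rw [hUadef]
    refine mem_inf.mpr ⟨hu, ?_⟩
    rw [mem_centralizer_iff]
    intro z hz
    rw [Set.mem_singleton_iff] at hz
    rw [hz]
    calc a * u = (a * u * a⁻¹) * a := by group
      _ = u * a := by rw [h]
  have hFUa : F ≤ Ua := fun f hf => hUamem f (hFU hf) (hFa f hf)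
  -- Step B: `C_U(a) ≤ F`
  have hUaF : Ua ≤ F := by
    by_contra hne
    have hUa2 : IsPGroup 2 Ua := isPGroup_two_of_sq (fun u hu => hU2 u (hUaU hu))
    have hAUa : A ≤ normalizer (Ua : Set X) := by
      apply le_normalizer_of_conj_mem
      intro b hb u hu
      apply hUamem _ (hbc b hb u (hUaU hu))
      have hab := hAcomm a ha b hb
      calc a * (b * u * b⁻¹) * a⁻¹ = (a * b) * u * (a * b)⁻¹ := by group
        _ = (b * a) * u * (b * a)⁻¹ := by rw [hab]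
        _ = b * (a * u * a⁻¹) * b⁻¹ := by group
        _ = b * u * b⁻¹ := by rw [hUaa u hu]
    have hUaF' : Ua ≤ normalizer (F : Set X) :=
      le_normalizer_of_commute (H := F) (K := Ua)
        (fun f hf u hu => hUcomm f (hFU hf) u (hUaU hu))
    have hAF : A ≤ normalizer (F : Set X) := by
      apply le_normalizer_of_conj_mem
      intro b hb f hf
      rw [hFA f hf b hb]; exact hf
    obtain ⟨x₂, hx₂U, hx₂F, hx₂⟩ := exists_fixed_mod hA2g hUa2 hUaF' hAF hAUa hne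
    obtain ⟨P₂, hP₂⟩ : ∃ P₂ : Subgroup X, P₂ = F ⊔ zpowers x₂ := ⟨_, rfl⟩
    have hx₂2 : x₂ * x₂ = 1 := hU2 x₂ (hUaU hx₂U)
    have hx₂1 : x₂ ≠ 1 := fun h => hx₂F (h ▸ F.one_mem)
    have hP₂Ua : P₂ ≤ Ua := hP₂ ▸ sup_le hFUa (zpowers_le.mpr hx₂U)
    have hcardP₂ : Nat.card P₂ = 2 * Nat.card F := by
      have h1 := card_sup_mul_card_inf_of_le_normalizer F (zpowers x₂)
        (le_normalizer_of_commute (fun f hf z hz =>
          hUcomm f (hFU hf) z (hUaU (zpowers_le.mpr hx₂U hz))))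
      have h2 : F ⊓ zpowers x₂ = ⊥ := by
        rw [eq_bot_iff]
        intro z hz
        rcases zpowers_cases hx₂2 (mem_inf.mp hz).2 with h | h
        · rw [mem_bot]; exact h
        · exfalso; apply hx₂F; rw [← h]; exact (mem_inf.mp hz).1
      rw [h2, Subgroup.card_bot, mul_one, Nat.card_zpowers,
        orderOf_eq_prime (by rw [pow_two]; exact hx₂2) hx₂1, ← hP₂] at h1
      rw [h1]; ring
    obtain ⟨A₁, hA₁⟩ : ∃ A₁ : Subgroup X, A₁ = A₀ ⊓ centralizer ({x₂} : Set X) := ⟨_, rfl⟩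
    have hA₁A₀ : A₁ ≤ A₀ := hA₁ ▸ inf_le_left
    have hA₁x : ∀ b ∈ A₁, b * x₂ * b⁻¹ = x₂ := by
      intro b hb
      rw [hA₁] at hb
      have := mem_centralizer_iff.mp (mem_inf.mp hb).2 x₂ rfl
      rw [← this]; group
    have hA₁mem : ∀ b ∈ A₀, b * x₂ * b⁻¹ = x₂ → b ∈ A₁ := by
      intro b hb h
      rw [hA₁]
      refine mem_inf.mpr ⟨hb, ?_⟩
      rw [mem_centralizer_iff]
      intro z hz
      rw [Set.mem_singleton_iff] at hz
      rw [hz]
      calc x₂ * b = (b * x₂ * b⁻¹) * b := by rw [h]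
        _ = b * x₂ := by group
    have hcardA₀ : Nat.card A₀ ≤ 2 * Nat.card A₁ := by
      by_cases hall : ∀ b ∈ A₀, b * x₂ * b⁻¹ = x₂
      · have h1 : A₀ ≤ A₁ := fun b hb => hA₁mem b hb (hall b hb)
        have h2 := Subgroup.card_le_of_le h1
        omega
      · push Not at hall
        obtain ⟨b₀, hb₀, hb₀x⟩ := hall
        apply card_le_two_mul (a := b₀)
        intro b hb
        by_cases hbx : b * x₂ * b⁻¹ = x₂
        · exact Or.inl (hA₁mem b hb hbx)
        · right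
          apply hA₁mem _ (A₀.mul_mem hb₀ hb)
          have hf := hx₂ b (hA₀A hb)
          have hf₀ := hx₂ b₀ (hA₀A hb₀)
          have hf1 : b * x₂ * b⁻¹ * x₂⁻¹ ≠ 1 := by
            intro h; apply hbx
            calc b * x₂ * b⁻¹ = (b * x₂ * b⁻¹ * x₂⁻¹) * x₂ := by group
              _ = x₂ := by rw [h, one_mul]
          have hf₀1 : b₀ * x₂ * b₀⁻¹ * x₂⁻¹ ≠ 1 := by
            intro h; apply hb₀x
            calc b₀ * x₂ * b₀⁻¹ = (b₀ * x₂ * b₀⁻¹ * x₂⁻¹) * x₂ := by group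
              _ = x₂ := by rw [h, one_mul]
          have heq := eq_of_card_le_two hFle hf₀ hf (hU2 _ (hFU hf₀)) hf₀1 hf1
          have h1 : b * x₂ * b⁻¹ = (b₀ * x₂ * b₀⁻¹ * x₂⁻¹) * x₂ := by
            rw [← heq]; group
          have hsq := hU2 _ (hFU hf₀)
          calc b₀ * b * x₂ * (b₀ * b)⁻¹ = b₀ * (b * x₂ * b⁻¹) * b₀⁻¹ := by group
            _ = b₀ * ((b₀ * x₂ * b₀⁻¹ * x₂⁻¹) * x₂) * b₀⁻¹ := by rw [h1]
            _ = (b₀ * (b₀ * x₂ * b₀⁻¹ * x₂⁻¹) * b₀⁻¹) * (b₀ * x₂ * b₀⁻¹) := by group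
            _ = (b₀ * x₂ * b₀⁻¹ * x₂⁻¹) * (b₀ * x₂ * b₀⁻¹) := by
                rw [hFA _ hf₀ b₀ (hA₀A hb₀)]
            _ = ((b₀ * x₂ * b₀⁻¹ * x₂⁻¹) * (b₀ * x₂ * b₀⁻¹ * x₂⁻¹)) * x₂ := by group
            _ = x₂ := by rw [hsq, one_mul]
    have hP₂c : P₂ ≤ centralizer (A₁ : Set X) := by
      rw [hP₂]
      apply sup_le
      · intro f hf
        rw [mem_centralizer_iff]
        intro b hb
        have := hFA f hf b (hA₀A (hA₁A₀ hb))
        calc b * f = (b * f * b⁻¹) * b := by group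
          _ = f * b := by rw [this]
      · rw [zpowers_le, mem_centralizer_iff]
        intro b hb
        have := hA₁x b hb
        calc b * x₂ = (b * x₂ * b⁻¹) * b := by group
          _ = x₂ * b := by rw [this]
    have h1 := key P₂ A₁ (hP₂Ua.trans hUaU) (fun u hu => hUaa u (hP₂Ua hu)) hA₁A₀ (by
      intro b hb u hu
      have := le_centralizer_iff_comm.mp hP₂c u hu b hb
      rw [← this]; group)
    rw [hcardP₂] at h1
    have hA₁pos : 0 < Nat.card A₁ := Nat.card_pos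
    have h2 : Nat.card A ≤ 4 * Nat.card A₁ := by omega
    have h3 : (Nat.card A₁ * Nat.card F * 4) * Nat.card F ≤ (Nat.card A₁ * Nat.card F * 4) * 1 := by
      calc (Nat.card A₁ * Nat.card F * 4) * Nat.card F
          = Nat.card A₁ * (2 * Nat.card F * (2 * Nat.card F)) := by ring
        _ ≤ Nat.card A * Nat.card F := h1
        _ ≤ 4 * Nat.card A₁ * Nat.card F := Nat.mul_le_mul_right _ h2
        _ = (Nat.card A₁ * Nat.card F * 4) * 1 := by ring
    have h4 := Nat.le_of_mul_le_mul_left h3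
      (Nat.mul_pos (Nat.mul_pos hA₁pos hFpos) (by norm_num))
    omega
  -- Step C
  have hUale : Nat.card Ua ≤ 2 := (Subgroup.card_le_of_le hUaF).trans hFle
  have h1 := card_le_sq_fixed (N := U) hU2 (fun u hu => hbc a ha u hu) (fun u _ => by
      have haa := hA2 a ha
      calc a * (a * u * a⁻¹) * a⁻¹ = (a * a) * u * (a * a)⁻¹ := by group
        _ = u := by rw [haa]; group) (F := Ua) hUamem
  calc Nat.card U ≤ Nat.card Ua * Nat.card Ua := h1
    _ ≤ 2 * 2 := Nat.mul_le_mul hUale hUale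

end Cfsg.Agent.Helper50.JComp
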