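import Mathlib
import Cfsg.Agent.Lib.Helper50.JComp6
import Cfsg.Agent.Lib.Helper50.JCompB3
import Cfsg.Agent.Lib.Helper1.ZCoprime

/-!
# Existence of `J(T)`-components (part B5): the group `K = O₂(K)⟨y⟩`
-/

set_option autoImplicit false
set_option linter.unusedSectionVars false

namespace Cfsg.Agent.Helper50.JComp

open Subgroup
open scoped commutatorElement
open Cfsg.Agent.Helper50.Higman (omegaZ mem_omegaZ omegaZ_le)

variable {G : Type*} [Group G]

/-- the subgroup generated by the elements of odd order -/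
def oddGen (K₀ : Subgroup G) : Subgroup G := closure {g : G | g ∈ K₀ ∧ Odd (orderOf g)}

theorem oddGen_le (K₀ : Subgroup G) : oddGen K₀ ≤ K₀ := by
  unfold oddGen
  rw [closure_le]
  exact fun g hg => hg.1

theorem mem_oddGen {K₀ : Subgroup G} {g : G} (hg : g ∈ K₀) (hodd : Odd (orderOf g)) :
    g ∈ oddGen K₀ := subset_closure ⟨hg, hodd⟩

theorem oddGen_gen (K₀ : Subgroup G) :
    closure {g : G | g ∈ oddGen K₀ ∧ Odd (orderOf g)} = oddGen K₀ := by
  apply le_antisymm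
  · rw [closure_le]
    exact fun g hg => hg.1
  · have h1 : oddGen K₀ = closure {g : G | g ∈ K₀ ∧ Odd (orderOf g)} := rfl
    conv_lhs => rw [h1]
    apply Subgroup.closure_mono
    rintro g ⟨hg, hodd⟩
    exact ⟨mem_oddGen hg hodd, hodd⟩

theorem orderOf_conj' (x g : G) : orderOf (x * g * x⁻¹) = orderOf g := by
  have := orderOf_injective (MulAut.conj x).toMonoidHom (MulAut.conj x).injective g
  simpa using this

theorem normalizer_le_normalizer_oddGen (K₀ : Subgroup G) :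
    normalizer (K₀ : Set G) ≤ normalizer ((oddGen K₀ : Subgroup G) : Set G) := by
  apply le_normalizer_of_conj_mem
  intro x hx y hy
  have hle : oddGen K₀ ≤ (oddGen K₀).comap (MulAut.conj x).toMonoidHom := by
    have h1 : oddGen K₀ = closure {g : G | g ∈ K₀ ∧ Odd (orderOf g)} := rfl
    conv_lhs => rw [h1]
    rw [closure_le]
    rintro g ⟨hg, hodd⟩
    rw [SetLike.mem_coe, mem_comap, MulEquiv.coe_toMonoidHom, MulAut.conj_apply]
    apply mem_oddGen (conj_mem_of_le_normalizer le_rfl hx hg)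
    rwa [orderOf_conj']
  have := hle hy
  rwa [mem_comap, MulEquiv.coe_toMonoidHom, MulAut.conj_apply] at this

theorem card_mul_relIndex' {H K : Subgroup G} (h : H ≤ K) :
    Nat.card H * H.relIndex K = Nat.card K := by
  have := (H.subgroupOf K).card_mul_index
  rwa [card_subgroupOf_le h] at this

/-- the structure of `K = Q ⟨y⟩` -/
structure KD (K Q : Subgroup G) (y : G) : Prop where
  yK : y ∈ K
  y3 : y ^ 3 = 1
  yQ : y ∉ Q
  QK : Q ≤ K
  Q2 : IsPGroup 2 Q
  KnQ : K ≤ normalizer (Q : Set G)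
  Keq : K = Q ⊔ zpowers y
  gen : closure {g : G | g ∈ K ∧ Odd (orderOf g)} = K

namespace KD

variable [Finite G] {K Q : Subgroup G} {y : G} (h : KD K Q y)
include h

theorem y1 : y ≠ 1 := fun h1 => h.yQ (h1 ▸ Q.one_mem)

theorem ord : orderOf y = 3 := by
  have : Fact (Nat.Prime 3) := ⟨Nat.prime_three⟩
  exact orderOf_eq_prime h.y3 h.y1

theorem yyy : y * y * y = 1 := by rw [← h.y3, pow_succ, pow_two]

theorem yinv : y⁻¹ = y * y := by
  calc y⁻¹ = y⁻¹ * (y * y * y) := by rw [h.yyy, mul_one]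
    _ = y * y := by group

theorem card_zy : Nat.card ↥(zpowers y) = 3 := by rw [Nat.card_zpowers, h.ord]

theorem zy_le : zpowers y ≤ K := zpowers_le.mpr h.yK

theorem cases {k : G} (hk : k ∈ K) : ∃ q ∈ Q, k = q ∨ k = q * y ∨ k = q * y⁻¹ := by
  rw [h.Keq] at hk
  obtain ⟨q, hq, z, hz, rfl⟩ := exists_mul_of_mem_sup (h.zy_le.trans h.KnQ) hk
  refine ⟨q, hq, ?_⟩
  rcases card_three_cases h.card_zy (mem_zpowers y) h.y1 hz with h1 | h1 | h1
  · left; rw [h1, mul_one]
  · right; left; rw [h1]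
  · right; right; rw [h1]

theorem inf_zy : Q ⊓ zpowers y = ⊥ := by
  apply disjoint_iff.mp
  apply Subgroup.disjoint_of_coprime_natCard
  obtain ⟨n, hn⟩ := IsPGroup.iff_card.mp h.Q2
  rw [hn, h.card_zy]
  apply Nat.Coprime.pow_left
  decide

theorem cardK : Nat.card K = Nat.card Q * 3 := by
  have h1 := card_sup_mul_card_inf_of_le_normalizer Q (zpowers y) (h.zy_le.trans h.KnQ)
  rw [h.inf_zy, Subgroup.card_bot, mul_one, h.card_zy, ← h.Keq] at h1
  exact h1

theorem idx : Q.relIndex K = 3 := by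
  have h1 := card_mul_relIndex' h.QK
  rw [h.cardK] at h1
  exact Nat.eq_of_mul_eq_mul_left Nat.card_pos h1

theorem sub2 {P : Subgroup G} (hPK : P ≤ K) (hP : IsPGroup 2 P) : P ≤ Q := by
  have hPn : P ≤ normalizer (Q : Set G) := hPK.trans h.KnQ
  have hR2 : IsPGroup 2 ↥(Q ⊔ P) := IsPGroup.to_sup_of_normal_left' h.Q2 hP hPn
  have hRK : Q ⊔ P ≤ K := sup_le h.QK hPK
  have h1 := Subgroup.relIndex_mul_relIndex Q (Q ⊔ P) K le_sup_left hRK
  rw [h.idx] at h1
  have h2 : Q.relIndex (Q ⊔ P) ∣ 3 := Dvd.intro _ h1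
  have h3 : Q.relIndex (Q ⊔ P) ∣ Nat.card ↥(Q ⊔ P) := Subgroup.relIndex_dvd_card _ _
  obtain ⟨n, hn⟩ := IsPGroup.iff_card.mp hR2
  rw [hn] at h3
  obtain ⟨i, _, hi⟩ := (Nat.dvd_prime_pow Nat.prime_two).mp h3
  have h4 : Q.relIndex (Q ⊔ P) = 1 := by
    rw [hi] at h2 ⊢
    rcases i with _ | i
    · rfl
    · exfalso
      have : 2 ∣ 3 := dvd_trans (dvd_pow_self 2 (Nat.succ_ne_zero i)) h2
      omega
  rw [Subgroup.relIndex_eq_one] at h4
  exact le_sup_right.trans h4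

theorem pcore : Cfsg.pCoreOf 2 K = Q := by
  have : Fact (Nat.Prime 2) := ⟨Nat.prime_two⟩
  apply le_antisymm
  · exact h.sub2 (Cfsg.Agent.Helper23.pCoreOf_le K) (Cfsg.Agent.Helper23.pCoreOf_isPGroup K)
  · exact Cfsg.Agent.Helper23.le_pCoreOf_of_normal_pgroup h.QK h.Q2 h.KnQ

theorem idx' : (Cfsg.pCoreOf 2 K).relIndex K = 3 := by rw [h.pcore]; exact h.idx

/-- `K = [K, J]` when some `a ∈ J` inverts `y` modulo `Q` -/
theorem comm_eq {J : Subgroup G} (hJK : J ≤ normalizer (K : Set G)) {a : G} (ha : a ∈ J)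
    (hay : a * y * a⁻¹ * y ∈ Q) : ⁅K, J⁆ = K := by
  obtain ⟨N, hNdef⟩ : ∃ N : Subgroup G, N = ⁅K, J⁆ := ⟨_, rfl⟩
  rw [← hNdef]
  have hNK : N ≤ K := by
    rw [hNdef, commutator_le]
    intro k hk j hj
    rw [commutatorElement_def]
    have h1 : j * k⁻¹ * j⁻¹ ∈ K := conj_mem_of_le_normalizer hJK hj (K.inv_mem hk)
    have h2 : k * j * k⁻¹ * j⁻¹ = k * (j * k⁻¹ * j⁻¹) := by group
    rw [h2]; exact K.mul_mem hk h1
  have hKN : K ≤ normalizer (N : Set G) := hNdef ▸ normalizer_commutator_ge_left K J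
  -- `r₀ y ∈ N`
  have hry : a * y * a⁻¹ * y * y ∈ N := by
    have h1 : ⁅y, a⁆ ∈ N := hNdef ▸ commutator_mem_commutator h.yK ha
    have h2 : a * y * a⁻¹ * y * y = ⁅y, a⁆⁻¹ := by
      rw [commutatorElement_def]
      calc a * y * a⁻¹ * y * y = a * y * a⁻¹ * (y * y) := by group
        _ = a * y * a⁻¹ * y⁻¹ := by rw [← h.yinv]
        _ = (y * a * y⁻¹ * a⁻¹)⁻¹ := by group
    rw [h2]; exact N.inv_mem h1
  have hyQN : y ∈ Q ⊔ N := by
    have h1 : y = (a * y * a⁻¹ * y)⁻¹ * (a * y * a⁻¹ * y * y) := by group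
    rw [h1]
    exact (Q ⊔ N).mul_mem ((Q ⊔ N).inv_mem (mem_sup_left hay)) (mem_sup_right hry)
  have hKeq : K = Q ⊔ N := by
    apply le_antisymm
    · conv_lhs => rw [h.Keq]
      exact sup_le le_sup_left (zpowers_le.mpr hyQN)
    · exact sup_le h.QK hNK
  -- the index of `N` is a power of two
  obtain ⟨n, hn⟩ := IsPGroup.iff_card.mp h.Q2
  have hidx : N.relIndex K ∣ 2 ^ n := by
    have h1 := card_sup_mul_card_inf_of_le_normalizer Q N (hNK.trans h.KnQ)
    have h2 := card_mul_relIndex' hNK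
    rw [← hKeq, ← h2, hn] at h1
    have h3 : Nat.card N * (N.relIndex K * Nat.card ↥(Q ⊓ N)) = Nat.card N * 2 ^ n := by
      rw [← mul_assoc, h1, mul_comm]
    have h4 := Nat.eq_of_mul_eq_mul_left Nat.card_pos h3
    exact Dvd.intro _ h4
  obtain ⟨e, -, he⟩ := (Nat.dvd_prime_pow Nat.prime_two).mp hidx
  haveI hNn : (N.subgroupOf K).Normal := (normal_subgroupOf_iff_le_normalizer hNK).mpr hKN
  have hodd : ∀ g ∈ K, Odd (orderOf g) → g ∈ N := by
    intro g hg hgo
    have h1 := Subgroup.pow_index_mem (N.subgroupOf K) (⟨g, hg⟩ : ↥K)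
    have h2 : (N.subgroupOf K).index = 2 ^ e := he
    rw [h2, mem_subgroupOf] at h1
    have h3 : g ^ (2 ^ e) ∈ N := by simpa using h1
    have hcop : (2 ^ e).Coprime (orderOf g) :=
      Nat.Coprime.pow_left e (Nat.coprime_two_left.mpr hgo)
    obtain ⟨m, hm⟩ := exists_pow_eq_self_of_coprime hcop
    rw [← hm]; exact N.pow_mem h3 m
  apply le_antisymm hNK
  conv_lhs => rw [← h.gen]
  rw [closure_le]
  rintro g ⟨hg, hgo⟩
  exact hodd g hg hgo

end KD

/-- the construction of `K` from `R` and `y` -/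
theorem KD.of_data [Finite G] {R : Subgroup G} {y : G} (hR2 : IsPGroup 2 R)
    (hyR : y ∈ normalizer (R : Set G)) (hy3 : y ^ 3 = 1) (hyR' : y ∉ R) :
    KD (oddGen (R ⊔ zpowers y)) (oddGen (R ⊔ zpowers y) ⊓ R) y := by
  have : Fact (Nat.Prime 3) := ⟨Nat.prime_three⟩
  have hy1 : y ≠ 1 := fun h1 => hyR' (h1 ▸ R.one_mem)
  have hord : orderOf y = 3 := orderOf_eq_prime hy3 hy1
  have hzn : zpowers y ≤ normalizer (R : Set G) := zpowers_le.mpr hyR
  have hyK : y ∈ oddGen (R ⊔ zpowers y) := by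
    apply mem_oddGen (mem_sup_right (mem_zpowers y))
    rw [hord]; decide
  have hK₀n : R ⊔ zpowers y ≤ normalizer (R : Set G) := sup_le le_normalizer hzn
  refine ⟨hyK, hy3, fun h1 => hyR' (mem_inf.mp h1).2, inf_le_left, hR2.to_le inf_le_right, ?_, ?_,
    oddGen_gen _⟩
  · apply le_normalizer_of_conj_mem
    intro k hk x hx
    refine mem_inf.mpr ⟨?_, ?_⟩
    · exact (oddGen _).mul_mem ((oddGen _).mul_mem hk (mem_inf.mp hx).1) ((oddGen _).inv_mem hk)
    · exact conj_mem_of_le_normalizer hK₀n (oddGen_le _ hk) (mem_inf.mp hx).2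
  · apply le_antisymm
    · intro k hk
      obtain ⟨r, hr, z, hz, rfl⟩ := exists_mul_of_mem_sup hzn (oddGen_le _ hk)
      have hzK : z ∈ oddGen (R ⊔ zpowers y) := (zpowers_le.mpr hyK) hz
      have hrK : r ∈ oddGen (R ⊔ zpowers y) := by
        have h1 : r = r * z * z⁻¹ := by group
        rw [h1]; exact (oddGen _).mul_mem hk ((oddGen _).inv_mem hzK)
      exact Subgroup.mul_mem _ (mem_sup_left (mem_inf.mpr ⟨hrK, hr⟩)) (mem_sup_right hz)
    · exact sup_le inf_le_left (zpowers_le.mpr hyK)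

end Cfsg.Agent.Helper50.JComp
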