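import Mathlib
import Cfsg.Agent.Lib.Helper50.JCompB5
import Cfsg.Agent.Lib.Helper23.ThompsonJ

/-!
# Existence of `J(T)`-components (part B6): the Thompson subgroup of an intermediate subgroup
-/

set_option autoImplicit false
set_option linter.unusedSectionVars false

namespace Cfsg.Agent.Helper50.JComp

open Subgroup
open scoped commutatorElement

variable {G : Type*} [Group G] [Finite G]

theorem exists_MaxEA (T : Subgroup G) : ∃ A : Subgroup G, MaxEA T A := by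
  have hfin : ({B : Subgroup G | B ≤ T ∧ (∀ x ∈ B, x * x = 1) ∧
      ∀ x ∈ B, ∀ y ∈ B, x * y = y * x} : Set (Subgroup G)).Finite := Set.toFinite _
  have hne : ({B : Subgroup G | B ≤ T ∧ (∀ x ∈ B, x * x = 1) ∧
      ∀ x ∈ B, ∀ y ∈ B, x * y = y * x} : Set (Subgroup G)).Nonempty := by
    refine ⟨⊥, bot_le, ?_, ?_⟩
    · intro x hx
      rw [mem_bot] at hx
      rw [hx, one_mul]
    · intro x hx y hy
      rw [mem_bot] at hx hy
      rw [hx, hy]
  obtain ⟨A, hA, hmax⟩ := Set.exists_max_image _ (fun B : Subgroup G => Nat.card B) hfin hne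
  exact ⟨A, hA.1, hA.2.1, hA.2.2, fun B hBT hB2 hBc => hmax B ⟨hBT, hB2, hBc⟩⟩

theorem card_map_conj (l : G) (B : Subgroup G) :
    Nat.card ↥(B.map (MulAut.conj l).toMonoidHom) = Nat.card B :=
  Subgroup.card_map_of_injective (MulAut.conj l).injective

theorem map_conj_sq {l : G} {B : Subgroup G} (hB2 : ∀ x ∈ B, x * x = 1) :
    ∀ x ∈ B.map (MulAut.conj l).toMonoidHom, x * x = 1 := by
  intro z hz
  obtain ⟨x, hx, rfl⟩ := mem_map_conj.mp hz
  calc l * x * l⁻¹ * (l * x * l⁻¹) = l * (x * x) * l⁻¹ := by group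
    _ = 1 := by rw [hB2 x hx]; group

theorem map_conj_comm {l : G} {B : Subgroup G} (hBc : ∀ x ∈ B, ∀ y ∈ B, x * y = y * x) :
    ∀ x ∈ B.map (MulAut.conj l).toMonoidHom, ∀ y ∈ B.map (MulAut.conj l).toMonoidHom,
      x * y = y * x := by
  intro z hz z' hz'
  obtain ⟨x, hx, rfl⟩ := mem_map_conj.mp hz
  obtain ⟨x', hx', rfl⟩ := mem_map_conj.mp hz'
  calc l * x * l⁻¹ * (l * x' * l⁻¹) = l * (x * x') * l⁻¹ := by group
    _ = l * (x' * x) * l⁻¹ := by rw [hBc x hx x' hx']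
    _ = l * x' * l⁻¹ * (l * x * l⁻¹) := by group

theorem map_conj_inv_le {l : G} {B T : Subgroup G} (h : B ≤ T.map (MulAut.conj l).toMonoidHom) :
    B.map (MulAut.conj l⁻¹).toMonoidHom ≤ T := by
  intro z hz
  obtain ⟨x, hx, rfl⟩ := mem_map_conj.mp hz
  obtain ⟨t, ht, rfl⟩ := mem_map_conj.mp (h hx)
  have : l⁻¹ * (l * t * l⁻¹) * l⁻¹⁻¹ = t := by group
  rw [this]; exact ht

/-- if `J(T) ≤ S ≤ T^l` then `J(S) = J(T)` -/
theorem thompson_eq_of_sandwich {T S : Subgroup G} {l : G}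
    (hJS : Cfsg.thompsonSubgroupOf 2 T ≤ S) (hST : S ≤ T.map (MulAut.conj l).toMonoidHom) :
    Cfsg.thompsonSubgroupOf 2 S = Cfsg.thompsonSubgroupOf 2 T := by
  obtain ⟨A₀, hA₀⟩ := exists_MaxEA T
  have hA₀S : A₀ ≤ S := hA₀.le_thompson.trans hJS
  -- the members of `A(T)` are members of `A(S)`
  have h1 : ∀ A : Subgroup G, MaxEA T A → MaxEA S A := by
    intro A hA
    refine ⟨hA.le_thompson.trans hJS, hA.2.1, hA.2.2.1, ?_⟩
    intro B hBS hB2 hBc
    have h2 := hA.2.2.2 _ (map_conj_inv_le (hBS.trans hST)) (map_conj_sq hB2) (map_conj_comm hBc)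
    rwa [card_map_conj] at h2
  -- the members of `A(S)` are members of `A(T^l)`
  have h2 : ∀ A : Subgroup G, MaxEA S A → MaxEA (T.map (MulAut.conj l).toMonoidHom) A := by
    intro A hA
    refine ⟨hA.1.trans hST, hA.2.1, hA.2.2.1, ?_⟩
    intro B hBT hB2 hBc
    have h3 := hA₀.2.2.2 _ (map_conj_inv_le hBT) (map_conj_sq hB2) (map_conj_comm hBc)
    rw [card_map_conj] at h3
    exact h3.trans (hA.2.2.2 A₀ hA₀S hA₀.2.1 hA₀.2.2.1)
  have h3 : Cfsg.thompsonSubgroupOf 2 T ≤ Cfsg.thompsonSubgroupOf 2 S := by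
    rw [thompsonTwo_eq T, thompsonTwo_eq S]
    apply sSup_le
    intro A hA
    exact le_sSup (h1 A hA)
  have h4 : Cfsg.thompsonSubgroupOf 2 S ≤
      Cfsg.thompsonSubgroupOf 2 (T.map (MulAut.conj l).toMonoidHom) := by
    rw [thompsonTwo_eq S, thompsonTwo_eq (T.map (MulAut.conj l).toMonoidHom)]
    apply sSup_le
    intro A hA
    exact le_sSup (h2 A hA)
  have h5 : Cfsg.thompsonSubgroupOf 2 (T.map (MulAut.conj l).toMonoidHom) =
      (Cfsg.thompsonSubgroupOf 2 T).map (MulAut.conj l).toMonoidHom :=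
    Cfsg.Agent.Helper10.thompsonSubgroupOf_map 2 (MulAut.conj l).toMonoidHom T
      (Cfsg.Agent.Helper23.conj_injOn l T)
  symm
  apply Subgroup.eq_of_le_of_card_ge h3
  have h6 := Subgroup.card_le_of_le h4
  rwa [h5, card_map_conj] at h6

end Cfsg.Agent.Helper50.JComp
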