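import Mathlib
import Cfsg.Agent.Lib.Helper50.JCompB5

/-!
# Existence of `J(T)`-components (part B7): `W_K` is a four-group
-/

set_option autoImplicit false
set_option linter.unusedSectionVars false

namespace Cfsg.Agent.Helper50.JComp

open Subgroup
open scoped commutatorElement
open Cfsg.Agent.Helper50.Higman (omegaZ mem_omegaZ omegaZ_le)

variable {G : Type*} [Group G] [Finite G]

namespace KD

variable {K Q : Subgroup G} {y : G} (h : KD K Q y)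
include h

theorem wOf_eq : Cfsg.wOf K = ⁅omegaZ Q, K⁆ := by
  unfold Cfsg.wOf
  rw [h.pcore, omegaCenterOf_eq]

theorem KnU : K ≤ normalizer ((omegaZ Q : Subgroup G) : Set G) :=
  h.KnQ.trans (normalizer_le_normalizer_omegaZ Q)

theorem W_le_U : ⁅omegaZ Q, K⁆ ≤ omegaZ Q := by
  rw [commutator_le]
  intro u hu k hk
  rw [commutatorElement_def]
  have h1 : k * u⁻¹ * k⁻¹ ∈ omegaZ Q :=
    conj_mem_of_le_normalizer h.KnU hk ((omegaZ Q).inv_mem hu)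
  have h2 : u * k * u⁻¹ * k⁻¹ = u * (k * u⁻¹ * k⁻¹) := by group
  rw [h2]; exact (omegaZ Q).mul_mem hu h1

theorem KnW : K ≤ normalizer ((⁅omegaZ Q, K⁆ : Subgroup G) : Set G) :=
  le_normalizer_commutator h.KnU le_normalizer

theorem W_eq : ⁅omegaZ Q, K⁆ = ⁅omegaZ Q, zpowers y⁆ := by
  apply le_antisymm
  · rw [commutator_le]
    intro u hu k hk
    obtain ⟨huQ, huc, hu2⟩ := mem_omegaZ.mp hu
    have key : ∀ q ∈ Q, ∀ z ∈ zpowers y, ⁅u, q * z⁆ = ⁅u, z⁆ := by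
      intro q hq z hz
      have hzK : z ∈ K := h.zy_le hz
      have h1 : ⁅u, z⁆ ∈ omegaZ Q := h.W_le_U (commutator_mem_commutator hu hzK)
      have h2 : q * ⁅u, z⁆ = ⁅u, z⁆ * q := (mem_omegaZ.mp h1).2.1 q hq
      rw [commutatorElement_def] at h2 ⊢
      rw [commutatorElement_def]
      calc u * (q * z) * u⁻¹ * (q * z)⁻¹ = (u * q) * (z * u⁻¹ * z⁻¹) * q⁻¹ := by group
        _ = (q * u) * (z * u⁻¹ * z⁻¹) * q⁻¹ := by rw [huc q hq]
        _ = (q * (u * z * u⁻¹ * z⁻¹)) * q⁻¹ := by group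
        _ = (u * z * u⁻¹ * z⁻¹ * q) * q⁻¹ := by rw [h2]
        _ = u * z * u⁻¹ * z⁻¹ := by group
    rw [h.Keq] at hk
    obtain ⟨q, hq, z, hz, rfl⟩ := exists_mul_of_mem_sup (h.zy_le.trans h.KnQ) hk
    rw [key q hq z hz]
    exact commutator_mem_commutator hu hz
  · exact commutator_mono le_rfl h.zy_le

theorem U_comm : ∀ x ∈ omegaZ Q, ∀ z ∈ omegaZ Q, x * z = z * x := fun x hx _ hz =>
  ((mem_omegaZ.mp hz).2.1 x (omegaZ_le Q hx))

/-- `y` acts fixed-point-freely on `W` -/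
theorem W_fpf : ∀ u ∈ ⁅omegaZ Q, K⁆, y * u * y⁻¹ = u → u = 1 := by
  intro u hu hfix
  haveI : IsMulCommutative ↥(omegaZ Q) :=
    ⟨⟨fun a b => Subtype.ext (h.U_comm a a.2 b b.2)⟩⟩
  have hcop : (Nat.card ↥(zpowers y)).Coprime (Nat.card ↥(omegaZ Q)) := by
    obtain ⟨n, hn⟩ := IsPGroup.iff_card.mp (h.Q2.to_le (omegaZ_le Q))
    rw [hn, h.card_zy]
    apply Nat.Coprime.pow_right
    decide
  have h1 := Cfsg.Agent.Helper1.ZCoprime.commutator_inf_centralizer_eq_bot (zpowers y) (omegaZ Q)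
    (h.zy_le.trans h.KnU) hcop
  rw [← h.W_eq] at h1
  have h2 : u ∈ centralizer ((zpowers y : Subgroup G) : Set G) := by
    have h3 : zpowers y ≤ centralizer ({u} : Set G) := by
      rw [zpowers_le, mem_centralizer_iff]
      intro x hx
      rw [Set.mem_singleton_iff] at hx
      rw [hx]
      calc u * y = (y * u * y⁻¹)⁻¹⁻¹ * y := by rw [hfix, inv_inv]
        _ = y * u := by group
    rw [mem_centralizer_iff]
    intro z hz
    exact (mem_centralizer_iff.mp (h3 hz) u rfl).symm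
  have h4 : u ∈ ⁅omegaZ Q, K⁆ ⊓ centralizer ((zpowers y : Subgroup G) : Set G) :=
    mem_inf.mpr ⟨hu, h2⟩
  rw [h1, mem_bot] at h4
  exact h4

/-- **`W_K` is a four-group.** -/
theorem wOf_four {A : Subgroup G} {a w₁ : G} (hA2 : ∀ b ∈ A, b * b = 1)
    (hAK : A ≤ normalizer (K : Set G)) (ha : a ∈ A) (hay : a * y * a⁻¹ * y ∈ Q)
    (hmax : ∀ B : Subgroup G, B ≤ A ⊔ Q → (∀ x ∈ B, x * x = 1) → Nat.card B ≤ Nat.card A)
    (hw₁ : w₁ ∈ omegaZ Q) (hw₁y : y * w₁ ≠ w₁ * y) :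
    Nat.card ↥(Cfsg.wOf K) = 4 ∧ ∀ w ∈ Cfsg.wOf K, w * w = 1 := by
  have : Fact (Nat.Prime 2) := ⟨Nat.prime_two⟩
  rw [h.wOf_eq]
  obtain ⟨W, hWdef⟩ : ∃ W : Subgroup G, W = ⁅omegaZ Q, K⁆ := ⟨_, rfl⟩
  rw [← hWdef]
  have hWU : W ≤ omegaZ Q := hWdef ▸ h.W_le_U
  have hKW : K ≤ normalizer (W : Set G) := hWdef ▸ h.KnW
  have hfpf : ∀ u ∈ W, y * u * y⁻¹ = u → u = 1 := hWdef ▸ h.W_fpf
  have hW2 : ∀ u ∈ W, u * u = 1 := fun u hu => (mem_omegaZ.mp (hWU hu)).2.2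
  have hQW : ∀ q ∈ Q, ∀ u ∈ W, q * u * q⁻¹ = u := by
    intro q hq u hu
    rw [(mem_omegaZ.mp (hWU hu)).2.1 q hq]; group
  have hAQ : A ≤ normalizer (Q : Set G) := by
    have h1 := Cfsg.Agent.Helper23.normalizer_le_normalizer_pCoreOf (p := 2) K
    rw [h.pcore] at h1
    exact hAK.trans h1
  have hAU : A ≤ normalizer ((omegaZ Q : Subgroup G) : Set G) :=
    hAQ.trans (normalizer_le_normalizer_omegaZ Q)
  have hAW : A ≤ normalizer (W : Set G) := hWdef ▸ le_normalizer_commutator hAU hAK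
  have hyW : ∀ u ∈ W, y * u * y⁻¹ ∈ W := fun u hu => conj_mem_of_le_normalizer hKW h.yK hu
  have hyW' : ∀ u ∈ W, y⁻¹ * u * y ∈ W := fun u hu => conj_mem_of_le_normalizer' hKW h.yK hu
  -- the two ways an element of `N(K)` can act on `y`
  have hplus : ∀ b : G, ∀ q ∈ Q, b * y * b⁻¹ = q * y → (∀ u ∈ W, b * u * b⁻¹ ∈ W) →
      ∀ u ∈ W, b * (y * u * y⁻¹) * b⁻¹ = y * (b * u * b⁻¹) * y⁻¹ := by
    intro b q hq hb hbW u hu
    calc b * (y * u * y⁻¹) * b⁻¹ = (b * y * b⁻¹) * (b * u * b⁻¹) * (b * y * b⁻¹)⁻¹ := by group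
      _ = q * (y * (b * u * b⁻¹) * y⁻¹) * q⁻¹ := by rw [hb]; group
      _ = y * (b * u * b⁻¹) * y⁻¹ := hQW q hq _ (hyW _ (hbW u hu))
  have hminus : ∀ b : G, ∀ q ∈ Q, b * y * b⁻¹ = q * y⁻¹ → (∀ u ∈ W, b * u * b⁻¹ ∈ W) →
      ∀ u ∈ W, b * (y * u * y⁻¹) * b⁻¹ = y⁻¹ * (b * u * b⁻¹) * y := by
    intro b q hq hb hbW u hu
    calc b * (y * u * y⁻¹) * b⁻¹ = (b * y * b⁻¹) * (b * u * b⁻¹) * (b * y * b⁻¹)⁻¹ := by group
      _ = q * (y⁻¹ * (b * u * b⁻¹) * y) * q⁻¹ := by rw [hb]; group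
      _ = y⁻¹ * (b * u * b⁻¹) * y := hQW q hq _ (hyW' _ (hbW u hu))
  have hAy : ∀ b ∈ A, (∀ u ∈ W, b * (y * u * y⁻¹) * b⁻¹ = y * (b * u * b⁻¹) * y⁻¹) ∨
      (∀ u ∈ W, b * (y * u * y⁻¹) * b⁻¹ = y⁻¹ * (b * u * b⁻¹) * y) := by
    intro b hb
    have hbW : ∀ u ∈ W, b * u * b⁻¹ ∈ W := fun u hu => conj_mem_of_le_normalizer hAW hb hu
    have h1 : b * y * b⁻¹ ∈ K := conj_mem_of_le_normalizer hAK hb h.yK
    obtain ⟨q, hq, h2 | h2 | h2⟩ := h.cases h1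
    · exfalso
      apply h.yQ
      have h3 := conj_mem_of_le_normalizer' hAQ hb hq
      rw [← h2] at h3
      have h4 : b⁻¹ * (b * y * b⁻¹) * b = y := by group
      rwa [h4] at h3
    · exact Or.inl (hplus b q hq h2 hbW)
    · exact Or.inr (hminus b q hq h2 hbW)
  have hay' : ∀ u ∈ W, a * (y * u * y⁻¹) * a⁻¹ = y⁻¹ * (a * u * a⁻¹) * y := by
    apply hminus a _ hay
    · group
    · exact fun u hu => conj_mem_of_le_normalizer hAW ha hu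
  have hle4 : Nat.card W ≤ 4 := by
    apply card_le_four_of_offender hW2 (hKW h.yK) h.y3 hfpf hA2 hAW hAy ha hay'
    intro B hB hB2
    exact hmax B (hB.trans (sup_le_sup_left (hWU.trans (omegaZ_le Q)) A)) hB2
  -- `W ≠ 1`
  obtain ⟨w₂, hw₂def⟩ : ∃ w₂ : G, w₂ = ⁅w₁, y⁆ := ⟨_, rfl⟩
  have hw₂W : w₂ ∈ W := by rw [hw₂def, hWdef]; exact commutator_mem_commutator hw₁ h.yK
  have hw₂1 : w₂ ≠ 1 := by
    intro h1
    apply hw₁y
    rw [hw₂def, commutatorElement_def] at h1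
    calc y * w₁ = (w₁ * y * w₁⁻¹ * y⁻¹)⁻¹ * (w₁ * y) := by group
      _ = w₁ * y := by rw [h1]; group
  have hW2g : IsPGroup 2 W := isPGroup_two_of_sq hW2
  obtain ⟨n, hn⟩ := IsPGroup.iff_card.mp hW2g
  refine ⟨?_, hW2⟩
  have hn2 : n ≤ 2 := by
    by_contra hlt
    push Not at hlt
    have : 2 ^ 3 ≤ 2 ^ n := Nat.pow_le_pow_right (by norm_num) hlt
    omega
  have hn0 : n ≠ 0 := by
    intro h0
    rw [h0, pow_zero] at hn
    have h1 : W = ⊥ := Subgroup.card_eq_one.mp hn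
    rw [h1, mem_bot] at hw₂W
    exact hw₂1 hw₂W
  have hn1 : n ≠ 1 := by
    intro h1
    rw [h1, pow_one] at hn
    have h2 := eq_of_card_le_two (le_of_eq hn) hw₂W (hyW w₂ hw₂W) (hW2 w₂ hw₂W) hw₂1 (by
      intro h3
      apply hw₂1
      calc w₂ = y⁻¹ * (y * w₂ * y⁻¹) * y := by group
        _ = 1 := by rw [h3]; group)
    exact hw₂1 (hfpf w₂ hw₂W h2)
  have : n = 2 := by omega
  rw [hn, this]
  norm_num

end KD

end Cfsg.Agent.Helper50.JComp
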