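import Mathlib
import Cfsg.Agent.Lib.Helper50.JCompB4
import Cfsg.Agent.Lib.Helper50.JCompB6
import Cfsg.Agent.Lib.Helper50.JCompB7
import Cfsg.Agent.Lib.Helper10.JCompTr

/-!
# Existence of `J(T)`-components (part B8): every member of `ℒ(T)` contains a `J(T)`-component
-/

set_option autoImplicit false
set_option linter.unusedSectionVars false

namespace Cfsg.Agent.Helper50.JComp

open Subgroup
open scoped commutatorElement
open Cfsg.Agent.Helper50.Higman (omegaZ mem_omegaZ omegaZ_le)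
open Cfsg.Agent.Helper1.FF (VZ)

variable {G : Type*} [Group G] [Finite G]

/-- Sylow's theorem in `L`, in ambient form -/
theorem exists_conj_of_sylow {T L S : Subgroup G} (TL : Sylow 2 ↥L)
    (hTLeq : (TL : Subgroup ↥L) = T.subgroupOf L) (hSL : S ≤ L) (hS2 : IsPGroup 2 S) :
    ∃ l : G, S ≤ T.map (MulAut.conj l).toMonoidHom := by
  have : Fact (Nat.Prime 2) := ⟨Nat.prime_two⟩
  have hS' : IsPGroup 2 ↥(S.subgroupOf L) := hS2.comap_subtype
  obtain ⟨P, hP⟩ := hS'.exists_le_sylow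
  obtain ⟨g, hg⟩ := MulAction.exists_smul_eq ↥L TL P
  refine ⟨(g : G), ?_⟩
  intro s hs
  have h1 : (⟨s, hSL hs⟩ : ↥L) ∈ (P : Subgroup ↥L) := hP (mem_subgroupOf.mpr hs)
  rw [← hg, Sylow.coe_subgroup_smul, Subgroup.mem_pointwise_smul_iff_inv_smul_mem, hTLeq,
    mem_subgroupOf] at h1
  rw [mem_map_conj]
  refine ⟨_, h1, ?_⟩
  simp only [MulAut.smul_def, MulAut.inv_apply, MulAut.conj_symm_apply, Subgroup.coe_mul,
    Subgroup.coe_inv]
  group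

/-- the element `w₁ = [v, y]` -/
theorem exists_w1 {R : Subgroup G} {y v : G} (hyR : y ∈ normalizer (R : Set G)) (hy3 : y ^ 3 = 1)
    (hv : v ∈ omegaZ R) (hvy : y * v ≠ v * y) :
    ∃ w₁ ∈ omegaZ (oddGen (R ⊔ zpowers y) ⊓ R), y * w₁ ≠ w₁ * y := by
  have : Fact (Nat.Prime 3) := ⟨Nat.prime_three⟩
  have hy1 : y ≠ 1 := by
    intro h1
    apply hvy
    rw [h1, one_mul, mul_one]
  have hord : orderOf y = 3 := orderOf_eq_prime hy3 hy1
  have hyZ : y ∈ normalizer ((omegaZ R : Subgroup G) : Set G) :=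
    normalizer_le_normalizer_omegaZ R hyR
  have hyc : ∀ u ∈ omegaZ R, y * u * y⁻¹ ∈ omegaZ R := fun u hu =>
    (mem_normalizer_iff.mp hyZ u).mp hu
  obtain ⟨hvR, hvc, hv2⟩ := mem_omegaZ.mp hv
  have hvinv : v⁻¹ = v := inv_eq_of_mul_eq_one_left hv2
  have hv₁ : y * v * y⁻¹ ∈ omegaZ R := hyc v hv
  have hv₂ : y * (y * v * y⁻¹) * y⁻¹ ∈ omegaZ R := hyc _ hv₁
  have hw : v * (y * v * y⁻¹) ∈ omegaZ R := (omegaZ R).mul_mem hv hv₁
  have hZc : ∀ x ∈ omegaZ R, ∀ z ∈ omegaZ R, x * z = z * x := fun x hx z hz =>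
    ((mem_omegaZ.mp hz).2.1 x (omegaZ_le R hx))
  refine ⟨v * (y * v * y⁻¹), ?_, ?_⟩
  · obtain ⟨hwR, hwc, hw2⟩ := mem_omegaZ.mp hw
    refine mem_omegaZ.mpr ⟨mem_inf.mpr ⟨?_, hwR⟩, fun q hq => hwc q (mem_inf.mp hq).2, hw2⟩
    have h1 : v * (y * v * y⁻¹) = (v * y * v⁻¹) * y⁻¹ := by rw [hvinv]; group
    rw [h1]
    have hyK₀ : y ∈ R ⊔ zpowers y := mem_sup_right (mem_zpowers y)
    have hvK₀ : v ∈ R ⊔ zpowers y := mem_sup_left hvR
    have h2 : v * y * v⁻¹ ∈ oddGen (R ⊔ zpowers y) := by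
      apply mem_oddGen
      · exact (R ⊔ zpowers y).mul_mem ((R ⊔ zpowers y).mul_mem hvK₀ hyK₀)
          ((R ⊔ zpowers y).inv_mem hvK₀)
      · rw [orderOf_conj', hord]; decide
    have h3 : y ∈ oddGen (R ⊔ zpowers y) := by
      apply mem_oddGen hyK₀
      rw [hord]; decide
    exact (oddGen _).mul_mem h2 ((oddGen _).inv_mem h3)
  · intro heq
    apply hvy
    -- `y w₁ y⁻¹ = w₁`
    have h1 : (y * v * y⁻¹) * (y * (y * v * y⁻¹) * y⁻¹) = v * (y * v * y⁻¹) := by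
      calc (y * v * y⁻¹) * (y * (y * v * y⁻¹) * y⁻¹) = (y * (v * (y * v * y⁻¹))) * y⁻¹ := by group
        _ = (v * (y * v * y⁻¹) * y) * y⁻¹ := by rw [heq]
        _ = v * (y * v * y⁻¹) := by group
    have h2 : y * (y * v * y⁻¹) * y⁻¹ = v := by
      have h3 : (y * v * y⁻¹) * (y * (y * v * y⁻¹) * y⁻¹) = (y * v * y⁻¹) * v := by
        rw [h1]; exact hZc _ hv _ hv₁
      exact mul_left_cancel h3
    have hyyy : y * y * y = 1 := by rw [← hy3, pow_succ, pow_two]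
    have hyinv : y⁻¹ = y * y := by
      calc y⁻¹ = y⁻¹ * (y * y * y) := by rw [hyyy, mul_one]
        _ = y * y := by group
    -- `y⁻¹ v y = v`
    have h4 : y⁻¹ * v * y = v := by
      calc y⁻¹ * v * y = (y * y) * v * (y * y)⁻¹ := by rw [← hyinv, inv_inv]
        _ = y * (y * v * y⁻¹) * y⁻¹ := by group
        _ = v := h2
    calc y * v = y * (y⁻¹ * v * y) := by rw [h4]
      _ = v * y := by group

/-- the `J(T)`-component attached to an element `y` of order three inverted by `a` -/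
theorem isJComponent_of_data {T L : Subgroup G} (hLT : L ∈ Cfsg.jOvergroups T) (TL : Sylow 2 ↥L)
    (hTLeq : (TL : Subgroup ↥L) = T.subgroupOf L) (hS : Cfsg.Agent.Helper10.JCompSub.Setup TL)
    {A : Subgroup G} (hA : MaxEA T A) {a' y' : ↥L} (haA : (a' : G) ∈ A) (hy'3 : y' ^ 3 = 1)
    (hy'C : y' ∉ centralizer (VZ 2 ↥L : Set ↥L))
    (hay' : a' * y' * a'⁻¹ * y' ∈ Cfsg.pCore 2 ↥L)
    (hJn' : (Cfsg.thompsonSubgroupOf 2 T).subgroupOf L ≤
      normalizer ((Cfsg.pCore 2 ↥L ⊔ zpowers y' : Subgroup ↥L) : Set ↥L)) :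
    Cfsg.IsJComponent T (oddGen (Cfsg.pCoreOf 2 L ⊔ zpowers (y' : G))) ∧
      oddGen (Cfsg.pCoreOf 2 L ⊔ zpowers (y' : G)) ≤ L ∧
      (y' : G) ∈ oddGen (Cfsg.pCoreOf 2 L ⊔ zpowers (y' : G)) := by
  have : Fact (Nat.Prime 2) := ⟨Nat.prime_two⟩
  obtain ⟨J, hJdef⟩ : ∃ J : Subgroup G, J = Cfsg.thompsonSubgroupOf 2 T := ⟨_, rfl⟩
  have hJT : J ≤ T := by
    rw [hJdef]; unfold Cfsg.thompsonSubgroupOf; exact Subgroup.map_subtype_le _
  have hTL : T ≤ L := hLT.1.1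
  have hT2 : IsPGroup 2 T := hLT.1.2.1
  have hT1 : T ≠ ⊥ := by
    intro h0
    apply hLT.2.1
    rw [← hJdef]
    intro j hj
    have := hJT hj
    rw [h0, mem_bot] at this
    rw [this]; exact Subgroup.one_mem _
  obtain ⟨hJ1, hJ2, hJ3⟩ := Cfsg.Agent.Helper10.JCompTr.thompson_props hLT.1 TL hTLeq
  rw [← hJdef] at hJ1 hJ2 hJ3
  obtain ⟨hVQ, hVc, hV2⟩ := Cfsg.Agent.Helper10.JCompUniq.V_props hS
  -- `R = O₂(L)`
  obtain ⟨R, hRdef⟩ : ∃ R : Subgroup G, R = Cfsg.pCoreOf 2 L := ⟨_, rfl⟩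
  rw [← hRdef]
  have hRmap : R = (Cfsg.pCore 2 ↥L).map L.subtype := hRdef
  have hR2 : IsPGroup 2 R := hRdef ▸ Cfsg.Agent.Helper23.pCoreOf_isPGroup L
  have hLR : L ≤ normalizer (R : Set G) := hRdef ▸ Cfsg.Agent.Helper23.le_normalizer_pCoreOf L
  have hRL : R ≤ L := hRdef ▸ Cfsg.Agent.Helper23.pCoreOf_le L
  have hmemR : ∀ x : ↥L, (x : G) ∈ R ↔ x ∈ Cfsg.pCore 2 ↥L := by
    intro x
    rw [hRmap]
    constructor
    · rintro ⟨z, hz, hzx⟩
      have : z = x := Subtype.ext hzx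
      rwa [← this]
    · intro hx
      exact ⟨x, hx, rfl⟩
  have hRT : R ≤ T := by
    intro r hr
    have hrL : r ∈ L := hRL hr
    have h1 : (⟨r, hrL⟩ : ↥L) ∈ Cfsg.pCore 2 ↥L := (hmemR ⟨r, hrL⟩).mp hr
    have h2 := hS.Q_le_T h1
    rw [hTLeq, mem_subgroupOf] at h2
    exact h2
  obtain ⟨a, hadef⟩ : ∃ a : G, a = (a' : G) := ⟨_, rfl⟩
  rw [← hadef] at haA
  have haJ : a ∈ J := hJdef ▸ hA.le_thompson haA
  rw [← hJdef] at hJn'
  -- transport to `G`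
  obtain ⟨y, hydef⟩ : ∃ y : G, y = (y' : G) := ⟨_, rfl⟩
  rw [← hydef]
  have hyL : y ∈ L := hydef ▸ y'.2
  have hy3 : y ^ 3 = 1 := by
    rw [hydef]
    have := congrArg Subtype.val hy'3
    simpa using this
  have hyR' : y ∉ R := by
    intro h1
    apply hy'C
    rw [hydef, hmemR] at h1
    rw [mem_centralizer_iff]
    intro v hv
    exact hVc v hv y' h1
  have hay : a * y * a⁻¹ * y ∈ R := by
    have h1 := (hmemR _).mpr hay'
    rw [hydef, hadef]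
    simpa using h1
  have hK₀map : R ⊔ zpowers y = (Cfsg.pCore 2 ↥L ⊔ zpowers y').map L.subtype := by
    rw [Subgroup.map_sup, MonoidHom.map_zpowers, ← hRmap, hydef]
    rfl
  have hJn : J ≤ normalizer ((R ⊔ zpowers y : Subgroup G) : Set G) := by
    apply le_normalizer_of_conj_mem
    intro j hj x hx
    rw [hK₀map] at hx ⊢
    obtain ⟨x', hx', rfl⟩ := hx
    have hjL : j ∈ L := hTL (hJT hj)
    have h1 : (⟨j, hjL⟩ : ↥L) ∈ J.subgroupOf L := mem_subgroupOf.mpr hj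
    have h2 := conj_mem_of_le_normalizer hJn' h1 hx'
    exact ⟨_, h2, by simp⟩
  -- the element `v`
  obtain ⟨v', hv'V, hv'y⟩ : ∃ v' ∈ VZ 2 ↥L, v' * y' ≠ y' * v' := by
    by_contra hcon
    push Not at hcon
    apply hy'C
    rw [mem_centralizer_iff]
    exact hcon
  have hv : (v' : G) ∈ omegaZ R := by
    refine mem_omegaZ.mpr ⟨(hmemR v').mpr (hVQ hv'V), ?_, ?_⟩
    · intro q hq
      have hqL : q ∈ L := hRL hq
      have h1 := hVc v' hv'V ⟨q, hqL⟩ ((hmemR ⟨q, hqL⟩).mp hq)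
      have h2 := congrArg Subtype.val h1
      simpa using h2.symm
    · have h1 := congrArg Subtype.val (hV2 v' hv'V)
      simpa using h1
  have hvy : y * (v' : G) ≠ (v' : G) * y := by
    intro h1
    apply hv'y
    apply Subtype.ext
    rw [hydef] at h1
    simpa using h1.symm
  -- the component
  have hyR : y ∈ normalizer (R : Set G) := hLR hyL
  have hKD := KD.of_data hR2 hyR hy3 hyR'
  obtain ⟨w₁, hw₁, hw₁y⟩ := exists_w1 hyR hy3 hv hvy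
  obtain ⟨K, hKdef⟩ : ∃ K : Subgroup G, K = oddGen (R ⊔ zpowers y) := ⟨_, rfl⟩
  rw [← hKdef] at hKD hw₁ ⊢
  have hKL : K ≤ L := by
    rw [hKdef]
    exact (oddGen_le _).trans (sup_le hRL (zpowers_le.mpr hyL))
  have hJK : J ≤ normalizer (K : Set G) := by
    rw [hKdef]; exact hJn.trans (normalizer_le_normalizer_oddGen _)
  have hayQ : a * y * a⁻¹ * y ∈ K ⊓ R := by
    refine mem_inf.mpr ⟨?_, hay⟩
    exact K.mul_mem (conj_mem_of_le_normalizer hJK haJ hKD.yK) hKD.yK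
  have hAJ : A ≤ J := hJdef ▸ hA.le_thompson
  refine ⟨⟨hKD.gen, ?_, hKD.idx', ?_, ?_⟩, hKL, hKD.yK⟩
  · rw [← hJdef]
    exact hKD.comm_eq hJK haJ hayQ
  · rw [← hJdef]
    intro S hSyl hJS
    have hSL : S ≤ L := hSyl.1.trans (sup_le hKL (hJT.trans hTL))
    obtain ⟨l, hl⟩ := exists_conj_of_sylow TL hTLeq hSL hSyl.2.1
    rw [hJdef] at hJS ⊢
    exact thompson_eq_of_sandwich hJS hl
  · apply hKD.wOf_four hA.2.1 (hAJ.trans hJK) haA hayQ _ hw₁ hw₁y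
    intro B hB hB2
    apply hA.2.2.2 B _ hB2 (comm_of_exp_two hB2)
    exact hB.trans (sup_le hA.1 (inf_le_right.trans hRT))

/-- **Every member of `ℒ(T)` contains a `J(T)`-component.** -/
theorem exists_jcomponent
    (hN : ∀ N : Subgroup G, Cfsg.IsTwoLocal N → Group.IsSolvable ↥N)
    (hZ : ∀ S : Sylow 2 G, Subgroup.centralizer (Cfsg.omegaCenterOf (S : Subgroup G) : Set G) ≤
      Subgroup.normalizer ((S : Subgroup G) : Set G))
    {T L : Subgroup G} (hLT : L ∈ Cfsg.jOvergroups T) :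
    ∃ K : Subgroup G, Cfsg.IsJComponent T K ∧ K ≤ L := by
  have : Fact (Nat.Prime 2) := ⟨Nat.prime_two⟩
  obtain ⟨J, hJdef⟩ : ∃ J : Subgroup G, J = Cfsg.thompsonSubgroupOf 2 T := ⟨_, rfl⟩
  have hJT : J ≤ T := by
    rw [hJdef]; unfold Cfsg.thompsonSubgroupOf; exact Subgroup.map_subtype_le _
  have hTL : T ≤ L := hLT.1.1
  have hT2 : IsPGroup 2 T := hLT.1.2.1
  have hT1 : T ≠ ⊥ := by
    intro h0
    apply hLT.2.1
    rw [← hJdef]
    intro j hj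
    have := hJT hj
    rw [h0, mem_bot] at this
    rw [this]; exact Subgroup.one_mem _
  obtain ⟨TL, hTLeq, hS⟩ := Cfsg.Agent.Helper10.JCompTr.exists_setup hN hZ hT1 hLT
  obtain ⟨hJ1, hJ2, hJ3⟩ := Cfsg.Agent.Helper10.JCompTr.thompson_props hLT.1 TL hTLeq
  rw [← hJdef] at hJ1 hJ2 hJ3
  obtain ⟨hVQ, hVc, hV2⟩ := Cfsg.Agent.Helper10.JCompUniq.V_props hS
  -- `R = O₂(L)`
  obtain ⟨R, hRdef⟩ : ∃ R : Subgroup G, R = Cfsg.pCoreOf 2 L := ⟨_, rfl⟩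
  have hRmap : R = (Cfsg.pCore 2 ↥L).map L.subtype := hRdef
  have hR2 : IsPGroup 2 R := hRdef ▸ Cfsg.Agent.Helper23.pCoreOf_isPGroup L
  have hLR : L ≤ normalizer (R : Set G) := hRdef ▸ Cfsg.Agent.Helper23.le_normalizer_pCoreOf L
  have hRL : R ≤ L := hRdef ▸ Cfsg.Agent.Helper23.pCoreOf_le L
  have hmemR : ∀ x : ↥L, (x : G) ∈ R ↔ x ∈ Cfsg.pCore 2 ↥L := by
    intro x
    rw [hRmap]
    constructor
    · rintro ⟨z, hz, hzx⟩
      have : z = x := Subtype.ext hzx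
      rwa [← this]
    · intro hx
      exact ⟨x, hx, rfl⟩
  have hRT : R ≤ T := by
    intro r hr
    have hrL : r ∈ L := hRL hr
    have h1 : (⟨r, hrL⟩ : ↥L) ∈ Cfsg.pCore 2 ↥L := (hmemR ⟨r, hrL⟩).mp hr
    have h2 := hS.Q_le_T h1
    rw [hTLeq, mem_subgroupOf] at h2
    exact h2
  -- an offender
  obtain ⟨C, hCdef⟩ : ∃ C : Subgroup ↥L, C = centralizer (VZ 2 ↥L : Set ↥L) := ⟨_, rfl⟩
  have hex : ∃ A : Subgroup G, MaxEA T A ∧ ¬ A ≤ C.map L.subtype := by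
    by_contra hcon
    push Not at hcon
    apply hLT.2.1
    rw [← hJdef, ← hRdef]
    have h1 : J ≤ C.map L.subtype := by
      rw [hJdef, thompsonTwo_eq]
      exact sSup_le fun A hA => hcon A hA
    intro j hj
    obtain ⟨c, hc, rfl⟩ := h1 hj
    rw [Subgroup.coe_subtype] at hj ⊢
    rw [hmemR]
    apply hS.C_inf_T_le_Q
    rw [← hCdef]
    refine mem_inf.mpr ⟨hc, ?_⟩
    rw [hTLeq, mem_subgroupOf]
    exact hJT hj
  obtain ⟨A, hA, hAC⟩ := hex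
  obtain ⟨a, haA, haC⟩ := SetLike.not_le_iff_exists.mp hAC
  have haJ : a ∈ J := hJdef ▸ hA.le_thompson haA
  have haL : a ∈ L := hTL (hJT haJ)
  have ha'J : (⟨a, haL⟩ : ↥L) ∈ J.subgroupOf L := mem_subgroupOf.mpr haJ
  have ha'C : (⟨a, haL⟩ : ↥L) ∉ centralizer (VZ 2 ↥L : Set ↥L) := by
    intro h1
    apply haC
    rw [hCdef]
    exact ⟨⟨a, haL⟩, h1, rfl⟩
  obtain ⟨y', hy'3, hy'C, hay', hJn'⟩ := exists_comp_data hS hJ1 hJ3 ha'J ha'C
  obtain ⟨h1, h2, -⟩ := isJComponent_of_data hLT TL hTLeq hS hA (a' := ⟨a, haL⟩) haA hy'3 hy'C hay'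
    (hJdef ▸ hJn')
  exact ⟨_, h1, h2⟩

end Cfsg.Agent.Helper50.JComp
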