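import Mathlib
import Cfsg.Agent.Lib.Helper50.JCompB4
import Cfsg.Agent.Lib.Helper50.SylowLemmas

/-!
# Existence of `J(T)`-components (part B9): generation by `N(J)` and the `J`-components
-/

set_option autoImplicit false
set_option linter.unusedSectionVars false

namespace Cfsg.Agent.Helper50.JComp

open Subgroup
open scoped commutatorElement
open Cfsg.Agent.Helper1.FF
open Cfsg.Agent.Helper10.JCompSub (Setup)

variable {Λ : Type*} [Group Λ] [Finite Λ]

/-- a subgroup `F ≤ Hh` with `Hh / F` a `2`-group, together with a Sylow `2`-subgroup of `Hh`,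
generates `Hh` -/
theorem le_sup_of_two_power {Hh F P : Subgroup Λ} (hFH : F ≤ Hh)
    (hFn : Hh ≤ normalizer (F : Set Λ)) (hpow : ∀ x ∈ Hh, ∃ k : ℕ, x ^ (2 ^ k) ∈ F)
    (hP : ¬ 2 ∣ P.relIndex Hh) : Hh ≤ F ⊔ P := by
  have : Fact (Nat.Prime 2) := ⟨Nat.prime_two⟩
  haveI hn : (F.subgroupOf Hh).Normal := (normal_subgroupOf_iff_le_normalizer hFH).mpr hFn
  have hq : IsPGroup 2 (↥Hh ⧸ F.subgroupOf Hh) := by
    intro g
    induction g using QuotientGroup.induction_on with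
    | H g =>
      obtain ⟨k, hk⟩ := hpow g g.2
      refine ⟨k, ?_⟩
      rw [← QuotientGroup.mk_pow, QuotientGroup.eq_one_iff, mem_subgroupOf]
      simpa using hk
  obtain ⟨n, hn'⟩ := IsPGroup.iff_card.mp hq
  have h1 : F.relIndex Hh = 2 ^ n := by
    rw [← hn']
    exact Subgroup.index_eq_card _
  have h2 : (F ⊔ P).relIndex Hh ∣ F.relIndex Hh := Subgroup.relIndex_dvd_of_le_left Hh le_sup_left
  have h3 : (F ⊔ P).relIndex Hh ∣ P.relIndex Hh := Subgroup.relIndex_dvd_of_le_left Hh le_sup_right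
  rw [h1] at h2
  obtain ⟨i, -, hi⟩ := (Nat.dvd_prime_pow Nat.prime_two).mp h2
  have h4 : (F ⊔ P).relIndex Hh = 1 := by
    rcases i with _ | i
    · rw [hi, pow_zero]
    · exfalso
      apply hP
      rw [hi] at h3
      exact dvd_trans (dvd_pow_self 2 (Nat.succ_ne_zero i)) h3
  exact Subgroup.relIndex_eq_one.mp h4

/-- **Generation.** -/
theorem generation {T : Sylow 2 Λ} (h : Setup T) {J : Subgroup Λ}
    (hJT : J ≤ (T : Subgroup Λ)) (hJth : J ≤ Cfsg.thompsonSubgroup 2 Λ)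
    (hJchar : ∀ S : Subgroup Λ, J ≤ S → S ≤ (T : Subgroup Λ) →
      normalizer (S : Set Λ) ≤ normalizer (J : Set Λ))
    {𝒜 : Set (Subgroup Λ)} (h𝒜J : ∀ A ∈ 𝒜, A ≤ J) (hJ𝒜 : J ≤ sSup 𝒜)
    {M' : Subgroup Λ} (hNJ : normalizer (J : Set Λ) ≤ M')
    (hcomp : ∀ A ∈ 𝒜, ∀ a ∈ A, ∀ y : Λ, y ^ 3 = 1 → y ∉ centralizer (VZ 2 Λ : Set Λ) →
      a * y * a⁻¹ * y ∈ Cfsg.pCore 2 Λ →
      J ≤ normalizer ((Cfsg.pCore 2 Λ ⊔ zpowers y : Subgroup Λ) : Set Λ) → y ∈ M') :
    M' = ⊤ := by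
  have : Fact (Nat.Prime 2) := ⟨Nat.prime_two⟩
  have : Fact (Nat.Prime 3) := ⟨Nat.prime_three⟩
  have hsep : Cfsg.IsPSolvable 2 Λ := h.psolv
  have hO : Cfsg.pPrimeCore 2 Λ = ⊥ := h.pprime
  have hVn : (VZ 2 Λ).Normal := VZ_normal 2
  have hVea : EA 2 (VZ 2 Λ) := ea_VZ hsep hO
  have hVZ := VZ_le_omegaZp hsep hO
  obtain ⟨R, hRdef⟩ : ∃ R : Subgroup Λ, R = Cfsg.pCore 2 Λ := ⟨_, rfl⟩
  rw [← hRdef] at hVZ hcomp
  have hRn : R.Normal := hRdef ▸ h.Qn
  have hR2 : IsPGroup 2 R := hRdef ▸ h.Q2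
  have hRT : R ≤ (T : Subgroup Λ) := hRdef ▸ h.Q_le_T
  obtain ⟨C, hCdef⟩ : ∃ C : Subgroup Λ, C = centralizer (VZ 2 Λ : Set Λ) := ⟨_, rfl⟩
  have hCn : C.Normal := hCdef ▸ h.Cn
  have hRC : R ≤ C := by
    rw [hCdef]
    intro r hr
    rw [mem_centralizer_iff]
    intro v hv
    exact (hVZ hv).2.1 r hr
  have hCT : ∀ c ∈ C, ∀ t ∈ (T : Subgroup Λ), c * t * c⁻¹ * t⁻¹ ∈ R := by
    intro c hc t ht
    rw [hRdef]; rw [hCdef] at hc
    exact h.comm_C_T hc ht
  have hCTR : ∀ x ∈ C, ∀ k : ℕ, x ^ (2 ^ k) = 1 → x ∈ R := by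
    intro x hx k hk
    rw [hCdef] at hx
    rw [hRdef]
    exact h.C_inf_T_le_Q (mem_inf.mpr ⟨hx, h.mem_T_of_two hx hk⟩)
  obtain ⟨θ, hθdef⟩ : ∃ θ : Λ →* GamV (VZ 2 Λ), θ = Th (VZ 2 Λ) := ⟨_, rfl⟩
  have hker : θ.ker = C := by rw [hθdef, hCdef]; exact ker_Th _
  have hθ1 : ∀ g : Λ, θ g = 1 ↔ g ∈ C := fun g => by rw [← hker, MonoidHom.mem_ker]
  have hHr : HB 2 (VZ 2 Λ) ≤ θ.range := by rw [hθdef]; exact HB_le_range _
  have hrH : θ.range ≤ normalizer (HB 2 (VZ 2 Λ) : Set (GamV (VZ 2 Λ))) := by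
    rw [hθdef]; exact range_le_normalizer_HB _
  have hJH : J.map θ ≤ HB 2 (VZ 2 Λ) := by
    rw [hθdef]
    exact (Subgroup.map_mono hJth).trans (map_thompson_le_HB _ hVea)
  have hodd := odd_mem_Fbar_HB h
  -- elementary consequences
  have hTJ : (T : Subgroup Λ) ≤ normalizer (J : Set Λ) := le_normalizer.trans (hJchar _ hJT le_rfl)
  have hTM : (T : Subgroup Λ) ≤ M' := hTJ.trans hNJ
  have hCM : C ≤ M' := by
    rw [hCdef]
    exact (h.C_le_normalizer_T.trans (hJchar _ hJT le_rfl)).trans hNJ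
  have hpow2 : ∀ t ∈ (T : Subgroup Λ), ∃ k : ℕ, t ^ (2 ^ k) = 1 := by
    intro t ht
    obtain ⟨k, hk⟩ := (IsPGroup.iff_orderOf.mp T.2) ⟨t, ht⟩
    refine ⟨k, ?_⟩
    have := pow_orderOf_eq_one (⟨t, ht⟩ : ↥(T : Subgroup Λ))
    rw [hk] at this
    simpa using congrArg Subtype.val this
  obtain ⟨n, hn⟩ := IsPGroup.iff_card.mp hR2
  have hRpow : ∀ r ∈ R, r ^ (2 ^ n) = 1 := by
    intro r hr
    have h2 := pow_card_eq_one' (G := ↥R) (x := ⟨r, hr⟩)
    rw [hn] at h2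
    have := congrArg Subtype.val h2
    simpa using this
  let π : Λ →* Λ ⧸ R := QuotientGroup.mk' R
  have hπ1 : ∀ g : Λ, π g = 1 ↔ g ∈ R := fun g => by
    rw [QuotientGroup.mk'_apply, QuotientGroup.eq_one_iff]
  -- the preimages of the normal subgroups of order three
  have key : ∀ N₃ ∈ N3 (HB 2 (VZ 2 Λ)), N₃.comap θ ≤ M' := by
    intro N₃ hN₃
    by_cases hcent : ∀ j ∈ J, ∀ q ∈ N₃, θ j * q = q * θ j
    · -- `J` centralizes `N₃`
      have hJRT : J ⊔ R ≤ (T : Subgroup Λ) := sup_le hJT hRT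
      have h1 : N₃.comap θ ≤ normalizer ((J ⊔ R : Subgroup Λ) : Set Λ) := by
        apply le_normalizer_of_conj_mem
        intro d hd x hx
        rw [mem_comap] at hd
        have hle : J ⊔ R ≤ (J ⊔ R).comap (MulAut.conj d).toMonoidHom := by
          apply sup_le
          · intro j hj
            rw [mem_comap, MulEquiv.coe_toMonoidHom, MulAut.conj_apply]
            obtain ⟨g, hgdef⟩ : ∃ g : Λ, g = d * j * d⁻¹ * j⁻¹ := ⟨_, rfl⟩
            have hgC : g ∈ C := by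
              rw [← hθ1, hgdef, map_mul, map_mul, map_mul, map_inv, map_inv]
              have := hcent j hj (θ d) hd
              calc θ d * θ j * (θ d)⁻¹ * (θ j)⁻¹ = (θ d * θ j) * ((θ d)⁻¹ * (θ j)⁻¹) := by group
                _ = (θ j * θ d) * ((θ d)⁻¹ * (θ j)⁻¹) := by rw [this]
                _ = 1 := by group
            obtain ⟨k, hk⟩ := hpow2 j (hJT hj)
            have hcomm : Commute (π g) (π j) := by
              have h2 := (hπ1 _).mpr (hCT g hgC j (hJT hj))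
              rw [map_mul, map_mul, map_mul, map_inv, map_inv] at h2
              show π g * π j = π j * π g
              calc π g * π j = (π g * π j * (π g)⁻¹ * (π j)⁻¹) * (π j * π g) := by group
                _ = π j * π g := by rw [h2, one_mul]
            have h3 : (d * j * d⁻¹) ^ (2 ^ k) = 1 := by rw [conj_pow, hk]; group
            have h4 : d * j * d⁻¹ = g * j := by rw [hgdef]; group
            have h5 : (π g) ^ (2 ^ k) = 1 := by
              have h6 : (π g * π j) ^ (2 ^ k) = 1 := by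
                rw [← map_mul, ← h4, ← map_pow, h3, map_one]
              rw [hcomm.mul_pow, ← map_pow π j, hk, map_one, mul_one] at h6
              exact h6
            have h6 : g ^ (2 ^ k) ∈ R := by rw [← hπ1, map_pow]; exact h5
            have h7 : g ^ (2 ^ (k + n)) = 1 := by
              rw [pow_add, pow_mul]; exact hRpow _ h6
            have h8 : g ∈ R := hCTR g hgC _ h7
            rw [h4]
            exact (J ⊔ R).mul_mem (mem_sup_right h8) (mem_sup_left hj)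
          · intro r hr
            rw [mem_comap, MulEquiv.coe_toMonoidHom, MulAut.conj_apply]
            exact mem_sup_right (hRn.conj_mem r hr d)
        have := hle hx
        rwa [mem_comap, MulEquiv.coe_toMonoidHom, MulAut.conj_apply] at this
      exact (h1.trans (hJchar _ le_sup_left hJRT)).trans hNJ
    · -- some element of some `A ∈ 𝒜` inverts `N₃`
      push Not at hcent
      obtain ⟨j, hj, q₀, hq₀, hjq⟩ := hcent
      have hex : ∃ A ∈ 𝒜, ∃ a ∈ A, ∃ q ∈ N₃, θ a * q ≠ q * θ a := by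
        by_contra hcon
        push Not at hcon
        have h1 : sSup 𝒜 ≤ (centralizer (N₃ : Set (GamV (VZ 2 Λ)))).comap θ := by
          apply sSup_le
          intro A hA a ha
          rw [mem_comap, mem_centralizer_iff]
          intro q hq
          exact (hcon A hA a ha q hq).symm
        have h2 := h1 (hJ𝒜 hj)
        rw [mem_comap, mem_centralizer_iff] at h2
        exact hjq (h2 q₀ hq₀).symm
      obtain ⟨A, hA, a, ha, q, hq, haq⟩ := hex
      have haJ : a ∈ J := h𝒜J A hA ha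
      have haH : θ a ∈ HB 2 (VZ 2 Λ) := hJH ⟨a, haJ, rfl⟩
      have hq1 : q ≠ 1 := by
        intro h1
        apply haq
        rw [h1, mul_one, one_mul]
      have hconj : θ a * q * (θ a)⁻¹ ∈ N₃ := conj_mem_of_le_normalizer hN₃.2.1 haH hq
      have hinv : θ a * q * (θ a)⁻¹ * q = 1 := by
        rcases card_three_cases hN₃.2.2 hq hq1 hconj with h1 | h1 | h1
        · exfalso
          apply hq1
          calc q = (θ a)⁻¹ * (θ a * q * (θ a)⁻¹) * θ a := by group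
            _ = 1 := by rw [h1]; group
        · exfalso
          apply haq
          calc θ a * q = (θ a * q * (θ a)⁻¹) * θ a := by group
            _ = q * θ a := by rw [h1]
        · rw [h1]; group
      rw [hθdef] at hinv
      obtain ⟨y, hy3, hyC, hay, hJn, hDeq⟩ :=
        exists_comp_data_of_N3 h hJT hJth haJ hN₃ hq hq1 hinv
      rw [← hRdef] at hay hJn
      have hyM : y ∈ M' := hcomp A hA a ha y hy3 hyC hay hJn
      rw [hθdef, hDeq, ← hCdef]
      exact sup_le hCM (zpowers_le.mpr hyM)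
  -- the preimage of `Fbar`
  have hFM : (Fbar (HB 2 (VZ 2 Λ))).comap θ ≤ M' := by
    have h1 : Fbar (HB 2 (VZ 2 Λ)) ≤ M'.map θ := by
      apply sSup_le
      intro N₃ hN₃ q hq
      obtain ⟨d, hd⟩ := hHr (hN₃.1 hq)
      refine ⟨d, key N₃ hN₃ ?_, hd⟩
      rw [mem_comap, hd]; exact hq
    intro x hx
    obtain ⟨m, hm, hmx⟩ := h1 hx
    have h2 : m⁻¹ * x ∈ C := by rw [← hθ1, map_mul, map_inv, hmx]; group
    have h3 : x = m * (m⁻¹ * x) := by group
    rw [h3]; exact M'.mul_mem hm (hCM h2)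
  -- the preimage of `HB`
  obtain ⟨Hh, hHhdef⟩ : ∃ Hh : Subgroup Λ, Hh = (HB 2 (VZ 2 Λ)).comap θ := ⟨_, rfl⟩
  have hHhn : Hh.Normal := by
    rw [hHhdef]
    constructor
    intro x hx g
    rw [mem_comap] at hx ⊢
    rw [map_mul, map_mul, map_inv]
    exact conj_mem_of_le_normalizer hrH ⟨g, rfl⟩ hx
  have hJHh : J ≤ Hh := by
    intro j hj
    rw [hHhdef, mem_comap]
    exact hJH ⟨j, hj, rfl⟩
  obtain ⟨F, hFdef⟩ : ∃ F : Subgroup Λ, F = (Fbar (HB 2 (VZ 2 Λ))).comap θ := ⟨_, rfl⟩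
  have hFHh : F ≤ Hh := by
    rw [hFdef, hHhdef]
    exact Subgroup.comap_mono (Fbar_le _)
  have hFn : Hh ≤ normalizer (F : Set Λ) := by
    apply le_normalizer_of_conj_mem
    intro x _ f hf
    rw [hFdef, mem_comap] at hf ⊢
    rw [map_mul, map_mul, map_inv]
    exact conj_mem_of_le_normalizer (hrH.trans (normalizer_le_normalizer_Fbar _)) ⟨x, rfl⟩ hf
  have hpowF : ∀ x ∈ Hh, ∃ k : ℕ, x ^ (2 ^ k) ∈ F := by
    intro x hx
    obtain ⟨k, m, hm, hkm⟩ := Nat.exists_eq_two_pow_mul_odd (orderOf_pos x).ne'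
    refine ⟨k, ?_⟩
    rw [hFdef, mem_comap]
    apply hodd
    · rw [hHhdef, mem_comap] at hx
      rw [map_pow]; exact Subgroup.pow_mem _ hx _
    · have h1 : orderOf (x ^ (2 ^ k)) = m := by
        rw [orderOf_pow' x (pow_ne_zero k two_ne_zero), hkm,
          Nat.gcd_eq_right (Dvd.intro _ rfl), Nat.mul_div_cancel_left m (pow_pos two_pos k)]
      exact Odd.of_dvd_nat (h1 ▸ hm) (orderOf_map_dvd θ _)
  obtain ⟨P, hPdef⟩ : ∃ P : Subgroup Λ, P = (T : Subgroup Λ) ⊓ Hh := ⟨_, rfl⟩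
  have hPT : P ≤ (T : Subgroup Λ) := hPdef ▸ inf_le_left
  have hPHh : P ≤ Hh := hPdef ▸ inf_le_right
  have hJP : J ≤ P := hPdef ▸ le_inf hJT hJHh
  have hP2 : IsPGroup 2 P := T.2.to_le hPT
  have hPidx : ¬ 2 ∣ P.relIndex Hh := by
    rw [hPdef, Subgroup.inf_relIndex_right]
    intro hdvd
    exact T.not_dvd_index (dvd_trans hdvd (Cfsg.Agent.Helper50.relIndex_normal_dvd_index _ Hh))
  have hHhM : Hh ≤ M' := by
    refine (le_sup_of_two_power hFHh hFn hpowF hPidx).trans ?_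
    exact sup_le (hFdef ▸ hFM) (hPT.trans hTM)
  -- the Frattini argument
  rw [eq_top_iff]
  intro g _
  have hgn : g ∈ normalizer (Hh : Set Λ) := by
    rw [normalizer_eq_top_iff.mpr hHhn]; exact mem_top g
  obtain ⟨m, hm, hmg⟩ :=
    Cfsg.Agent.Helper50.exists_mul_mem_normalizer_of_sylow hPHh hP2 hPidx hgn
  have h1 : m⁻¹ * g ∈ M' := hNJ (hJchar P hJP hPT hmg)
  have h2 : g = m * (m⁻¹ * g) := by group
  rw [h2]; exact M'.mul_mem (hHhM hm) h1

end Cfsg.Agent.Helper50.JComp
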