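import Mathlib
import Cfsg.Agent.Lib.Helper50.JCompB8
import Cfsg.Agent.Lib.Helper50.JCompB9

/-!
# Existence of `J(T)`-components (part B10): a `J(T)`-component outside `M`
-/

set_option autoImplicit false
set_option linter.unusedSectionVars false

namespace Cfsg.Agent.Helper50.JComp

open Subgroup
open scoped commutatorElement
open Cfsg.Agent.Helper1.FF (VZ)

variable {G : Type*} [Group G]

theorem mem_normalizer_subgroupOf {J L : Subgroup G} {x : ↥L}
    (hx : (x : G) ∈ normalizer (J : Set G)) : x ∈ normalizer ((J.subgroupOf L : Subgroup ↥L) : Set ↥L) := by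
  rw [mem_normalizer_iff]
  intro y
  rw [mem_subgroupOf, mem_subgroupOf]
  have := mem_normalizer_iff.mp hx (y : G)
  simpa using this

theorem coe_mem_normalizer_of_subgroupOf {J L : Subgroup G} (hJL : J ≤ L) {x : ↥L}
    (hx : x ∈ normalizer ((J.subgroupOf L : Subgroup ↥L) : Set ↥L)) :
    (x : G) ∈ normalizer (J : Set G) := by
  have h1 : (normalizer ((J.subgroupOf L : Subgroup ↥L) : Set ↥L)).map L.subtype ≤
      normalizer (J : Set G) := by
    apply le_normalizer_of_conj_mem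
    rintro _ ⟨x', hx', rfl⟩ y hy
    have hy' : (⟨y, hJL hy⟩ : ↥L) ∈ J.subgroupOf L := mem_subgroupOf.mpr hy
    have h2 := conj_mem_of_le_normalizer le_rfl hx' hy'
    rw [mem_subgroupOf] at h2
    simpa using h2
  exact h1 ⟨x, hx, rfl⟩

theorem coe_mem_normalizer_map {L : Subgroup G} {S' : Subgroup ↥L} {x : ↥L}
    (hx : x ∈ normalizer (S' : Set ↥L)) :
    (x : G) ∈ normalizer ((S'.map L.subtype : Subgroup G) : Set G) := by
  have h1 : (normalizer (S' : Set ↥L)).map L.subtype ≤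
      normalizer ((S'.map L.subtype : Subgroup G) : Set G) := by
    apply le_normalizer_of_conj_mem
    rintro _ ⟨x', hx', rfl⟩ _ ⟨s', hs', rfl⟩
    exact ⟨x' * s' * x'⁻¹, conj_mem_of_le_normalizer le_rfl hx' hs', by simp⟩
  exact h1 ⟨x, hx, rfl⟩

variable [Finite G]

/-- if `J(T) ≤ S ≤ T` then `J(S) = J(T)` -/
theorem thompson_eq_of_le' {T S : Subgroup G} (hJS : Cfsg.thompsonSubgroupOf 2 T ≤ S)
    (hST : S ≤ T) : Cfsg.thompsonSubgroupOf 2 S = Cfsg.thompsonSubgroupOf 2 T := by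
  apply thompson_eq_of_sandwich (l := 1) hJS
  intro s hs
  rw [mem_map_conj]
  exact ⟨s, hST hs, by group⟩

/-- **A member of `ℒ(T)` not contained in `M ≥ N_G(J(T))` has a `J(T)`-component outside `M`.** -/
theorem exists_jcomponent_not_le
    (hN : ∀ N : Subgroup G, Cfsg.IsTwoLocal N → Group.IsSolvable ↥N)
    (hZ : ∀ S : Sylow 2 G, Subgroup.centralizer (Cfsg.omegaCenterOf (S : Subgroup G) : Set G) ≤
      Subgroup.normalizer ((S : Subgroup G) : Set G))
    {T L M : Subgroup G} (hLT : L ∈ Cfsg.jOvergroups T)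
    (hNJ : normalizer (Cfsg.thompsonSubgroupOf 2 T : Set G) ≤ M) (hLM : ¬ L ≤ M) :
    ∃ K : Subgroup G, Cfsg.IsJComponent T K ∧ K ≤ L ∧ ¬ K ≤ M := by
  have : Fact (Nat.Prime 2) := ⟨Nat.prime_two⟩
  by_contra hcon
  push Not at hcon
  apply hLM
  obtain ⟨J, hJdef⟩ : ∃ J : Subgroup G, J = Cfsg.thompsonSubgroupOf 2 T := ⟨_, rfl⟩
  rw [← hJdef] at hNJ
  have hJT : J ≤ T := by
    rw [hJdef]; unfold Cfsg.thompsonSubgroupOf; exact Subgroup.map_subtype_le _
  have hTL : T ≤ L := hLT.1.1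
  have hJL : J ≤ L := hJT.trans hTL
  have hT1 : T ≠ ⊥ := by
    intro h0
    apply hLT.2.1
    rw [← hJdef]
    intro j hj
    have := hJT hj
    rw [h0, mem_bot] at this
    rw [this]; exact Subgroup.one_mem _
  obtain ⟨TL, hTLeq, hS⟩ := Cfsg.Agent.Helper10.JCompTr.exists_setup hN hZ hT1 hLT
  obtain ⟨hJ1, hJ2, hJ3⟩ := Cfsg.Agent.Helper10.JCompTr.thompson_props hLT.1 TL hTLeq
  rw [← hJdef] at hJ1 hJ2 hJ3
  -- the family of maximal elementary abelian subgroups
  obtain ⟨𝒜, h𝒜def⟩ : ∃ 𝒜 : Set (Subgroup ↥L), 𝒜 = {A' | MaxEA T (A'.map L.subtype)} := ⟨_, rfl⟩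
  have h𝒜J : ∀ A' ∈ 𝒜, A' ≤ J.subgroupOf L := by
    intro A' hA' a' ha'
    rw [h𝒜def] at hA'
    rw [mem_subgroupOf, hJdef]
    exact (MaxEA.le_thompson hA') ⟨a', ha', rfl⟩
  have hJ𝒜 : J.subgroupOf L ≤ sSup 𝒜 := by
    have h1 : J ≤ (sSup 𝒜).map L.subtype := by
      rw [hJdef, thompsonTwo_eq]
      apply sSup_le
      intro A hA
      have hAL : A ≤ L := hA.1.trans hTL
      have h2 : (A.subgroupOf L).map L.subtype = A := Subgroup.map_subgroupOf_eq_of_le hAL
      have h3 : A.subgroupOf L ∈ 𝒜 := by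
        rw [h𝒜def]
        show MaxEA T ((A.subgroupOf L).map L.subtype)
        rw [h2]; exact hA
      rw [← h2]
      exact Subgroup.map_mono (le_sSup h3)
    intro x' hx'
    rw [mem_subgroupOf] at hx'
    obtain ⟨z, hz, hzx⟩ := h1 hx'
    have : z = x' := Subtype.ext hzx
    rwa [← this]
  have hJchar : ∀ S' : Subgroup ↥L, J.subgroupOf L ≤ S' → S' ≤ (TL : Subgroup ↥L) →
      normalizer (S' : Set ↥L) ≤ normalizer ((J.subgroupOf L : Subgroup ↥L) : Set ↥L) := by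
    intro S' hJS hST x hx
    apply mem_normalizer_subgroupOf
    have h1 : J ≤ S'.map L.subtype := by
      intro j hj
      exact ⟨⟨j, hJL hj⟩, hJS (mem_subgroupOf.mpr hj), rfl⟩
    have h2 : S'.map L.subtype ≤ T := by
      rintro _ ⟨s', hs', rfl⟩
      have := hST hs'
      rw [hTLeq, mem_subgroupOf] at this
      exact this
    have h3 : Cfsg.thompsonSubgroupOf 2 (S'.map L.subtype) = J := by
      rw [hJdef] at h1 ⊢
      exact thompson_eq_of_le' h1 h2
    have h4 := Cfsg.Agent.Helper23.normalizer_le_normalizer_thompsonSubgroupOf 2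
      (S'.map L.subtype) (coe_mem_normalizer_map hx)
    rwa [h3] at h4
  have hNJ' : normalizer ((J.subgroupOf L : Subgroup ↥L) : Set ↥L) ≤ M.subgroupOf L := by
    intro x hx
    rw [mem_subgroupOf]
    exact hNJ (coe_mem_normalizer_of_subgroupOf hJL hx)
  have hcomp : ∀ A' ∈ 𝒜, ∀ a' ∈ A', ∀ y' : ↥L, y' ^ 3 = 1 →
      y' ∉ centralizer (VZ 2 ↥L : Set ↥L) → a' * y' * a'⁻¹ * y' ∈ Cfsg.pCore 2 ↥L →
      J.subgroupOf L ≤ normalizer ((Cfsg.pCore 2 ↥L ⊔ zpowers y' : Subgroup ↥L) : Set ↥L) →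
      y' ∈ M.subgroupOf L := by
    intro A' hA' a' ha' y' hy3 hyC hay hJn
    rw [h𝒜def] at hA'
    rw [hJdef] at hJn
    obtain ⟨h1, h2, h3⟩ := isJComponent_of_data hLT TL hTLeq hS hA' (a' := a')
      (Subgroup.mem_map_of_mem _ ha') hy3 hyC hay hJn
    rw [mem_subgroupOf]
    exact hcon _ h1 h2 h3
  have htop := generation hS hJ1 hJ3 hJchar h𝒜J hJ𝒜 hNJ' hcomp
  exact subgroupOf_eq_top.mp htop

end Cfsg.Agent.Helper50.JComp
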