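import Mathlib

/-!
# JPC (J) core: Jordan's prime-cycle theorem from the leaves (W), (J1), (J2), (J3) taken as hypotheses
(helper50, for helper35's lemma server "JPC", row S4150).
-/

set_option autoImplicit false

namespace Cfsg.Agent.Helper50.JPC

open Equiv Equiv.Perm MulAction Subgroup

universe u

/-- conjugating a power: if `a g a⁻¹ = g^n` then `a g^k a⁻¹ = g^(n k)`. -/
theorem h50j_conj_zpow {H : Type*} [Group H] (a g : H) (n k : ℤ) (h : a * g * a⁻¹ = g ^ n) :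
    a * g ^ k * a⁻¹ = g ^ (n * k) := by
  rw [← conj_zpow, h, zpow_mul]

/-- two elements normalizing `⟨g⟩`: their commutator `a₁⁻¹ a₂⁻¹ a₁ a₂` centralizes `g`. -/
theorem h50j_commute {H : Type*} [Group H] (a₁ a₂ g : H)
    (h₁ : a₁ * g * a₁⁻¹ ∈ zpowers g) (h₂ : a₂ * g * a₂⁻¹ ∈ zpowers g) :
    Commute (a₁⁻¹ * a₂⁻¹ * a₁ * a₂) g := by
  obtain ⟨n₁, hn₁⟩ := Subgroup.mem_zpowers_iff.1 h₁
  obtain ⟨n₂, hn₂⟩ := Subgroup.mem_zpowers_iff.1 h₂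
  have e1 : a₁ * a₂ * g * (a₁ * a₂)⁻¹ = g ^ (n₁ * n₂) := by
    have : a₁ * a₂ * g * (a₁ * a₂)⁻¹ = a₁ * (a₂ * g * a₂⁻¹) * a₁⁻¹ := by group
    rw [this, ← hn₂]
    exact h50j_conj_zpow a₁ g n₁ n₂ hn₁.symm
  have e2 : a₂ * a₁ * g * (a₂ * a₁)⁻¹ = g ^ (n₁ * n₂) := by
    have : a₂ * a₁ * g * (a₂ * a₁)⁻¹ = a₂ * (a₁ * g * a₁⁻¹) * a₂⁻¹ := by group
    rw [this, ← hn₁, mul_comm n₁ n₂]
    exact h50j_conj_zpow a₂ g n₂ n₁ hn₂.symm
  have e3 : a₁ * a₂ * g * (a₁ * a₂)⁻¹ = a₂ * a₁ * g * (a₂ * a₁)⁻¹ := by rw [e1, e2]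
  -- c = (a₂ a₁)⁻¹ (a₁ a₂)
  show a₁⁻¹ * a₂⁻¹ * a₁ * a₂ * g = g * (a₁⁻¹ * a₂⁻¹ * a₁ * a₂)
  have e4 : a₁⁻¹ * a₂⁻¹ * a₁ * a₂ * g = (a₂ * a₁)⁻¹ * (a₁ * a₂ * g * (a₁ * a₂)⁻¹) * (a₁ * a₂) := by
    group
  rw [e4, e3]
  group

/-- (J) with the four leaves as hypotheses. -/
theorem jordan_prime_cycle_of {Ω : Type u} [Fintype Ω] [DecidableEq Ω] (G : Subgroup (Perm Ω))
    (hG : IsPreprimitive G Ω) {ℓ : ℕ} (hℓ : ℓ.Prime) (hℓ' : ℓ + 3 ≤ Fintype.card Ω)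
    {g : Perm Ω} (hgc : g.IsCycle) (hgℓ : g.support.card = ℓ) (hg : g ∈ G)
    (hW : ∀ (Δ : Finset Ω), IsMultiplyPretransitive G Ω Δ.card →
      ∀ (R : Subgroup (Perm Ω)), R ≤ G → (∀ r ∈ R, ∀ t ∈ Δ, r t = t) → IsPGroup ℓ R →
      (∀ R' : Subgroup (Perm Ω), R' ≤ G → (∀ r ∈ R', ∀ t ∈ Δ, r t = t) →
        IsPGroup ℓ R' → R ≤ R' → R' ≤ R) →
      ∀ (σ : Perm Ω), (∀ t, σ t ∈ Δ ↔ t ∈ Δ) →
      ∃ a ∈ G, (∀ r, a * r * a⁻¹ ∈ R ↔ r ∈ R) ∧ ∀ t ∈ Δ, a t = σ t)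
    (hJ1 : ∀ (R' : Subgroup (Perm Ω)), (∀ r ∈ R', ∀ t, t ∉ g.support → r t = t) →
      IsPGroup ℓ R' → zpowers g ≤ R' → R' ≤ zpowers g)
    (hJ2 : IsMultiplyPretransitive G Ω (Fintype.card Ω - ℓ + 1))
    (hJ3 : ℓ ≠ 3 → ∀ (c : Perm Ω), Commute c g → ∀ (a b d : Ω), a ∉ g.support → b ∉ g.support →
      d ∉ g.support → a ≠ b → b ≠ d → a ≠ d → c a = b → c b = d → c d = a →
      (∀ t, t ∉ g.support → t ≠ a → t ≠ b → t ≠ d → c t = t) → (c ^ ℓ).IsThreeCycle) :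
    alternatingGroup Ω ≤ G := by
  by_cases hℓ3 : ℓ = 3
  · -- `g` is a 3-cycle
    have h3 : g.IsThreeCycle := card_support_eq_three_iff.1 (by rw [hgℓ, hℓ3])
    exact alternatingGroup_le_of_isPreprimitive_of_isThreeCycle_mem hG h3 hg
  · -- the complement of the support
    set Δ : Finset Ω := g.supportᶜ with hΔ
    have hΔcard : Δ.card = Fintype.card Ω - ℓ := by rw [hΔ, Finset.card_compl, hgℓ]
    have hmemΔ : ∀ t, t ∈ Δ ↔ t ∉ g.support := fun t => Finset.mem_compl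
    have hk : IsMultiplyPretransitive G Ω Δ.card := by
      have := hJ2
      apply isMultiplyPretransitive_of_le (n := Fintype.card Ω - ℓ + 1)
      · rw [hΔcard]; exact Nat.le_succ _
      · rw [Nat.card_eq_fintype_card]
        have := hℓ.pos
        omega
    -- R = ⟨g⟩
    have hRG : zpowers g ≤ G := (zpowers_le).2 hg
    have hRfix : ∀ r ∈ zpowers g, ∀ t ∈ Δ, r t = t := by
      intro r hr t ht
      obtain ⟨n, rfl⟩ := Subgroup.mem_zpowers_iff.1 hr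
      have : t ∉ g.support := (hmemΔ t).1 ht
      rw [Equiv.Perm.notMem_support] at this
      exact Equiv.Perm.zpow_apply_eq_self_of_apply_eq_self this n
    have hord : orderOf g = ℓ := by rw [hgc.orderOf, hgℓ]
    have hRp : IsPGroup ℓ (zpowers g) := by
      have : Fact ℓ.Prime := ⟨hℓ⟩
      apply IsPGroup.of_card (n := 1)
      rw [Nat.card_zpowers, hord, pow_one]
    have hmax : ∀ R' : Subgroup (Perm Ω), R' ≤ G → (∀ r ∈ R', ∀ t ∈ Δ, r t = t) →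
        IsPGroup ℓ R' → zpowers g ≤ R' → R' ≤ zpowers g := by
      intro R' _ hfix hp hle
      exact hJ1 R' (fun r hr t ht => hfix r hr t ((hmemΔ t).2 ht)) hp hle
    -- three points of Δ
    have h3 : 2 < Δ.card := by rw [hΔcard]; omega
    obtain ⟨a, b, d, haΔ, hbΔ, hdΔ, hab, had, hbd⟩ := Finset.two_lt_card_iff.1 h3
    have hswap : ∀ x y : Ω, x ∈ Δ → y ∈ Δ → ∀ t, (swap x y) t ∈ Δ ↔ t ∈ Δ := by
      intro x y hx hy t
      rw [swap_apply_def]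
      split_ifs with h1 h2
      · rw [h1]; exact ⟨fun _ => hx, fun _ => hy⟩
      · rw [h2]; exact ⟨fun _ => hy, fun _ => hx⟩
      · exact Iff.rfl
    obtain ⟨a₁, ha₁G, ha₁N, ha₁⟩ := hW Δ hk (zpowers g) hRG hRfix hRp hmax (swap a b)
      (hswap a b haΔ hbΔ)
    obtain ⟨a₂, ha₂G, ha₂N, ha₂⟩ := hW Δ hk (zpowers g) hRG hRfix hRp hmax (swap b d)
      (hswap b d hbΔ hdΔ)
    -- inverses act on Δ as the swaps too
    have hinv : ∀ (x y : Ω) (e : Perm Ω), x ∈ Δ → y ∈ Δ → (∀ t ∈ Δ, e t = swap x y t) →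
        ∀ t ∈ Δ, e⁻¹ t = swap x y t := by
      intro x y e hx hy he t ht
      have h1 : swap x y t ∈ Δ := (hswap x y hx hy t).2 ht
      have h2 := he _ h1
      rw [swap_apply_self] at h2
      rw [Equiv.Perm.inv_eq_iff_eq]
      exact h2.symm
    have ha₁' := hinv a b a₁ haΔ hbΔ ha₁
    have ha₂' := hinv b d a₂ hbΔ hdΔ ha₂
    set c : Perm Ω := a₁⁻¹ * a₂⁻¹ * a₁ * a₂ with hc
    have hcG : c ∈ G := mul_mem (mul_mem (mul_mem (inv_mem ha₁G) (inv_mem ha₂G)) ha₁G) ha₂G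
    have hcomm : Commute c g :=
      h50j_commute a₁ a₂ g ((ha₁N g).2 (mem_zpowers g)) ((ha₂N g).2 (mem_zpowers g))
    have hcact : ∀ t ∈ Δ, c t = swap a b (swap b d (swap a b (swap b d t))) := by
      intro t ht
      have h1 : swap b d t ∈ Δ := (hswap b d hbΔ hdΔ t).2 ht
      have h2 : swap a b (swap b d t) ∈ Δ := (hswap a b haΔ hbΔ _).2 h1
      have h3 : swap b d (swap a b (swap b d t)) ∈ Δ := (hswap b d hbΔ hdΔ _).2 h2
      rw [hc]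
      simp only [Equiv.Perm.coe_mul, Function.comp_apply]
      rw [ha₂ t ht, ha₁ _ h1, ha₂' _ h2, ha₁' _ h3]
    have hca : c a = d := by
      rw [hcact a haΔ]
      simp [swap_apply_def, hab, had, hbd, hab.symm, had.symm, hbd.symm]
    have hcd : c d = b := by
      rw [hcact d hdΔ]
      simp [swap_apply_def, hab, had, hbd, hab.symm, had.symm, hbd.symm]
    have hcb : c b = a := by
      rw [hcact b hbΔ]
      simp [swap_apply_def, hab, had, hbd, hab.symm, had.symm, hbd.symm]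
    have hcfix : ∀ t, t ∉ g.support → t ≠ a → t ≠ d → t ≠ b → c t = t := by
      intro t ht hta htd htb
      rw [hcact t ((hmemΔ t).2 ht)]
      simp [swap_apply_def, hta, htd, htb]
    have h3c := hJ3 hℓ3 c hcomm a d b ((hmemΔ a).1 haΔ) ((hmemΔ d).1 hdΔ) ((hmemΔ b).1 hbΔ)
      had hbd.symm hab hca hcd hcb hcfix
    exact alternatingGroup_le_of_isPreprimitive_of_isThreeCycle_mem hG h3c (pow_mem hcG ℓ)

end Cfsg.Agent.Helper50.JPC
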