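import Mathlib
import Cfsg.Agent.Lib.Helper50.JPCJCore
import Cfsg.Agent.Lib.Helper13.JPCW
import Cfsg.Agent.Lib.Helper58.JPCJ1
import Cfsg.Agent.Lib.Helper47.JPCJ2
import Cfsg.Agent.Lib.Helper58.JPCJ3

/-!
# JPC (J): Jordan's prime-cycle theorem (helper50, for helper35's lemma server "JPC", row S4150)
Assembly of (W) helper13, (J1) helper58, (J2) helper47, (J3) helper58 through `jordan_prime_cycle_of`.
-/

set_option autoImplicit false

namespace Cfsg.Agent.Helper50.JPC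

open Equiv Equiv.Perm MulAction Subgroup

universe u

theorem jordan_prime_cycle {Ω : Type u} [Fintype Ω] [DecidableEq Ω] (G : Subgroup (Perm Ω))
    (hG : IsPreprimitive G Ω) {ℓ : ℕ} (hℓ : ℓ.Prime) (hℓ' : ℓ + 3 ≤ Fintype.card Ω)
    {g : Perm Ω} (hgc : g.IsCycle) (hgℓ : g.support.card = ℓ) (hg : g ∈ G) :
    alternatingGroup Ω ≤ G := by
  refine jordan_prime_cycle_of G hG hℓ hℓ' hgc hgℓ hg ?_ ?_ ?_ ?_
  · intro Δ hk R hRG hRΔ hRp hmax σ hσ
    exact Cfsg.Agent.Helper13.JPC.witt G Δ hk ℓ hℓ R hRG hRΔ hRp hmax σ hσ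
  · intro R' hfix hp hle
    exact Cfsg.Agent.Helper58.JPC.zpowers_cycle_max hℓ hgc hgℓ R' hfix hp hle
  · exact Cfsg.Agent.Helper47.JPC.isMultiplyPretransitive_of_prime_cycle G hG hℓ (by omega)
      hgc hgℓ hg
  · intro hℓ3 c hcomm a b d ha hb hd hab hbd had hca hcb hcd hfix
    exact Cfsg.Agent.Helper58.JPC.isThreeCycle_pow_of_commute hℓ hℓ3 hgc hgℓ hcomm ha hb hd
      hab hbd had hca hcb hcd hfix


end Cfsg.Agent.Helper50.JPC
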