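import Mathlib

/-!
# O2520 server (helper55, S0984): tools for piece (C5) (helper50)

`h50_sign`: the sign character of the action on the cosets of a subgroup of index `2 mod 4`
(the proof of the Thompson transfer lemma).  `h50_key`: a group of order `120` with a central
involution `t = u ^ 2` and a dihedral subgroup `⟨u, w⟩` has a normal subgroup of index `4`.
-/

set_option autoImplicit false

namespace Cfsg.Agent.Helper50.O2520

universe u

/-- SIGN LEMMA: `x ^ 2` acts trivially on `H ⧸ R`, no conjugate of `x` lies in `R`, the index of `R` is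
`2 mod 4`: `x` acts as an odd number of transpositions, so a normal subgroup of index `2` misses `x`. -/
theorem h50_sign {H : Type u} [Group H] [Finite H] (R : Subgroup H) (hidx : R.index % 4 = 2)
    (x : H) (hx2 : ∀ g : H, g⁻¹ * x ^ 2 * g ∈ R) (hx : ∀ g : H, g⁻¹ * x * g ∉ R) :
    ∃ M : Subgroup H, M.Normal ∧ M.index = 2 ∧ x ∉ M := by
  classical
  have : Fintype (H ⧸ R) := Fintype.ofFinite _
  let φ : H →* Equiv.Perm (H ⧸ R) := MulAction.toPermHom H (H ⧸ R)
  let s : H →* ℤˣ := Equiv.Perm.sign.comp φ
  have hτ2 : (φ x) ^ 2 = 1 := by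
    rw [← map_pow]
    ext q
    induction q using QuotientGroup.induction_on with
    | H g =>
      show ((x ^ 2 * g : H) : H ⧸ R) = (g : H ⧸ R)
      rw [QuotientGroup.eq]
      have h2 := R.inv_mem (hx2 g)
      have e : (x ^ 2 * g)⁻¹ * g = (g⁻¹ * x ^ 2 * g)⁻¹ := by group
      rw [e]; exact h2
  have hfix : ∀ q : H ⧸ R, φ x q ≠ q := by
    intro q
    induction q using QuotientGroup.induction_on with
    | H g =>
      intro h
      have h' : ((x * g : H) : H ⧸ R) = (g : H ⧸ R) := h
      rw [QuotientGroup.eq] at h'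
      apply hx g
      have h2 := R.inv_mem h'
      have e : ((x * g)⁻¹ * g)⁻¹ = g⁻¹ * x * g := by group
      rw [e] at h2; exact h2
  have hsupp : (φ x).support = Finset.univ := by
    ext q
    simp only [Equiv.Perm.mem_support, Finset.mem_univ, iff_true]
    exact hfix q
  have hne1 : φ x ≠ 1 := by
    intro h1
    have := hfix ((1 : H) : H ⧸ R)
    rw [h1] at this
    exact this rfl
  have hord : orderOf (φ x) = 2 := orderOf_eq_prime hτ2 hne1
  obtain ⟨n, hn⟩ := Equiv.Perm.cycleType_prime_order (σ := φ x) (by rw [hord]; exact Nat.prime_two)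
  rw [hord] at hn
  have hsum : (φ x).cycleType.sum = R.index := by
    rw [Equiv.Perm.sum_cycleType, hsupp, Finset.card_univ, Subgroup.index, Nat.card_eq_fintype_card]
  have hn1 : (n + 1) % 2 = 1 := by
    rw [hn, Multiset.sum_replicate, smul_eq_mul] at hsum
    omega
  have hsu : s x = -1 := by
    show Equiv.Perm.sign (φ x) = -1
    rw [Equiv.Perm.sign_of_cycleType, hn, Multiset.sum_replicate, Multiset.card_replicate,
      smul_eq_mul]
    have hodd' : Odd ((n + 1) * 2 + (n + 1)) := by
      rw [Nat.odd_iff]; omega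
    exact hodd'.neg_one_pow
  refine ⟨s.ker, inferInstance, ?_, ?_⟩
  · rw [Subgroup.index_ker]
    have hrange : s.range = ⊤ := by
      rw [eq_top_iff]
      intro y _
      rcases Int.units_eq_one_or y with h | h
      · rw [h]; exact Subgroup.one_mem _
      · rw [h, ← hsu]; exact ⟨x, rfl⟩
    rw [hrange, Nat.card_congr Subgroup.topEquiv.toEquiv, Nat.card_eq_fintype_card]
    rfl
  · intro h
    rw [MonoidHom.mem_ker, hsu] at h
    exact absurd h (by decide)


/-- KEY: a group of order `120` with a central involution `t = u ^ 2`, `u` of order `4` inverted by the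
involution `w`, has a normal subgroup of index `4` (containing `t`). -/
theorem h50_key {H : Type u} [Group H] [Finite H] (hH : Nat.card H = 120) (t u w : H)
    (ht : ∀ g : H, g * t = t * g) (hu : orderOf u = 4) (hut : u ^ 2 = t)
    (hw : orderOf w = 2) (hwu : w * u * w⁻¹ = u⁻¹) :
    ∃ N : Subgroup H, N.Normal ∧ N.index = 4 ∧ t ∈ N := by
  classical
  haveI : Fintype H := Fintype.ofFinite H
  have hu4 : u ^ 4 = 1 := by rw [← hu]; exact pow_orderOf_eq_one u
  have hw2 : w ^ 2 = 1 := by rw [← hw]; exact pow_orderOf_eq_one w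
  have hww : w * w = 1 := by rw [← pow_two]; exact hw2
  have hwinv : w⁻¹ = w := by rw [inv_eq_iff_mul_eq_one]; exact hww
  have ht2 : t ^ 2 = 1 := by rw [← hut, ← pow_mul]; exact hu4
  have htt : t * t = 1 := by rw [← pow_two]; exact ht2
  have htinv : t⁻¹ = t := by rw [inv_eq_iff_mul_eq_one]; exact htt
  have ht1 : t ≠ 1 := by
    intro h; rw [← hut] at h
    have := orderOf_dvd_of_pow_eq_one h; rw [hu] at this; omega
  have hw1 : w ≠ 1 := by intro h; rw [h, orderOf_one] at hw; omega
  have huu : u⁻¹ ≠ u := by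
    intro h
    apply ht1; rw [← hut, pow_two]; nth_rewrite 1 [← h]; exact inv_mul_cancel u
  have hwc : w * u ≠ u * w := by
    intro h
    apply huu
    rw [← hwu, h, mul_assoc, mul_inv_cancel, mul_one]
  have hwuw : w * u * w = u⁻¹ := by rw [← hwu, hwinv]
  have hwt : w * t = t * w := ht w
  have hconjt : ∀ g : H, g⁻¹ * t * g = t := by
    intro g; rw [mul_assoc, ← ht g, ← mul_assoc, inv_mul_cancel, one_mul]
  -- elements of `⟨u⟩` squaring to `1`
  have hsq : ∀ y ∈ Subgroup.zpowers u, y ^ 2 = 1 → y = 1 ∨ y = t := by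
    intro y hy hy2
    rw [mem_zpowers_iff_mem_range_orderOf, hu] at hy
    simp only [Finset.mem_image, Finset.mem_range] at hy
    obtain ⟨k, hk, rfl⟩ := hy
    interval_cases k
    · left; exact pow_zero u
    · exfalso; apply ht1; rw [← hut]; simpa using hy2
    · right; exact hut
    · exfalso; apply ht1; rw [← hut]
      have h6 : u ^ 6 = 1 := by rw [← hy2, ← pow_mul]
      have : u ^ 6 = u ^ 4 * u ^ 2 := by rw [← pow_add]
      rw [this, hu4, one_mul] at h6; exact h6
  have hnc : ∀ x : H, x ^ 2 = 1 → x * u ≠ u * x → ∀ g : H, g⁻¹ * x * g ∉ Subgroup.zpowers u := by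
    intro x hx2 hxu g hmem
    have h2 : (g⁻¹ * x * g) ^ 2 = 1 := by
      have e : (g⁻¹ * x * g) ^ 2 = g⁻¹ * x ^ 2 * g := by
        rw [pow_two, pow_two]; group
      rw [e, hx2]; group
    have hx : x = g * (g⁻¹ * x * g) * g⁻¹ := by group
    rcases hsq _ hmem h2 with h | h
    · rw [h] at hx
      apply hxu; rw [hx]; group
    · rw [h] at hx
      have hxt : x = t := by
        rw [hx, ht g, mul_assoc, mul_inv_cancel, mul_one]
      apply hxu; rw [hxt]; exact (ht u).symm
  have hR1 : (Subgroup.zpowers u).index % 4 = 2 := by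
    have h1 := (Subgroup.zpowers u).card_mul_index
    rw [Nat.card_zpowers, hu, hH] at h1
    omega
  have huw2 : (u * w) ^ 2 = 1 := by
    rw [pow_two]
    have : u * w * (u * w) = u * (w * u * w) := by group
    rw [this, hwuw, mul_inv_cancel]
  have huwc : u * w * u ≠ u * (u * w) := by
    intro h
    apply hwc
    have : u * (w * u) = u * (u * w) := by rw [← mul_assoc]; exact h
    exact mul_left_cancel this
  obtain ⟨M1, hM1n, hM1i, hM1x⟩ := h50_sign (Subgroup.zpowers u) hR1 w
    (fun g => by rw [hw2]; simp) (hnc w hw2 hwc)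
  obtain ⟨M2, hM2n, hM2i, hM2x⟩ := h50_sign (Subgroup.zpowers u) hR1 (u * w)
    (fun g => by rw [huw2]; simp) (hnc (u * w) huw2 huwc)
  -- the four-group `{1, t, w, t w}`
  have htt' : ∀ x : H, t * (t * x) = x := fun x => by rw [← mul_assoc, htt, one_mul]
  have hww' : ∀ x : H, w * (w * x) = x := fun x => by rw [← mul_assoc, hww, one_mul]
  have hwt' : ∀ x : H, w * (t * x) = t * (w * x) := fun x => by
    rw [← mul_assoc, hwt, mul_assoc]
  let R2 : Subgroup H :=
    { carrier := {r | r = 1 ∨ r = t ∨ r = w ∨ r = t * w}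
      one_mem' := Or.inl rfl
      mul_mem' := by
        rintro a b (rfl | rfl | rfl | rfl) (rfl | rfl | rfl | rfl) <;>
          simp [mul_assoc, htt, hww, hwt, htt', hww', hwt']
      inv_mem' := by
        rintro a (rfl | rfl | rfl | rfl) <;>
          simp [mul_assoc, htinv, hwinv, hwt] }
  have hR2mem : ∀ r : H, r ∈ R2 ↔ (r = 1 ∨ r = t ∨ r = w ∨ r = t * w) := fun r => Iff.rfl
  have hR2sq : ∀ r ∈ R2, r ^ 2 = 1 := by
    intro r hr
    rcases (hR2mem r).1 hr with rfl | rfl | rfl | rfl
    · exact one_pow 2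
    · exact ht2
    · exact hw2
    · rw [pow_two]; simp [mul_assoc, htt, hww, hwt, htt', hww', hwt']
  have hwt1 : w ≠ t := by
    intro h; apply hwc; rw [h]; exact (ht u).symm
  have hR2card : Nat.card R2 = 4 := by
    have h1 : Nat.card R2 = ({1, t, w, t * w} : Finset H).card := by
      rw [Nat.card_eq_fintype_card]
      apply Fintype.card_of_subtype
      intro x
      simp only [Finset.mem_insert, Finset.mem_singleton]
      exact (hR2mem x).symm
    rw [h1, Finset.card_insert_of_notMem, Finset.card_insert_of_notMem,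
      Finset.card_insert_of_notMem, Finset.card_singleton]
    · simp only [Finset.mem_singleton]
      intro h
      apply ht1
      have : t * w = 1 * w := by rw [one_mul]; exact h.symm
      exact mul_right_cancel this
    · simp only [Finset.mem_insert, Finset.mem_singleton, not_or]
      refine ⟨fun h => hwt1 h.symm, ?_⟩
      intro h
      apply hw1
      have : t * w = t * 1 := by rw [mul_one]; exact h.symm
      exact mul_left_cancel this
    · simp only [Finset.mem_insert, Finset.mem_singleton, not_or]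
      refine ⟨fun h => ht1 h.symm, fun h => hw1 h.symm, ?_⟩
      intro h
      apply hwt1
      have : t * w = t * t := by rw [htt]; exact h.symm
      exact mul_left_cancel this
  have hR2 : R2.index % 4 = 2 := by
    have h1 := R2.card_mul_index
    rw [hR2card, hH] at h1
    omega
  obtain ⟨M3, hM3n, hM3i, hM3x⟩ := h50_sign R2 hR2 u
    (fun g => by rw [hut, hconjt g]; exact Or.inr (Or.inl rfl))
    (fun g hmem => by
      have h2 := hR2sq _ hmem
      have e : (g⁻¹ * u * g) ^ 2 = g⁻¹ * u ^ 2 * g := by
        rw [pow_two, pow_two]; group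
      rw [e, hut, hconjt g] at h2
      exact ht1 h2)
  -- two different normal subgroups of index two
  have hpair : ∃ A B : Subgroup H, A.Normal ∧ B.Normal ∧ A.index = 2 ∧ B.index = 2 ∧ A ≠ B := by
    by_cases h12 : M1 = M2
    · refine ⟨M1, M3, hM1n, hM3n, hM1i, hM3i, ?_⟩
      intro h13
      have huM1 : u ∈ M1 := by
        have h := Subgroup.mul_mem_iff_of_index_two hM1i (a := u) (b := w)
        by_contra hu'
        have : u * w ∈ M1 := h.2 ⟨fun h' => absurd h' hu', fun h' => absurd h' hM1x⟩
        rw [h12] at this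
        exact hM2x this
      rw [h13] at huM1
      exact hM3x huM1
    · exact ⟨M1, M2, hM1n, hM2n, hM1i, hM2i, h12⟩
  obtain ⟨A, B, hAn, hBn, hAi, hBi, hAB⟩ := hpair
  refine ⟨A ⊓ B, inferInstance, ?_, ?_⟩
  · have h1 : (A ⊓ B).relIndex A * A.index = (A ⊓ B).index :=
      Subgroup.relIndex_mul_index inf_le_left
    rw [Subgroup.inf_relIndex_left, hAi] at h1
    have h2 : B.relIndex A ∣ B.index := Subgroup.relIndex_dvd_index_of_normal B A
    rw [hBi] at h2
    have h3 : B.relIndex A ≠ 1 := by
      intro h
      have hle : A ≤ B := Subgroup.relIndex_eq_one.1 h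
      have h4 : A.relIndex B * B.index = A.index := Subgroup.relIndex_mul_index hle
      rw [hAi, hBi] at h4
      have h5 : A.relIndex B = 1 := by omega
      exact hAB (le_antisymm hle (Subgroup.relIndex_eq_one.1 h5))
    have h4 : B.relIndex A = 2 := by
      rcases (Nat.dvd_prime Nat.prime_two).1 h2 with h | h
      · exact absurd h h3
      · exact h
    rw [h4] at h1
    omega
  · rw [← hut, pow_two]
    exact ⟨(Subgroup.mul_mem_iff_of_index_two hAi).2 Iff.rfl,
      (Subgroup.mul_mem_iff_of_index_two hBi).2 Iff.rfl⟩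

end Cfsg.Agent.Helper50.O2520
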