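import Mathlib
import Cfsg.Prelude.Def_Blocks
import Cfsg.Agent.Lib.Helper55.O2520Defs
import Cfsg.Agent.Lib.Helper17.Simple
import Cfsg.Agent.Lib.Helper50.O2520Sign

/-!
# O2520 server (helper55, S0984): piece (C5) `sylow5_local` (helper50)

Route: an involution `t` centralizing a Sylow 5-subgroup is conjugate to `u ^ 2`; `J = C(u ^ 2)` has order
`40`, `120` or `360` (`7 ∣ |J|` contradicts `|N(P7)| = 21`); `360` is `Done`; for `40` and `120` the Sylow
5-subgroup of `J` is normal (Sylow arithmetic, resp. the sign characters of `O2520Sign`), so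
`J ≤ N(P5)` of order `20`.
-/

set_option autoImplicit false

namespace Cfsg.Agent.Helper50.O2520

open Cfsg Cfsg.Agent.Helper55.O2520
open scoped Classical Pointwise

universe u

/-- A group of order `120` with the dihedral configuration has a unique Sylow 5-subgroup. -/
theorem h50_key_sylow {H : Type u} [Group H] [Finite H] (hH : Nat.card H = 120) (t u w : H)
    (ht : ∀ g : H, g * t = t * g) (hu : orderOf u = 4) (hut : u ^ 2 = t)
    (hw : orderOf w = 2) (hwu : w * u * w⁻¹ = u⁻¹) : Nat.card (Sylow 5 H) = 1 := by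
  haveI : Fact (Nat.Prime 5) := ⟨by norm_num⟩
  obtain ⟨N, hNn, hNi, htN⟩ := h50_key hH t u w ht hu hut hw hwu
  haveI := hNn
  have hNcard : Nat.card N = 30 := by
    have := N.card_mul_index; rw [hNi, hH] at this; omega
  have hu4 : u ^ 4 = 1 := by rw [← hu]; exact pow_orderOf_eq_one u
  have ht2 : t ^ 2 = 1 := by rw [← hut, ← pow_mul]; exact hu4
  have ht1 : t ≠ 1 := by
    intro h; rw [← hut] at h
    have := orderOf_dvd_of_pow_eq_one h; rw [hu] at this; omega
  have hto : orderOf t = 2 := orderOf_eq_prime ht2 ht1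
  -- every Sylow 5-subgroup lies in `N`
  have hle : ∀ Q : Sylow 5 H, (Q : Subgroup H) ≤ N := by
    intro Q y hy
    have hQc : Nat.card (Q : Subgroup H) = 5 := by
      have := Cfsg.Agent.Helper17.sylow_card_eq Q (k := 1) (m := 24) (by rw [hH]; norm_num) (by norm_num)
      simpa using this
    have hy5 : y ^ 5 = 1 := by
      have h1 : (⟨y, hy⟩ : (Q : Subgroup H)) ^ Nat.card (Q : Subgroup H) = 1 := pow_card_eq_one'
      rw [hQc] at h1
      have h2 := congrArg Subtype.val h1
      simpa using h2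
    have hy4 : y ^ 4 ∈ N := by
      have := Subgroup.pow_index_mem N y
      rwa [hNi] at this
    have : y = (y ^ 4)⁻¹ := by
      rw [eq_inv_iff_mul_eq_one, ← pow_succ', hy5]
    rw [this]; exact N.inv_mem hy4
  -- the Sylow 5-subgroup of `N` is unique
  have hN1 : Nat.card (Sylow 5 N) = 1 := by
    obtain ⟨hdvd, hmod⟩ := Cfsg.Agent.Helper17.sylow_count (G := N) (p := 5) (k := 1) (m := 6)
      (by rw [hNcard]; norm_num) (by norm_num)
    obtain ⟨Q0⟩ : Nonempty (Sylow 5 N) := inferInstance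
    have hidx : Nat.card (Sylow 5 N) =
        (Subgroup.normalizer ((Q0 : Subgroup N) : Set N)).index := Q0.card_eq_index_normalizer
    have hQ0c : Nat.card (Q0 : Subgroup N) = 5 := by
      have := Cfsg.Agent.Helper17.sylow_card_eq Q0 (k := 1) (m := 6) (by rw [hNcard]; norm_num) (by norm_num)
      simpa using this
    have hmul := (Subgroup.normalizer ((Q0 : Subgroup N) : Set N)).card_mul_index
    rw [hNcard] at hmul
    have h5 : 5 ∣ Nat.card (Subgroup.normalizer ((Q0 : Subgroup N) : Set N)) := by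
      have := Subgroup.card_dvd_of_le (Subgroup.le_normalizer (H := (Q0 : Subgroup N)))
      rwa [hQ0c] at this
    have h2 : 2 ∣ Nat.card (Subgroup.normalizer ((Q0 : Subgroup N) : Set N)) := by
      have hmem : (⟨t, htN⟩ : N) ∈ Subgroup.normalizer ((Q0 : Subgroup N) : Set N) := by
        rw [Subgroup.mem_normalizer_iff]
        intro h
        have e : (⟨t, htN⟩ : N) * h * (⟨t, htN⟩ : N)⁻¹ = h := by
          apply Subtype.ext
          show t * (h : H) * t⁻¹ = h
          rw [← ht (h : H), mul_assoc, mul_inv_cancel, mul_one]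
        rw [e]
      have ho : orderOf (⟨t, htN⟩ : N) = 2 := by rw [Subgroup.orderOf_mk]; exact hto
      rw [← ho]
      exact Subgroup.orderOf_dvd_natCard _ hmem
    have h10 : 10 ∣ Nat.card (Subgroup.normalizer ((Q0 : Subgroup N) : Set N)) :=
      Nat.Coprime.mul_dvd_of_dvd_of_dvd (by norm_num : Nat.Coprime 2 5) h2 h5
    obtain ⟨a, ha⟩ := h10
    rw [ha, ← hidx] at hmul
    have hle6 : Nat.card (Sylow 5 N) ≤ 6 := Nat.le_of_dvd (by norm_num) hdvd
    have hn1 : 1 ≤ Nat.card (Sylow 5 N) := by omega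
    have ha3 : a ≤ 3 := by
      have : 10 * a * 1 ≤ 10 * a * Nat.card (Sylow 5 N) := Nat.mul_le_mul_left _ hn1
      omega
    interval_cases a <;> omega
  haveI : Subsingleton (Sylow 5 N) := (Nat.card_eq_one_iff_unique.1 hN1).1
  haveI : Subsingleton (Sylow 5 H) := by
    constructor
    intro Q1 Q2
    have := Subsingleton.elim (Q1.subtype (hle Q1)) (Q2.subtype (hle Q2))
    exact Sylow.subtype_injective this
  exact Nat.card_unique

/-- A subgroup with a unique Sylow 5-subgroup lies in the normalizer of a Sylow 5-subgroup of `G`. -/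
theorem h50_card_dvd_of_unique {G : Type u} [Group G] [Finite G] (hG : Nat.card G = 2520)
    (h5 : Nat.card (Sylow 5 G) = 126) (J : Subgroup G) (h5J : 5 ∣ Nat.card J)
    (huniq : Nat.card (Sylow 5 J) = 1) : Nat.card J ∣ 20 := by
  haveI : Fact (Nat.Prime 5) := ⟨by norm_num⟩
  obtain ⟨Q0⟩ : Nonempty (Sylow 5 J) := inferInstance
  haveI : Subsingleton (Sylow 5 J) := (Nat.card_eq_one_iff_unique.1 huniq).1
  have hQ0n : (Q0 : Subgroup J).Normal := Q0.normal_of_subsingleton
  have hJdvd : Nat.card J ∣ 2520 := hG ▸ Subgroup.card_subgroup_dvd_card J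
  obtain ⟨m, hm⟩ := h5J
  have hm5 : ¬ 5 ∣ m := by
    rintro ⟨m', hm'⟩
    rw [hm, hm'] at hJdvd
    have : 25 ∣ 2520 := Dvd.dvd.trans ⟨m', by ring⟩ hJdvd
    norm_num at this
  have hQ0c : Nat.card (Q0 : Subgroup J) = 5 := by
    have := Cfsg.Agent.Helper17.sylow_card_eq Q0 (k := 1) (m := m) (by rw [hm]; ring) hm5
    simpa using this
  have hQgc : Nat.card ((Q0 : Subgroup J).map J.subtype) = 5 := by
    rw [Subgroup.card_map_of_injective J.subtype_injective]; exact hQ0c
  obtain ⟨P⟩ : Nonempty (Sylow 5 G) := inferInstance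
  have hPc : Nat.card (P : Subgroup G) = 5 := by
    have := Cfsg.Agent.Helper17.sylow_card_eq P (k := 1) (m := 504) (by rw [hG]; norm_num) (by norm_num)
    simpa using this
  let Q1 : Sylow 5 G := Sylow.ofCard ((Q0 : Subgroup J).map J.subtype)
    (hQgc.trans (hPc.symm.trans P.card_eq_multiplicity))
  have hQ1 : (Q1 : Subgroup G) = (Q0 : Subgroup J).map J.subtype := Sylow.coe_ofCard _ _
  have hN : Nat.card (Subgroup.normalizer ((Q1 : Subgroup G) : Set G)) = 20 := by
    have h1 : Nat.card (Sylow 5 G) =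
        (Subgroup.normalizer ((Q1 : Subgroup G) : Set G)).index := Q1.card_eq_index_normalizer
    have h2 := (Subgroup.normalizer ((Q1 : Subgroup G) : Set G)).card_mul_index
    rw [← h1, h5, hG] at h2; omega
  have hle : J ≤ Subgroup.normalizer ((Q1 : Subgroup G) : Set G) := by
    intro j hj
    rw [Subgroup.mem_normalizer_iff]
    intro h
    show h ∈ (Q1 : Subgroup G) ↔ j * h * j⁻¹ ∈ (Q1 : Subgroup G)
    rw [hQ1]
    constructor
    · rintro ⟨y, hy, rfl⟩
      exact ⟨⟨j, hj⟩ * y * ⟨j, hj⟩⁻¹, hQ0n.conj_mem y hy ⟨j, hj⟩, rfl⟩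
    · rintro ⟨y, hy, hyeq⟩
      refine ⟨⟨j, hj⟩⁻¹ * y * ⟨j, hj⟩, ?_, ?_⟩
      · have := hQ0n.conj_mem y hy ⟨j, hj⟩⁻¹
        rw [inv_inv] at this
        exact this
      · show j⁻¹ * (y : G) * j = h
        have : (y : G) = j * h * j⁻¹ := hyeq
        rw [this]; group
  have := Subgroup.card_dvd_of_le hle
  rwa [hN] at this


/-- The core: if `u ^ 2` centralizes a Sylow 5-subgroup then `G` has a subgroup of order `360`. -/
theorem h50_core {G : Type u} [Group G] [Finite G] (hG : Nat.card G = 2520)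
    (h7 : Nat.card (Sylow 7 G) = 120) (h5 : Nat.card (Sylow 5 G) = 126)
    (u w : G) (hu : orderOf u = 4) (hw : orderOf w = 2) (hwu : w * u * w⁻¹ = u⁻¹)
    (Q : Sylow 5 G) (hQ : ∀ y ∈ (Q : Subgroup G), u ^ 2 * y = y * u ^ 2) : Done G := by
  haveI : Fact (Nat.Prime 5) := ⟨by norm_num⟩
  haveI : Fact (Nat.Prime 7) := ⟨by norm_num⟩
  have hu4 : u ^ 4 = 1 := by rw [← hu]; exact pow_orderOf_eq_one u
  have hw2 : w ^ 2 = 1 := by rw [← hw]; exact pow_orderOf_eq_one w
  have hww : w * w = 1 := by rw [← pow_two]; exact hw2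
  have hwinv : w⁻¹ = w := by rw [inv_eq_iff_mul_eq_one]; exact hww
  have ht2 : (u ^ 2) ^ 2 = 1 := by rw [← pow_mul]; exact hu4
  have ht1 : u ^ 2 ≠ 1 := by
    intro h
    have := orderOf_dvd_of_pow_eq_one h; rw [hu] at this; omega
  have hto : orderOf (u ^ 2) = 2 := orderOf_eq_prime ht2 ht1
  have hwcomm : w * u ≠ u * w := by
    intro h
    apply ht1
    have h1 : u⁻¹ = u := by rw [← hwu, h, mul_assoc, mul_inv_cancel, mul_one]
    rw [pow_two]; nth_rewrite 1 [← h1]; exact inv_mul_cancel u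
  have hmemJ : ∀ g : G, g ∈ Subgroup.centralizer ({u ^ 2} : Set G) ↔ u ^ 2 * g = g * u ^ 2 :=
    fun g => Subgroup.mem_centralizer_singleton_iff.trans eq_comm
  have huJ : u ∈ Subgroup.centralizer ({u ^ 2} : Set G) := by
    rw [hmemJ]; rw [← pow_succ, ← pow_succ']
  have hwJ : w ∈ Subgroup.centralizer ({u ^ 2} : Set G) := by
    rw [hmemJ]
    have h1 : w * u ^ 2 * w⁻¹ = (u⁻¹) ^ 2 := by
      rw [← hwu, conj_pow]
    have h2 : (u⁻¹) ^ 2 = u ^ 2 := by
      rw [inv_pow, inv_eq_iff_mul_eq_one, ← pow_add]; exact hu4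
    rw [h2] at h1
    have e : w * u ^ 2 = (w * u ^ 2 * w⁻¹) * w := by group
    rw [e, h1]
  have htJ : u ^ 2 ∈ Subgroup.centralizer ({u ^ 2} : Set G) := by rw [hmemJ]
  have hQJ : (Q : Subgroup G) ≤ Subgroup.centralizer ({u ^ 2} : Set G) := by
    intro y hy; rw [hmemJ]; exact hQ y hy
  have hQc : Nat.card (Q : Subgroup G) = 5 := by
    have := Cfsg.Agent.Helper17.sylow_card_eq Q (k := 1) (m := 504) (by rw [hG]; norm_num) (by norm_num)
    simpa using this
  have h5J : 5 ∣ Nat.card (Subgroup.centralizer ({u ^ 2} : Set G)) := by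
    have := Subgroup.card_dvd_of_le hQJ
    rwa [hQc] at this
  have hJdvd : Nat.card (Subgroup.centralizer ({u ^ 2} : Set G)) ∣ 2520 :=
    hG ▸ Subgroup.card_subgroup_dvd_card _
  -- the dihedral group of order 8
  have h8J : 8 ∣ Nat.card (Subgroup.centralizer ({u ^ 2} : Set G)) := by
    have hS : Nat.card (Subgroup.zpowers w ⊔ Subgroup.zpowers u : Subgroup G) = 8 := by
      have hcu : Nat.card (Subgroup.zpowers u) = 4 := by rw [Nat.card_zpowers, hu]
      have hcw : Nat.card (Subgroup.zpowers w) = 2 := by rw [Nat.card_zpowers, hw]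
      have hnorm : Subgroup.zpowers w ≤ Subgroup.normalizer ((Subgroup.zpowers u : Subgroup G) : Set G) := by
        rw [Subgroup.zpowers_le]
        apply Subgroup.mem_normalizer_fintype
        intro n hn
        obtain ⟨k, rfl⟩ := Subgroup.mem_zpowers_iff.1 hn
        have : w * u ^ k * w⁻¹ = (u⁻¹) ^ k := by rw [← hwu, conj_zpow]
        rw [this]
        exact Subgroup.zpow_mem _ (Subgroup.inv_mem _ (Subgroup.mem_zpowers u)) k
      have hle : Nat.card (Subgroup.zpowers w ⊔ Subgroup.zpowers u : Subgroup G) ≤ 2 * 4 := by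
        have h1 : ((Subgroup.zpowers w ⊔ Subgroup.zpowers u : Subgroup G) : Set G) =
            (Subgroup.zpowers w : Set G) * (Subgroup.zpowers u : Set G) :=
          Subgroup.coe_mul_of_left_le_normalizer_right _ _ hnorm
        have h2 : Nat.card (Subgroup.zpowers w ⊔ Subgroup.zpowers u : Subgroup G) =
            Nat.card ((Subgroup.zpowers w : Set G) * (Subgroup.zpowers u : Set G) : Set G) := by
          rw [← h1]; rfl
        rw [h2, ← hcu, ← hcw]
        exact Set.natCard_mul_le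
      have h4 : 4 ∣ Nat.card (Subgroup.zpowers w ⊔ Subgroup.zpowers u : Subgroup G) := by
        rw [← hcu]; exact Subgroup.card_dvd_of_le le_sup_right
      have hne : Nat.card (Subgroup.zpowers w ⊔ Subgroup.zpowers u : Subgroup G) ≠ 4 := by
        intro h
        have heq : Subgroup.zpowers u = Subgroup.zpowers w ⊔ Subgroup.zpowers u :=
          Subgroup.eq_of_le_of_card_ge le_sup_right (by rw [h, hcu])
        have hwmem : w ∈ Subgroup.zpowers u := by
          rw [heq]; exact (le_sup_left : Subgroup.zpowers w ≤ _) (Subgroup.mem_zpowers w)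
        obtain ⟨k, hk⟩ := Subgroup.mem_zpowers_iff.1 hwmem
        apply hwcomm
        rw [← hk]
        exact ((Commute.refl u).zpow_left k).eq
      have hpos : 0 < Nat.card (Subgroup.zpowers w ⊔ Subgroup.zpowers u : Subgroup G) := Nat.card_pos
      obtain ⟨a, ha⟩ := h4
      omega
    rw [← hS]
    apply Subgroup.card_dvd_of_le
    rw [sup_le_iff, Subgroup.zpowers_le, Subgroup.zpowers_le]
    exact ⟨hwJ, huJ⟩
  -- no element of order 7 commutes with `u ^ 2`
  have h7J : ¬ 7 ∣ Nat.card (Subgroup.centralizer ({u ^ 2} : Set G)) := by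
    intro h
    obtain ⟨x, hx⟩ := exists_prime_orderOf_dvd_card' 7 h
    have hxo : orderOf (x : G) = 7 := by rw [Subgroup.orderOf_coe]; exact hx
    have hXc : Nat.card (Subgroup.zpowers (x : G)) = 7 := by rw [Nat.card_zpowers, hxo]
    obtain ⟨P⟩ : Nonempty (Sylow 7 G) := inferInstance
    have hPc : Nat.card (P : Subgroup G) = 7 := by
      have := Cfsg.Agent.Helper17.sylow_card_eq P (k := 1) (m := 360) (by rw [hG]; norm_num) (by norm_num)
      simpa using this
    let X : Sylow 7 G := Sylow.ofCard (Subgroup.zpowers (x : G))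
      (hXc.trans (hPc.symm.trans P.card_eq_multiplicity))
    have hX : (X : Subgroup G) = Subgroup.zpowers (x : G) := Sylow.coe_ofCard _ _
    have hN : Nat.card (Subgroup.normalizer ((X : Subgroup G) : Set G)) = 21 := by
      have h1 : Nat.card (Sylow 7 G) =
          (Subgroup.normalizer ((X : Subgroup G) : Set G)).index := X.card_eq_index_normalizer
      have h2 := (Subgroup.normalizer ((X : Subgroup G) : Set G)).card_mul_index
      rw [← h1, h7, hG] at h2; omega
    have hmem : u ^ 2 ∈ Subgroup.normalizer ((X : Subgroup G) : Set G) := by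
      apply Subgroup.centralizer_le_normalizer
      rw [Subgroup.mem_centralizer_iff]
      intro y hy
      have hy' : y ∈ Subgroup.zpowers (x : G) := by rw [← hX]; exact hy
      have hle : Subgroup.zpowers (x : G) ≤ Subgroup.centralizer ({u ^ 2} : Set G) := by
        rw [Subgroup.zpowers_le]; exact x.2
      exact ((hmemJ y).1 (hle hy')).symm
    have := Subgroup.orderOf_dvd_natCard _ hmem
    rw [hto, hN] at this
    omega
  have hcases : Nat.card (Subgroup.centralizer ({u ^ 2} : Set G)) = 40 ∨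
      Nat.card (Subgroup.centralizer ({u ^ 2} : Set G)) = 120 ∨
      Nat.card (Subgroup.centralizer ({u ^ 2} : Set G)) = 360 := by
    have h40 : 40 ∣ Nat.card (Subgroup.centralizer ({u ^ 2} : Set G)) :=
      Nat.Coprime.mul_dvd_of_dvd_of_dvd (by norm_num : Nat.Coprime 8 5) h8J h5J
    obtain ⟨a, ha⟩ := h40
    rw [ha] at hJdvd h7J ⊢
    have ha63 : a ∣ 63 := Nat.dvd_of_mul_dvd_mul_left (by norm_num : 0 < 40) hJdvd
    have hale : a ≤ 63 := Nat.le_of_dvd (by norm_num) ha63
    interval_cases a <;> omega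
  rcases hcases with h | h | h
  · exfalso
    have hn : Nat.card (Sylow 5 (Subgroup.centralizer ({u ^ 2} : Set G))) = 1 := by
      obtain ⟨hdvd, hmod⟩ := Cfsg.Agent.Helper17.sylow_count
        (G := Subgroup.centralizer ({u ^ 2} : Set G)) (p := 5) (k := 1) (m := 8)
        (by rw [h]; norm_num) (by norm_num)
      have hle8 := Nat.le_of_dvd (by norm_num) hdvd
      interval_cases (Nat.card (Sylow 5 (Subgroup.centralizer ({u ^ 2} : Set G)))) <;> omega
    have := h50_card_dvd_of_unique hG h5 _ h5J hn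
    rw [h] at this
    omega
  · exfalso
    have hn : Nat.card (Sylow 5 (Subgroup.centralizer ({u ^ 2} : Set G))) = 1 := by
      apply h50_key_sylow h ⟨u ^ 2, htJ⟩ ⟨u, huJ⟩ ⟨w, hwJ⟩
      · intro g
        apply Subtype.ext
        exact ((hmemJ g).1 g.2).symm
      · rw [Subgroup.orderOf_mk]; exact hu
      · rfl
      · rw [Subgroup.orderOf_mk]; exact hw
      · apply Subtype.ext
        exact hwu
    have := h50_card_dvd_of_unique hG h5 _ h5J hn
    rw [h] at this
    omega
  · exact ⟨_, h⟩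

/-- (C5) -/
theorem sylow5_local {G : Type u} [Group G] [Finite G] [IsSimpleGroup G] (hG : Nat.card G = 2520)
    (h7 : Nat.card (Sylow 7 G) = 120) (h5 : Nat.card (Sylow 5 G) = 126)
    (u w : G) (hu : orderOf u = 4) (hw : orderOf w = 2) (hwu : w * u * w⁻¹ = u⁻¹)
    (hinv : ∀ t : G, orderOf t = 2 → IsConj t (u ^ 2)) (Q : Sylow 5 G) :
    Done G ∨ (Nat.card (Subgroup.normalizer ((Q : Subgroup G) : Set G)) = 20 ∧
      Subgroup.centralizer ((Q : Subgroup G) : Set G) = (Q : Subgroup G)) := by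
  haveI : Fact (Nat.Prime 5) := ⟨by norm_num⟩
  have hN : Nat.card (Subgroup.normalizer ((Q : Subgroup G) : Set G)) = 20 := by
    have h1 : Nat.card (Sylow 5 G) =
        (Subgroup.normalizer ((Q : Subgroup G) : Set G)).index := Q.card_eq_index_normalizer
    have h2 := (Subgroup.normalizer ((Q : Subgroup G) : Set G)).card_mul_index
    rw [← h1, h5, hG] at h2; omega
  by_cases hC : Subgroup.centralizer ((Q : Subgroup G) : Set G) = (Q : Subgroup G)
  · exact Or.inr ⟨hN, hC⟩
  left
  have hQc : Nat.card (Q : Subgroup G) = 5 := by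
    have := Cfsg.Agent.Helper17.sylow_card_eq Q (k := 1) (m := 504) (by rw [hG]; norm_num) (by norm_num)
    simpa using this
  haveI : IsCyclic (Q : Subgroup G) := isCyclic_of_prime_card hQc
  have hQle : (Q : Subgroup G) ≤ Subgroup.centralizer ((Q : Subgroup G) : Set G) := by
    intro y hy
    rw [Subgroup.mem_centralizer_iff]
    intro z hz
    have := (IsCyclic.commGroup (α := (Q : Subgroup G))).mul_comm ⟨z, hz⟩ ⟨y, hy⟩
    exact congrArg Subtype.val this
  have hCdvd : Nat.card (Subgroup.centralizer ((Q : Subgroup G) : Set G)) ∣ 20 := by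
    rw [← hN]; exact Subgroup.card_dvd_of_le (Subgroup.centralizer_le_normalizer _)
  have h5C : 5 ∣ Nat.card (Subgroup.centralizer ((Q : Subgroup G) : Set G)) := by
    have := Subgroup.card_dvd_of_le hQle
    rwa [hQc] at this
  have hCne : Nat.card (Subgroup.centralizer ((Q : Subgroup G) : Set G)) ≠ 5 := by
    intro h
    apply hC
    exact (Subgroup.eq_of_le_of_card_ge hQle (by rw [h, hQc])).symm
  have h2C : 2 ∣ Nat.card (Subgroup.centralizer ((Q : Subgroup G) : Set G)) := by
    obtain ⟨a, ha⟩ := h5C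
    rw [ha] at hCdvd hCne ⊢
    have ha4 : a ∣ 4 := Nat.dvd_of_mul_dvd_mul_left (by norm_num : 0 < 5) hCdvd
    have hale : a ≤ 4 := Nat.le_of_dvd (by norm_num) ha4
    interval_cases a <;> omega
  obtain ⟨t, ht⟩ := exists_prime_orderOf_dvd_card' 2 h2C
  have hto : orderOf (t : G) = 2 := by rw [Subgroup.orderOf_coe]; exact ht
  obtain ⟨c, hc⟩ := isConj_iff.1 (hinv (t : G) hto)
  -- `c * t * c⁻¹ = u ^ 2`
  have hu' : orderOf (c⁻¹ * u * c) = 4 := by
    have := (MulAut.conj c⁻¹).orderOf_eq u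
    rw [MulAut.conj_apply, inv_inv] at this
    rw [this]; exact hu
  have hw' : orderOf (c⁻¹ * w * c) = 2 := by
    have := (MulAut.conj c⁻¹).orderOf_eq w
    rw [MulAut.conj_apply, inv_inv] at this
    rw [this]; exact hw
  have hwu' : (c⁻¹ * w * c) * (c⁻¹ * u * c) * (c⁻¹ * w * c)⁻¹ = (c⁻¹ * u * c)⁻¹ := by
    have e1 : (c⁻¹ * w * c) * (c⁻¹ * u * c) * (c⁻¹ * w * c)⁻¹ = c⁻¹ * (w * u * w⁻¹) * c := by group
    have e2 : (c⁻¹ * u * c)⁻¹ = c⁻¹ * u⁻¹ * c := by group
    rw [e1, e2, hwu]
  have hsq : (c⁻¹ * u * c) ^ 2 = (t : G) := by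
    have e1 : (c⁻¹ * u * c) ^ 2 = c⁻¹ * u ^ 2 * c := by
      rw [pow_two, pow_two]; group
    rw [e1, ← hc]; group
  apply h50_core hG h7 h5 (c⁻¹ * u * c) (c⁻¹ * w * c) hu' hw' hwu' Q
  intro y hy
  rw [hsq]
  have := t.2
  rw [Subgroup.mem_centralizer_iff] at this
  exact (this y hy).symm

end Cfsg.Agent.Helper50.O2520
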