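import Mathlib
import Cfsg.Agent.S1017
import Cfsg.Agent.Lib.Helper17.Simple
import Cfsg.Agent.Lib.Helper17.FixedCount
import Cfsg.Agent.Lib.Helper17.SylowCount
import Cfsg.Prelude.Def_Blocks
import Cfsg.Agent.Lib.Helper78.CharSchur
import Cfsg.Agent.Lib.Helper78.CharCount
import Cfsg.Agent.Lib.Helper81.CharDet
import Cfsg.Agent.Lib.Helper79.Integrality
import Cfsg.Agent.Lib.Helper74.FSBrauerFowler
import Cfsg.Agent.Lib.Helper17.PrimeTIApp
import Cfsg.Agent.Lib.Helper10.O4320B2f1
import Cfsg.Agent.Lib.Helper13.O4320B1a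
import Cfsg.Agent.Lib.Helper33.O4320C36c1
import Cfsg.Agent.Lib.Helper33.O4320C36c2
import Cfsg.Agent.Lib.Helper46.O4320B2f2
import Cfsg.Agent.Lib.Helper56.O4320C16b
import Cfsg.Agent.Lib.Helper56.O4320C36b
import Cfsg.Agent.Lib.Helper60.O4320B1b1
import Cfsg.Agent.Lib.Helper60.O4320B1b2
import Cfsg.Agent.Lib.Helper61.O4320B2a
import Cfsg.Agent.Lib.Helper65.O4320C16a
import Cfsg.Agent.Lib.Helper75.O4320IDX
import Cfsg.Agent.Lib.Helper75.O4320N5
import Cfsg.Agent.Lib.Helper75.O4320NS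
import Cfsg.Agent.Lib.Helper79.O4320B2e
import Cfsg.Agent.Lib.Helper79.O4320C36a
import Cfsg.Agent.Lib.Helper85.O4320BASE1
import Cfsg.Agent.Lib.Helper85.O4320BASE2
import Cfsg.Agent.Lib.Helper86.O4320B1c

/-!
# O4320 (helper50's lemma server for S0977): the final assembly
-/

set_option autoImplicit false

namespace Cfsg.Agent.Helper50.O4320

open Cfsg MulAction
open Cfsg.Agent.Helper10.O4320
open Cfsg.Agent.Helper13.O4320
open Cfsg.Agent.Helper33.O4320
open Cfsg.Agent.Helper46.O4320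
open Cfsg.Agent.Helper56.O4320
open Cfsg.Agent.Helper60.O4320
open Cfsg.Agent.Helper61.O4320
open Cfsg.Agent.Helper65.O4320
open Cfsg.Agent.Helper75.O4320
open Cfsg.Agent.Helper79.O4320
open Cfsg.Agent.Helper85.O4320
open Cfsg.Agent.Helper86.O4320

universe u

section

variable {G : Type u} [Group G] [Finite G] [IsSimpleGroup G]

/-- (C16) -/
theorem h50_false_of_16 (hG : Nat.card G = 4320) (h16 : Nat.card (Sylow 5 G) = 16) : False := by
  obtain ⟨R⟩ : Nonempty (Sylow 5 G) := inferInstance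
  obtain ⟨hR5, h16', -, -⟩ := card_normalizer_centralizer hG R
  obtain ⟨-, hC⟩ := h16' h16
  exact false_of_sixteen hG h16 R hC (fun x hx hxR => sixteen_fix hG h16 R hR5 x hx hxR)

/-- (C36) -/
theorem h50_false_of_36 (hG : Nat.card G = 4320) (h36 : Nat.card (Sylow 5 G) = 36) : False := by
  obtain ⟨R⟩ : Nonempty (Sylow 5 G) := inferInstance
  obtain ⟨hR5, -, h36', -⟩ := card_normalizer_centralizer hG R
  obtain ⟨-, hC⟩ := h36' h36
  have hA := fun (u : G) (hu : orderOf u = 2)
    (huR : u ∈ Subgroup.centralizer ((R : Subgroup G) : Set G)) => thirtysix_invol hG h36 R u hu huR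
  rcases hC with hC | hC
  · -- a generator of `R`
    have : Fact (Nat.Prime 5) := ⟨by norm_num⟩
    obtain ⟨r', hr'⟩ := exists_prime_orderOf_dvd_card' (G := ↥(R : Subgroup G)) 5 (by rw [hR5])
    have hr : orderOf (r' : G) = 5 := by rw [Subgroup.orderOf_coe]; exact hr'
    have hrC : (r' : G) ∈ Subgroup.centralizer ((R : Subgroup G) : Set G) :=
      Cfsg.Agent.S1017.le_centralizer_self R hR5 r'.2
    have hrc : ∀ h ∈ Subgroup.centralizer ((R : Subgroup G) : Set G), Commute (r' : G) h := by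
      intro h hh
      exact (Subgroup.mem_centralizer_iff.1 hh (r' : G) r'.2)
    refine false_of_thirtysix_thirty hG h36 R hC hA ?_ ?_
    · intro u huR hu
      exact thirty_invol (Subgroup.centralizer ((R : Subgroup G) : Set G)) hC (r' : G) hrC hr hrc u huR hu
    · intro r hr S hS
      exact conj_fixed_mod 5 r hr S hS
  · exact false_of_thirtysix_sixty hG h36 R hC hA

/-- (B1d) -/
theorem h50_false_of_b1 (hG : Nat.card G = 4320) (h216 : Nat.card (Sylow 5 G) = 216) (R : Sylow 5 G)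
    (hC : Nat.card (Subgroup.centralizer ((R : Subgroup G) : Set G)) = 10) : False := by
  have : Fact (Nat.Prime 5) := ⟨by norm_num⟩
  obtain ⟨hR5, -, -, -⟩ := card_normalizer_centralizer hG R
  obtain ⟨u, hu, huR, hN, huniq⟩ := b1_setup hG h216 R hC
  have hB : ∀ (r : G), orderOf r = 5 → ∀ S : Set G, (∀ x ∈ S, r * x * r⁻¹ ∈ S) →
      Nat.card S ≡ Nat.card {x : G // x ∈ S ∧ Commute r x} [MOD 5] :=
    fun r hr S hS => conj_fixed_mod 5 r hr S hS
  obtain ⟨k, hk, hkc⟩ := b1_conj_count hG h216 R hC u hu huR huniq hB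
  have hRu : (R : Subgroup G) ≤ Subgroup.centralizer ({u} : Set G) :=
    (Cfsg.Agent.S1017.le_centralizer_singleton_iff _ u).2 huR
  have hB2 := card_sylow_le_mod 5 R hR5 (Subgroup.centralizer ({u} : Set G)) hRu
  obtain ⟨a, ha, ha5, hCu, hf⟩ := b1_count hG h216 R u hu huR hN k hkc hB2
  have hinv := b1_inverted hG u hu
  rw [← ha, hf] at hinv
  have hcl := Cfsg.Agent.Helper17.SylowCount.card_conj_mul_card_centralizer u
  rw [hCu, hG] at hcl
  have h4 := Cfsg.Agent.S1017.card_fixedBy_mod_four (G := G) (by rw [hG]; norm_num) (α := Sylow 5 G) u hu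
  rw [hf, h216] at h4
  have hu1 : u ≠ 1 := Cfsg.Agent.S1017.ne_one_of_orderOf_prime u (by norm_num) hu
  have hnt := Cfsg.Agent.S1017.sylow_action_nontrivial (G := G) (p := 5) (by rw [h216]; norm_num)
  have hne := Cfsg.Agent.S1017.card_fixedBy_ne hnt u hu1
  have hle := Cfsg.Agent.S1017.card_fixedBy_le (α := Sylow 5 G) u
  rw [hf, h216] at hne hle
  have hidx := Subgroup.card_mul_index (Subgroup.centralizer ({u} : Set G))
  rw [hCu, hG] at hidx
  have hidx9 : Subgroup.centralizer ({u} : Set G) = ⊤ ∨ 9 ≤ (Subgroup.centralizer ({u} : Set G)).index := by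
    by_cases h : Subgroup.centralizer ({u} : Set G) = ⊤
    · exact Or.inl h
    · exact Or.inr (index_ge_nine hG _ h)
  have htop : Subgroup.centralizer ({u} : Set G) = ⊤ → a * 20 = 4320 := by
    intro h
    rw [← hCu, h, Subgroup.card_top, hG]
  set cc := Nat.card {g : G // IsConj u g} with hcc
  set ix := (Subgroup.centralizer ({u} : Set G)).index with hix
  have hdiv : a ∣ 216 := ⟨cc, by nlinarith⟩
  have hmem : a ∈ Nat.divisors 216 := Nat.mem_divisors.2 ⟨hdiv, by norm_num⟩
  have hdivs : Nat.divisors 216 = {1, 2, 3, 4, 6, 8, 9, 12, 18, 24, 27, 36, 54, 72, 108, 216} := by decide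
  rw [hdivs] at hmem
  simp only [Finset.mem_insert, Finset.mem_singleton] at hmem
  unfold Nat.ModEq at h4
  rcases hmem with rfl | rfl | rfl | rfl | rfl | rfl | rfl | rfl | rfl | rfl | rfl | rfl | rfl | rfl | rfl | rfl <;>
    first
    | omega
    | (rcases hk with rfl | rfl | rfl <;> rcases hidx9 with h | h <;>
        first
        | omega
        | (have := htop h; omega))

/-- (B2g) -/
theorem h50_false_of_b2 (hG : Nat.card G = 4320) (h216 : Nat.card (Sylow 5 G) = 216) (R : Sylow 5 G)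
    (hC : Nat.card (Subgroup.centralizer ((R : Subgroup G) : Set G)) = 5) : False := by
  classical
  have : Fintype G := Fintype.ofFinite G
  obtain ⟨y, t, hy, hCy, hconj, ht, hty⟩ := b2_setup hG h216 R hC
  obtain ⟨c, s, T, hT0, htriv, h5, hc2, hdc, hm, hs2, hmul⟩ := b2_identities hG y t hy hCy hconj ht hty
  let i0 : IrrCharacter G := ⟨fun _ => 1, Cfsg.Agent.Helper81.isIrrCharacter_one⟩
  have hd0 : charDegree (i0 : G → ℂ) = 1 := by
    simp [charDegree, i0]
  have hperf : commutator G = ⊤ :=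
    Cfsg.Agent.Helper17.PrimeTI.perfect_of_simple (by rw [hG]; norm_num)
  have huniq : ∀ χ : IrrCharacter G, charDegree (χ : G → ℂ) = 1 → χ = i0 := by
    intro χ h
    apply Subtype.ext
    exact Cfsg.Agent.Helper17.PrimeTI.linear_trivial_of_perfect hperf χ h
  have hdvd : ∀ χ : IrrCharacter G, charDegree (χ : G → ℂ) ∣ 4320 := by
    intro χ
    rw [← hG]
    exact Cfsg.Agent.Helper79.irr_degree_dvd_card χ
  have hsq : ∑ χ : IrrCharacter G, ((charDegree (χ : G → ℂ) : ℕ) : ℤ) ^ 2 = 4320 := by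
    have h := Cfsg.Agent.Helper74.FS.sum_sq_degree (G := G)
    rw [hG] at h
    have h' : ((∑ χ : IrrCharacter G, ((charDegree (χ : G → ℂ) : ℕ) : ℤ) ^ 2 : ℤ) : ℚ) =
        ((4320 : ℤ) : ℚ) := by
      push_cast
      exact_mod_cast h
    exact_mod_cast h'
  have h0 := htriv i0 rfl
  exact b2_arith (fun χ : IrrCharacter G => charDegree (χ : G → ℂ)) c s T i0 hd0 h0.1 h0.2 huniq hdvd hsq
    h5 hc2 hdc hm hs2 hmul b2_numeric

/-- (TOP) -/
theorem h50_main : Nat.card G ≠ 4320 := by
  intro hG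
  rcases card_sylow5_cases hG with h | h | h
  · exact h50_false_of_16 hG h
  · exact h50_false_of_36 hG h
  · obtain ⟨R⟩ : Nonempty (Sylow 5 G) := inferInstance
    obtain ⟨-, -, -, h216'⟩ := card_normalizer_centralizer hG R
    obtain ⟨-, hC⟩ := h216' h
    rcases hC with hC | hC
    · exact h50_false_of_b2 hG h R hC
    · exact h50_false_of_b1 hG h R hC

end

end Cfsg.Agent.Helper50.O4320
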