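import Mathlib
import Cfsg.Agent.Lib.Helper74.M11Defs
import Cfsg.Agent.S1017
import Cfsg.Agent.Lib.Helper17.Simple

/-!
# O5040 (N90): `|N(R)| = 90` is impossible for a Sylow 5-subgroup `R` of a simple group of order 5040
(helper50, second seat, for helper74's lemma server "O5040", row S0978).
-/

set_option autoImplicit false

namespace Cfsg.Agent.Helper50.O5040

open Cfsg.Agent.Helper74.M11

open scoped Pointwise

variable {G : Type*} [Group G] [Finite G]

/-- A group of order 45 has a unique subgroup of order 9. -/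
theorem h50n90_unique_nine (C : Subgroup G) (hC : Nat.card C = 45) :
    ∃ M : Subgroup G, M ≤ C ∧ Nat.card M = 9 ∧
      ∀ K : Subgroup G, K ≤ C → Nat.card K = 9 → K = M := by
  have : Fact (Nat.Prime 3) := ⟨by norm_num⟩
  obtain ⟨M0⟩ : Nonempty (Sylow 3 ↥C) := inferInstance
  have hM0 : Nat.card (M0 : Subgroup ↥C) = 3 ^ 2 :=
    Cfsg.Agent.S1017.sylow_card_eq M0 2 5 (by rw [hC]; norm_num) (by norm_num)
  have hidx : (M0 : Subgroup ↥C).index = 5 := by
    have h := Subgroup.card_mul_index (M0 : Subgroup ↥C)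
    rw [hM0, hC] at h
    omega
  have hdvd : Nat.card (Sylow 3 ↥C) ∣ 5 := by
    rw [← hidx]
    exact Sylow.card_dvd_index M0
  have hmod : Nat.card (Sylow 3 ↥C) % 3 = 1 := Cfsg.Agent.S1017.card_sylow_mod
  have hone : Nat.card (Sylow 3 ↥C) = 1 := by
    rcases (Nat.dvd_prime (by norm_num : Nat.Prime 5)).1 hdvd with h | h
    · exact h
    · rw [h] at hmod
      omega
  have hsub : Subsingleton (Sylow 3 ↥C) := (Nat.card_eq_one_iff_unique.1 hone).1
  refine ⟨(M0 : Subgroup ↥C).map C.subtype, Subgroup.map_subtype_le _, ?_, ?_⟩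
  · rw [Subgroup.card_map_of_injective C.subtype_injective, hM0]
    norm_num
  · intro K hK hK9
    have hKc : Nat.card (K.subgroupOf C) = 3 ^ 2 := by
      rw [Nat.card_congr (Subgroup.subgroupOfEquivOfLe hK).toEquiv, hK9]
      norm_num
    have hp : IsPGroup 3 (K.subgroupOf C) := IsPGroup.of_card hKc
    obtain ⟨Q, hQ⟩ := hp.exists_le_sylow
    have hQM : Q = M0 := Subsingleton.elim _ _
    rw [hQM] at hQ
    have heq : K.subgroupOf C = (M0 : Subgroup ↥C) :=
      Subgroup.eq_of_le_of_card_ge hQ (by rw [hM0, hKc])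
    rw [← heq, Subgroup.map_subgroupOf_eq_of_le hK]

/-- If exactly two Sylow `p`-subgroups of `G` lie in `H ≥ P`, we get a contradiction
(`P` acts on them fixing only `P`). -/
theorem h50n90_not_two {p : ℕ} [Fact p.Prime] (H : Subgroup G) (P : Sylow p G)
    (hP : (P : Subgroup G) ≤ H)
    (h2 : Nat.card {Q : Sylow p G // (Q : Subgroup G) ≤ H} = 2) : False := by
  obtain ⟨⟨Q, hQH⟩, hQne, hQuniq⟩ := (Nat.card_eq_two_iff' (⟨P, hP⟩ :
    {Q : Sylow p G // (Q : Subgroup G) ≤ H})).1 h2
  have hQP : Q ≠ P := fun h => hQne (Subtype.ext h)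
  apply hQP
  rw [← Cfsg.Agent.S1017.fixed_iff]
  intro x hx
  have hxH : x ∈ H := hP hx
  have hle : ((x • Q : Sylow p G) : Subgroup G) ≤ H := by
    intro y hy
    rw [Cfsg.Agent.S1017.mem_smul_sylow_iff] at hy
    have h1 := hQH hy
    have h4 : y = x * (x⁻¹ * y * x) * x⁻¹ := by group
    rw [h4]
    exact mul_mem (mul_mem hxH h1) (inv_mem hxH)
  have hne : (⟨x • Q, hle⟩ : {Q : Sylow p G // (Q : Subgroup G) ≤ H}) ≠ ⟨P, hP⟩ := by
    intro h
    have h1 : x • Q = P := congrArg Subtype.val h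
    apply hQP
    have h2 : x⁻¹ • (x • Q) = x⁻¹ • P := by rw [h1]
    rw [inv_smul_smul, Cfsg.Agent.S1017.smul_self_of_mem P _ (inv_mem hx)] at h2
    exact h2
  have := hQuniq _ hne
  exact congrArg Subtype.val this

theorem false_of_90 [IsSimpleGroup G] (hG : Nat.card G = 5040) (R : Sylow 5 G)
    (hN : Nat.card (NorS (R : Subgroup G)) = 90) : False := by
  have : Fact (Nat.Prime 3) := ⟨by norm_num⟩
  have : Fact (Nat.Prime 5) := ⟨by norm_num⟩
  -- |R| = 5
  have hR : Nat.card (R : Subgroup G) = 5 := by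
    have := Cfsg.Agent.S1017.sylow_card_eq R 1 1008 (by rw [hG]; norm_num) (by norm_num)
    simpa using this
  -- |C(R)| = 45
  obtain ⟨k, c, hk, hk1, hC, hN'⟩ := Cfsg.Agent.S1017.normalizer_structure R hR (by rw [hG]; norm_num)
  have hN'' : Nat.card (NorS (R : Subgroup G)) = k * (5 * c) := hN'
  rw [hN] at hN''
  have hk4 : k ≤ 4 := Nat.le_of_dvd (by norm_num) hk
  have hC45 : Nat.card (CenS (R : Subgroup G)) = 45 := by
    have hC' : Nat.card (CenS (R : Subgroup G)) = 5 * c := hC
    rw [hC']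
    interval_cases k
    · simp at hk
    · exact absurd rfl hk1
    · omega
    · norm_num at hk
    · omega
  -- the unique subgroup M of order 9 of C(R)
  obtain ⟨M, hMC, hM9, hMuniq⟩ := h50n90_unique_nine (CenS (R : Subgroup G)) hC45
  -- N(R) ≤ N(M)
  have hNM : NorS (R : Subgroup G) ≤ NorS M := by
    intro g hg
    have hconj : ∀ g : G, g ∈ NorS (R : Subgroup G) → M.map (MulAut.conj g).toMonoidHom = M := by
      intro g hg
      apply hMuniq
      · rintro y ⟨m, hm, rfl⟩
        have hmC := hMC hm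
        rw [Subgroup.mem_centralizer_iff] at hmC ⊢
        intro r hr
        have hr' : g⁻¹ * r * g ∈ (R : Subgroup G) := by
          have := (Subgroup.mem_normalizer_iff.mp (inv_mem hg) r).mp hr
          simpa using this
        have h1 := hmC _ hr'
        simp only [MulEquiv.coe_toMonoidHom, MulAut.conj_apply]
        calc r * (g * m * g⁻¹) = g * ((g⁻¹ * r * g) * m) * g⁻¹ := by group
          _ = g * (m * (g⁻¹ * r * g)) * g⁻¹ := by rw [h1]
          _ = g * m * g⁻¹ * r := by group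
      · rw [Subgroup.card_map_of_injective (MulAut.conj g).injective, hM9]
    rw [Subgroup.mem_normalizer_iff]
    intro m
    constructor
    · intro hm
      rw [← hconj g hg]
      exact ⟨m, hm, rfl⟩
    · intro hm
      have h1 : g⁻¹ * (g * m * g⁻¹) * g⁻¹⁻¹ ∈ M := by
        rw [← hconj g⁻¹ (inv_mem hg)]
        exact ⟨g * m * g⁻¹, hm, rfl⟩
      have h2 : g⁻¹ * (g * m * g⁻¹) * g⁻¹⁻¹ = m := by group
      rw [h2] at h1
      exact h1
  -- M is a Sylow 3-subgroup of G
  have hMp : IsPGroup 3 M := IsPGroup.of_card (n := 2) (by rw [hM9]; norm_num)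
  obtain ⟨P, hMP⟩ := hMp.exists_le_sylow
  have hP9 : Nat.card (P : Subgroup G) = 3 ^ 2 :=
    Cfsg.Agent.S1017.sylow_card_eq P 2 560 (by rw [hG]; norm_num) (by norm_num)
  have hMeq : M = (P : Subgroup G) :=
    Subgroup.eq_of_le_of_card_ge hMP (by rw [hP9, hM9]; norm_num)
  rw [hMeq] at hNM
  -- |N(M)| = 180
  have hcount := Cfsg.Agent.S1017.card_sylow_mul_card_normalizer P
  have hmod : Nat.card (Sylow 3 G) % 3 = 1 := Cfsg.Agent.S1017.card_sylow_mod
  have h90 : 90 ∣ Nat.card (NorS (P : Subgroup G)) := by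
    rw [← hN]
    exact Subgroup.card_dvd_of_le hNM
  obtain ⟨j, hj⟩ := h90
  have hcount' : Nat.card (Sylow 3 G) * Nat.card (NorS (P : Subgroup G)) = Nat.card G := hcount
  rw [hj, hG] at hcount'
  have hnj : Nat.card (Sylow 3 G) * j = 56 := by
    have : 90 * (Nat.card (Sylow 3 G) * j) = 90 * 56 := by
      have h56 : (90 : ℕ) * 56 = 5040 := by norm_num
      rw [h56, ← hcount']; ring
    exact Nat.eq_of_mul_eq_mul_left (by norm_num) this
  have hidx : (NorS (P : Subgroup G)).index = Nat.card (Sylow 3 G) := P.card_eq_index_normalizer.symm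
  have hnotcomm : ¬ IsMulCommutative G :=
    Cfsg.Agent.Helper17.not_comm_of_not_prime (by rw [hG]; norm_num)
  have hne_top : NorS (P : Subgroup G) ≠ ⊤ := by
    intro htop
    have hnormal : (P : Subgroup G).Normal := Subgroup.normalizer_eq_top_iff.mp htop
    exact Cfsg.Agent.S1017.normal_card_absurd (P : Subgroup G) hnormal (by rw [hP9]; norm_num)
      (by rw [hP9, hG]; norm_num)
  have hfact := Cfsg.Agent.Helper17.two_mul_card_dvd_factorial hnotcomm (NorS (P : Subgroup G)) hne_top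
  rw [hidx, hG] at hfact
  have hn_le : Nat.card (Sylow 3 G) ≤ 56 := Nat.le_of_dvd (by norm_num) (Dvd.intro _ hnj)
  have hj2 : j = 2 := by
    have hn_dvd : Nat.card (Sylow 3 G) ∣ 56 := Dvd.intro _ hnj
    generalize Nat.card (Sylow 3 G) = n at *
    have h7 : ¬ (2 * 5040 ∣ Nat.factorial 7) := by decide
    have h4 : ¬ (2 * 5040 ∣ Nat.factorial 4) := by decide
    have h1 : ¬ (2 * 5040 ∣ Nat.factorial 1) := by decide
    interval_cases n <;> omega
  have hNP : Nat.card (NorS (P : Subgroup G)) = 180 := by rw [hj, hj2]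
  -- count Sylow 5-subgroups inside N(M)
  have hRH : (R : Subgroup G) ≤ NorS (P : Subgroup G) :=
    le_trans Subgroup.le_normalizer hNM
  have hcm := Cfsg.Agent.S1017.card_eq_card_mul (NorS (P : Subgroup G)) R hRH
  have hinf : Subgroup.normalizer ((R : Subgroup G) : Set G) ⊓ NorS (P : Subgroup G) =
      NorS (R : Subgroup G) := inf_eq_left.2 hNM
  rw [hinf, hNP, hN] at hcm
  have h2 : Nat.card {Q : Sylow 5 G // (Q : Subgroup G) ≤ NorS (P : Subgroup G)} = 2 := by omega
  exact h50n90_not_two (NorS (P : Subgroup G)) R hRH h2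


end Cfsg.Agent.Helper50.O5040
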