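import Mathlib
import Cfsg.Agent.S1017

/-!
# O5760X (A1) `a_setup` (S0980), adapted from helper61's O4320B2a.
-/

set_option autoImplicit false
set_option linter.unusedVariables false
set_option linter.unusedSectionVars false
set_option linter.style.haveILetI false

namespace Cfsg.Agent.Helper50.O5760X

open Cfsg MulAction

universe u

section GT2

variable {G : Type u} [Group G] [Finite G] [IsSimpleGroup G]

/-- (A1) `|N(R)| = 10`, `C(R) = R = zpowers y`, and an involution `t` of `N(R)` inverts `y`. -/
theorem a_setup (hG : Nat.card G = 5760) (h576 : Nat.card (Sylow 5 G) = 576) (R : Sylow 5 G)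
    (hC : Nat.card (Subgroup.centralizer ((R : Subgroup G) : Set G)) = 5) :
    ∃ y t : G, y ∈ (R : Subgroup G) ∧ orderOf y = 5 ∧
      Nat.card (Subgroup.centralizer ({y} : Set G)) = 5 ∧ orderOf t = 2 ∧ t * y * t⁻¹ = y⁻¹ ∧
      Subgroup.centralizer ((R : Subgroup G) : Set G) = (R : Subgroup G) ∧
      Nat.card (Subgroup.normalizer ((R : Subgroup G) : Set G)) = 10 := by
  classical
  haveI : Fact (Nat.Prime 5) := ⟨by norm_num⟩
  haveI : Fact (Nat.Prime 2) := ⟨by norm_num⟩
  have hR5 : Nat.card (R : Subgroup G) = 5 := by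
    have := Cfsg.Agent.S1017.sylow_card_eq R 1 1152 (by rw [hG]; norm_num) (by norm_num)
    simpa using this
  have hN20 : Nat.card (Subgroup.normalizer ((R : Subgroup G) : Set G)) = 10 := by
    have := Cfsg.Agent.S1017.card_sylow_mul_card_normalizer R
    rw [h576, hG] at this
    omega
  -- a generator of `R`
  have hRne : (R : Subgroup G) ≠ ⊥ := by
    rw [← Subgroup.one_lt_card_iff_ne_bot, hR5]; norm_num
  obtain ⟨⟨y, hyR⟩, hy1'⟩ := (Subgroup.ne_bot_iff_exists_ne_one).mp hRne
  have hy1 : y ≠ 1 := fun h => hy1' (Subtype.ext h)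
  obtain ⟨hzp, hy5⟩ := Cfsg.Agent.S1017.zpowers_eq_of_card_prime (R : Subgroup G) hR5 y hyR hy1
  have hy5' : y ^ 5 = 1 := by rw [← hy5]; exact pow_orderOf_eq_one y
  -- `C({y}) = C(R)`
  have hCy : Subgroup.centralizer ({y} : Set G) =
      Subgroup.centralizer ((R : Subgroup G) : Set G) := by
    ext g
    rw [Subgroup.mem_centralizer_iff, Subgroup.mem_centralizer_iff]
    constructor
    · intro h x hx
      have hx' : x ∈ Subgroup.zpowers y := by rw [hzp]; exact hx
      obtain ⟨k, rfl⟩ := Subgroup.mem_zpowers_iff.mp hx'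
      have h1 : Commute y g := h y rfl
      exact (h1.zpow_left k).eq
    · intro h x hx
      rw [Set.mem_singleton_iff] at hx
      subst hx
      exact h x hyR
  have hCN : Subgroup.centralizer ((R : Subgroup G) : Set G) ≤
      Subgroup.normalizer ((R : Subgroup G) : Set G) := Subgroup.centralizer_le_normalizer _
  refine ⟨y, ?_⟩
  -- the involution
  obtain ⟨t, ht2⟩ := exists_prime_orderOf_dvd_card' (G := ↥(Subgroup.normalizer ((R : Subgroup G) : Set G)))
    2 (by rw [hN20]; norm_num)
  have ht2' : orderOf (t : G) = 2 := by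
    rw [← ht2]; exact (Subgroup.orderOf_coe t)
  have htt : (t : G) * (t : G) = 1 := by
    have := pow_orderOf_eq_one (t : G)
    rwa [ht2', pow_two] at this
  have htinv : (t : G)⁻¹ = (t : G) := inv_eq_of_mul_eq_one_right htt
  have htC : (t : G) ∉ Subgroup.centralizer ((R : Subgroup G) : Set G) := by
    intro hmem
    have h1 := orderOf_dvd_natCard
      (⟨(t : G), hmem⟩ : ↥(Subgroup.centralizer ((R : Subgroup G) : Set G)))
    rw [hC, Subgroup.orderOf_mk, ht2'] at h1
    omega
  have htyR : (t : G) * y * (t : G)⁻¹ ∈ (R : Subgroup G) := by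
    have := (Subgroup.mem_normalizer_iff.mp t.2 y).mp hyR
    exact this
  have htyp : (t : G) * y * (t : G)⁻¹ ∈ Submonoid.powers y := by
    rw [mem_powers_iff_mem_zpowers, hzp]; exact htyR
  rw [mem_powers_iff_mem_range_orderOf, hy5] at htyp
  obtain ⟨j, hj5, hj⟩ := Finset.mem_image.mp htyp
  rw [Finset.mem_range] at hj5
  have hj' : (t : G) * y * (t : G)⁻¹ = y ^ j := hj.symm
  -- conjugating twice
  have hjj : y = y ^ (j * j) := by
    have h1 : (t : G) * (y ^ j) * (t : G)⁻¹ = ((t : G) * y * (t : G)⁻¹) ^ j := by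
      rw [conj_pow]
    rw [hj', ← pow_mul] at h1
    have h2 : (t : G) * ((t : G) * y * (t : G)⁻¹) * (t : G)⁻¹ = y := by
      rw [htinv]
      calc (t : G) * ((t : G) * y * (t : G)) * (t : G)
          = ((t : G) * (t : G)) * y * ((t : G) * (t : G)) := by group
        _ = y := by rw [htt, one_mul, mul_one]
    rw [hj'] at h2
    rw [← h1]; exact h2.symm
  have hdiv : 5 ∣ j * j - 1 ∨ j = 0 := by
    by_cases hj0 : j = 0
    · right; exact hj0
    · left
      have h1 : y ^ (j * j - 1) = 1 := by
        have hpos : 1 ≤ j * j := Nat.one_le_iff_ne_zero.mpr (Nat.mul_ne_zero hj0 hj0)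
        have h2 : y ^ (j * j - 1) * y = y := by
          rw [← pow_succ, Nat.sub_add_cancel hpos]; exact hjj.symm
        exact mul_eq_right.mp h2
      rw [← hy5]; exact orderOf_dvd_of_pow_eq_one h1
  have hRC : Subgroup.centralizer ((R : Subgroup G) : Set G) = (R : Subgroup G) := by
    symm
    apply Subgroup.eq_of_le_of_card_ge (Cfsg.Agent.S1017.le_centralizer_self R hR5)
    rw [hC, hR5]
  refine ⟨(t : G), hyR, hy5, ?_, ht2', ?_, hRC, hN20⟩
  · rw [hCy]; exact hC
  · interval_cases j
    · exfalso
      rw [pow_zero] at hj'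
      apply hy1
      have : y = (t : G)⁻¹ * 1 * (t : G) := by rw [← hj']; group
      rw [this]; group
    · exfalso
      apply htC
      rw [← hCy, Subgroup.mem_centralizer_iff]
      intro x hx
      rw [Set.mem_singleton_iff] at hx
      subst hx
      rw [pow_one] at hj'
      have : (t : G) * x = x * (t : G) := by
        calc (t : G) * x = ((t : G) * x * (t : G)⁻¹) * (t : G) := by group
          _ = x * (t : G) := by rw [hj']
      exact this.symm
    · exfalso
      rcases hdiv with h | h
      · omega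
      · omega
    · exfalso
      rcases hdiv with h | h
      · omega
      · omega
    · rw [hj']
      apply eq_inv_of_mul_eq_one_left
      rw [← pow_succ]; exact hy5'

end GT2

end Cfsg.Agent.Helper50.O5760X
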