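import Mathlib

/-!
# O5760X (A7) `a_bound` (S0980): the arithmetic bound `|C(t)| < 128`
-/

set_option autoImplicit false

namespace Cfsg.Agent.Helper50.O5760X

/-- (A7) `(d - b)^2 ≤ 4 d^2`, so `T^2 x ≤ 4608 d ≤ 4608 (x + 1)`, `T^2 ≤ 6912 < 128^2`. -/
theorem a_bound (x d : ℕ) (hx : 1 < x) (hd : 0 < d) (hxd : x = d + 1 ∨ d = x + 1) (b : ℤ)
    (hb : |b| ≤ (d : ℤ)) (T : ℕ)
    (h : (5 * (T : ℚ) ^ 2) * (x : ℚ) * (d : ℚ) = 5760 * ((d : ℚ) - (b : ℚ)) ^ 2) : T < 128 := by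
  by_contra hT
  push Not at hT
  have hT' : (128 : ℚ) ≤ T := by exact_mod_cast hT
  have hb' := abs_le.1 hb
  have hbq1 : (-(d : ℚ)) ≤ b := by exact_mod_cast hb'.1
  have hbq2 : (b : ℚ) ≤ d := by exact_mod_cast hb'.2
  have hxq : (2 : ℚ) ≤ x := by exact_mod_cast hx
  have hdq : (1 : ℚ) ≤ d := by exact_mod_cast hd
  have hsq : ((d : ℚ) - b) ^ 2 ≤ 4 * (d : ℚ) ^ 2 := by nlinarith
  have hT2 : (16384 : ℚ) ≤ (T : ℚ) ^ 2 := by nlinarith
  have hxd0 : 0 ≤ (x : ℚ) * d := by positivity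
  have h1 : 5 * 16384 * ((x : ℚ) * d) ≤ 5 * (T : ℚ) ^ 2 * ((x : ℚ) * d) := by
    have := mul_le_mul_of_nonneg_right hT2 hxd0
    linarith
  have h2 : 5 * (T : ℚ) ^ 2 * ((x : ℚ) * d) = 5760 * ((d : ℚ) - b) ^ 2 := by
    rw [← h]; ring
  have h3 : 81920 * ((x : ℚ) * d) ≤ 23040 * (d : ℚ) ^ 2 := by linarith
  have h4 : 81920 * (x : ℚ) ≤ 23040 * (d : ℚ) := by
    by_contra hcon
    push Not at hcon
    have hdpos : (0 : ℚ) < d := by linarith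
    have := mul_lt_mul_of_pos_right hcon hdpos
    nlinarith
  rcases hxd with h5 | h5
  · have h6 : (x : ℚ) = d + 1 := by exact_mod_cast h5
    rw [h6] at h4
    linarith
  · have h6 : (d : ℚ) = x + 1 := by exact_mod_cast h5
    rw [h6] at h4
    linarith

end Cfsg.Agent.Helper50.O5760X
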