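import Mathlib
import Cfsg.Agent.S1017

/-!
# O5760X (C36a) (adapted from helper79's O4320C36a): involutions centralizing a Sylow 5-subgroup when `n_5 = 36`
-/

set_option autoImplicit false
set_option linter.style.haveILetI false

namespace Cfsg.Agent.Helper50.O5760X

open Cfsg MulAction
open scoped ComplexConjugate

universe u

section GT

variable {G : Type u} [Group G] [Finite G] [IsSimpleGroup G]

/-- (C36a) -/
theorem thirtysix_invol (hG : Nat.card G = 5760) (h36 : Nat.card (Sylow 5 G) = 36)
    (hidx : ∀ H : Subgroup G, H ≠ ⊤ → 10 ≤ H.index) (R : Sylow 5 G)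
    (u : G) (hu : orderOf u = 2) (huR : u ∈ Subgroup.centralizer ((R : Subgroup G) : Set G)) :
    ∃ m : ℕ, (m = 10 ∨ m = 20) ∧
      Nat.card ↥(Subgroup.normalizer ((R : Subgroup G) : Set G) ⊓ Subgroup.centralizer ({u} : Set G)) = m ∧
      Nat.card (Subgroup.centralizer ({u} : Set G)) = 16 * m := by
  haveI : Fact (Nat.Prime 5) := ⟨by norm_num⟩
  have hR : Nat.card (R : Subgroup G) = 5 := by
    have := Cfsg.Agent.S1017.sylow_card_eq R 1 1152 (by rw [hG]; norm_num) (by norm_num)
    simpa using this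
  have h1 := Cfsg.Agent.S1017.card_fixedBy_sylow_modEq R hR u huR
  have h2 := Cfsg.Agent.S1017.card_fixedBy_mod_four (G := G) (by rw [hG]; norm_num)
    (α := Sylow 5 G) u hu
  have hle := Cfsg.Agent.S1017.card_fixedBy_le (α := Sylow 5 G) u
  have hne := Cfsg.Agent.S1017.card_fixedBy_ne (α := Sylow 5 G)
    (Cfsg.Agent.S1017.sylow_action_nontrivial (by rw [h36]; norm_num)) u
    (Cfsg.Agent.S1017.ne_one_of_orderOf_prime u Nat.prime_two hu)
  rw [h36] at h2 hle hne
  have hf : Nat.card (fixedBy (Sylow 5 G) u) = 16 := by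
    unfold Nat.ModEq at h1 h2
    omega
  have hcen := Cfsg.Agent.S1017.card_centralizer_eq R hR u huR (by rw [h36, hf]; norm_num)
  rw [hf] at hcen
  obtain ⟨m, hm⟩ : ∃ m : ℕ, Nat.card ↥(Subgroup.normalizer ((R : Subgroup G) : Set G) ⊓
      Subgroup.centralizer ({u} : Set G)) = m := ⟨_, rfl⟩
  rw [hm] at hcen
  refine ⟨m, ?_, hm, hcen⟩
  -- `|N(R)| = 160`
  have hN : Nat.card (Subgroup.normalizer ((R : Subgroup G) : Set G)) = 160 := by
    have := Cfsg.Agent.S1017.card_sylow_mul_card_normalizer R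
    rw [h36, hG] at this
    omega
  have hm120 : m ∣ 160 := by
    rw [← hm, ← hN]
    exact Subgroup.card_dvd_of_le inf_le_left
  have hm4320 : 16 * m ∣ 5760 := by
    rw [← hcen, ← hG]
    exact Subgroup.card_subgroup_dvd_card _
  have hRle : (R : Subgroup G) ≤ Subgroup.normalizer ((R : Subgroup G) : Set G) ⊓
      Subgroup.centralizer ({u} : Set G) :=
    le_inf Subgroup.le_normalizer ((Cfsg.Agent.S1017.le_centralizer_singleton_iff _ u).2 huR)
  have h5 : 5 ∣ m := by
    have := Subgroup.card_dvd_of_le hRle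
    rwa [hR, hm] at this
  have humem : u ∈ Subgroup.normalizer ((R : Subgroup G) : Set G) ⊓
      Subgroup.centralizer ({u} : Set G) := by
    refine ⟨Subgroup.centralizer_le_normalizer _ huR, ?_⟩
    show u ∈ Subgroup.centralizer ({u} : Set G)
    rw [Subgroup.mem_centralizer_iff]
    intro y hy
    rw [Set.mem_singleton_iff] at hy
    rw [hy]
  have h2m : 2 ∣ m := by
    have := orderOf_dvd_natCard (⟨u, humem⟩ : ↥(Subgroup.normalizer ((R : Subgroup G) : Set G) ⊓
      Subgroup.centralizer ({u} : Set G)))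
    rwa [Subgroup.orderOf_mk, hu, hm] at this
  have hm270 : m ∣ 360 := by
    obtain ⟨k, hk⟩ := hm4320
    refine ⟨k, ?_⟩
    have : 16 * 360 = 16 * (m * k) := by rw [← mul_assoc, ← hk]
    omega
  have hm30 : m ∣ 40 := by
    have := Nat.dvd_gcd hm120 hm270
    norm_num at this
    exact this
  have hmle : m ≤ 40 := Nat.le_of_dvd (by norm_num) hm30
  have hmpos : 0 < m := Nat.pos_of_dvd_of_pos hm30 (by norm_num)
  have hne40 : m ≠ 40 := by
    intro h40
    rw [h40] at hcen
    have hne : Subgroup.centralizer ({u} : Set G) ≠ ⊤ := by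
      intro htop
      rw [htop, Subgroup.card_top, hG] at hcen
      omega
    have h10 := hidx _ hne
    have hci := Subgroup.card_mul_index (Subgroup.centralizer ({u} : Set G))
    rw [hcen, hG] at hci
    omega
  interval_cases m <;> omega

end GT

end Cfsg.Agent.Helper50.O5760X
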