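import Mathlib
import Cfsg.Agent.Lib.Helper17.Simple

/-!
# O5760X (IDX) (S0980): a proper subgroup of a simple group of order 5760 has index ≥ 10
(adapted from helper85's `O4320IDX`).
-/

set_option autoImplicit false

namespace Cfsg.Agent.Helper50.O5760X

universe u

variable {G : Type u} [Group G] [Finite G] [IsSimpleGroup G]

/-- (IDX) `Helper17.Simple.two_mul_card_dvd_factorial`: `2 * 5760 ∣ (H.index)!`, and `11520 ∤ 9!`. -/
theorem index_ge_ten (hG : Nat.card G = 5760) (H : Subgroup G) (hH : H ≠ ⊤) : 10 ≤ H.index := by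
  have hnp : ¬ (Nat.card G).Prime := by rw [hG]; norm_num
  have hd := Cfsg.Agent.Helper17.two_mul_card_dvd_factorial
    (Cfsg.Agent.Helper17.not_comm_of_not_prime hnp) H hH
  rw [hG] at hd
  by_contra hlt
  push Not at hlt
  have h9 : (H.index).factorial ∣ (9 : ℕ).factorial := Nat.factorial_dvd_factorial (by omega)
  have h := dvd_trans hd h9
  revert h
  decide

end Cfsg.Agent.Helper50.O5760X
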