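import Mathlib
import Cfsg.Agent.S1017
import Cfsg.Agent.Lib.Helper17.Simple
import Cfsg.Agent.Lib.Helper17.SylowCount
import Cfsg.Prelude.Def_Blocks
import Cfsg.Agent.Lib.Helper78.CharSchur
import Cfsg.Agent.Lib.Helper78.CharCount
import Cfsg.Agent.Lib.Helper17.PrimeTIApp
import Cfsg.Agent.Lib.Helper10.O4320B2d
import Cfsg.Agent.Lib.Helper26.O5760XA2
import Cfsg.Agent.Lib.Helper48.O5760C16b
import Cfsg.Agent.Lib.Helper50.O5760XA1
import Cfsg.Agent.Lib.Helper50.O5760XA4
import Cfsg.Agent.Lib.Helper50.O5760XA6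
import Cfsg.Agent.Lib.Helper50.O5760XA7
import Cfsg.Agent.Lib.Helper50.O5760XC16a
import Cfsg.Agent.Lib.Helper50.O5760XC36a
import Cfsg.Agent.Lib.Helper50.O5760XIDX
import Cfsg.Agent.Lib.Helper50.O5760XN5
import Cfsg.Agent.Lib.Helper50.O5760XNS
import Cfsg.Agent.Lib.Helper60.O5760XA5
import Cfsg.Agent.Lib.Helper60.O5760XC36b
import Cfsg.Agent.Lib.Helper76.O5760A3

/-!
# O5760X (helper50's lemma server for S0980): the cases `n_5 = 16, 36, 576`
-/

set_option autoImplicit false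

namespace Cfsg.Agent.Helper50.O5760

open Cfsg MulAction
open Cfsg.Agent.Helper26.O5760X
open Cfsg.Agent.Helper48.O5760
open Cfsg.Agent.Helper50.O5760X
open Cfsg.Agent.Helper60.O5760X
open Cfsg.Agent.Helper76.O5760

universe u

section

variable {G : Type u} [Group G] [Finite G] [IsSimpleGroup G]

/-- (IDX) re-export -/
theorem h50_index_ge_ten (hG : Nat.card G = 5760) (H : Subgroup G) (hH : H ≠ ⊤) : 10 ≤ H.index :=
  index_ge_ten hG H hH

/-- (N5) re-export -/
theorem h50_card_sylow5_cases (hG : Nat.card G = 5760)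
    (hidx : ∀ H : Subgroup G, H ≠ ⊤ → 10 ≤ H.index) :
    Nat.card (Sylow 5 G) = 16 ∨ Nat.card (Sylow 5 G) = 36 ∨ Nat.card (Sylow 5 G) = 96 ∨
      Nat.card (Sylow 5 G) = 576 :=
  card_sylow5_cases hG hidx

/-- (C16) -/
theorem h50_false_of_16 (hG : Nat.card G = 5760) (h16 : Nat.card (Sylow 5 G) = 16) : False := by
  obtain ⟨R⟩ : Nonempty (Sylow 5 G) := inferInstance
  obtain ⟨hR5, h16', -, -⟩ := card_normalizer_centralizer hG R
  obtain ⟨-, hC⟩ := h16' h16
  refine false_of_sixteen hG h16 R ?_ (fun x hx hxR => sixteen_fix hG h16 R hR5 x hx hxR)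
  rcases hC with hC | hC <;> rw [hC] <;> norm_num

/-- (C36) -/
theorem h50_false_of_36 (hG : Nat.card G = 5760) (h36 : Nat.card (Sylow 5 G) = 36) : False := by
  obtain ⟨R⟩ : Nonempty (Sylow 5 G) := inferInstance
  obtain ⟨hR5, -, h36', -⟩ := card_normalizer_centralizer hG R
  obtain ⟨-, hC⟩ := h36' h36
  have hidx : ∀ H : Subgroup G, H ≠ ⊤ → 10 ≤ H.index := fun H hH => index_ge_ten hG H hH
  refine false_of_thirtysix hG h36 R ?_
    (fun u hu huR => thirtysix_invol hG h36 hidx R u hu huR)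
  rcases hC with hC | hC <;> rw [hC] <;> norm_num

omit [IsSimpleGroup G] in
/-- conjugate elements have centralizers of the same order -/
theorem h50_card_centralizer_of_isConj {t z : G} (h : IsConj t z) :
    Nat.card (Subgroup.centralizer ({z} : Set G)) = Nat.card (Subgroup.centralizer ({t} : Set G)) := by
  have h1 := Cfsg.Agent.Helper17.SylowCount.card_conj_mul_card_centralizer t
  have h2 := Cfsg.Agent.Helper17.SylowCount.card_conj_mul_card_centralizer z
  have h3 : Nat.card {g : G // IsConj t g} = Nat.card {g : G // IsConj z g} := by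
    apply Nat.card_congr
    exact Equiv.subtypeEquivRight (fun g => ⟨fun hg => h.symm.trans hg, fun hg => h.trans hg⟩)
  rw [h3] at h1
  have hpos : 0 < Nat.card {g : G // IsConj z g} := by
    have : Nonempty {g : G // IsConj z g} := ⟨⟨z, IsConj.refl z⟩⟩
    exact Nat.card_pos
  exact Nat.eq_of_mul_eq_mul_left hpos (h2.trans h1.symm)

/-- (A8) -/
theorem h50_false_of_576 (hG : Nat.card G = 5760) (h576 : Nat.card (Sylow 5 G) = 576) : False := by
  classical
  have : Fintype G := Fintype.ofFinite G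
  obtain ⟨R⟩ : Nonempty (Sylow 5 G) := inferInstance
  obtain ⟨hR5, -, -, h576'⟩ := card_normalizer_centralizer hG R
  obtain ⟨hN10, hC5⟩ := h576' h576
  obtain ⟨y, t, hyR, hy, hCy, ht, hty, hCR, -⟩ := a_setup hG h576 R hC5
  have hnp : ¬ (Nat.card G).Prime := by rw [hG]; norm_num
  have hperf : commutator G = ⊤ := Cfsg.Agent.Helper17.PrimeTI.perfect_of_simple hnp
  obtain ⟨X, E, ε, w, x, d, hXE, hX1, hEcard, hEdeg, hEne, hXdeg, hx, hd, hsign, hXval, hzero, hEsum, hEeq⟩ :=
    a_chars hperf (R : Subgroup G) hR5 hCR hN10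
  obtain ⟨θ, hθ⟩ : E.Nonempty := Finset.card_pos.1 (by rw [hEcard]; norm_num)
  have hPord : ∀ k ∈ (R : Subgroup G), k ^ 5 = 1 := by
    intro k hk
    have h := pow_card_eq_one' (G := ↥(R : Subgroup G)) (x := ⟨k, hk⟩)
    rw [hR5] at h
    exact congrArg Subtype.val h
  obtain ⟨z, hz, hz128⟩ := a_central hG
  have hz1 : z ≠ 1 := Cfsg.Agent.S1017.ne_one_of_orderOf_prime z (by norm_num) hz
  -- `z` is conjugate to `t`
  obtain ⟨bz, hbz, hbzd, hcz⟩ := a_count (R : Subgroup G) y hyR hy X E ε w x d hXE hX1 hEcard hEdeg hEne hXdeg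
    hx hd hsign hXval hzero hEsum hEeq hPord z hz θ hθ
  have hfz := a_faithful hnp θ (hEne θ hθ) z hz1
  rw [hEdeg θ hθ, ← hbz] at hfz
  have hbzne : (d : ℚ) - (bz : ℚ) ≠ 0 := by
    intro h
    apply hfz
    have h' : (bz : ℚ) = (d : ℚ) := by linarith
    have h'' : bz = (d : ℤ) := by exact_mod_cast h'
    rw [h'']
    simp
  have hposz : 0 < (Finset.univ.filter (fun ab : G × G =>
      ab.1 * z * ab.1⁻¹ * (ab.2 * z * ab.2⁻¹) * y⁻¹ = 1)).card := by
    rcases Nat.eq_zero_or_pos (Finset.univ.filter (fun ab : G × G =>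
      ab.1 * z * ab.1⁻¹ * (ab.2 * z * ab.2⁻¹) * y⁻¹ = 1)).card with h0 | h0
    · exfalso
      rw [h0] at hcz
      have hG' : (Nat.card G : ℚ) ≠ 0 := by rw [hG]; norm_num
      have : (Nat.card G : ℚ) * ((d : ℚ) - (bz : ℚ)) ^ 2 ≠ 0 := mul_ne_zero hG' (pow_ne_zero 2 hbzne)
      apply this
      rw [← hcz]
      simp
    · exact h0
  have hconj : IsConj t z := a_conj y t hy hCy ht hty z hz hposz
  have hTz := h50_card_centralizer_of_isConj hconj
  -- the count for `t`
  obtain ⟨bt, hbt, hbtd, hct⟩ := a_count (R : Subgroup G) y hyR hy X E ε w x d hXE hX1 hEcard hEdeg hEne hXdeg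
    hx hd hsign hXval hzero hEsum hEeq hPord t ht θ hθ
  have hpc := Cfsg.Agent.Helper10.O4320.pairs_count y t hy hCy ht hty
  rw [hpc, hG] at hct
  set T := Nat.card (Subgroup.centralizer ({t} : Set G)) with hT
  have hxd : x = d + 1 ∨ d = x + 1 := by
    rcases hsign with ⟨-, -, h⟩ | ⟨-, -, h⟩
    · exact Or.inl h
    · exact Or.inr h
  have hlt := a_bound x d hx hd hxd bt hbtd T (by push_cast at hct ⊢; linarith)
  have hTpos : 0 < T := Nat.card_pos
  rw [hTz] at hz128
  have := Nat.le_of_dvd hTpos hz128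
  omega

end

end Cfsg.Agent.Helper50.O5760
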