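import Mathlib
import Cfsg.Agent.Lib.Helper50.O5760Main
import Cfsg.Agent.Lib.Helper7.O5760B96

/-!
# O5760X (helper50's lemma server for S0980): the final assembly
(`n_5 = 96` from helper7's O5760 B/D block or helper54's N96 server)
-/

set_option autoImplicit false

namespace Cfsg.Agent.Helper50.O5760

open Cfsg MulAction

universe u

section

variable {G : Type u} [Group G] [Finite G] [IsSimpleGroup G]

/-- (TOP) -/
theorem h50_main : Nat.card G ≠ 5760 := by
  intro hG
  have hidx : ∀ H : Subgroup G, H ≠ ⊤ → 10 ≤ H.index := fun H hH => h50_index_ge_ten hG H hH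
  rcases h50_card_sylow5_cases hG hidx with h | h | h | h
  · exact h50_false_of_16 hG h
  · exact h50_false_of_36 hG h
  · exact Cfsg.Agent.Helper7.O5760.false_of_ninetysix hG h
  · exact h50_false_of_576 hG h

end

end Cfsg.Agent.Helper50.O5760
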