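import Mathlib
import Cfsg.Agent.S1017

/-!
# O5760X (A6) `a_central` (S0980): a 2-central involution
-/

set_option autoImplicit false

namespace Cfsg.Agent.Helper50.O5760X

open Cfsg

universe u

/-- (A6) A Sylow 2-subgroup `S` has order 128, its center contains an involution `z`; `S ≤ C(z)`. -/
theorem a_central {G : Type u} [Group G] [Finite G] [IsSimpleGroup G] (hG : Nat.card G = 5760) :
    ∃ z : G, orderOf z = 2 ∧ 128 ∣ Nat.card (Subgroup.centralizer ({z} : Set G)) := by
  have : Fact (Nat.Prime 2) := ⟨Nat.prime_two⟩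
  obtain ⟨S⟩ : Nonempty (Sylow 2 G) := inferInstance
  have hS : Nat.card (S : Subgroup G) = 128 := by
    have h0 := Cfsg.Agent.S1017.sylow_card_eq S 7 45 (by rw [hG]; norm_num) (by norm_num)
    simpa using h0
  have hnt : Nontrivial ↥(S : Subgroup G) := by
    rw [← Finite.one_lt_card_iff_nontrivial, hS]; norm_num
  have hp : IsPGroup 2 ↥(S : Subgroup G) := S.2
  have hcnt : Nontrivial (Subgroup.center ↥(S : Subgroup G)) := hp.center_nontrivial
  have hpc : IsPGroup 2 (Subgroup.center ↥(S : Subgroup G)) := hp.to_subgroup _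
  obtain ⟨k, hk⟩ := IsPGroup.iff_card.1 hpc
  have hk0 : k ≠ 0 := by
    rintro rfl
    rw [pow_zero] at hk
    have := Finite.one_lt_card_iff_nontrivial.2 hcnt
    omega
  have h2 : 2 ∣ Nat.card (Subgroup.center ↥(S : Subgroup G)) := by
    rw [hk]; exact dvd_pow_self 2 hk0
  obtain ⟨z', hz'⟩ := exists_prime_orderOf_dvd_card' (G := Subgroup.center ↥(S : Subgroup G)) 2 h2
  refine ⟨((z' : ↥(S : Subgroup G)) : G), ?_, ?_⟩
  · have h1 : orderOf ((z' : ↥(S : Subgroup G)) : G) = orderOf (z' : ↥(S : Subgroup G)) :=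
      Subgroup.orderOf_coe _
    have h2 : orderOf (z' : ↥(S : Subgroup G)) = orderOf z' := Subgroup.orderOf_coe _
    rw [h1, h2, hz']
  · have hle : (S : Subgroup G) ≤ Subgroup.centralizer ({((z' : ↥(S : Subgroup G)) : G)} : Set G) := by
      intro s hs
      rw [Subgroup.mem_centralizer_iff]
      intro y hy
      rw [Set.mem_singleton_iff] at hy
      subst hy
      have hc := Subgroup.mem_center_iff.1 z'.2 ⟨s, hs⟩
      have := congrArg (fun w : ↥(S : Subgroup G) => (w : G)) hc
      simpa using this.symm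
    have := Subgroup.card_dvd_of_le hle
    rwa [hS] at this

end Cfsg.Agent.Helper50.O5760X
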