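import Mathlib
import Cfsg.Agent.Lib.Helper79.OSPDefs

/-!
# OSP server (helper79, S2720): piece (B1a) `exists_isotropic_complement`
-/

set_option autoImplicit false
set_option linter.unusedSectionVars false
set_option linter.unusedVariables false

namespace Cfsg.Agent.Helper50.OSP

open QuadraticMap Cfsg.Agent.Helper79.OSP Module

variable {F : Type*} [Field F] {V : Type*} [AddCommGroup V] [Module F V]

/-- (B1a) -/
theorem exists_isotropic_complement [Finite V] (h2 : (2 : F) ≠ 0) (Q : QuadraticForm F V)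
    (hnd : ∀ v, (∀ u, polar Q v u = 0) → v = 0) (t : V →ₗ[F] V) (ht : ∀ v, Q (t v) = Q v)
    (n : ℕ) (hn : (n : F) ≠ 0) (htn : t ^ n = 1) (W1 : Submodule F V)
    (hW1t : ∀ w ∈ W1, t w ∈ W1) (hiso : ∀ w ∈ W1, ∀ u ∈ W1, polar Q w u = 0) :
    ∃ W1' : Submodule F V, (∀ w ∈ W1', t w ∈ W1') ∧ (∀ w ∈ W1', ∀ u ∈ W1', polar Q w u = 0) ∧
      Disjoint W1 W1' ∧ (∀ w ∈ W1, (∀ u ∈ W1', polar Q w u = 0) → w = 0) ∧
      (∀ u ∈ W1', (∀ w ∈ W1, polar Q w u = 0) → u = 0) := by
  classical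
  have hn0 : n ≠ 0 := by
    rintro rfl
    simp at hn
  -- the inverse of t
  set tinv : V →ₗ[F] V := t ^ (n - 1) with htinv
  have htt : ∀ v, t (tinv v) = v := by
    intro v
    have : t * t ^ (n - 1) = 1 := by
      rw [← pow_succ', Nat.sub_add_cancel (Nat.one_le_iff_ne_zero.2 hn0), htn]
    have h := congrArg (fun f : V →ₗ[F] V => f v) this
    simpa using h
  have htt' : ∀ v, tinv (t v) = v := by
    intro v
    have : t ^ (n - 1) * t = 1 := by
      rw [← pow_succ, Nat.sub_add_cancel (Nat.one_le_iff_ne_zero.2 hn0), htn]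
    have h := congrArg (fun f : V →ₗ[F] V => f v) this
    simpa using h
  have hpol : ∀ a b, polar Q (t a) (t b) = polar Q a b := by
    intro a b
    unfold polar
    rw [← map_add, ht, ht, ht]
  have hpolR : ∀ a b, polar Q a (t b) = polar Q (tinv a) b := by
    intro a b
    rw [← hpol (tinv a) b, htt]
  have hpolL : ∀ a b, polar Q (t a) b = polar Q a (tinv b) := by
    intro a b
    rw [← hpol a (tinv b), htt]
  -- semisimplicity
  have hss : Module.End.IsSemisimple t := by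
    apply Module.End.isSemisimple_of_squarefree_aeval_eq_zero
      (p := Polynomial.X ^ n - Polynomial.C (1 : F))
    · exact (Polynomial.separable_X_pow_sub_C (1 : F) hn one_ne_zero).squarefree
    · simp [htn]
  -- the orthogonal of W1
  let W1p : Submodule F V :=
    { carrier := {v | ∀ w ∈ W1, polar Q w v = 0}
      add_mem' := by
        intro a b ha hb w hw
        rw [polar_add_right, ha w hw, hb w hw, add_zero]
      zero_mem' := by
        intro w hw
        simp [polar]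
      smul_mem' := by
        intro c a ha w hw
        rw [polar_smul_right, ha w hw, smul_zero] }
  have hW1p : ∀ v, v ∈ W1p ↔ ∀ w ∈ W1, polar Q w v = 0 := fun v => Iff.rfl
  have hW1pinv : W1p ∈ Module.End.invtSubmodule t := by
    rw [Module.End.mem_invtSubmodule]
    intro v hv
    show t v ∈ W1p
    rw [hW1p]
    intro w hw
    rw [hpolR]
    exact hv _ (Module.End.pow_apply_mem_of_forall_mem (n - 1) hW1t w hw)
  obtain ⟨X, hXinv, hXc⟩ := (Module.End.isSemisimple_iff.1 hss) W1p hW1pinv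
  rw [Module.End.mem_invtSubmodule] at hXinv
  have hXt : ∀ x ∈ X, t x ∈ X := fun x hx => hXinv hx
  have hXtinv : ∀ x ∈ X, tinv x ∈ X := fun x hx =>
    Module.End.pow_apply_mem_of_forall_mem (n - 1) hXt x hx
  have hW1tinv : ∀ x ∈ W1, tinv x ∈ W1 := fun x hx =>
    Module.End.pow_apply_mem_of_forall_mem (n - 1) hW1t x hx
  -- pairing facts
  have h4a : ∀ x ∈ X, (∀ w ∈ W1, polar Q w x = 0) → x = 0 := by
    intro x hx h
    have : x ∈ W1p ⊓ X := ⟨h, hx⟩
    rw [hXc.inf_eq_bot] at this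
    exact (Submodule.mem_bot F).1 this
  have h4b : ∀ w ∈ W1, (∀ x ∈ X, polar Q w x = 0) → w = 0 := by
    intro w hw h
    apply hnd
    intro v
    have hv : v ∈ W1p ⊔ X := by rw [hXc.sup_eq_top]; exact Submodule.mem_top
    obtain ⟨a, ha, x, hx, rfl⟩ := Submodule.mem_sup.1 hv
    rw [polar_add_right, ha w hw, h x hx, add_zero]
  -- the bilinear form
  let B : V →ₗ[F] V →ₗ[F] F := Q.polarBilin
  have hB : ∀ a b, B a b = polar Q a b := fun a b => rfl
  let β : ↥W1 →ₗ[F] (↥X →ₗ[F] F) := B.domRestrict₁₂ W1 X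
  let γ : ↥X →ₗ[F] (↥W1 →ₗ[F] F) := B.flip.domRestrict₁₂ X W1
  have hβ : ∀ (w : ↥W1) (x : ↥X), β w x = polar Q (w : V) (x : V) := fun w x => rfl
  have hγ : ∀ (x : ↥X) (w : ↥W1), γ x w = polar Q (w : V) (x : V) := fun x w => rfl
  have hβinj : Function.Injective β := by
    rw [← LinearMap.ker_eq_bot, LinearMap.ker_eq_bot']
    intro w hw
    apply Subtype.ext
    apply h4b w.1 w.2
    intro x hx
    have := congrArg (fun f : ↥X →ₗ[F] F => f ⟨x, hx⟩) hw
    simpa [hβ] using this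
  have hγinj : Function.Injective γ := by
    rw [← LinearMap.ker_eq_bot, LinearMap.ker_eq_bot']
    intro x hx
    apply Subtype.ext
    apply h4a x.1 x.2
    intro w hw
    have := congrArg (fun f : ↥W1 →ₗ[F] F => f ⟨w, hw⟩) hx
    simpa [hγ] using this
  have hd1 : finrank F ↥W1 ≤ finrank F ↥X := by
    have := LinearMap.finrank_le_finrank_of_injective hβinj
    rwa [show finrank F (↥X →ₗ[F] F) = finrank F ↥X from Subspace.dual_finrank_eq] at this
  have hd2 : finrank F ↥X ≤ finrank F ↥W1 := by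
    have := LinearMap.finrank_le_finrank_of_injective hγinj
    rwa [show finrank F (↥W1 →ₗ[F] F) = finrank F ↥W1 from Subspace.dual_finrank_eq] at this
  have hdim : finrank F ↥W1 = finrank F (↥X →ₗ[F] F) := by
    rw [show finrank F (↥X →ₗ[F] F) = finrank F ↥X from Subspace.dual_finrank_eq]
    exact le_antisymm hd1 hd2
  let e : ↥W1 ≃ₗ[F] (↥X →ₗ[F] F) := LinearMap.linearEquivOfInjective β hβinj hdim
  have he : ∀ w, e w = β w := fun w => rfl
  obtain ⟨c, hc2⟩ : ∃ c : F, c + c = 1 := by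
    refine ⟨(2 : F)⁻¹, ?_⟩
    have : (2 : F)⁻¹ * 2 = 1 := inv_mul_cancel₀ h2
    linear_combination this
  let ℓ : ↥X →ₗ[F] (↥X →ₗ[F] F) := (-c) • (B.domRestrict₁₂ X X)
  have hℓ : ∀ x y : ↥X, ℓ x y = -c * polar Q (x : V) (y : V) := fun x y => rfl
  let φ : ↥X →ₗ[F] ↥W1 := e.symm.toLinearMap.comp ℓ
  have hφ : ∀ x y : ↥X, polar Q ((φ x : ↥W1) : V) (y : V) = -c * polar Q (x : V) (y : V) := by
    intro x y
    rw [← hβ, ← he]
    show e (e.symm (ℓ x)) y = _
    rw [LinearEquiv.apply_symm_apply, hℓ]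
  -- φ commutes with t
  have hφt : ∀ x : ↥X, t ((φ x : ↥W1) : V) = ((φ ⟨t x, hXt x x.2⟩ : ↥W1) : V) := by
    intro x
    have key : (⟨t ((φ x : ↥W1) : V), hW1t _ (φ x).2⟩ : ↥W1) = φ ⟨t x, hXt x x.2⟩ := by
      apply hβinj
      ext y
      rw [hβ, hβ]
      show polar Q (t ((φ x : ↥W1) : V)) (y : V) = polar Q ((φ ⟨t x, hXt x x.2⟩ : ↥W1) : V) (y : V)
      rw [hφ ⟨t x, hXt x x.2⟩ y, hpolL]
      have := hφ x ⟨tinv y, hXtinv y y.2⟩
      rw [this]
      show -c * polar Q (x : V) (tinv (y : V)) = -c * polar Q (t (x : V)) (y : V)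
      rw [hpolL]
    exact congrArg Subtype.val key
  -- the subspace W1'
  let ψ : ↥X →ₗ[F] V := X.subtype + W1.subtype.comp φ
  have hψ : ∀ x : ↥X, ψ x = (x : V) + ((φ x : ↥W1) : V) := fun x => rfl
  refine ⟨LinearMap.range ψ, ?_, ?_, ?_, ?_, ?_⟩
  · rintro _ ⟨x, rfl⟩
    refine ⟨⟨t x, hXt x x.2⟩, ?_⟩
    rw [hψ, hψ, map_add, hφt]
  · rintro _ ⟨x, rfl⟩ _ ⟨y, rfl⟩
    rw [hψ, hψ, polar_add_left, polar_add_right, polar_add_right]
    have h1 : polar Q ((φ x : ↥W1) : V) ((φ y : ↥W1) : V) = 0 := hiso _ (φ x).2 _ (φ y).2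
    have h2' : polar Q ((φ x : ↥W1) : V) (y : V) = -c * polar Q (x : V) (y : V) := hφ x y
    have h3 : polar Q (x : V) ((φ y : ↥W1) : V) = -c * polar Q (x : V) (y : V) := by
      rw [polar_comm, hφ y x, polar_comm]
    rw [h1, h2', h3]
    linear_combination (-(polar Q (x : V) (y : V))) * hc2
  · rw [Submodule.disjoint_def]
    rintro v hv ⟨x, rfl⟩
    have hxW1 : (x : V) ∈ W1 := by
      have : (x : V) = ψ x - ((φ x : ↥W1) : V) := by rw [hψ]; abel
      rw [this]
      exact W1.sub_mem hv (φ x).2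
    have hx0 : (x : V) = 0 := by
      apply h4a x.1 x.2
      intro w hw
      exact hiso w hw _ hxW1
    have : x = 0 := Subtype.ext hx0
    rw [this, map_zero]
  · intro w hw h
    apply h4b w hw
    intro x hx
    have := h (ψ ⟨x, hx⟩) ⟨⟨x, hx⟩, rfl⟩
    rw [hψ, polar_add_right, hiso w hw _ (φ ⟨x, hx⟩).2, add_zero] at this
    exact this
  · rintro _ ⟨x, rfl⟩ h
    have hx0 : (x : V) = 0 := by
      apply h4a x.1 x.2
      intro w hw
      have := h w hw
      rw [hψ, polar_add_right, hiso w hw _ (φ x).2, add_zero] at this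
      exact this
    have : x = 0 := Subtype.ext hx0
    rw [this, map_zero]

end Cfsg.Agent.Helper50.OSP

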