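import Mathlib.GroupTheory.Sylow
import Mathlib.GroupTheory.Transfer
import Mathlib.GroupTheory.Nilpotent
import Cfsg.Prelude.Def_Solvable
import Cfsg.Agent.Lib.Helper50.ExtClosed

set_option autoImplicit false

namespace Cfsg.Agent.Helper50

variable {T : Type*} [Group T] [Finite T]

/-- A self-normalizing `p`-subgroup is a Sylow `p`-subgroup. -/
theorem exists_sylow_eq_of_normalizer_le {p : ℕ} [Fact p.Prime] {H : Subgroup T}
    (hHp : IsPGroup p H) (hN : Subgroup.normalizer (H : Set T) ≤ H) :
    ∃ P : Sylow p T, (P : Subgroup T) = H := by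
  obtain ⟨P, hP⟩ := hHp.exists_le_sylow
  refine ⟨P, le_antisymm ?_ hP⟩
  exact pgroup_le_of_normalizer_le P.isPGroup' hP (inf_le_right.trans hN)

/-- Burnside's normal `p`-complement theorem for a self-normalizing abelian `p`-subgroup, with the
complement identified as `O_{p'}`. -/
theorem pPrimeCore_isComplement_of_abelian_self_normalizing {p : ℕ} [Fact p.Prime] {H : Subgroup T}
    (hHp : IsPGroup p H) (hHab : IsMulCommutative H)
    (hN : Subgroup.normalizer (H : Set T) ≤ H) :
    H ⊔ Cfsg.pPrimeCore p T = ⊤ ∧ H ⊓ Cfsg.pPrimeCore p T = ⊥ := by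
  obtain ⟨P, hPH⟩ := exists_sylow_eq_of_normalizer_le hHp hN
  have hcent : H ≤ Subgroup.centralizer (H : Set T) :=
    Subgroup.le_centralizer_iff_isMulCommutative.mpr hHab
  have hP : Subgroup.normalizer ((P : Subgroup T) : Set T) ≤ Subgroup.centralizer ((P : Subgroup T) : Set T) := by
    rw [hPH]; exact hN.trans hcent
  have hcompl := MonoidHom.ker_transferSylow_isComplement' P hP
  have hnd := MonoidHom.not_dvd_card_ker_transferSylow P hP
  set K := (MonoidHom.transferSylow P hP).ker with hK
  have hKeq : Cfsg.pPrimeCore p T = K := by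
    unfold Cfsg.pPrimeCore
    apply le_antisymm
    · apply sSup_le
      rintro N ⟨hNn, hNc⟩ n hn
      rw [hK, MonoidHom.mem_ker]
      have h1 : orderOf (MonoidHom.transferSylow P hP n) ∣ Nat.card N := by
        have a1 : orderOf (MonoidHom.transferSylow P hP n) ∣ orderOf n := orderOf_map_dvd _ n
        have a2 : orderOf n ∣ Nat.card N := by
          have := orderOf_dvd_natCard (⟨n, hn⟩ : N)
          rwa [Subgroup.orderOf_mk] at this
        exact a1.trans a2
      have h2 : orderOf (MonoidHom.transferSylow P hP n) ∣ Nat.card (P : Subgroup T) :=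
        orderOf_dvd_natCard _
      obtain ⟨k, hk⟩ := P.isPGroup'.exists_card_eq
      rw [hk] at h2
      have h3 : (Nat.card N).Coprime (p ^ k) := Nat.Coprime.pow_right k hNc
      have h4 : orderOf (MonoidHom.transferSylow P hP n) = 1 :=
        Nat.eq_one_of_dvd_coprimes h3 h1 h2
      exact orderOf_eq_one_iff.mp h4
    · apply le_sSup
      refine ⟨inferInstance, ?_⟩
      exact ((Nat.Prime.coprime_iff_not_dvd Fact.out).mpr hnd).symm
  rw [hKeq, ← hPH]
  constructor
  · rw [sup_comm]; exact hcompl.sup_eq_top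
  · rw [inf_comm]; exact hcompl.disjoint.eq_bot

end Cfsg.Agent.Helper50
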