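import Mathlib
import Cfsg.Agent.Lib.Helper50.SL2Nat1

set_option autoImplicit false

/-!
Recognition of the natural `SL₂(F)`-module: abstract additive version, part 1
(the decomposition `M = C_M(U) ⊕ w C_M(U)` and the key formula).
-/

namespace Cfsg.Agent.Helper50.SL2Nat

open Matrix Cfsg.Agent.Helper50

variable {F : Type*} [Field F]
variable {M : Type*} [AddCommGroup M] [DistribMulAction (Matrix.SpecialLinearGroup (Fin 2) F) M]

/-- fixed points of the upper unitriangular subgroup -/
def fixU (F : Type*) [Field F] (M : Type*) [AddCommGroup M]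
    [DistribMulAction (Matrix.SpecialLinearGroup (Fin 2) F) M] : AddSubgroup M where
  carrier := {x | ∀ a : F, (nS a : Matrix.SpecialLinearGroup (Fin 2) F) • x = x}
  zero_mem' := fun a => smul_zero _
  add_mem' := fun {x y} hx hy a => by
    rw [smul_add, hx a, hy a]
  neg_mem' := fun {x} hx a => by
    rw [smul_neg, hx a]

theorem mem_fixU {x : M} : x ∈ fixU F M ↔ ∀ a : F, (nS a : Matrix.SpecialLinearGroup (Fin 2) F) • x = x :=
  Iff.rfl

/-- the irreducibility hypothesis -/
def Irred (F : Type*) [Field F] (M : Type*) [AddCommGroup M]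
    [DistribMulAction (Matrix.SpecialLinearGroup (Fin 2) F) M] : Prop :=
  ∀ W : AddSubgroup M, (∀ g : Matrix.SpecialLinearGroup (Fin 2) F, ∀ x ∈ W, g • x ∈ W) →
    W = ⊥ ∨ W = ⊤

/-- the nontriviality hypothesis -/
def Nontriv (F : Type*) [Field F] (M : Type*) [AddCommGroup M]
    [DistribMulAction (Matrix.SpecialLinearGroup (Fin 2) F) M] : Prop :=
  ∃ (g : Matrix.SpecialLinearGroup (Fin 2) F) (x : M), g • x ≠ x

theorem invariant_of_gens (W : AddSubgroup M)
    (hS : ∀ a : F, ∀ x ∈ W, (nS a : Matrix.SpecialLinearGroup (Fin 2) F) • x ∈ W)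
    (hW : ∀ x ∈ W, (nW : Matrix.SpecialLinearGroup (Fin 2) F) • x ∈ W) :
    ∀ g : Matrix.SpecialLinearGroup (Fin 2) F, ∀ x ∈ W, g • x ∈ W := by
  let T : Subgroup (Matrix.SpecialLinearGroup (Fin 2) F) :=
    { carrier := {g | ∀ x, x ∈ W ↔ g • x ∈ W}
      one_mem' := fun x => by rw [one_smul]
      mul_mem' := fun {g h} hg hh x => by
        rw [mul_smul, ← hg, ← hh]
      inv_mem' := fun {g} hg x => by
        have := hg (g⁻¹ • x)
        rw [smul_inv_smul] at this
        exact this.symm }
  have hT : T = ⊤ := by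
    apply sl2_eq_top_of_nS_nW
    · intro a x
      constructor
      · exact hS a x
      · intro h
        have := hS (-a) _ h
        rwa [← mul_smul, nS_add, neg_add_cancel, nS_zero, one_smul] at this
    · intro x
      constructor
      · exact hW x
      · intro h
        have := hW _ (hW _ (hW _ h))
        rwa [← mul_smul, ← mul_smul, ← nW_inv, inv_smul_smul] at this
  intro g x hx
  have hg : g ∈ T := by rw [hT]; trivial
  exact (hg x).mp hx

/-- a vector fixed by `U` whose `w`-image is also fixed by `U` is zero -/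
theorem eq_zero_of_fix (hirr : Irred F M) (hnt : Nontriv F M) {y : M} (hy : y ∈ fixU F M)
    (hwy : (nW : Matrix.SpecialLinearGroup (Fin 2) F) • y ∈ fixU F M) : y = 0 := by
  have hstab : MulAction.stabilizer (Matrix.SpecialLinearGroup (Fin 2) F)
      ((nW : Matrix.SpecialLinearGroup (Fin 2) F) • y) = ⊤ := by
    apply Cfsg.Agent.Helper5.sl_eq_top_of_slU_of_conj _ nW
    · simp [nW]
    · intro x
      rw [transvection_eq_nS, MulAction.mem_stabilizer_iff]
      exact hwy x
    · intro x
      rw [transvection_eq_nS, MulAction.mem_stabilizer_iff, mul_smul, mul_smul, inv_smul_smul,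
        hy x]
  let Fx : AddSubgroup M :=
    { carrier := {m | ∀ g : Matrix.SpecialLinearGroup (Fin 2) F, g • m = m}
      zero_mem' := fun g => smul_zero _
      add_mem' := fun {x y} hx hy g => by rw [smul_add, hx g, hy g]
      neg_mem' := fun {x} hx g => by rw [smul_neg, hx g] }
  have hFx : ∀ g : Matrix.SpecialLinearGroup (Fin 2) F, ∀ x ∈ Fx, g • x ∈ Fx := by
    intro g x hx
    rw [hx g]
    exact hx
  have hmem : (nW : Matrix.SpecialLinearGroup (Fin 2) F) • y ∈ Fx := by
    intro g
    have : g ∈ MulAction.stabilizer (Matrix.SpecialLinearGroup (Fin 2) F)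
      ((nW : Matrix.SpecialLinearGroup (Fin 2) F) • y) := by rw [hstab]; trivial
    exact MulAction.mem_stabilizer_iff.mp this
  rcases hirr Fx hFx with h | h
  · rw [h, AddSubgroup.mem_bot] at hmem
    exact (smul_eq_zero_iff_eq _).mp hmem
  · exfalso
    obtain ⟨g, x, hgx⟩ := hnt
    have : x ∈ Fx := by rw [h]; trivial
    exact hgx (this g)

/-- the torus normalises the fixed points of `U` -/
theorem nH_smul_mem_fixU {y : M} (hy : y ∈ fixU F M) (t : F) :
    (nH t : Matrix.SpecialLinearGroup (Fin 2) F) • y ∈ fixU F M := by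
  by_cases ht : t = 0
  · have : (nH t : Matrix.SpecialLinearGroup (Fin 2) F) = 1 := by simp [nH, ht]
    rw [this, one_smul]
    exact hy
  · intro a
    rw [← mul_smul, nS_mul_nH a t ht, mul_smul, hy]

/-- the key formula -/
theorem key_formula (hirr : Irred F M) (hnt : Nontriv F M) (C : AddSubgroup M)
    (hC0 : C ≤ fixU F M)
    (hCh : ∀ t : F, ∀ y ∈ C, (nH t : Matrix.SpecialLinearGroup (Fin 2) F) • y ∈ C)
    (hCq : ∀ y ∈ C, ∀ a : F, (nS a : Matrix.SpecialLinearGroup (Fin 2) F) •
      (nW : Matrix.SpecialLinearGroup (Fin 2) F) • y -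
      (nW : Matrix.SpecialLinearGroup (Fin 2) F) • y ∈ fixU F M)
    {y : M} (hy : y ∈ C) {a : F} (ha : a ≠ 0) :
    (nS a : Matrix.SpecialLinearGroup (Fin 2) F) • (nW : Matrix.SpecialLinearGroup (Fin 2) F) • y -
      (nW : Matrix.SpecialLinearGroup (Fin 2) F) • y =
      (nH (-a) : Matrix.SpecialLinearGroup (Fin 2) F) • y := by
  have hy' : (nH a : Matrix.SpecialLinearGroup (Fin 2) F) • y ∈ C := hCh a y hy
  obtain ⟨z, hz⟩ : ∃ z : M, z = (nS (-a⁻¹) : Matrix.SpecialLinearGroup (Fin 2) F) •
      (nW : Matrix.SpecialLinearGroup (Fin 2) F) • (nH a : Matrix.SpecialLinearGroup (Fin 2) F) • y -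
      (nW : Matrix.SpecialLinearGroup (Fin 2) F) • (nH a : Matrix.SpecialLinearGroup (Fin 2) F) • y :=
    ⟨_, rfl⟩
  have hzmem : z ∈ fixU F M := by
    rw [hz]
    exact hCq _ hy' _
  have h1 : (nS a : Matrix.SpecialLinearGroup (Fin 2) F) •
      (nW : Matrix.SpecialLinearGroup (Fin 2) F) • y =
      (nW : Matrix.SpecialLinearGroup (Fin 2) F) • (nW : Matrix.SpecialLinearGroup (Fin 2) F) •
        (nH a : Matrix.SpecialLinearGroup (Fin 2) F) • y +
      (nW : Matrix.SpecialLinearGroup (Fin 2) F) • z := by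
    rw [← mul_smul, nS_mul_nW a ha, mul_smul, mul_smul, mul_smul, mul_smul, hC0 hy (-a⁻¹),
      ← mul_smul (nH a⁻¹), nH_inv_mul_nW a ha, mul_smul, ← smul_add]
    congr 1
    rw [hz]
    abel
  have h2 : (nW : Matrix.SpecialLinearGroup (Fin 2) F) • (nW : Matrix.SpecialLinearGroup (Fin 2) F) •
        (nH a : Matrix.SpecialLinearGroup (Fin 2) F) • y =
      (nH (-a) : Matrix.SpecialLinearGroup (Fin 2) F) • y := by
    rw [← mul_smul, ← mul_smul, nW_mul_nW, nH_mul _ _ (neg_ne_zero.mpr one_ne_zero) ha]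
    congr 2
    ring
  have h3 : (nW : Matrix.SpecialLinearGroup (Fin 2) F) • (z - y) ∈ fixU F M := by
    have e : (nW : Matrix.SpecialLinearGroup (Fin 2) F) • (z - y) =
        ((nS a : Matrix.SpecialLinearGroup (Fin 2) F) •
          (nW : Matrix.SpecialLinearGroup (Fin 2) F) • y -
          (nW : Matrix.SpecialLinearGroup (Fin 2) F) • y) -
        (nH (-a) : Matrix.SpecialLinearGroup (Fin 2) F) • y := by
      rw [h1, h2, smul_sub]
      abel
    rw [e]
    exact (fixU F M).sub_mem (hCq y hy a) (hC0 (hCh _ y hy))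
  have h4 : z - y = 0 :=
    eq_zero_of_fix hirr hnt ((fixU F M).sub_mem hzmem (hC0 hy)) h3
  have h5 : z = y := sub_eq_zero.mp h4
  rw [h1, h2, h5]
  abel

end Cfsg.Agent.Helper50.SL2Nat
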