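import Mathlib
import Cfsg.Agent.Lib.Helper50.SL2Nat2

set_option autoImplicit false

/-!
Recognition of the natural `SL₂(F)`-module: abstract additive version, part 2
(`M = C ⊕ wC`, hence `C = C_M(U)`).
-/

namespace Cfsg.Agent.Helper50.SL2Nat

open Matrix Cfsg.Agent.Helper50

variable {F : Type*} [Field F]
variable {M : Type*} [AddCommGroup M] [DistribMulAction (Matrix.SpecialLinearGroup (Fin 2) F) M]

/-- `C + wC` -/
def sumW (F : Type*) [Field F] {M : Type*} [AddCommGroup M]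
    [DistribMulAction (Matrix.SpecialLinearGroup (Fin 2) F) M] (C : AddSubgroup M) :
    AddSubgroup M where
  carrier := {m | ∃ x ∈ C, ∃ y ∈ C, m = x + (nW : Matrix.SpecialLinearGroup (Fin 2) F) • y}
  zero_mem' := ⟨0, C.zero_mem, 0, C.zero_mem, by rw [smul_zero, add_zero]⟩
  add_mem' := by
    rintro _ _ ⟨x, hx, y, hy, rfl⟩ ⟨x', hx', y', hy', rfl⟩
    exact ⟨x + x', C.add_mem hx hx', y + y', C.add_mem hy hy', by rw [smul_add]; abel⟩
  neg_mem' := by
    rintro _ ⟨x, hx, y, hy, rfl⟩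
    exact ⟨-x, C.neg_mem hx, -y, C.neg_mem hy, by rw [smul_neg]; abel⟩

theorem mem_sumW {C : AddSubgroup M} {m : M} :
    m ∈ sumW F C ↔ ∃ x ∈ C, ∃ y ∈ C, m = x + (nW : Matrix.SpecialLinearGroup (Fin 2) F) • y :=
  Iff.rfl

theorem sumW_eq_top (hirr : Irred F M) (hnt : Nontriv F M) (C : AddSubgroup M)
    (hC0 : C ≤ fixU F M)
    (hCh : ∀ t : F, ∀ y ∈ C, (nH t : Matrix.SpecialLinearGroup (Fin 2) F) • y ∈ C)
    (hCq : ∀ y ∈ C, ∀ a : F, (nS a : Matrix.SpecialLinearGroup (Fin 2) F) •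
      (nW : Matrix.SpecialLinearGroup (Fin 2) F) • y -
      (nW : Matrix.SpecialLinearGroup (Fin 2) F) • y ∈ fixU F M)
    (hCne : C ≠ ⊥) : sumW F C = ⊤ := by
  have hinv : ∀ g : Matrix.SpecialLinearGroup (Fin 2) F, ∀ x ∈ sumW F C, g • x ∈ sumW F C := by
    apply invariant_of_gens
    · rintro a _ ⟨x, hx, y, hy, rfl⟩
      by_cases ha : a = 0
      · rw [ha, nS_zero, one_smul]
        exact ⟨x, hx, y, hy, rfl⟩
      · have hk := key_formula hirr hnt C hC0 hCh hCq hy ha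
        refine ⟨x + (nH (-a) : Matrix.SpecialLinearGroup (Fin 2) F) • y,
          C.add_mem hx (hCh _ y hy), y, hy, ?_⟩
        rw [smul_add, hC0 hx a, ← hk]
        abel
    · rintro _ ⟨x, hx, y, hy, rfl⟩
      refine ⟨(nH (-1) : Matrix.SpecialLinearGroup (Fin 2) F) • y, hCh _ y hy, x, hx, ?_⟩
      rw [smul_add, ← mul_smul, nW_mul_nW]
      abel
  rcases hirr _ hinv with h | h
  · exfalso
    apply hCne
    rw [eq_bot_iff]
    intro c hc
    have : c ∈ sumW F C := ⟨c, hc, 0, C.zero_mem, by rw [smul_zero, add_zero]⟩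
    rw [h] at this
    exact this
  · exact h

theorem eq_fixU_of_sumW (hirr : Irred F M) (hnt : Nontriv F M) (C : AddSubgroup M)
    (hC0 : C ≤ fixU F M) (htop : sumW F C = ⊤) : C = fixU F M := by
  apply le_antisymm hC0
  intro x hx
  have : x ∈ sumW F C := by rw [htop]; trivial
  obtain ⟨c, hc, y, hy, hxy⟩ := this
  have h1 : (nW : Matrix.SpecialLinearGroup (Fin 2) F) • y ∈ fixU F M := by
    have : (nW : Matrix.SpecialLinearGroup (Fin 2) F) • y = x - c := by rw [hxy]; abel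
    rw [this]
    exact (fixU F M).sub_mem hx (hC0 hc)
  have h2 : y = 0 := eq_zero_of_fix hirr hnt (hC0 hy) h1
  rw [hxy, h2, smul_zero, add_zero]
  exact hc

/-- Summary of phase 1: the decomposition and the quadratic formula. -/
structure Decomp (F : Type*) [Field F] (M : Type*) [AddCommGroup M]
    [DistribMulAction (Matrix.SpecialLinearGroup (Fin 2) F) M] : Prop where
  ne_bot : fixU F M ≠ ⊥
  decomp : ∀ m : M, ∃ x ∈ fixU F M, ∃ y ∈ fixU F M,
    m = x + (nW : Matrix.SpecialLinearGroup (Fin 2) F) • y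
  formula : ∀ y ∈ fixU F M, ∀ a : F, a ≠ 0 →
    (nS a : Matrix.SpecialLinearGroup (Fin 2) F) • (nW : Matrix.SpecialLinearGroup (Fin 2) F) • y -
      (nW : Matrix.SpecialLinearGroup (Fin 2) F) • y =
      (nH (-a) : Matrix.SpecialLinearGroup (Fin 2) F) • y

theorem decomp_of_C (hirr : Irred F M) (hnt : Nontriv F M) (C : AddSubgroup M)
    (hC0 : C ≤ fixU F M)
    (hCh : ∀ t : F, ∀ y ∈ C, (nH t : Matrix.SpecialLinearGroup (Fin 2) F) • y ∈ C)
    (hCq : ∀ y ∈ C, ∀ a : F, (nS a : Matrix.SpecialLinearGroup (Fin 2) F) •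
      (nW : Matrix.SpecialLinearGroup (Fin 2) F) • y -
      (nW : Matrix.SpecialLinearGroup (Fin 2) F) • y ∈ fixU F M)
    (hCne : C ≠ ⊥) : Decomp F M := by
  have htop := sumW_eq_top hirr hnt C hC0 hCh hCq hCne
  have hC := eq_fixU_of_sumW hirr hnt C hC0 htop
  refine ⟨?_, ?_, ?_⟩
  · rw [← hC]; exact hCne
  · intro m
    have : m ∈ sumW F C := by rw [htop]; trivial
    rw [hC] at this
    exact this
  · intro y hy a ha
    rw [← hC] at hy
    exact key_formula hirr hnt C hC0 hCh hCq hy ha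

end Cfsg.Agent.Helper50.SL2Nat
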