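import Mathlib
import Cfsg.Agent.Lib.Helper50.SL2Nat3

set_option autoImplicit false

/-!
Recognition of the natural `SL₂(F)`-module: abstract additive version, part 3
(the `F`-structure and the coordinate map).
-/

namespace Cfsg.Agent.Helper50.SL2Nat

open Matrix Cfsg.Agent.Helper50
open scoped Classical

variable {F : Type*} [Field F]
variable {M : Type*} [AddCommGroup M] [DistribMulAction (Matrix.SpecialLinearGroup (Fin 2) F) M]

/-- scalar multiplication on `C_M(U)` given by the torus -/
noncomputable def phi (b : F) (y : M) : M :=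
  if b = 0 then 0 else (nH b : Matrix.SpecialLinearGroup (Fin 2) F) • y

theorem phi_zero (y : M) : phi (0 : F) y = 0 := by
  simp [phi]

theorem phi_of_ne {b : F} (hb : b ≠ 0) (y : M) :
    phi b y = (nH b : Matrix.SpecialLinearGroup (Fin 2) F) • y := by
  simp [phi, hb]

theorem phi_one (y : M) : phi (1 : F) y = y := by
  rw [phi_of_ne one_ne_zero, nH_one, one_smul]

theorem phi_apply_zero (b : F) : phi b (0 : M) = 0 := by
  by_cases hb : b = 0
  · rw [hb, phi_zero]
  · rw [phi_of_ne hb, smul_zero]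

theorem phi_mem {y : M} (hy : y ∈ fixU F M) (b : F) : phi b y ∈ fixU F M := by
  by_cases hb : b = 0
  · rw [hb, phi_zero]
    exact (fixU F M).zero_mem
  · rw [phi_of_ne hb]
    exact nH_smul_mem_fixU hy b

theorem phi_add_right (b : F) (y y' : M) : phi b (y + y') = phi b y + phi b y' := by
  by_cases hb : b = 0
  · rw [hb, phi_zero, phi_zero, phi_zero, add_zero]
  · rw [phi_of_ne hb, phi_of_ne hb, phi_of_ne hb, smul_add]

theorem phi_neg_right (b : F) (y : M) : phi b (-y) = - phi b y := by
  by_cases hb : b = 0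
  · rw [hb, phi_zero, phi_zero, neg_zero]
  · rw [phi_of_ne hb, phi_of_ne hb, smul_neg]

theorem phi_mul (b c : F) (y : M) : phi (b * c) y = phi b (phi c y) := by
  by_cases hb : b = 0
  · rw [hb, zero_mul, phi_zero, phi_zero]
  · by_cases hc : c = 0
    · rw [hc, mul_zero, phi_zero, phi_apply_zero]
    · rw [phi_of_ne (mul_ne_zero hb hc), phi_of_ne hb, phi_of_ne hc, ← mul_smul, nH_mul b c hb hc]

theorem phi_eq_zero_iff {b : F} {y : M} (hy : y ≠ 0) : phi b y = 0 ↔ b = 0 := by
  constructor
  · intro h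
    by_contra hb
    rw [phi_of_ne hb] at h
    exact hy ((smul_eq_zero_iff_eq _).mp h)
  · rintro rfl
    exact phi_zero y

theorem nS_nW_smul (hD : Decomp F M) {y : M} (hy : y ∈ fixU F M) (a : F) :
    (nS a : Matrix.SpecialLinearGroup (Fin 2) F) • (nW : Matrix.SpecialLinearGroup (Fin 2) F) • y =
      (nW : Matrix.SpecialLinearGroup (Fin 2) F) • y + phi (-a) y := by
  by_cases ha : a = 0
  · rw [ha, nS_zero, one_smul, neg_zero, phi_zero, add_zero]
  · have h := hD.formula y hy a ha
    rw [phi_of_ne (neg_ne_zero.mpr ha), ← h]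
    abel

theorem phi_add (hD : Decomp F M) {y : M} (hy : y ∈ fixU F M) (b b' : F) :
    phi (b + b') y = phi b y + phi b' y := by
  have h1 := nS_nW_smul hD hy (-(b + b'))
  have h2 : (nS (-(b + b')) : Matrix.SpecialLinearGroup (Fin 2) F) = nS (-b) * nS (-b') := by
    rw [nS_add, neg_add]
  rw [h2, mul_smul, nS_nW_smul hD hy (-b'), smul_add, nS_nW_smul hD hy (-b),
    phi_mem hy (- -b') (-b), neg_neg, neg_neg, neg_neg] at h1
  have h3 : (nW : Matrix.SpecialLinearGroup (Fin 2) F) • y + phi b y + phi b' y =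
      (nW : Matrix.SpecialLinearGroup (Fin 2) F) • y + (phi b y + phi b' y) := by abel
  rw [h3] at h1
  exact (add_left_cancel h1).symm

theorem phi_neg (hD : Decomp F M) {y : M} (hy : y ∈ fixU F M) (b : F) :
    phi (-b) y = - phi b y := by
  have h := phi_add hD hy b (-b)
  rw [add_neg_cancel, phi_zero] at h
  exact (neg_eq_of_add_eq_zero_right h.symm).symm

/-- the coordinate parametrisation `F² → M` -/
noncomputable def thetaFun (v : M) (u : Fin 2 → F) : M :=
  phi (u 0) v + (nW : Matrix.SpecialLinearGroup (Fin 2) F) • phi (-(u 1)) v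

theorem thetaFun_add (hD : Decomp F M) {v : M} (hv : v ∈ fixU F M) (u u' : Fin 2 → F) :
    thetaFun v (u + u') = thetaFun v u + thetaFun v u' := by
  unfold thetaFun
  rw [Pi.add_apply, Pi.add_apply, phi_add hD hv, neg_add, phi_add hD hv, smul_add]
  abel

theorem nS_thetaFun (hD : Decomp F M) {v : M} (hv : v ∈ fixU F M) (a : F) (u : Fin 2 → F) :
    (nS a : Matrix.SpecialLinearGroup (Fin 2) F) • thetaFun v u =
      thetaFun v (((nS a : Matrix.SpecialLinearGroup (Fin 2) F) :
        Matrix (Fin 2) (Fin 2) F).mulVec u) := by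
  rw [nS_mulVec]
  unfold thetaFun
  rw [smul_add, phi_mem hv (u 0) a, nS_nW_smul hD (phi_mem hv _), ← phi_mul]
  simp only [Matrix.cons_val_zero, Matrix.cons_val_one]
  rw [phi_add hD hv, neg_mul_neg]
  abel

theorem nW_thetaFun (v : M) (u : Fin 2 → F) :
    (nW : Matrix.SpecialLinearGroup (Fin 2) F) • thetaFun v u =
      thetaFun v (((nW : Matrix.SpecialLinearGroup (Fin 2) F) :
        Matrix (Fin 2) (Fin 2) F).mulVec u) := by
  rw [nW_mulVec]
  unfold thetaFun
  simp only [Matrix.cons_val_zero, Matrix.cons_val_one]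
  rw [smul_add, ← mul_smul, nW_mul_nW, ← phi_of_ne (neg_ne_zero.mpr one_ne_zero), ← phi_mul,
    neg_neg, neg_mul_neg, one_mul]
  abel

theorem smul_thetaFun (hD : Decomp F M) {v : M} (hv : v ∈ fixU F M)
    (g : Matrix.SpecialLinearGroup (Fin 2) F) (u : Fin 2 → F) :
    g • thetaFun v u = thetaFun v ((g : Matrix (Fin 2) (Fin 2) F).mulVec u) := by
  let T : Subgroup (Matrix.SpecialLinearGroup (Fin 2) F) :=
    { carrier := {g | ∀ u : Fin 2 → F,
        g • thetaFun v u = thetaFun v ((g : Matrix (Fin 2) (Fin 2) F).mulVec u)}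
      one_mem' := fun u => by
        rw [one_smul, Matrix.SpecialLinearGroup.coe_one, Matrix.one_mulVec]
      mul_mem' := fun {g h} hg hh u => by
        rw [mul_smul, hh u, hg, Matrix.SpecialLinearGroup.coe_mul, Matrix.mulVec_mulVec]
      inv_mem' := fun {g} hg u => by
        have h := hg (((g⁻¹ : Matrix.SpecialLinearGroup (Fin 2) F) :
          Matrix (Fin 2) (Fin 2) F).mulVec u)
        rw [Matrix.mulVec_mulVec, ← Matrix.SpecialLinearGroup.coe_mul, mul_inv_cancel,
          Matrix.SpecialLinearGroup.coe_one, Matrix.one_mulVec] at h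
        rw [← h, inv_smul_smul] }
  have hT : T = ⊤ := by
    apply sl2_eq_top_of_nS_nW
    · intro a u
      exact nS_thetaFun hD hv a u
    · intro u
      exact nW_thetaFun v u
  have hg : g ∈ T := by rw [hT]; trivial
  exact hg u

theorem thetaFun_injective (hirr : Irred F M) (hnt : Nontriv F M)
    {v : M} (hv : v ∈ fixU F M) (hv0 : v ≠ 0) (u : Fin 2 → F) (h : thetaFun v u = 0) : u = 0 := by
  unfold thetaFun at h
  have h1 : (nW : Matrix.SpecialLinearGroup (Fin 2) F) • (- phi (-(u 1)) v) ∈ fixU F M := by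
    have : (nW : Matrix.SpecialLinearGroup (Fin 2) F) • (- phi (-(u 1)) v) = phi (u 0) v := by
      rw [smul_neg]
      exact (eq_neg_of_add_eq_zero_right h).symm ▸ (by rw [neg_neg])
    rw [this]
    exact phi_mem hv _
  have h2 := eq_zero_of_fix hirr hnt ((fixU F M).neg_mem (phi_mem hv _)) h1
  rw [neg_eq_zero] at h2
  have h3 : u 1 = 0 := by
    have := (phi_eq_zero_iff hv0).mp h2
    exact neg_eq_zero.mp this
  rw [h2, smul_zero, add_zero] at h
  have h4 : u 0 = 0 := (phi_eq_zero_iff hv0).mp h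
  ext i
  fin_cases i
  · exact h4
  · exact h3

theorem exists_coordinates (hirr : Irred F M) (hnt : Nontriv F M) (hD : Decomp F M) :
    ∃ ψ : M →+ (Fin 2 → F), Function.Bijective ψ ∧
      ∀ (g : Matrix.SpecialLinearGroup (Fin 2) F) (x : M),
        ψ (g • x) = (g : Matrix (Fin 2) (Fin 2) F).mulVec (ψ x) := by
  obtain ⟨v, hv, hv0⟩ : ∃ v ∈ fixU F M, v ≠ 0 := by
    by_contra hcon
    apply hD.ne_bot
    rw [eq_bot_iff]
    intro x hx
    by_contra hx0
    exact hcon ⟨x, hx, hx0⟩
  let θ : (Fin 2 → F) →+ M :=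
    { toFun := thetaFun v
      map_zero' := by
        unfold thetaFun
        simp [phi_zero]
      map_add' := thetaFun_add hD hv }
  have hinj : Function.Injective θ := by
    rw [injective_iff_map_eq_zero]
    intro u hu
    exact thetaFun_injective hirr hnt hv hv0 u hu
  have hsurj : Function.Surjective θ := by
    have hinv : ∀ g : Matrix.SpecialLinearGroup (Fin 2) F, ∀ x ∈ θ.range, g • x ∈ θ.range := by
      rintro g _ ⟨u, rfl⟩
      exact ⟨_, (smul_thetaFun hD hv g u).symm⟩
    rcases hirr _ hinv with h | h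
    · exfalso
      have hmem : v ∈ θ.range := by
        refine ⟨![1, 0], ?_⟩
        change thetaFun v ![1, 0] = v
        unfold thetaFun
        simp [phi_zero, phi_one]
      rw [h] at hmem
      exact hv0 hmem
    · intro m
      have : m ∈ θ.range := by rw [h]; trivial
      exact this
  let E : (Fin 2 → F) ≃+ M := AddEquiv.ofBijective θ ⟨hinj, hsurj⟩
  refine ⟨E.symm.toAddMonoidHom, E.symm.bijective, ?_⟩
  intro g x
  change E.symm (g • x) = (g : Matrix (Fin 2) (Fin 2) F).mulVec (E.symm x)
  apply E.injective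
  rw [AddEquiv.apply_symm_apply]
  change g • x = thetaFun v _
  rw [← smul_thetaFun hD hv]
  congr 1
  exact (E.apply_symm_apply x).symm

end Cfsg.Agent.Helper50.SL2Nat
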