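import Mathlib
import Cfsg.Agent.Lib.Helper50.SL2Nat4

set_option autoImplicit false

/-!
Recognition of the natural `SL₂(F)`-module: abstract additive version, part 4
(`p`-group fixed point arguments; the quadratic case and the small case).
-/

namespace Cfsg.Agent.Helper50.SL2Nat

open Matrix Cfsg.Agent.Helper50

variable {F : Type*} [Field F]
variable {M : Type*} [AddCommGroup M] [DistribMulAction (Matrix.SpecialLinearGroup (Fin 2) F) M]

theorem fixU_ne_bot {p : ℕ} [Fact p.Prime] [Finite M]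
    (hU : IsPGroup p ↥(Cfsg.Agent.Helper5.slU F)) (hM : p ∣ Nat.card M) : fixU F M ≠ ⊥ := by
  obtain ⟨b, hb, hb0⟩ := hU.exists_fixed_point_of_prime_dvd_card_of_fixed_point M hM
    (a := 0) (by intro u; exact smul_zero _)
  intro h
  apply hb0
  have hmem : b ∈ fixU F M := by
    intro a
    exact hb ⟨nS a, (mem_slU_iff_nS _).mpr ⟨a, rfl⟩⟩
  rw [h] at hmem
  exact hmem.symm

theorem exists_second_fixed {p : ℕ} [Fact p.Prime] [Finite M]
    (hU : IsPGroup p ↥(Cfsg.Agent.Helper5.slU F)) (hM : ∃ k : ℕ, Nat.card M = p ^ k)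
    (N : AddSubgroup M)
    (hN : ∀ a : F, ∀ x ∈ N, (nS a : Matrix.SpecialLinearGroup (Fin 2) F) • x ∈ N)
    (hNtop : N ≠ ⊤) :
    ∃ x : M, x ∉ N ∧ ∀ a : F, (nS a : Matrix.SpecialLinearGroup (Fin 2) F) • x - x ∈ N := by
  classical
  have hp : p.Prime := Fact.out
  have hN' : ∀ u : ↥(Cfsg.Agent.Helper5.slU F),
      N ≤ N.comap (DistribSMul.toAddMonoidHom M (u : Matrix.SpecialLinearGroup (Fin 2) F)) := by
    intro u x hx
    obtain ⟨a, ha⟩ := (mem_slU_iff_nS _).mp u.2
    rw [AddSubgroup.mem_comap]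
    change (u : Matrix.SpecialLinearGroup (Fin 2) F) • x ∈ N
    rw [ha]
    exact hN a x hx
  let act : MulAction ↥(Cfsg.Agent.Helper5.slU F) (M ⧸ N) :=
    { smul := fun u q => QuotientAddGroup.map N N
        (DistribSMul.toAddMonoidHom M (u : Matrix.SpecialLinearGroup (Fin 2) F)) (hN' u) q
      one_smul := fun q => by
        induction q using QuotientAddGroup.induction_on with
        | H x =>
          change QuotientAddGroup.map N N _ _ (x : M ⧸ N) = _
          rw [QuotientAddGroup.map_mk]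
          simp
      mul_smul := fun u v q => by
        induction q using QuotientAddGroup.induction_on with
        | H x =>
          change QuotientAddGroup.map N N _ _ (x : M ⧸ N) =
            QuotientAddGroup.map N N _ _ (QuotientAddGroup.map N N _ _ (x : M ⧸ N))
          rw [QuotientAddGroup.map_mk, QuotientAddGroup.map_mk, QuotientAddGroup.map_mk]
          simp [mul_smul] }
  have hsmul : ∀ (u : ↥(Cfsg.Agent.Helper5.slU F)) (x : M),
      u • (x : M ⧸ N) = (((u : Matrix.SpecialLinearGroup (Fin 2) F) • x : M) : M ⧸ N) := by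
    intro u x
    change QuotientAddGroup.map N N _ _ (x : M ⧸ N) = _
    rw [QuotientAddGroup.map_mk]
    rfl
  obtain ⟨k, hk⟩ := hM
  have hdvd : p ∣ Nat.card (M ⧸ N) := by
    have h1 : N.index ∣ p ^ k := by rw [← hk]; exact N.index_dvd_card
    obtain ⟨j, _, hj⟩ := (Nat.dvd_prime_pow hp).mp h1
    have hj0 : j ≠ 0 := by
      rintro rfl
      rw [pow_zero] at hj
      exact hNtop (AddSubgroup.index_eq_one.mp hj)
    have : N.index = Nat.card (M ⧸ N) := rfl
    rw [← this, hj]
    exact dvd_pow_self p hj0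
  obtain ⟨q, hq, hq0⟩ := hU.exists_fixed_point_of_prime_dvd_card_of_fixed_point (M ⧸ N) hdvd
    (a := 0) (by
      intro u
      have := hsmul u 0
      rw [smul_zero] at this
      exact this)
  induction q using QuotientAddGroup.induction_on with
  | H x =>
    refine ⟨x, ?_, ?_⟩
    · intro hx
      apply hq0
      exact ((QuotientAddGroup.eq_zero_iff x).mpr hx).symm
    · intro a
      have h := hq ⟨nS a, (mem_slU_iff_nS _).mpr ⟨a, rfl⟩⟩
      rw [hsmul] at h
      have h2 := QuotientAddGroup.eq.mp h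
      have h3 : (nS a : Matrix.SpecialLinearGroup (Fin 2) F) • x - x =
          -(-((nS a : Matrix.SpecialLinearGroup (Fin 2) F) • x) + x) := by abel
      rw [h3]
      exact N.neg_mem h2

theorem card_dvd_of_nontriv {p : ℕ} [Fact p.Prime] [Finite M] (hnt : Nontriv F M)
    (hM : ∃ k : ℕ, Nat.card M = p ^ k) : p ∣ Nat.card M := by
  obtain ⟨k, hk⟩ := hM
  have hk0 : k ≠ 0 := by
    rintro rfl
    rw [pow_zero] at hk
    obtain ⟨g, x, hgx⟩ := hnt
    have hsub : Subsingleton M := (Nat.card_eq_one_iff_unique.mp hk).1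
    exact hgx (Subsingleton.elim _ _)
  rw [hk]
  exact dvd_pow_self p hk0

theorem decomp_of_quadratic {p : ℕ} [Fact p.Prime] [Finite M]
    (hU : IsPGroup p ↥(Cfsg.Agent.Helper5.slU F)) (hM : ∃ k : ℕ, Nat.card M = p ^ k)
    (hirr : Irred F M) (hnt : Nontriv F M)
    (hq : ∀ a b : F, ∀ x : M, (nS b : Matrix.SpecialLinearGroup (Fin 2) F) •
      ((nS a : Matrix.SpecialLinearGroup (Fin 2) F) • x - x) =
      (nS a : Matrix.SpecialLinearGroup (Fin 2) F) • x - x) : Decomp F M :=
  decomp_of_C hirr hnt (fixU F M) le_rfl (fun t _ hy => nH_smul_mem_fixU hy t)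
    (fun _ _ a b => hq a b _) (fixU_ne_bot hU (card_dvd_of_nontriv hnt hM))

/-- the subgroup of `C_M(U)` of vectors `y` with `[w y, U] ≤ C_M(U)` -/
def quadPart (F : Type*) [Field F] (M : Type*) [AddCommGroup M]
    [DistribMulAction (Matrix.SpecialLinearGroup (Fin 2) F) M] : AddSubgroup M where
  carrier := {y | y ∈ fixU F M ∧ ∀ a : F, (nS a : Matrix.SpecialLinearGroup (Fin 2) F) •
    (nW : Matrix.SpecialLinearGroup (Fin 2) F) • y -
    (nW : Matrix.SpecialLinearGroup (Fin 2) F) • y ∈ fixU F M}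
  zero_mem' := ⟨(fixU F M).zero_mem, fun a => by
    rw [smul_zero, smul_zero, sub_zero]
    exact (fixU F M).zero_mem⟩
  add_mem' := by
    rintro y y' ⟨hy, hy2⟩ ⟨hy', hy2'⟩
    refine ⟨(fixU F M).add_mem hy hy', fun a => ?_⟩
    have : (nS a : Matrix.SpecialLinearGroup (Fin 2) F) •
        (nW : Matrix.SpecialLinearGroup (Fin 2) F) • (y + y') -
        (nW : Matrix.SpecialLinearGroup (Fin 2) F) • (y + y') =
        ((nS a : Matrix.SpecialLinearGroup (Fin 2) F) •
          (nW : Matrix.SpecialLinearGroup (Fin 2) F) • y -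
          (nW : Matrix.SpecialLinearGroup (Fin 2) F) • y) +
        ((nS a : Matrix.SpecialLinearGroup (Fin 2) F) •
          (nW : Matrix.SpecialLinearGroup (Fin 2) F) • y' -
          (nW : Matrix.SpecialLinearGroup (Fin 2) F) • y') := by
      rw [smul_add, smul_add]
      abel
    rw [this]
    exact (fixU F M).add_mem (hy2 a) (hy2' a)
  neg_mem' := by
    rintro y ⟨hy, hy2⟩
    refine ⟨(fixU F M).neg_mem hy, fun a => ?_⟩
    have : (nS a : Matrix.SpecialLinearGroup (Fin 2) F) •
        (nW : Matrix.SpecialLinearGroup (Fin 2) F) • (-y) -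
        (nW : Matrix.SpecialLinearGroup (Fin 2) F) • (-y) =
        -((nS a : Matrix.SpecialLinearGroup (Fin 2) F) •
          (nW : Matrix.SpecialLinearGroup (Fin 2) F) • y -
          (nW : Matrix.SpecialLinearGroup (Fin 2) F) • y) := by
      rw [smul_neg, smul_neg]
      abel
    rw [this]
    exact (fixU F M).neg_mem (hy2 a)

theorem nH_smul_mem_quadPart {y : M} (hy : y ∈ quadPart F M) (t : F) :
    (nH t : Matrix.SpecialLinearGroup (Fin 2) F) • y ∈ quadPart F M := by
  classical
  by_cases ht : t = 0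
  · have : (nH t : Matrix.SpecialLinearGroup (Fin 2) F) = 1 := by simp [nH, ht]
    rw [this, one_smul]
    exact hy
  · refine ⟨nH_smul_mem_fixU hy.1 t, fun a => ?_⟩
    have e : (nS a : Matrix.SpecialLinearGroup (Fin 2) F) •
        (nW : Matrix.SpecialLinearGroup (Fin 2) F) •
        (nH t : Matrix.SpecialLinearGroup (Fin 2) F) • y -
        (nW : Matrix.SpecialLinearGroup (Fin 2) F) •
        (nH t : Matrix.SpecialLinearGroup (Fin 2) F) • y =
        (nH t⁻¹ : Matrix.SpecialLinearGroup (Fin 2) F) •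
        ((nS (t⁻¹⁻¹ * t⁻¹⁻¹ * a) : Matrix.SpecialLinearGroup (Fin 2) F) •
          (nW : Matrix.SpecialLinearGroup (Fin 2) F) • y -
          (nW : Matrix.SpecialLinearGroup (Fin 2) F) • y) := by
      rw [← mul_smul nW (nH t), ← nH_inv_mul_nW t ht, mul_smul, ← mul_smul (nS a),
        nS_mul_nH a t⁻¹ (inv_ne_zero ht), mul_smul, ← smul_sub]
    rw [e]
    exact nH_smul_mem_fixU (hy.2 _) _

theorem decomp_of_small {p : ℕ} [Fact p.Prime] [Finite M]
    (hU : IsPGroup p ↥(Cfsg.Agent.Helper5.slU F)) (hM : ∃ k : ℕ, Nat.card M = p ^ k)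
    (hirr : Irred F M) (hnt : Nontriv F M)
    (hcard : Nat.card M ≤ Nat.card ↥(fixU F M) ^ 2) : Decomp F M := by
  have hne : fixU F M ≠ ⊥ := fixU_ne_bot hU (card_dvd_of_nontriv hnt hM)
  -- the sum map is bijective
  have hinj : Function.Injective (fun xy : ↥(fixU F M) × ↥(fixU F M) =>
      (xy.1 : M) + (nW : Matrix.SpecialLinearGroup (Fin 2) F) • (xy.2 : M)) := by
    rintro ⟨x, y⟩ ⟨x', y'⟩ h
    simp only at h
    have h1 : (nW : Matrix.SpecialLinearGroup (Fin 2) F) • ((y : M) - (y' : M)) =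
        (x' : M) - (x : M) := by
      rw [smul_sub]
      have := congrArg (fun m => m - (x : M) - (nW : Matrix.SpecialLinearGroup (Fin 2) F) • (y' : M)) h
      rw [← sub_eq_zero] at this ⊢
      rw [← this]
      abel
    have h2 : (y : M) - (y' : M) = 0 := by
      apply eq_zero_of_fix hirr hnt ((fixU F M).sub_mem y.2 y'.2)
      rw [h1]
      exact (fixU F M).sub_mem x'.2 x.2
    have h3 : (y : M) = (y' : M) := sub_eq_zero.mp h2
    rw [h2, smul_zero] at h1
    have h4 : (x : M) = (x' : M) := (sub_eq_zero.mp h1.symm).symm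
    exact Prod.ext (Subtype.ext h4) (Subtype.ext h3)
  have hbij := hinj.bijective_of_nat_card_le (by
    rw [Nat.card_prod, ← pow_two]
    exact hcard)
  have hdec : ∀ m : M, ∃ x ∈ fixU F M, ∃ y ∈ fixU F M,
      m = x + (nW : Matrix.SpecialLinearGroup (Fin 2) F) • y := by
    intro m
    obtain ⟨⟨x, y⟩, hxy⟩ := hbij.2 m
    exact ⟨x, x.2, y, y.2, hxy.symm⟩
  have hntop : fixU F M ≠ ⊤ := by
    intro htop
    apply hne
    rw [eq_bot_iff]
    intro y hy
    have : (nW : Matrix.SpecialLinearGroup (Fin 2) F) • y ∈ fixU F M := by rw [htop]; trivial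
    exact eq_zero_of_fix hirr hnt hy this
  obtain ⟨x, hx, hx2⟩ := exists_second_fixed hU hM (fixU F M)
    (fun a x hx => by rw [hx a]; exact hx) hntop
  obtain ⟨x₀, hx₀, y, hy, hxy⟩ := hdec x
  have hyq : y ∈ quadPart F M := by
    refine ⟨hy, fun a => ?_⟩
    have : (nS a : Matrix.SpecialLinearGroup (Fin 2) F) •
        (nW : Matrix.SpecialLinearGroup (Fin 2) F) • y -
        (nW : Matrix.SpecialLinearGroup (Fin 2) F) • y =
        (nS a : Matrix.SpecialLinearGroup (Fin 2) F) • x - x := by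
      rw [hxy, smul_add, hx₀ a]
      abel
    rw [this]
    exact hx2 a
  have hy0 : y ≠ 0 := by
    rintro rfl
    apply hx
    rw [hxy, smul_zero, add_zero]
    exact hx₀
  apply decomp_of_C hirr hnt (quadPart F M) (fun y hy => hy.1)
    (fun t y hy => nH_smul_mem_quadPart hy t) (fun y hy a => hy.2 a)
  intro h
  rw [h] at hyq
  exact hy0 hyq

end Cfsg.Agent.Helper50.SL2Nat
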