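import Mathlib
import Cfsg.Agent.Lib.Helper50.SL2Nat5

set_option autoImplicit false

/-!
Recognition of the natural `SL₂(F)`-module: the abstract theorem, and the module attached to a
subgroup `V` normalised by a subgroup `G ≃* SL₂(F)`.
-/

namespace Cfsg.Agent.Helper50.SL2Nat

open Matrix Cfsg.Agent.Helper50

section abstract
variable {F : Type*} [Field F]
variable {M : Type*} [AddCommGroup M] [DistribMulAction (Matrix.SpecialLinearGroup (Fin 2) F) M]

theorem natural_module {p : ℕ} [Fact p.Prime] [Finite M]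
    (hU : IsPGroup p ↥(Cfsg.Agent.Helper5.slU F)) (hM : ∃ k : ℕ, Nat.card M = p ^ k)
    (hirr : Irred F M) (hnt : Nontriv F M)
    (hyp : (∀ a b : F, ∀ x : M, (nS b : Matrix.SpecialLinearGroup (Fin 2) F) •
      ((nS a : Matrix.SpecialLinearGroup (Fin 2) F) • x - x) =
      (nS a : Matrix.SpecialLinearGroup (Fin 2) F) • x - x) ∨
      Nat.card M ≤ Nat.card ↥(fixU F M) ^ 2) :
    ∃ ψ : M →+ (Fin 2 → F), Function.Bijective ψ ∧
      ∀ (g : Matrix.SpecialLinearGroup (Fin 2) F) (x : M),
        ψ (g • x) = (g : Matrix (Fin 2) (Fin 2) F).mulVec (ψ x) := by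
  rcases hyp with hq | hc
  · exact exists_coordinates hirr hnt (decomp_of_quadratic hU hM hirr hnt hq)
  · exact exists_coordinates hirr hnt (decomp_of_small hU hM hirr hnt hc)

end abstract

section module
variable {X : Type*} [Group X] {F : Type*} [Field F]

/-- `V` written additively, remembering a commutativity proof and an isomorphism of a subgroup
`G` normalising `V` with `SL₂(F)`. -/
def ModV (G V : Subgroup X) (_hGV : G ≤ Subgroup.normalizer (V : Set X))
    (_hc : ∀ a b : ↥V, a * b = b * a) (_ρ : ↥G ≃* Matrix.SpecialLinearGroup (Fin 2) F) : Type _ :=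
  Additive ↥V

variable {G V : Subgroup X} {hGV : G ≤ Subgroup.normalizer (V : Set X)}
  {hc : ∀ a b : ↥V, a * b = b * a} {ρ : ↥G ≃* Matrix.SpecialLinearGroup (Fin 2) F}

/-- to the module -/
def ModV.of (v : ↥V) : ModV G V hGV hc ρ := Additive.ofMul v

/-- from the module -/
def ModV.to (x : ModV G V hGV hc ρ) : ↥V := Additive.toMul x

@[simp] theorem ModV.to_of (v : ↥V) : (ModV.of v : ModV G V hGV hc ρ).to = v := rfl

@[simp] theorem ModV.of_to (x : ModV G V hGV hc ρ) : ModV.of x.to = x := rfl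

instance : AddCommGroup (ModV G V hGV hc ρ) :=
  { (inferInstance : AddGroup (Additive ↥V)) with
    add_comm := fun a b => congrArg Additive.ofMul (hc (Additive.toMul a) (Additive.toMul b)) }

theorem ModV.of_mul (v w : ↥V) :
    (ModV.of (v * w) : ModV G V hGV hc ρ) = ModV.of v + ModV.of w := rfl

theorem ModV.of_one : (ModV.of (1 : ↥V) : ModV G V hGV hc ρ) = 0 := rfl

theorem ModV.of_inv (v : ↥V) : (ModV.of v⁻¹ : ModV G V hGV hc ρ) = - ModV.of v := rfl

theorem ModV.to_add (x y : ModV G V hGV hc ρ) : (x + y).to = x.to * y.to := rfl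

theorem ModV.to_zero : (0 : ModV G V hGV hc ρ).to = 1 := rfl

theorem ModV.to_neg (x : ModV G V hGV hc ρ) : (-x).to = x.to⁻¹ := rfl

theorem ModV.to_sub (x y : ModV G V hGV hc ρ) : (x - y).to = x.to / y.to := rfl

theorem ModV.of_injective : Function.Injective (ModV.of : ↥V → ModV G V hGV hc ρ) :=
  fun _ _ h => h

theorem ModV.to_injective : Function.Injective (ModV.to : ModV G V hGV hc ρ → ↥V) :=
  fun _ _ h => h

/-- conjugation by an element of `G` on `V` -/
def conjV (hGV : G ≤ Subgroup.normalizer (V : Set X)) (g : ↥G) (v : ↥V) : ↥V :=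
  ⟨(g : X) * (v : X) * (g : X)⁻¹, (Subgroup.mem_normalizer_iff.mp (hGV g.2) v).mp v.2⟩

@[simp] theorem coe_conjV (g : ↥G) (v : ↥V) :
    ((conjV hGV g v : ↥V) : X) = (g : X) * (v : X) * (g : X)⁻¹ := rfl

instance : DistribMulAction (Matrix.SpecialLinearGroup (Fin 2) F) (ModV G V hGV hc ρ) where
  smul m x := ModV.of (conjV hGV (ρ.symm m) x.to)
  one_smul x := by
    change ModV.of (conjV hGV (ρ.symm 1) x.to) = x
    apply ModV.to_injective
    apply Subtype.ext
    simp
  mul_smul m m' x := by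
    change ModV.of (conjV hGV (ρ.symm (m * m')) x.to) =
      ModV.of (conjV hGV (ρ.symm m) (ModV.of (conjV hGV (ρ.symm m') x.to)).to)
    apply ModV.to_injective
    apply Subtype.ext
    simp [mul_assoc]
  smul_zero m := by
    change ModV.of (conjV hGV (ρ.symm m) (0 : ModV G V hGV hc ρ).to) = 0
    apply ModV.to_injective
    apply Subtype.ext
    simp [ModV.to_zero]
  smul_add m x y := by
    change ModV.of (conjV hGV (ρ.symm m) (x + y).to) =
      ModV.of (conjV hGV (ρ.symm m) x.to) + ModV.of (conjV hGV (ρ.symm m) y.to)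
    apply ModV.to_injective
    apply Subtype.ext
    simp [ModV.to_add]

theorem ModV.smul_def (m : Matrix.SpecialLinearGroup (Fin 2) F) (x : ModV G V hGV hc ρ) :
    m • x = ModV.of (conjV hGV (ρ.symm m) x.to) := rfl

theorem ModV.coe_to_smul (m : Matrix.SpecialLinearGroup (Fin 2) F) (x : ModV G V hGV hc ρ) :
    (((m • x).to : ↥V) : X) = ((ρ.symm m : ↥G) : X) * (x.to : X) * ((ρ.symm m : ↥G) : X)⁻¹ := rfl

instance [Finite X] : Finite (ModV G V hGV hc ρ) :=
  inferInstanceAs (Finite (Additive ↥V))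

theorem ModV.card_eq : Nat.card (ModV G V hGV hc ρ) = Nat.card ↥V := rfl

end module

end Cfsg.Agent.Helper50.SL2Nat
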