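import Mathlib
import Cfsg.Prelude.Def_BaumannBlocks
import Cfsg.Agent.Lib.Helper50.SL2Nat6
import Cfsg.Agent.Lib.Helper59.SL2Sub

set_option autoImplicit false

/-!
Recognition of the natural `SL₂(F)`-module: transport to subgroups of an ambient group.
-/

namespace Cfsg.Agent.Helper50.SL2Nat

open Matrix Cfsg.Agent.Helper50
open scoped commutatorElement

theorem actsAsSL2_of_equiv {X : Type*} [Group X] [Finite X] {p : ℕ} [Fact p.Prime]
    (G V : Subgroup X) (hV : Cfsg.IsElementaryAbelian p V)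
    (hGV : G ≤ Subgroup.normalizer (V : Set X))
    (F : Type*) [Field F] [Fintype F] [CharP F p]
    (ρ : ↥G ≃* Matrix.SpecialLinearGroup (Fin 2) F)
    (hirr : ∀ U : Subgroup X, U ≤ V → G ≤ Subgroup.normalizer (U : Set X) → U = ⊥ ∨ U = V)
    (hnt : ⁅V, G⁆ ≠ ⊥) (S : Sylow p ↥G)
    (hS : ∀ g : ↥G, ρ g ∈ Cfsg.Agent.Helper5.slU F ↔ g ∈ S)
    (hyp : ⁅⁅V, (S : Subgroup ↥G).map G.subtype⁆, (S : Subgroup ↥G).map G.subtype⁆ = ⊥ ∨
      Nat.card ↥V ≤ Nat.card ↥(V ⊓ Subgroup.centralizer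
        (((S : Subgroup ↥G).map G.subtype : Subgroup X) : Set X)) ^ 2) :
    Cfsg.ActsAsSL2OnSection F ⊤ G V ⊥ := by
  have hc : ∀ a b : ↥V, a * b = b * a := isMulCommutative_iff.mp hV.1
  have hUp : IsPGroup p ↥(Cfsg.Agent.Helper5.slU F) := Cfsg.Agent.Helper59.SL2Sub.isPGroup_slU p
  have hM : ∃ k : ℕ, Nat.card (ModV G V hGV hc ρ) = p ^ k := by
    have hVp : IsPGroup p ↥V := fun v => ⟨1, by
      rw [pow_one]
      apply Subtype.ext
      simpa using hV.2 v v.2⟩
    exact hVp.exists_card_eq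
  -- irreducibility
  have hI : Irred F (ModV G V hGV hc ρ) := by
    intro W hW
    let U : Subgroup X :=
      { carrier := {x | ∃ hx : x ∈ V, (ModV.of ⟨x, hx⟩ : ModV G V hGV hc ρ) ∈ W}
        one_mem' := ⟨V.one_mem, W.zero_mem⟩
        mul_mem' := by
          rintro x y ⟨hx, hxW⟩ ⟨hy, hyW⟩
          exact ⟨V.mul_mem hx hy, W.add_mem hxW hyW⟩
        inv_mem' := by
          rintro x ⟨hx, hxW⟩
          exact ⟨V.inv_mem hx, W.neg_mem hxW⟩ }
    have hUV : U ≤ V := fun x hx => hx.1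
    have key : ∀ (g : ↥G) (x : X), x ∈ U → (g : X) * x * (g : X)⁻¹ ∈ U := by
      rintro g x ⟨hx, hxW⟩
      have h1 := hW (ρ g) _ hxW
      refine ⟨(Subgroup.mem_normalizer_iff.mp (hGV g.2) x).mp hx, ?_⟩
      have h2 : ρ g • (ModV.of ⟨x, hx⟩ : ModV G V hGV hc ρ) =
          ModV.of ⟨(g : X) * x * (g : X)⁻¹,
            (Subgroup.mem_normalizer_iff.mp (hGV g.2) x).mp hx⟩ := by
        rw [ModV.smul_def]
        apply ModV.to_injective
        apply Subtype.ext
        simp
      rw [h2] at h1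
      exact h1
    have hGU : G ≤ Subgroup.normalizer (U : Set X) := by
      intro g hg
      rw [Subgroup.mem_normalizer_iff]
      intro x
      constructor
      · exact key ⟨g, hg⟩ x
      · intro h
        have := key (⟨g, hg⟩ : ↥G)⁻¹ _ h
        simpa [mul_assoc] using this
    rcases hirr U hUV hGU with h | h
    · left
      rw [eq_bot_iff]
      intro w hw
      have : ((w.to : ↥V) : X) ∈ U := ⟨w.to.2, hw⟩
      rw [h, Subgroup.mem_bot] at this
      rw [AddSubgroup.mem_bot]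
      apply ModV.to_injective
      apply Subtype.ext
      exact this
    · right
      rw [eq_top_iff]
      intro w _
      have : ((w.to : ↥V) : X) ∈ U := by rw [h]; exact w.to.2
      obtain ⟨_, hw⟩ := this
      exact hw
  -- nontriviality
  have hN : Nontriv F (ModV G V hGV hc ρ) := by
    by_contra hcon
    apply hnt
    rw [Subgroup.commutator_eq_bot_iff_le_centralizer]
    intro v hv
    rw [Subgroup.mem_centralizer_iff]
    intro g hg
    have h1 : ρ ⟨g, hg⟩ • (ModV.of ⟨v, hv⟩ : ModV G V hGV hc ρ) = ModV.of ⟨v, hv⟩ := by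
      by_contra h
      exact hcon ⟨_, _, h⟩
    have h2 := congrArg (fun x : ModV G V hGV hc ρ => ((x.to : ↥V) : X)) h1
    simp only [ModV.coe_to_smul, MulEquiv.symm_apply_apply, ModV.to_of] at h2
    have h3 : g * v = (g * v * g⁻¹) * g := by group
    rw [h3, h2]
  -- the unipotent elements lie in `S`
  have hS' : ∀ a : F, ((ρ.symm (nS a) : ↥G) : X) ∈ (S : Subgroup ↥G).map G.subtype := by
    intro a
    have h1 : ρ.symm (nS a) ∈ S := by
      rw [← hS, MulEquiv.apply_symm_apply]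
      exact (mem_slU_iff_nS _).mpr ⟨a, rfl⟩
    exact Subgroup.mem_map_of_mem G.subtype h1
  have hyp' : (∀ a b : F, ∀ x : ModV G V hGV hc ρ,
      (nS b : Matrix.SpecialLinearGroup (Fin 2) F) •
      ((nS a : Matrix.SpecialLinearGroup (Fin 2) F) • x - x) =
      (nS a : Matrix.SpecialLinearGroup (Fin 2) F) • x - x) ∨
      Nat.card (ModV G V hGV hc ρ) ≤ Nat.card ↥(fixU F (ModV G V hGV hc ρ)) ^ 2 := by
    rcases hyp with h | h
    · left
      intro a b x
      apply ModV.to_injective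
      apply Subtype.ext
      rw [ModV.coe_to_smul, ModV.to_sub]
      obtain ⟨s, hs⟩ : ∃ s : X, s = ((ρ.symm (nS a) : ↥G) : X) := ⟨_, rfl⟩
      obtain ⟨t, ht⟩ : ∃ t : X, t = ((ρ.symm (nS b) : ↥G) : X) := ⟨_, rfl⟩
      obtain ⟨v, hv⟩ : ∃ v : X, v = ((x.to : ↥V) : X) := ⟨_, rfl⟩
      have hcoe : (((((nS a : Matrix.SpecialLinearGroup (Fin 2) F) • x).to / x.to : ↥V)) : X) =
          s * v * s⁻¹ * v⁻¹ := by
        rw [Subgroup.coe_div, ModV.coe_to_smul, ← hs, ← hv, div_eq_mul_inv]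
      rw [hcoe, ← ht]
      have hsS : s ∈ (S : Subgroup ↥G).map G.subtype := hs ▸ hS' a
      have htS : t ∈ (S : Subgroup ↥G).map G.subtype := ht ▸ hS' b
      have hvV : v ∈ V := hv ▸ x.to.2
      have hcm : s * v * s⁻¹ * v⁻¹ ∈ ⁅V, (S : Subgroup ↥G).map G.subtype⁆ := by
        have h1 : ⁅v, s⁆ ∈ ⁅V, (S : Subgroup ↥G).map G.subtype⁆ :=
          Subgroup.commutator_mem_commutator hvV hsS
        have h2 : s * v * s⁻¹ * v⁻¹ = ⁅v, s⁆⁻¹ := by
          rw [commutatorElement_def]
          group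
        rw [h2]
        exact Subgroup.inv_mem _ h1
      have h3 : ⁅s * v * s⁻¹ * v⁻¹, t⁆ ∈
          ⁅⁅V, (S : Subgroup ↥G).map G.subtype⁆, (S : Subgroup ↥G).map G.subtype⁆ :=
        Subgroup.commutator_mem_commutator hcm htS
      rw [h, Subgroup.mem_bot, commutatorElement_eq_one_iff_mul_comm] at h3
      rw [← h3, mul_inv_cancel_right]
    · right
      rw [ModV.card_eq]
      refine le_trans h (Nat.pow_le_pow_left ?_ 2)
      let f : ↥(V ⊓ Subgroup.centralizer
          (((S : Subgroup ↥G).map G.subtype : Subgroup X) : Set X)) →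
          ↥(fixU F (ModV G V hGV hc ρ)) := fun y =>
        ⟨ModV.of ⟨(y : X), y.2.1⟩, by
          intro a
          apply ModV.to_injective
          apply Subtype.ext
          rw [ModV.coe_to_smul, ModV.to_of]
          have hy := Subgroup.mem_centralizer_iff.mp y.2.2 _ (hS' a)
          change ((ρ.symm (nS a) : ↥G) : X) * (y : X) * ((ρ.symm (nS a) : ↥G) : X)⁻¹ = (y : X)
          rw [hy, mul_inv_cancel_right]⟩
      have hf : Function.Injective f := by
        intro y y' hyy
        have h1 := congrArg (fun z : ↥(fixU F (ModV G V hGV hc ρ)) =>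
          (((z : ModV G V hGV hc ρ).to : ↥V) : X)) hyy
        exact Subtype.ext h1
      exact Nat.card_le_card_of_injective f hf
  obtain ⟨ψ₀, hbij, heq⟩ := natural_module hUp hM hI hN hyp'
  let ψ : ↥V →* Multiplicative (Fin 2 → F) :=
    { toFun := fun v => Multiplicative.ofAdd (ψ₀ (ModV.of v))
      map_one' := by
        rw [ModV.of_one, map_zero]
        rfl
      map_mul' := fun v w => by
        rw [ModV.of_mul, map_add]
        rfl }
  refine ⟨hGV, bot_le, ρ.toMonoidHom, ψ, ?_, ?_, ?_, ?_⟩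
  · exact MonoidHom.range_eq_top.mpr ρ.surjective
  · intro u
    obtain ⟨x, hx⟩ := hbij.2 (Multiplicative.toAdd u)
    refine ⟨x.to, ?_⟩
    change Multiplicative.ofAdd (ψ₀ (ModV.of x.to)) = u
    rw [ModV.of_to, hx]
    rfl
  · intro u
    rw [Subgroup.mem_bot]
    constructor
    · intro h
      have h1 : ψ₀ (ModV.of u) = 0 := h
      have h2 : (ModV.of u : ModV G V hGV hc ρ) = 0 := by
        apply hbij.1
        rw [h1, map_zero]
      have h3 : u = 1 := ModV.of_injective h2
      rw [h3]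
      rfl
    · intro h
      have h3 : u = 1 := Subtype.ext h
      rw [h3, map_one]
  · intro e u
    refine ⟨((ρ e) • (ModV.of u : ModV G V hGV hc ρ)).to, ?_, ?_⟩
    · rw [ModV.coe_to_smul, MulEquiv.symm_apply_apply, ModV.to_of]
    · change ψ₀ (ModV.of ((ρ e) • (ModV.of u : ModV G V hGV hc ρ)).to) = _
      rw [ModV.of_to, heq]
      rfl

end Cfsg.Agent.Helper50.SL2Nat
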