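import Mathlib.GroupTheory.Sylow
import Mathlib.GroupTheory.OrderOfElement
import Cfsg.Prelude.Def_Transfer
import Cfsg.Prelude.Def_SubgroupEmbedding

set_option autoImplicit false

namespace Cfsg.Agent.Helper50

variable {G : Type*} [Group G]

theorem commute_of_commute_sq {w x : G} (hx : Odd (orderOf x)) (h : Commute w (x ^ 2)) :
    Commute w x := by
  obtain ⟨k, hk⟩ := hx
  have h1 : (x ^ 2) ^ (k + 1) = x := by
    rw [← pow_mul]
    have : 2 * (k + 1) = orderOf x + 1 := by omega
    rw [this, pow_succ, pow_orderOf_eq_one, one_mul]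
  have h2 := h.pow_right (k + 1)
  rwa [h1] at h2

theorem odd_orderOf_mul_of_commute {a b : G} (hab : Commute a b) (ha : Odd (orderOf a))
    (hb : Odd (orderOf b)) : Odd (orderOf (a * b)) := by
  have h1 : (a * b) ^ (orderOf a * orderOf b) = 1 := by
    rw [hab.mul_pow, pow_mul, pow_orderOf_eq_one, one_pow, mul_comm (orderOf a), pow_mul,
      pow_orderOf_eq_one, one_pow, one_mul]
  exact Odd.of_dvd_nat (ha.mul hb) (orderOf_dvd_of_pow_eq_one h1)

theorem elemAb_commute {p : ℕ} {V : Subgroup G} (hV : Cfsg.IsElementaryAbelian p V) {a b : G}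
    (ha : a ∈ V) (hb : b ∈ V) : Commute a b := by
  have h1 : V ≤ Subgroup.centralizer (V : Set G) :=
    Subgroup.le_centralizer_iff_isMulCommutative.mpr hV.1
  exact (Subgroup.mem_centralizer_iff.mp (h1 hb) a ha)

end Cfsg.Agent.Helper50
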