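import Mathlib.GroupTheory.Sylow
import Mathlib.GroupTheory.OrderOfElement
import Cfsg.Prelude.Def_Transfer
import Cfsg.Prelude.Def_SubgroupEmbedding
import Cfsg.Prelude.Def_CaseTheorems
import Cfsg.Agent.Lib.Helper50.Sidki
import Cfsg.Agent.Lib.Helper22.Radical
import Cfsg.Agent.S3754

set_option autoImplicit false

namespace Cfsg.Agent.Helper50

universe u

open Subgroup

section Basic

variable {G : Type*} [Group G]

theorem elemAb_mul_self {V : Subgroup G} (hV : Cfsg.IsElementaryAbelian 2 V) {v : G} (hv : v ∈ V) :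
    v * v = 1 := by
  have := hV.2 v hv; rwa [pow_two] at this

theorem elemAb_inv {V : Subgroup G} (hV : Cfsg.IsElementaryAbelian 2 V) {v : G} (hv : v ∈ V) :
    v⁻¹ = v := by
  rw [inv_eq_iff_mul_eq_one]; exact elemAb_mul_self hV hv

theorem elemAb_of_le {V W : Subgroup G} (hV : Cfsg.IsElementaryAbelian 2 V) (hWV : W ≤ V) :
    Cfsg.IsElementaryAbelian 2 W := by
  refine ⟨?_, fun a ha => hV.2 a (hWV ha)⟩
  have h1 : W ≤ Subgroup.centralizer (W : Set G) := by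
    intro x hx
    rw [Subgroup.mem_centralizer_iff]
    intro y hy
    exact (elemAb_commute hV (hWV hx) (hWV hy)).eq.symm
  exact Subgroup.le_centralizer_iff_isMulCommutative.mp h1

theorem elemAb_subgroupOf {W H : Subgroup G} (hW : Cfsg.IsElementaryAbelian 2 W) :
    Cfsg.IsElementaryAbelian 2 (W.subgroupOf H) := by
  refine ⟨?_, ?_⟩
  · have h1 : W.subgroupOf H ≤ Subgroup.centralizer ((W.subgroupOf H : Subgroup H) : Set H) := by
      intro x hx
      rw [Subgroup.mem_centralizer_iff]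
      intro y hy
      apply Subtype.ext
      exact (elemAb_commute hW (Subgroup.mem_subgroupOf.mp hx) (Subgroup.mem_subgroupOf.mp hy)).eq.symm
    exact Subgroup.le_centralizer_iff_isMulCommutative.mp h1
  · intro a ha
    apply Subtype.ext
    have := hW.2 (a : G) (Subgroup.mem_subgroupOf.mp ha)
    simpa using this

theorem isPGroup_two_of_elemAb {V : Subgroup G} (hV : Cfsg.IsElementaryAbelian 2 V) : IsPGroup 2 V := by
  intro g
  refine ⟨1, ?_⟩
  apply Subtype.ext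
  have := hV.2 (g : G) g.2
  simpa using this

/-- Sidki restricts to subgroups. -/
theorem sidki_subgroupOf {V H : Subgroup G} (hS : Cfsg.IsSidkiPair V) (hVH : V ≤ H) :
    Cfsg.IsSidkiPair (V.subgroupOf H) := by
  intro h v hv hodd hinv
  have hodd' : Odd (orderOf (h : G)) := by rwa [Subgroup.orderOf_coe]
  have hinv' : (v : G) * (h : G) * (v : G)⁻¹ = (h : G)⁻¹ := by
    have := congrArg Subtype.val hinv
    simpa using this
  obtain ⟨w, hwV, hw1, hw⟩ := hS _ _ (Subgroup.mem_subgroupOf.mp hv) hodd' hinv'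
  refine ⟨⟨w, hVH hwV⟩, Subgroup.mem_subgroupOf.mpr hwV, ?_, ?_⟩
  · intro h7; exact hw1 (congrArg Subtype.val h7)
  · apply Subtype.ext; exact hw

/-- Failure of Sidki in a subgroup gives a witness. -/
theorem witness_of_not_sidki {W H : Subgroup G} (hWH : W ≤ H)
    (hS : ¬ Cfsg.IsSidkiPair (W.subgroupOf H)) :
    ∃ w ∈ W, ∃ a ∈ H, Odd (orderOf a) ∧ w * a * w⁻¹ = a⁻¹ ∧ ∀ y ∈ W, y ≠ 1 → ¬ Commute y a := by
  unfold Cfsg.IsSidkiPair at hS
  push Not at hS
  obtain ⟨h, v, hv, hodd, hinv, hall⟩ := hS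
  refine ⟨(v : G), Subgroup.mem_subgroupOf.mp hv, (h : G), h.2, ?_, ?_, ?_⟩
  · rwa [Subgroup.orderOf_coe]
  · have := congrArg Subtype.val hinv
    simpa using this
  · intro y hy hy1 hc
    apply hall ⟨y, hWH hy⟩ (Subgroup.mem_subgroupOf.mpr hy)
    · intro h7; exact hy1 (congrArg Subtype.val h7)
    · apply Subtype.ext; exact hc.eq

end Basic

section Min

variable {G : Type u} [Group G] [Finite G]

/-- minimality hypothesis on the group -/
def SidkiMinG (G : Type u) [Group G] : Prop :=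
  ∀ (H : Type u) [Group H] [Finite H] (W : Subgroup H), Nat.card H < Nat.card G →
    Cfsg.IsElementaryAbelian 2 W → W ≠ ⊥ → Cfsg.IsSidkiPair W → W ⊓ Cfsg.pCore 2 H ≠ ⊥

theorem card_lt_of_ne_top {H : Subgroup G} (hH : H ≠ ⊤) : Nat.card H < Nat.card G := by
  rcases lt_or_ge (Nat.card H) (Nat.card G) with h | h
  · exact h
  · exfalso; apply hH
    exact Subgroup.eq_top_of_le_card H h

/-- (B4) -/
theorem pcore_or_witness (hmin : SidkiMinG G) {H W : Subgroup G} (hH : H ≠ ⊤) (hWH : W ≤ H)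
    (hW : Cfsg.IsElementaryAbelian 2 W) (hW1 : W ≠ ⊥) :
    (∃ y ∈ W, y ≠ 1 ∧ y ∈ (Cfsg.pCore 2 ↥H).map H.subtype) ∨
    (∃ w ∈ W, ∃ a ∈ H, Odd (orderOf a) ∧ w * a * w⁻¹ = a⁻¹ ∧ ∀ y ∈ W, y ≠ 1 → ¬ Commute y a) := by
  by_cases hS : Cfsg.IsSidkiPair (W.subgroupOf H)
  · left
    have hne : W.subgroupOf H ≠ ⊥ := by
      intro h
      apply hW1
      rw [eq_bot_iff]
      intro x hx
      have : (⟨x, hWH hx⟩ : H) ∈ W.subgroupOf H := Subgroup.mem_subgroupOf.mpr hx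
      rw [h, Subgroup.mem_bot] at this
      rw [Subgroup.mem_bot]
      exact congrArg Subtype.val this
    have := hmin ↥H (W.subgroupOf H) (card_lt_of_ne_top hH) (elemAb_subgroupOf hW) hne hS
    rw [Ne, eq_bot_iff, SetLike.le_def] at this
    push Not at this
    obtain ⟨y, hy, hy1⟩ := this
    refine ⟨(y : G), Subgroup.mem_subgroupOf.mp hy.1, ?_, ⟨y, hy.2, rfl⟩⟩
    intro h
    apply hy1
    rw [Subgroup.mem_bot]
    exact Subtype.ext h
  · right
    exact witness_of_not_sidki hWH hS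

end Min


section Core

variable {G : Type u} [Group G] [Finite G]

/-- (B5) a 2-subgroup normal in a subnormal subgroup is trivial when `O_2(G) = 1`. -/
theorem eq_bot_of_two_subgroup (hO : Cfsg.pCore 2 G = ⊥) {X R : Subgroup G} (hX : X.IsSubnormal)
    (hRX : R ≤ X) (hXR : X ≤ normalizer (R : Set G)) (hR : IsPGroup 2 R) : R = ⊥ := by
  have : Fact (Nat.Prime 2) := ⟨Nat.prime_two⟩
  have := Cfsg.Agent.Helper22.le_pCore_of_subnormal hX hRX hXR hR
  rw [hO] at this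
  exact le_bot_iff.mp this

/-- (B6) `O_2(H)` centralizes a subnormal subgroup `X` of `G` normal in `H`. -/
theorem commute_of_mem_pCore_map (hO : Cfsg.pCore 2 G = ⊥) {X H : Subgroup G} (hX : X.IsSubnormal)
    (hXH : X ≤ H) (hHX : H ≤ normalizer (X : Set G)) {y : G}
    (hy : y ∈ (Cfsg.pCore 2 ↥H).map H.subtype) {x : G} (hx : x ∈ X) : Commute y x := by
  have : Fact (Nat.Prime 2) := ⟨Nat.prime_two⟩
  set Q := (Cfsg.pCore 2 ↥H).map H.subtype with hQ
  have hQH : Q ≤ H := by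
    rintro _ ⟨z, _, rfl⟩; exact z.2
  have hQn : ∀ h ∈ H, ∀ q ∈ Q, h * q * h⁻¹ ∈ Q := by
    rintro h hh _ ⟨z, hz, rfl⟩
    refine ⟨⟨h, hh⟩ * z * ⟨h, hh⟩⁻¹, ?_, by simp⟩
    exact (Cfsg.pCore_normal 2 ↥H).conj_mem z hz ⟨h, hh⟩
  have hQp : IsPGroup 2 Q := (Cfsg.Agent.Helper22.isPGroup_pCore (G := ↥H) 2).map _
  have hR : X ⊓ Q = ⊥ := by
    apply eq_bot_of_two_subgroup hO hX inf_le_left
    · intro g hg
      rw [Subgroup.mem_normalizer_iff]
      intro n
      have hgH : g ∈ H := hXH hg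
      have hginvH : g⁻¹ ∈ H := H.inv_mem hgH
      constructor
      · rintro ⟨h1, h2⟩
        exact ⟨(Subgroup.mem_normalizer_iff.mp (hHX hgH) n).mp h1, hQn g hgH n h2⟩
      · rintro ⟨h1, h2⟩
        refine ⟨(Subgroup.mem_normalizer_iff.mp (hHX hgH) n).mpr h1, ?_⟩
        have := hQn g⁻¹ hginvH _ h2
        have e : g⁻¹ * (g * n * g⁻¹) * g⁻¹⁻¹ = n := by group
        rwa [e] at this
    · exact hQp.to_le inf_le_right
  have hyH : y ∈ H := hQH hy
  have h1 : y * x * y⁻¹ * x⁻¹ ∈ X := by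
    apply X.mul_mem _ (X.inv_mem hx)
    exact (Subgroup.mem_normalizer_iff.mp (hHX hyH) x).mp hx
  have h2 : y * x * y⁻¹ * x⁻¹ ∈ Q := by
    have e : y * x * y⁻¹ * x⁻¹ = y * (x * y⁻¹ * x⁻¹) := by group
    rw [e]
    exact Q.mul_mem hy (hQn x (hXH hx) _ (Q.inv_mem hy))
  have h3 : y * x * y⁻¹ * x⁻¹ ∈ X ⊓ Q := ⟨h1, h2⟩
  rw [hR, Subgroup.mem_bot] at h3
  have : y * x = x * y := by
    calc y * x = (y * x * y⁻¹ * x⁻¹) * (x * y) := by group
      _ = x * y := by rw [h3, one_mul]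
  exact this

/-- (B7) odd-order elements of `X ⊔ W` lie in `X`. -/
theorem mem_of_odd_of_mem_sup {X W : Subgroup G} (hW : Cfsg.IsElementaryAbelian 2 W)
    (hWX : W ≤ normalizer (X : Set G)) {a : G} (ha : a ∈ X ⊔ W) (hodd : Odd (orderOf a)) : a ∈ X := by
  have : Fact (Nat.Prime 2) := ⟨Nat.prime_two⟩
  exact Cfsg.Agent.S3754.mem_of_coprime_of_mem_sup (isPGroup_two_of_elemAb hW) hWX ha
    (Nat.coprime_two_right.mpr hodd)

end Core


section AB

variable {G : Type u} [Group G] [Finite G]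

/-- `P'`: a faithful proper configuration yields a non-Sidki witness. -/
theorem exists_witness (hO : Cfsg.pCore 2 G = ⊥) (hmin : SidkiMinG G)
    {X W : Subgroup G} (hXn : X.Normal) (hW : Cfsg.IsElementaryAbelian 2 W) (hW1 : W ≠ ⊥)
    (hXW : X ⊔ W ≠ ⊤) (hfaith : ∀ y ∈ W, (∀ x ∈ X, Commute y x) → y = 1) :
    ∃ w ∈ W, ∃ a ∈ X, Odd (orderOf a) ∧ w * a * w⁻¹ = a⁻¹ ∧ ∀ y ∈ W, y ≠ 1 → ¬ Commute y a := by
  have hWX : W ≤ normalizer (X : Set G) := by
    rw [Subgroup.normalizer_eq_top_iff.mpr hXn]; exact le_top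
  rcases pcore_or_witness hmin hXW (le_sup_right : W ≤ X ⊔ W) hW hW1 with h | h
  · exfalso
    obtain ⟨y, hyW, hy1, hyQ⟩ := h
    apply hy1
    apply hfaith y hyW
    intro x hx
    refine commute_of_mem_pCore_map hO hXn.isSubnormal le_sup_left ?_ hyQ hx
    rw [Subgroup.normalizer_eq_top_iff.mpr hXn]; exact le_top
  · obtain ⟨w, hw, a, ha, hodd, hinv, hall⟩ := h
    exact ⟨w, hw, a, mem_of_odd_of_mem_sup hW hWX ha hodd, hodd, hinv, hall⟩

/-- (Q): if `X ⊔ V` is proper, some nontrivial element of `V` centralizes `X`. -/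
theorem exists_centralizing (hO : Cfsg.pCore 2 G = ⊥) (hmin : SidkiMinG G)
    {X V : Subgroup G} (hXn : X.Normal) (hV : Cfsg.IsElementaryAbelian 2 V) (hV1 : V ≠ ⊥)
    (hS : Cfsg.IsSidkiPair V) (hXV : X ⊔ V ≠ ⊤) :
    ∃ u ∈ V, u ≠ 1 ∧ ∀ x ∈ X, Commute u x := by
  by_contra hcon
  push Not at hcon
  have hfaith : ∀ y ∈ V, (∀ x ∈ X, Commute y x) → y = 1 := by
    intro y hy hc
    by_contra h1
    obtain ⟨x, hx, hnx⟩ := hcon y hy h1
    exact hnx (hc x hx)
  obtain ⟨w, hw, a, _, hodd, hinv, hall⟩ := exists_witness hO hmin hXn hV hV1 hXV hfaith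
  obtain ⟨y, hyV, hy1, hya⟩ := hS a w hw hodd hinv
  exact hall y hyV hy1 hya

theorem sq_mem_of_mem_sup {A V : Subgroup G} (hAn : A.Normal) (hV : Cfsg.IsElementaryAbelian 2 V)
    {b : G} (hb : b ∈ A ⊔ V) : b * b ∈ A := by
  obtain ⟨a, ha, v, hv, rfl⟩ := Subgroup.mem_sup_of_normal_left.mp hb
  have e : a * v * (a * v) = a * (v * a * v⁻¹) * (v * v) := by group
  rw [e, elemAb_mul_self hV hv, mul_one]
  exact A.mul_mem ha (hAn.conj_mem a ha v)

theorem ne_top_of_disjoint (hO : Cfsg.pCore 2 G = ⊥) {A B V : Subgroup G} (hAn : A.Normal)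
    (hBn : B.Normal) (hV : Cfsg.IsElementaryAbelian 2 V) (hAB : A ⊓ B = ⊥) (hB : B ≠ ⊥) :
    A ⊔ V ≠ ⊤ := by
  intro htop
  apply hB
  have hBp : IsPGroup 2 B := by
    intro b
    refine ⟨1, ?_⟩
    apply Subtype.ext
    have h1 : (b : G) * (b : G) ∈ A := sq_mem_of_mem_sup hAn hV (by rw [htop]; trivial)
    have h2 : (b : G) * (b : G) ∈ A ⊓ B := ⟨h1, B.mul_mem b.2 b.2⟩
    rw [hAB, Subgroup.mem_bot] at h2
    simpa [pow_two] using h2
  have := Cfsg.Agent.Helper22.le_pCore hBn hBp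
  rw [hO] at this
  exact le_bot_iff.mp this

/-- The `A × B` lemma. -/
theorem false_of_two_normal (hO : Cfsg.pCore 2 G = ⊥) (hmin : SidkiMinG G)
    {V : Subgroup G} (hV : Cfsg.IsElementaryAbelian 2 V) (hV1 : V ≠ ⊥) (hS : Cfsg.IsSidkiPair V)
    {A B : Subgroup G} (hAn : A.Normal) (hBn : B.Normal) (hAB : A ⊓ B = ⊥) (hA : A ≠ ⊥) (hB : B ≠ ⊥)
    (htop : A ⊔ B ⊔ V = ⊤) : False := by
  have hcomm : ∀ a ∈ A, ∀ b ∈ B, Commute a b := by
    intro a ha b hb
    exact Subgroup.commute_of_normal_of_disjoint A B hAn hBn (disjoint_iff.mpr hAB) a b ha hb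
  have hAV : A ⊔ V ≠ ⊤ := ne_top_of_disjoint hO hAn hBn hV hAB hB
  have hBV : B ⊔ V ≠ ⊤ := ne_top_of_disjoint hO hBn hAn hV (by rwa [inf_comm]) hA
  -- U_A
  obtain ⟨u, huV, hu1, huA⟩ := exists_centralizing hO hmin hAn hV hV1 hS hAV
  obtain ⟨UA, hUA⟩ : ∃ UA : Subgroup G, UA = V ⊓ centralizer (A : Set G) := ⟨_, rfl⟩
  have hmemUA : ∀ y, y ∈ UA ↔ y ∈ V ∧ ∀ x ∈ A, Commute y x := by
    intro y
    rw [hUA, Subgroup.mem_inf, Subgroup.mem_centralizer_iff]
    constructor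
    · rintro ⟨h1, h2⟩; exact ⟨h1, fun x hx => (h2 x hx).symm⟩
    · rintro ⟨h1, h2⟩; exact ⟨h1, fun x hx => (h2 x hx).symm⟩
  have hUAV : UA ≤ V := by rw [hUA]; exact inf_le_left
  have hUA1 : UA ≠ ⊥ := by
    intro h
    have : u ∈ UA := (hmemUA u).mpr ⟨huV, huA⟩
    rw [h, Subgroup.mem_bot] at this
    exact hu1 this
  -- central elements of V are trivial
  have hcentral : ∀ y ∈ V, (∀ x ∈ A, Commute y x) → (∀ x ∈ B, Commute y x) → y = 1 := by
    intro y hy hyA hyB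
    have hyc : y ∈ Subgroup.center G := by
      rw [Subgroup.mem_center_iff]
      intro g
      have hg : g ∈ A ⊔ B ⊔ V := by rw [htop]; trivial
      have hcl : A ⊔ B ⊔ V ≤ centralizer ({y} : Set G) := by
        refine sup_le (sup_le ?_ ?_) ?_
        · intro x hx
          rw [Subgroup.mem_centralizer_singleton_iff]
          exact (hyA x hx).eq.symm
        · intro x hx
          rw [Subgroup.mem_centralizer_singleton_iff]
          exact (hyB x hx).eq.symm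
        · intro x hx
          rw [Subgroup.mem_centralizer_singleton_iff]
          exact (elemAb_commute hV hy hx).eq.symm
      have := hcl hg
      rw [Subgroup.mem_centralizer_singleton_iff] at this
      exact this
    have hzn : (Subgroup.zpowers y).Normal := by
      constructor
      intro n hn g
      obtain ⟨k, rfl⟩ := Subgroup.mem_zpowers_iff.mp hn
      have : g * y ^ k * g⁻¹ = y ^ k := by
        have hc : Commute g (y ^ k) := (show Commute g y from (Subgroup.mem_center_iff.mp hyc g)).zpow_right k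
        rw [hc.eq]; group
      rw [this]; exact hn
    have hzp : IsPGroup 2 (Subgroup.zpowers y) := by
      intro z
      refine ⟨1, ?_⟩
      obtain ⟨k, hk⟩ := Subgroup.mem_zpowers_iff.mp z.2
      apply Subtype.ext
      have : ((z : G)) ^ 2 = 1 := by
        rw [← hk, ← zpow_natCast, ← zpow_mul, mul_comm, zpow_mul, zpow_natCast, pow_two,
          elemAb_mul_self hV hy, one_zpow]
      simpa using this
    have := Cfsg.Agent.Helper22.le_pCore hzn hzp
    rw [hO, le_bot_iff, Subgroup.zpowers_eq_bot] at this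
    exact this
  -- P'(B, U_A)
  have hfaithB : ∀ y ∈ UA, (∀ x ∈ B, Commute y x) → y = 1 := by
    intro y hy hyB
    exact hcentral y (hUAV hy) ((hmemUA y).mp hy).2 hyB
  have hBUA : B ⊔ UA ≠ ⊤ := by
    intro h
    apply hBV
    rw [eq_top_iff, ← h]
    exact sup_le_sup_left hUAV B
  obtain ⟨w, hwUA, b, hbB, hbodd, hbinv, hball⟩ :=
    exists_witness hO hmin hBn (elemAb_of_le hV hUAV) hUA1 hBUA hfaithB
  -- Sidki for (w, b)
  obtain ⟨x, hxV, hx1, hxb⟩ := hS b w (hUAV hwUA) hbodd hbinv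
  obtain ⟨W2, hW2⟩ : ∃ W2 : Subgroup G, W2 = V ⊓ centralizer ({b} : Set G) := ⟨_, rfl⟩
  have hmemW2 : ∀ y, y ∈ W2 ↔ y ∈ V ∧ Commute y b := by
    intro y
    rw [hW2, Subgroup.mem_inf, Subgroup.mem_centralizer_singleton_iff]
    constructor
    · rintro ⟨h1, h2⟩; exact ⟨h1, h2⟩
    · rintro ⟨h1, h2⟩; exact ⟨h1, h2.eq⟩
  have hW2V : W2 ≤ V := by rw [hW2]; exact inf_le_left
  have hW21 : W2 ≠ ⊥ := by
    intro h
    have : x ∈ W2 := (hmemW2 x).mpr ⟨hxV, hxb⟩
    rw [h, Subgroup.mem_bot] at this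
    exact hx1 this
  have hfaithA : ∀ y ∈ W2, (∀ x ∈ A, Commute y x) → y = 1 := by
    intro y hy hyA
    by_contra hy1
    have hyUA : y ∈ UA := (hmemUA y).mpr ⟨hW2V hy, hyA⟩
    exact hball y hyUA hy1 ((hmemW2 y).mp hy).2
  have hAW2 : A ⊔ W2 ≠ ⊤ := by
    intro h
    apply hAV
    rw [eq_top_iff, ← h]
    exact sup_le_sup_left hW2V A
  obtain ⟨w', hw'W2, a', ha'A, ha'odd, ha'inv, ha'all⟩ :=
    exists_witness hO hmin hAn (elemAb_of_le hV hW2V) hW21 hAW2 hfaithA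
  -- v = w' * w inverts a' * b
  have hw'b : Commute w' b := ((hmemW2 w').mp hw'W2).2
  have hwa' : Commute w a' := ((hmemUA w).mp hwUA).2 a' ha'A
  have hab : Commute a' b := hcomm a' ha'A b hbB
  have hvV : w' * w ∈ V := V.mul_mem (hW2V hw'W2) (hUAV hwUA)
  have hodd : Odd (orderOf (a' * b)) := odd_orderOf_mul_of_commute hab ha'odd hbodd
  have hinv : (w' * w) * (a' * b) * (w' * w)⁻¹ = (a' * b)⁻¹ := by
    have e1 : w * a' * w⁻¹ = a' := by rw [hwa'.eq]; group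
    have e2 : w' * b⁻¹ * w'⁻¹ = b⁻¹ := by rw [(hw'b.inv_right).eq]; group
    calc (w' * w) * (a' * b) * (w' * w)⁻¹
        = w' * (w * a' * w⁻¹) * w'⁻¹ * (w' * (w * b * w⁻¹) * w'⁻¹) := by group
      _ = (w' * a' * w'⁻¹) * (w' * b⁻¹ * w'⁻¹) := by rw [e1, hbinv]
      _ = a'⁻¹ * b⁻¹ := by rw [ha'inv, e2]
      _ = (b * a')⁻¹ := by group
      _ = (a' * b)⁻¹ := by rw [hab.eq]
  obtain ⟨y, hyV, hy1, hyh⟩ := hS (a' * b) (w' * w) hvV hodd hinv
  -- y commutes with a' and b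
  have h1 : y * a' * y⁻¹ ∈ A := hAn.conj_mem a' ha'A y
  have h2 : y * b * y⁻¹ ∈ B := hBn.conj_mem b hbB y
  have h3 : (y * a' * y⁻¹) * (y * b * y⁻¹) = a' * b := by
    have : y * (a' * b) * y⁻¹ = a' * b := by rw [hyh]; group
    rw [← this]; group
  have h4 : a'⁻¹ * (y * a' * y⁻¹) = b * (y * b * y⁻¹)⁻¹ := by
    have : (y * a' * y⁻¹) = a' * b * (y * b * y⁻¹)⁻¹ := by rw [← h3]; group
    rw [this]; group
  have h5 : a'⁻¹ * (y * a' * y⁻¹) ∈ A ⊓ B := by
    refine ⟨A.mul_mem (A.inv_mem ha'A) h1, ?_⟩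
    rw [h4]
    exact B.mul_mem hbB (B.inv_mem h2)
  rw [hAB, Subgroup.mem_bot] at h5
  have hya' : Commute y a' := by
    have : y * a' * y⁻¹ = a' := by
      calc y * a' * y⁻¹ = a' * (a'⁻¹ * (y * a' * y⁻¹)) := by group
        _ = a' := by rw [h5, mul_one]
    calc y * a' = (y * a' * y⁻¹) * y := by group
      _ = a' * y := by rw [this]
  have hyb : Commute y b := by
    have h6 : b * (y * b * y⁻¹)⁻¹ = 1 := by rw [← h4, h5]
    have : y * b * y⁻¹ = b := by
      have := mul_eq_one_iff_eq_inv.mp h6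
      rw [inv_inv] at this
      exact this.symm
    calc y * b = (y * b * y⁻¹) * y := by group
      _ = b * y := by rw [this]
  exact ha'all y ((hmemW2 y).mpr ⟨hyV, hyb⟩) hy1 hya'

end AB


section PCoreMap

variable {G : Type*} [Group G] [Finite G]

theorem conj_mem_pCore_map' {H : Subgroup G} {h q : G} (hh : h ∈ H)
    (hq : q ∈ (Cfsg.pCore 2 ↥H).map H.subtype) : h * q * h⁻¹ ∈ (Cfsg.pCore 2 ↥H).map H.subtype := by
  obtain ⟨z, hz, rfl⟩ := hq
  refine ⟨⟨h, hh⟩ * z * ⟨h, hh⟩⁻¹, ?_, by simp⟩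
  exact (Cfsg.pCore_normal 2 ↥H).conj_mem z hz ⟨h, hh⟩

theorem isPGroup_pCore_map (H : Subgroup G) : IsPGroup 2 ((Cfsg.pCore 2 ↥H).map H.subtype) := by
  have : Fact (Nat.Prime 2) := ⟨Nat.prime_two⟩
  exact (Cfsg.Agent.Helper22.isPGroup_pCore (G := ↥H) 2).map _

theorem pCore_map_le (H : Subgroup G) : (Cfsg.pCore 2 ↥H).map H.subtype ≤ H := by
  rintro _ ⟨z, _, rfl⟩; exact z.2

end PCoreMap

end Cfsg.Agent.Helper50
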