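import Cfsg.Agent.Lib.Helper50.SidkiMin
import Cfsg.Agent.S3012
import Cfsg.Agent.Lib.Helper46.PCore

set_option autoImplicit false

namespace Cfsg.Agent.Helper50

universe u

open Subgroup

section Quot

variable {G : Type u} [Group G] [Finite G]

theorem elemAb_map {V : Subgroup G} (hV : Cfsg.IsElementaryAbelian 2 V) {G' : Type*} [Group G']
    (f : G →* G') : Cfsg.IsElementaryAbelian 2 (V.map f) := by
  refine ⟨?_, ?_⟩
  · have h1 : V.map f ≤ Subgroup.centralizer ((V.map f : Subgroup G') : Set G') := by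
      rintro _ ⟨a, ha, rfl⟩
      rw [Subgroup.mem_centralizer_iff]
      rintro _ ⟨b, hb, rfl⟩
      rw [← map_mul, ← map_mul, (elemAb_commute hV ha hb).eq]
    exact Subgroup.le_centralizer_iff_isMulCommutative.mp h1
  · rintro _ ⟨a, ha, rfl⟩
    rw [← map_pow, hV.2 a ha, map_one]

/-- quotient step -/
theorem quotient_step (hmin : SidkiMinG G) {V : Subgroup G} (hV : Cfsg.IsElementaryAbelian 2 V)
    (hV1 : V ≠ ⊥) (hS : Cfsg.IsSidkiPair V) (K : Subgroup G) [K.Normal] (hK : K ≠ ⊥)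
    (hVK : V ⊓ K = ⊥) :
    ∃ v ∈ V, v ∉ K ∧ (QuotientGroup.mk' K) v ∈ Cfsg.pCore 2 (G ⧸ K) := by
  have hcard : Nat.card (G ⧸ K) < Nat.card G := by
    have h1 := Subgroup.card_eq_card_quotient_mul_card_subgroup K
    have h2 : 1 < Nat.card K := (Subgroup.one_lt_card_iff_ne_bot (H := K)).mpr hK
    have h3 : 0 < Nat.card (G ⧸ K) := Nat.card_pos
    nlinarith
  have hne : V.map (QuotientGroup.mk' K) ≠ ⊥ := by
    intro h
    apply hV1
    rw [eq_bot_iff]
    intro x hx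
    have h1 : (QuotientGroup.mk' K) x ∈ V.map (QuotientGroup.mk' K) := ⟨x, hx, rfl⟩
    rw [h, Subgroup.mem_bot] at h1
    have h2 : x ∈ K := (QuotientGroup.eq_one_iff x).mp h1
    have : x ∈ V ⊓ K := ⟨hx, h2⟩
    rwa [hVK] at this
  have hSq := Cfsg.Agent.S3012.result V K hV hV1 hS hVK
  have := hmin (G ⧸ K) (V.map (QuotientGroup.mk' K)) hcard (elemAb_map hV _) hne hSq
  rw [Ne, eq_bot_iff, SetLike.le_def] at this
  push Not at this
  obtain ⟨y, ⟨⟨v, hv, rfl⟩, hy2⟩, hy1⟩ := this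
  refine ⟨v, hv, ?_, hy2⟩
  intro hvK
  apply hy1
  rw [Subgroup.mem_bot]
  exact (QuotientGroup.eq_one_iff v).mpr hvK

theorem sidkiMin_pCore_eq_bot (hmin : SidkiMinG G) {V : Subgroup G}
    (hV : Cfsg.IsElementaryAbelian 2 V) (hV1 : V ≠ ⊥) (hS : Cfsg.IsSidkiPair V)
    (hVO : V ⊓ Cfsg.pCore 2 G = ⊥) : Cfsg.pCore 2 G = ⊥ := by
  have : Fact (Nat.Prime 2) := ⟨Nat.prime_two⟩
  by_contra hne
  obtain ⟨v, hv, hvK, hvQ⟩ := quotient_step hmin hV hV1 hS (Cfsg.pCore 2 G) hne hVO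
  have hbot : Cfsg.pCore 2 (G ⧸ Cfsg.pCore 2 G) = ⊥ := by
    apply Cfsg.Agent.Helper46.pCore_quotient_eq_bot_of
    intro D hD hd
    apply Cfsg.Agent.Helper22.le_pCore hD
    rw [Cfsg.Agent.Helper46.isPGroup_subgroup_iff]
    intro x hx
    obtain ⟨k, hk⟩ := hd x hx
    have hp : IsPGroup 2 (Cfsg.pCore 2 G) := Cfsg.Agent.Helper22.isPGroup_pCore 2
    obtain ⟨j, hj⟩ := Cfsg.Agent.Helper46.isPGroup_subgroup_iff.mp hp _ hk
    refine ⟨k + j, ?_⟩
    rw [pow_add, pow_mul]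
    exact hj
  rw [hbot, Subgroup.mem_bot] at hvQ
  exact hvK ((QuotientGroup.eq_one_iff v).mp hvQ)

end Quot


section Claim1

variable {G : Type u} [Group G] [Finite G]

/-- Claim 1: `G = N C_G(N) V`. -/
theorem sup_centralizer_sup_eq_top (hO : Cfsg.pCore 2 G = ⊥) (hmin : SidkiMinG G) {V : Subgroup G}
    (hV : Cfsg.IsElementaryAbelian 2 V) (hV1 : V ≠ ⊥) (hS : Cfsg.IsSidkiPair V)
    {N : Subgroup G} (hNn : N.Normal) :
    N ⊔ centralizer (N : Set G) ⊔ V = ⊤ := by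
  by_contra hH
  have hCn : (centralizer (N : Set G)).Normal := Subgroup.normal_centralizer
  have hXn : (N ⊔ centralizer (N : Set G)).Normal := inferInstance
  rcases pcore_or_witness hmin hH (le_sup_right : V ≤ N ⊔ centralizer (N : Set G) ⊔ V) hV hV1 with h | h
  · obtain ⟨y, hyV, hy1, hyQ⟩ := h
    obtain ⟨Q, hQ⟩ : ∃ Q : Subgroup G,
      Q = (Cfsg.pCore 2 ↥(N ⊔ centralizer (N : Set G) ⊔ V)).map (Subgroup.subtype _) := ⟨_, rfl⟩
    rw [← hQ] at hyQ
    have hnorm : N ⊔ centralizer (N : Set G) ⊔ V ≤ normalizer ((N ⊔ centralizer (N : Set G) : Subgroup G) : Set G) := by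
      rw [Subgroup.normalizer_eq_top_iff.mpr hXn]; exact le_top
    have hQC : Q ≤ centralizer (N : Set G) := by
      intro q hq
      rw [Subgroup.mem_centralizer_iff]
      intro n hn
      rw [hQ] at hq
      exact (commute_of_mem_pCore_map hO hXn.isSubnormal le_sup_left hnorm hq
        (Subgroup.mem_sup_left hn)).eq.symm
    have hQbot : Q = ⊥ := by
      apply eq_bot_of_two_subgroup hO hCn.isSubnormal hQC
      · intro c hc
        have hcH : c ∈ N ⊔ centralizer (N : Set G) ⊔ V :=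
          Subgroup.mem_sup_left (Subgroup.mem_sup_right hc)
        rw [Subgroup.mem_normalizer_iff]
        intro q
        constructor
        · intro hq; rw [hQ] at hq ⊢; exact conj_mem_pCore_map' hcH hq
        · intro hq
          rw [hQ] at hq ⊢
          have := conj_mem_pCore_map' (Subgroup.inv_mem _ hcH) hq
          have e : c⁻¹ * (c * q * c⁻¹) * c⁻¹⁻¹ = q := by group
          rwa [e] at this
      · rw [hQ]; exact isPGroup_pCore_map _
    rw [hQbot, Subgroup.mem_bot] at hyQ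
    exact hy1 hyQ
  · obtain ⟨w, hw, a, _, hodd, hinv, hall⟩ := h
    obtain ⟨y, hyV, hy1, hya⟩ := hS a w hw hodd hinv
    exact hall y hyV hy1 hya

end Claim1


section Abelian

variable {G : Type u} [Group G] [Finite G]

theorem odd_orderOf_of_not_two_dvd_card {H : Subgroup G} (h : ¬ 2 ∣ Nat.card H) {x : G} (hx : x ∈ H) :
    Odd (orderOf x) := by
  rw [← Nat.not_even_iff_odd, even_iff_two_dvd]
  intro h2
  apply h
  have : orderOf (⟨x, hx⟩ : H) ∣ Nat.card H := orderOf_dvd_natCard _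
  rw [← Subgroup.orderOf_coe] at this
  exact h2.trans this

theorem eq_one_of_sq_of_odd {x : G} (hx : x * x = 1) (hodd : Odd (orderOf x)) : x = 1 := by
  have h1 : orderOf x ∣ 2 := by
    apply orderOf_dvd_of_pow_eq_one
    rw [pow_two]; exact hx
  have h2 : (orderOf x).Coprime 2 := Nat.coprime_two_right.mpr hodd
  have := Nat.Coprime.eq_one_of_dvd h2 h1
  exact orderOf_eq_one_iff.mp this

theorem abelian_case (hO : Cfsg.pCore 2 G = ⊥) (hmin : SidkiMinG G) {V : Subgroup G}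
    (hV : Cfsg.IsElementaryAbelian 2 V) (hV1 : V ≠ ⊥) (hS : Cfsg.IsSidkiPair V)
    {N : Subgroup G} (hNn : N.Normal) (hN1 : N ≠ ⊥)
    (hNmin : ∀ K : Subgroup G, K.Normal → K ≤ N → K = ⊥ ∨ K = N)
    (hNab : N ≤ centralizer (N : Set G)) : False := by
  have hp2 : Fact (Nat.Prime 2) := ⟨Nat.prime_two⟩
  have hCn : (centralizer (N : Set G)).Normal := Subgroup.normal_centralizer
  obtain ⟨C, hC⟩ : ∃ C : Subgroup G, C = centralizer (N : Set G) := ⟨_, rfl⟩
  rw [← hC] at hCn hNab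
  have hmemC : ∀ g, g ∈ C ↔ ∀ n ∈ N, Commute g n := by
    intro g
    rw [hC, Subgroup.mem_centralizer_iff]
    exact ⟨fun h n hn => (h n hn).symm, fun h n hn => (h n hn).symm⟩
  have htop : C ⊔ V = ⊤ := by
    have := sup_centralizer_sup_eq_top hO hmin hV hV1 hS hNn
    rw [← hC] at this
    rwa [sup_eq_right.mpr hNab] at this
  have hNcomm : ∀ a ∈ N, ∀ b ∈ N, Commute a b := fun a ha b hb => (hmemC a).mp (hNab ha) b hb
  -- 1. odd order
  have h2card : ¬ 2 ∣ Nat.card N := by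
    intro hdvd
    have P : Sylow 2 ↥N := default
    apply Sylow.ne_bot_of_dvd_card P hdvd
    have hR : ((P : Subgroup N).map N.subtype) = ⊥ := by
      apply eq_bot_of_two_subgroup hO hNn.isSubnormal
      · rintro _ ⟨z, _, rfl⟩; exact z.2
      · have h1 : ((P : Subgroup N).map N.subtype) ≤ N := by
          rintro _ ⟨z, _, rfl⟩; exact z.2
        calc N ≤ centralizer (N : Set G) := by rw [← hC]; exact hNab
          _ ≤ centralizer (((P : Subgroup N).map N.subtype : Subgroup G) : Set G) :=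
              Subgroup.centralizer_le h1
          _ ≤ normalizer _ := Subgroup.centralizer_le_normalizer _
      · exact P.isPGroup'.map _
    exact (Subgroup.map_eq_bot_iff_of_injective _ N.subtype_injective).mp hR
  have hoddN : ∀ n ∈ N, Odd (orderOf n) := fun n hn => odd_orderOf_of_not_two_dvd_card h2card hn
  -- 2.
  have hVN : V ⊓ N = ⊥ := by
    rw [eq_bot_iff]
    rintro x ⟨hxV, hxN⟩
    rw [Subgroup.mem_bot]
    exact eq_one_of_sq_of_odd (elemAb_mul_self hV hxV) (hoddN x hxN)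
  -- 3.
  haveI := hNn
  obtain ⟨v, hvV, hvN, hvQ⟩ := quotient_step hmin hV hV1 hS N hN1 hVN
  have hvv : v * v = 1 := elemAb_mul_self hV hvV
  have hvi : v⁻¹ = v := elemAb_inv hV hvV
  -- 4.
  obtain ⟨T, hT⟩ : ∃ T : Subgroup G, T = (Cfsg.pCore 2 (G ⧸ N)).comap (QuotientGroup.mk' N) := ⟨_, rfl⟩
  have hTn : T.Normal := by rw [hT]; infer_instance
  have hmemT : ∀ t, t ∈ T ↔ (QuotientGroup.mk' N) t ∈ Cfsg.pCore 2 (G ⧸ N) := by
    intro t; rw [hT, Subgroup.mem_comap]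
  have hvT : v ∈ T := (hmemT v).mpr hvQ
  have hTpow : ∀ t ∈ T, ∃ k : ℕ, t ^ 2 ^ k ∈ N := by
    intro t ht
    have hp : IsPGroup 2 (Cfsg.pCore 2 (G ⧸ N)) := Cfsg.Agent.Helper22.isPGroup_pCore 2
    obtain ⟨k, hk⟩ := Cfsg.Agent.Helper46.isPGroup_subgroup_iff.mp hp _ ((hmemT t).mp ht)
    refine ⟨k, ?_⟩
    rw [← map_pow] at hk
    exact (QuotientGroup.eq_one_iff _).mp hk
  -- 5.
  have hT0n : (T ⊓ C).Normal := inferInstance
  have hT0 : T ⊓ C ≤ N := by
    let f : ↥(T ⊓ C) →* ↥(Cfsg.pCore 2 (G ⧸ N)) :=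
      ((QuotientGroup.mk' N).comp (T ⊓ C).subtype).codRestrict _
        (fun t => (hmemT _).mp t.2.1)
    have hker : f.ker ≤ Subgroup.center ↥(T ⊓ C) := by
      intro t ht
      rw [MonoidHom.mem_ker] at ht
      have h1 : (QuotientGroup.mk' N) (t : G) = 1 := by
        have := congrArg Subtype.val ht
        simpa [f] using this
      have htN : (t : G) ∈ N := (QuotientGroup.eq_one_iff _).mp h1
      rw [Subgroup.mem_center_iff]
      intro s
      apply Subtype.ext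
      exact ((hmemC _).mp s.2.2 _ htN).eq
    have hnil : Group.IsNilpotent ↥(Cfsg.pCore 2 (G ⧸ N)) :=
      IsPGroup.isNilpotent (Cfsg.Agent.Helper22.isPGroup_pCore 2)
    haveI : Group.IsNilpotent ↥(T ⊓ C) := Subgroup.isNilpotent_of_ker_le_center f hker
    have P : Sylow 2 ↥(T ⊓ C) := default
    have hPn : (P : Subgroup ↥(T ⊓ C)).Normal := inferInstance
    haveI hPc : (P : Subgroup ↥(T ⊓ C)).Characteristic := Sylow.characteristic_of_normal P hPn
    have hRn : ((P : Subgroup ↥(T ⊓ C)).map (T ⊓ C).subtype).Normal :=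
      ConjAct.normal_of_characteristic_of_normal
    have hRp : IsPGroup 2 ((P : Subgroup ↥(T ⊓ C)).map (T ⊓ C).subtype) := P.isPGroup'.map _
    have hR := Cfsg.Agent.Helper22.le_pCore hRn hRp
    rw [hO, le_bot_iff] at hR
    have hPbot : (P : Subgroup ↥(T ⊓ C)) = ⊥ :=
      (Subgroup.map_eq_bot_iff_of_injective _ (T ⊓ C).subtype_injective).mp hR
    have h2T0 : ¬ 2 ∣ Nat.card ↥(T ⊓ C) := fun hdvd => Sylow.ne_bot_of_dvd_card P hdvd hPbot
    intro t ht
    have hodd : Odd (orderOf t) := odd_orderOf_of_not_two_dvd_card h2T0 ht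
    obtain ⟨k, hk⟩ := hTpow t ht.1
    have hcop : (2 ^ k).Coprime (orderOf t) := Nat.Coprime.pow_left _ (Nat.coprime_two_left.mpr hodd)
    obtain ⟨j, hj⟩ := exists_pow_eq_self_of_coprime hcop
    rw [← hj]
    exact N.pow_mem hk j
  -- 6.
  have hvC : v ∉ C := fun h => hvN (hT0 ⟨hvT, h⟩)
  -- 7.
  have hDn : ∀ u ∈ V, (N ⊓ centralizer ({u} : Set G)).Normal := by
    intro u hu
    constructor
    intro x hx g
    have hg : g ∈ C ⊔ V := by rw [htop]; trivial
    obtain ⟨c, hc, u', hu', rfl⟩ := Subgroup.mem_sup_of_normal_left.mp hg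
    have hxN : x ∈ N := (Subgroup.mem_inf.mp hx).1
    have hux : u * x = x * u := (Subgroup.mem_centralizer_singleton_iff.mp (Subgroup.mem_inf.mp hx).2).symm
    have hyN : u' * x * u'⁻¹ ∈ N := hNn.conj_mem x hxN u'
    have huu' : u * u' = u' * u := (elemAb_commute hV hu hu').eq
    have hcy : c * (u' * x * u'⁻¹) * c⁻¹ = u' * x * u'⁻¹ := by
      rw [((hmemC c).mp hc _ hyN).eq]; group
    have e : c * u' * x * (c * u')⁻¹ = c * (u' * x * u'⁻¹) * c⁻¹ := by group
    rw [e, hcy]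
    refine Subgroup.mem_inf.mpr ⟨hyN, ?_⟩
    rw [Subgroup.mem_centralizer_singleton_iff]
    have huu'i : u * u'⁻¹ = u'⁻¹ * u := (elemAb_commute hV hu (V.inv_mem hu')).eq
    symm
    calc u * (u' * x * u'⁻¹) = (u * u') * x * u'⁻¹ := by group
      _ = (u' * u) * x * u'⁻¹ := by rw [huu']
      _ = u' * (u * x) * u'⁻¹ := by group
      _ = u' * (x * u) * u'⁻¹ := by rw [hux]
      _ = u' * x * (u * u'⁻¹) := by group
      _ = u' * x * (u'⁻¹ * u) := by rw [huu'i]
      _ = u' * x * u'⁻¹ * u := by group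
  have hDv : N ⊓ centralizer ({v} : Set G) = ⊥ := by
    rcases hNmin _ (hDn v hvV) inf_le_left with h | h
    · exact h
    · exfalso
      apply hvC
      rw [hmemC]
      intro n hn
      have : n ∈ N ⊓ centralizer ({v} : Set G) := by rw [h]; exact hn
      exact (Subgroup.mem_centralizer_singleton_iff.mp (Subgroup.mem_inf.mp this).2).symm
  -- 8.
  have hvinv : ∀ n ∈ N, v * n * v⁻¹ = n⁻¹ := by
    intro n hn
    have hcn : v * n * v⁻¹ ∈ N := hNn.conj_mem n hn v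
    rw [hvi] at hcn ⊢
    have hm : n * (v * n * v) ∈ N ⊓ centralizer ({v} : Set G) := by
      refine Subgroup.mem_inf.mpr ⟨N.mul_mem hn hcn, ?_⟩
      rw [Subgroup.mem_centralizer_singleton_iff]
      have hc : (v * n * v) * n = n * (v * n * v) := (hNcomm _ hcn n hn).eq
      symm
      calc v * (n * (v * n * v)) = ((v * n * v) * n) * v := by group
        _ = (n * (v * n * v)) * v := by rw [hc]
    rw [hDv, Subgroup.mem_bot] at hm
    exact eq_inv_of_mul_eq_one_right hm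
  -- 9.
  have hβ : ∀ c ∈ C, c⁻¹ * (v * c * v⁻¹) ∈ N := by
    intro c hc
    apply hT0
    refine Subgroup.mem_inf.mpr ⟨?_, ?_⟩
    · have h1 : c⁻¹ * v * c⁻¹⁻¹ ∈ T := hTn.conj_mem v hvT c⁻¹
      have e : c⁻¹ * (v * c * v⁻¹) = (c⁻¹ * v * c⁻¹⁻¹) * v⁻¹ := by group
      rw [e]
      exact T.mul_mem h1 (T.inv_mem hvT)
    · exact C.mul_mem (C.inv_mem hc) (hCn.conj_mem c hc v)
  -- 10.
  obtain ⟨B, hB⟩ : ∃ B : Subgroup G, B = C ⊓ centralizer ({v} : Set G) := ⟨_, rfl⟩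
  have hmemB : ∀ b, b ∈ B ↔ b ∈ C ∧ v * b = b * v := by
    intro b
    rw [hB, Subgroup.mem_inf, Subgroup.mem_centralizer_singleton_iff]
    exact ⟨fun h => ⟨h.1, h.2.symm⟩, fun h => ⟨h.1, h.2.symm⟩⟩
  have hdecomp : ∀ c ∈ C, ∃ b ∈ B, ∃ n ∈ N, c = b * n := by
    intro c hc
    obtain ⟨β, hβdef⟩ : ∃ β : G, β = c⁻¹ * (v * c * v⁻¹) := ⟨_, rfl⟩
    have hβN : β ∈ N := by rw [hβdef]; exact hβ c hc
    obtain ⟨k, hk⟩ := hoddN β hβN
    obtain ⟨n₀, hn₀⟩ : ∃ n₀ : G, n₀ = β ^ (k + 1) := ⟨_, rfl⟩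
    have hn₀N : n₀ ∈ N := by rw [hn₀]; exact N.pow_mem hβN _
    have hsq : n₀ * n₀ = β := by
      rw [hn₀, ← pow_add]
      have : k + 1 + (k + 1) = orderOf β + 1 := by omega
      rw [this, pow_succ, pow_orderOf_eq_one, one_mul]
    refine ⟨c * n₀, ?_, n₀⁻¹, N.inv_mem hn₀N, by group⟩
    rw [hmemB]
    refine ⟨C.mul_mem hc (hNab hn₀N), ?_⟩
    have h1 : v * c = c * β * v := by
      rw [hβdef, hvi]
      have : c * (c⁻¹ * (v * c * v)) * v = v * c * (v * v) := by group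
      rw [this, hvv, mul_one]
    have h2 : v * n₀ = n₀⁻¹ * v := by
      have := hvinv n₀ hn₀N
      calc v * n₀ = (v * n₀ * v⁻¹) * v := by group
        _ = n₀⁻¹ * v := by rw [this]
    calc v * (c * n₀) = (v * c) * n₀ := by group
      _ = c * β * v * n₀ := by rw [h1]
      _ = c * β * (v * n₀) := by group
      _ = c * β * (n₀⁻¹ * v) := by rw [h2]
      _ = c * (n₀ * n₀) * (n₀⁻¹ * v) := by rw [hsq]
      _ = c * n₀ * v := by group
  -- 11.
  have hBn : B.Normal := by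
    constructor
    intro b hb g
    have hg : g ∈ C ⊔ V := by rw [htop]; trivial
    obtain ⟨c, hc, u', hu', rfl⟩ := Subgroup.mem_sup_of_normal_left.mp hg
    obtain ⟨hbC, hbv⟩ := (hmemB b).mp hb
    have hvu' : v * u' = u' * v := (elemAb_commute hV hvV hu').eq
    have hvu'i : v * u'⁻¹ = u'⁻¹ * v := (elemAb_commute hV hvV (V.inv_mem hu')).eq
    have hb' : u' * b * u'⁻¹ ∈ B := by
      rw [hmemB]
      refine ⟨hCn.conj_mem b hbC u', ?_⟩
      calc v * (u' * b * u'⁻¹) = (v * u') * b * u'⁻¹ := by group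
        _ = (u' * v) * b * u'⁻¹ := by rw [hvu']
        _ = u' * (v * b) * u'⁻¹ := by group
        _ = u' * (b * v) * u'⁻¹ := by rw [hbv]
        _ = u' * b * (v * u'⁻¹) := by group
        _ = u' * b * (u'⁻¹ * v) := by rw [hvu'i]
        _ = u' * b * u'⁻¹ * v := by group
    obtain ⟨b₁, hb₁, n₁, hn₁, rfl⟩ := hdecomp c hc
    have hb'C : u' * b * u'⁻¹ ∈ C := ((hmemB _).mp hb').1
    have hcomm : n₁ * (u' * b * u'⁻¹) * n₁⁻¹ = u' * b * u'⁻¹ := by
      have := ((hmemC _).mp hb'C n₁ hn₁).eq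
      rw [← this]; group
    have e : b₁ * n₁ * u' * b * (b₁ * n₁ * u')⁻¹ = b₁ * (n₁ * (u' * b * u'⁻¹) * n₁⁻¹) * b₁⁻¹ := by
      group
    rw [e, hcomm]
    exact B.mul_mem (B.mul_mem hb₁ hb') (B.inv_mem hb₁)
  -- 12.
  have hNB : N ⊓ B = ⊥ := by
    rw [eq_bot_iff, ← hDv]
    intro x hx
    obtain ⟨hxN, hxB⟩ := Subgroup.mem_inf.mp hx
    refine Subgroup.mem_inf.mpr ⟨hxN, ?_⟩
    rw [Subgroup.mem_centralizer_singleton_iff]
    exact ((hmemB x).mp hxB).2.symm
  -- 13.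
  have hCNB : C ≤ N ⊔ B := by
    intro c hc
    obtain ⟨b, hb, n, hn, rfl⟩ := hdecomp c hc
    exact Subgroup.mul_mem _ (Subgroup.mem_sup_right hb) (Subgroup.mem_sup_left hn)
  have htop' : N ⊔ B ⊔ V = ⊤ := by
    rw [eq_top_iff, ← htop]
    exact sup_le_sup_right hCNB V
  -- 14.
  by_cases hBbot : B = ⊥
  · have hCN : C ≤ N := by
      intro c hc
      obtain ⟨b, hb, n, hn, rfl⟩ := hdecomp c hc
      rw [hBbot, Subgroup.mem_bot] at hb
      rw [hb, one_mul]; exact hn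
    obtain ⟨⟨n, hn⟩, hn1⟩ := (Subgroup.ne_bot_iff_exists_ne_one.mp hN1)
    have hn1' : n ≠ 1 := fun h => hn1 (Subtype.ext h)
    obtain ⟨w, hwV, hw1, hwn⟩ := hS n v hvV (hoddN n hn) (hvinv n hn)
    rcases hNmin _ (hDn w hwV) inf_le_left with h | h
    · have : n ∈ N ⊓ centralizer ({w} : Set G) := by
        refine Subgroup.mem_inf.mpr ⟨hn, ?_⟩
        rw [Subgroup.mem_centralizer_singleton_iff]
        exact hwn.symm
      rw [h, Subgroup.mem_bot] at this
      exact hn1' this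
    · have hwC : w ∈ C := by
        rw [hmemC]
        intro m hm
        have : m ∈ N ⊓ centralizer ({w} : Set G) := by rw [h]; exact hm
        exact (Subgroup.mem_centralizer_singleton_iff.mp (Subgroup.mem_inf.mp this).2).symm
      have : w ∈ V ⊓ N := ⟨hwV, hCN hwC⟩
      rw [hVN, Subgroup.mem_bot] at this
      exact hw1 this
  · exact false_of_two_normal hO hmin hV hV1 hS hNn hBn hNB hN1 hBbot htop'

end Abelian

end Cfsg.Agent.Helper50
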