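import Cfsg.Agent.Lib.Helper50.SidkiMin2

set_option autoImplicit false

namespace Cfsg.Agent.Helper50

universe u

open Subgroup

section Cj

variable {G : Type*} [Group G]

/-- conjugate subgroup -/
def cj (g : G) (L : Subgroup G) : Subgroup G := L.map (MulAut.conj g).toMonoidHom

theorem mem_cj {g x : G} {L : Subgroup G} : x ∈ cj g L ↔ g⁻¹ * x * g ∈ L := by
  unfold cj
  constructor
  · rintro ⟨l, hl, rfl⟩
    have : g⁻¹ * ((MulAut.conj g).toMonoidHom l) * g = l := by
      simp only [MulEquiv.toMonoidHom_eq_coe, MonoidHom.coe_coe, MulAut.conj_apply]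
      group
    rw [this]; exact hl
  · intro h
    refine ⟨g⁻¹ * x * g, h, ?_⟩
    simp [MulAut.conj_apply, mul_assoc]

theorem conj_mem_cj {g l : G} {L : Subgroup G} (hl : l ∈ L) : g * l * g⁻¹ ∈ cj g L := by
  rw [mem_cj]
  have : g⁻¹ * (g * l * g⁻¹) * g = l := by group
  rw [this]; exact hl

theorem card_cj (g : G) (L : Subgroup G) : Nat.card (cj g L) = Nat.card L := by
  unfold cj
  exact Nat.card_congr (Subgroup.equivMapOfInjective L _ (MulAut.conj g).injective).symm.toEquiv

theorem cj_le_of_normal {N L : Subgroup G} (hNn : N.Normal) (hLN : L ≤ N) (g : G) : cj g L ≤ N := by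
  intro x hx
  rw [mem_cj] at hx
  have := hNn.conj_mem _ (hLN hx) g
  have e : g * (g⁻¹ * x * g) * g⁻¹ = x := by group
  rwa [e] at this

theorem le_normalizer_cj {N L : Subgroup G} (hNn : N.Normal) (hNL : N ≤ normalizer (L : Set G))
    (g : G) : N ≤ normalizer ((cj g L : Subgroup G) : Set G) := by
  intro n hn
  rw [Subgroup.mem_normalizer_iff]
  intro x
  rw [mem_cj, mem_cj]
  have hn' : g⁻¹ * n * g ∈ N := by
    have := hNn.conj_mem n hn g⁻¹
    rwa [inv_inv] at this
  have h1 := Subgroup.mem_normalizer_iff.mp (hNL hn') (g⁻¹ * x * g)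
  have e : g⁻¹ * n * g * (g⁻¹ * x * g) * (g⁻¹ * n * g)⁻¹ = g⁻¹ * (n * x * n⁻¹) * g := by group
  rw [e] at h1
  exact h1

theorem cj_eq_self_iff [Finite G] {g : G} {L : Subgroup G} : cj g L = L ↔ g ∈ normalizer (L : Set G) := by
  constructor
  · intro h
    rw [Subgroup.mem_normalizer_iff]
    intro x
    constructor
    · intro hx
      rw [← h]; exact conj_mem_cj hx
    · intro hx
      rw [← h, mem_cj] at hx
      have e : g⁻¹ * (g * x * g⁻¹) * g = x := by group
      rwa [e] at hx
  · intro h
    ext x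
    rw [mem_cj]
    have hg' : g⁻¹ ∈ normalizer (L : Set G) := Subgroup.inv_mem _ h
    have := Subgroup.mem_normalizer_iff.mp hg' x
    rw [inv_inv] at this
    exact this.symm

end Cj


section Simple

variable {G : Type u} [Group G] [Finite G]

omit [Finite G] in
theorem orderOf_conj50 (g x : G) : orderOf (g * x * g⁻¹) = orderOf x := by
  have := MulEquiv.orderOf_eq (MulAut.conj g) x
  simpa [MulAut.conj_apply] using this

omit [Finite G] in
theorem conj_mem_centralizer_of_mem_normalizer {L : Subgroup G} {n q : G}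
    (hn : n ∈ normalizer (L : Set G)) (hq : q ∈ centralizer (L : Set G)) :
    n * q * n⁻¹ ∈ centralizer (L : Set G) := by
  rw [Subgroup.mem_centralizer_iff] at hq ⊢
  intro z hz
  have hz' : n⁻¹ * z * n ∈ L := by
    have := (Subgroup.mem_normalizer_iff.mp (Subgroup.inv_mem _ hn) z).mp hz
    rwa [inv_inv] at this
  have := hq _ hz'
  calc z * (n * q * n⁻¹) = n * ((n⁻¹ * z * n) * q) * n⁻¹ := by group
    _ = n * (q * (n⁻¹ * z * n)) * n⁻¹ := by rw [this]
    _ = n * q * n⁻¹ * z := by group

omit [Finite G] in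
theorem le_normalizer_inf_centralizer {N L : Subgroup G} (hNL : N ≤ normalizer (L : Set G)) :
    N ≤ normalizer ((L ⊓ centralizer (L : Set G) : Subgroup G) : Set G) := by
  intro n hn
  rw [Subgroup.mem_normalizer_iff]
  intro q
  constructor
  · rintro ⟨h1, h2⟩
    exact ⟨(Subgroup.mem_normalizer_iff.mp (hNL hn) q).mp h1,
      conj_mem_centralizer_of_mem_normalizer (hNL hn) h2⟩
  · rintro ⟨h1, h2⟩
    refine ⟨(Subgroup.mem_normalizer_iff.mp (hNL hn) q).mpr h1, ?_⟩
    have := conj_mem_centralizer_of_mem_normalizer (Subgroup.inv_mem _ (hNL hn)) h2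
    have e : n⁻¹ * (n * q * n⁻¹) * n⁻¹⁻¹ = q := by group
    rwa [e] at this

theorem simple_of_top (hO : Cfsg.pCore 2 G = ⊥) (hmin : SidkiMinG G) {V : Subgroup G}
    (hV : Cfsg.IsElementaryAbelian 2 V) (hS : Cfsg.IsSidkiPair V)
    {N : Subgroup G} (hNn : N.Normal) (hN1 : N ≠ ⊥)
    (hNmin : ∀ K : Subgroup G, K.Normal → K ≤ N → K = ⊥ ∨ K = N)
    (hC : centralizer (N : Set G) = ⊥) (htop : N ⊔ V = ⊤) : IsSimpleGroup ↥N := by
  -- a. minimal N-invariant L
  obtain ⟨L, ⟨hL1, hLN, hNL⟩, hLm⟩ := exists_minimalFor_of_wellFoundedLT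
    (fun K : Subgroup G => K ≠ ⊥ ∧ K ≤ N ∧ N ≤ normalizer (K : Set G)) (fun K => Nat.card K)
    ⟨N, hN1, le_rfl, le_normalizer⟩
  have hLmin : ∀ K : Subgroup G, K ≤ L → K ≠ ⊥ → N ≤ normalizer (K : Set G) → K = L := by
    intro K hKL hK1 hNK
    have h1 := hLm ⟨hK1, hKL.trans hLN, hNK⟩ (Subgroup.card_le_of_le hKL)
    exact Subgroup.eq_of_le_of_card_ge hKL h1
  have hLsub : L.IsSubnormal := by
    apply Subgroup.IsSubnormal.trans hLN _ hNn.isSubnormal
    exact ((Subgroup.normal_subgroupOf_iff_le_normalizer hLN).mpr hNL).isSubnormal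
  -- L4
  have hinter : ∀ g : G, L ⊓ cj g L ≠ ⊥ → cj g L = L := by
    intro g hne
    have hNcj := le_normalizer_cj hNn hNL g
    have hK : L ⊓ cj g L = L := by
      apply hLmin _ inf_le_left hne
      intro n hn
      rw [Subgroup.mem_normalizer_iff]
      intro q
      constructor
      · rintro ⟨h1, h2⟩
        exact ⟨(Subgroup.mem_normalizer_iff.mp (hNL hn) q).mp h1,
          (Subgroup.mem_normalizer_iff.mp (hNcj hn) q).mp h2⟩
      · rintro ⟨h1, h2⟩
        exact ⟨(Subgroup.mem_normalizer_iff.mp (hNL hn) q).mpr h1,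
          (Subgroup.mem_normalizer_iff.mp (hNcj hn) q).mpr h2⟩
    have hle : L ≤ cj g L := by
      intro x hx
      have h0 : x ∈ L ⊓ cj g L := by rw [hK]; exact hx
      exact (Subgroup.mem_inf.mp h0).2
    exact (Subgroup.eq_of_le_of_card_ge hle (le_of_eq (card_cj g L))).symm
  -- L5
  have hcomm : ∀ g : G, cj g L ≠ L → ∀ a ∈ L, ∀ b ∈ cj g L, Commute a b := by
    intro g hne a ha b hb
    have hbN : b ∈ N := cj_le_of_normal hNn hLN g hb
    have haN : a ∈ N := hLN ha
    have h1 : a * b * a⁻¹ * b⁻¹ ∈ L := by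
      have : b * a⁻¹ * b⁻¹ ∈ L := (Subgroup.mem_normalizer_iff.mp (hNL hbN) _).mp (L.inv_mem ha)
      have e : a * b * a⁻¹ * b⁻¹ = a * (b * a⁻¹ * b⁻¹) := by group
      rw [e]; exact L.mul_mem ha this
    have h2 : a * b * a⁻¹ * b⁻¹ ∈ cj g L := by
      have : a * b * a⁻¹ ∈ cj g L :=
        (Subgroup.mem_normalizer_iff.mp (le_normalizer_cj hNn hNL g haN) _).mp hb
      exact (cj g L).mul_mem this ((cj g L).inv_mem hb)
    have h3 : L ⊓ cj g L = ⊥ := by
      by_contra h
      exact hne (hinter g h)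
    have h4 : a * b * a⁻¹ * b⁻¹ ∈ L ⊓ cj g L := ⟨h1, h2⟩
    rw [h3, Subgroup.mem_bot] at h4
    calc a * b = (a * b * a⁻¹ * b⁻¹) * (b * a) := by group
      _ = b * a := by rw [h4, one_mul]
  -- M1'
  have hcent : ∀ g : G, (∀ u' ∈ V, ∀ l ∈ L, Commute g (u' * l * u'⁻¹)) → g = 1 := by
    intro g hg
    have hM : Subgroup.normalClosure (L : Set G) = N := by
      have hMn : (Subgroup.normalClosure (L : Set G)).Normal := Subgroup.normalClosure_normal
      have hMle : Subgroup.normalClosure (L : Set G) ≤ N := Subgroup.normalClosure_le_normal hLN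
      rcases hNmin _ hMn hMle with h | h
      · exfalso
        apply hL1
        rw [eq_bot_iff, ← h]
        exact Subgroup.le_normalClosure
      · exact h
    have hle : Subgroup.normalClosure (L : Set G) ≤ centralizer ({g} : Set G) := by
      unfold Subgroup.normalClosure
      rw [Subgroup.closure_le]
      intro x hx
      obtain ⟨l, hl, hlx⟩ := Group.mem_conjugatesOfSet_iff.mp hx
      obtain ⟨c, hc⟩ := isConj_iff.mp hlx
      have hcG : c ∈ N ⊔ V := by rw [htop]; trivial
      obtain ⟨n, hn, u', hu', rfl⟩ := Subgroup.mem_sup_of_normal_left.mp hcG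
      have hxcj : x ∈ cj u' L := by
        have h1 : u' * l * u'⁻¹ ∈ cj u' L := conj_mem_cj hl
        have h2 := (Subgroup.mem_normalizer_iff.mp (le_normalizer_cj hNn hNL u' hn) _).mp h1
        have e : n * (u' * l * u'⁻¹) * n⁻¹ = n * u' * l * (n * u')⁻¹ := by group
        rw [e, hc] at h2
        exact h2
      rw [mem_cj] at hxcj
      have := hg u' hu' _ hxcj
      have e : u' * (u'⁻¹ * x * u') * u'⁻¹ = x := by group
      rw [e] at this
      rw [SetLike.mem_coe, Subgroup.mem_centralizer_singleton_iff]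
      exact this.eq.symm
    have hgC : g ∈ centralizer (N : Set G) := by
      rw [Subgroup.mem_centralizer_iff]
      intro n hn
      rw [← hM] at hn
      exact Subgroup.mem_centralizer_singleton_iff.mp (hle hn)
    rw [hC, Subgroup.mem_bot] at hgC
    exact hgC
  by_cases hVL : V ≤ normalizer (L : Set G)
  · -- L is normal, so L = N
    have hLn : L.Normal := by
      rw [← Subgroup.normalizer_eq_top_iff, eq_top_iff, ← htop]
      exact sup_le hNL hVL
    have hLeq : L = N := (hNmin L hLn hLN).resolve_left hL1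
    rw [hLeq] at hLmin
    haveI : Nontrivial ↥N := (Subgroup.nontrivial_iff_ne_bot N).mpr hN1
    refine ⟨fun K' hK' => ?_⟩
    by_cases hK1 : K' = ⊥
    · left; exact hK1
    · right
      have h1 : K'.map N.subtype = N := by
        apply hLmin
        · rintro _ ⟨z, _, rfl⟩; exact z.2
        · intro h
          exact hK1 ((Subgroup.map_eq_bot_iff_of_injective _ N.subtype_injective).mp h)
        · intro n hn
          rw [Subgroup.mem_normalizer_iff]
          intro q
          constructor
          · rintro ⟨k, hk, rfl⟩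
            exact ⟨⟨n, hn⟩ * k * ⟨n, hn⟩⁻¹, hK'.conj_mem k hk _, by simp⟩
          · rintro ⟨k, hk, hkq⟩
            refine ⟨⟨n, hn⟩⁻¹ * k * ⟨n, hn⟩⁻¹⁻¹, hK'.conj_mem k hk _, ?_⟩
            have : (N.subtype k : G) = n * q * n⁻¹ := hkq
            simp only [map_mul, map_inv, Subgroup.subtype_apply] at this ⊢
            rw [this]; group
      rw [eq_top_iff]
      intro x _
      have hx : (x : G) ∈ K'.map N.subtype := by rw [h1]; exact x.2
      obtain ⟨y, hy, hyx⟩ := hx
      have : y = x := Subtype.ext hyx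
      rwa [← this]
  · exfalso
    rw [SetLike.not_le_iff_exists] at hVL
    obtain ⟨t, htV, htL⟩ := hVL
    have htt : t * t = 1 := elemAb_mul_self hV htV
    have hti : t⁻¹ = t := elemAb_inv hV htV
    have hcjt : cj t L ≠ L := fun h => htL (cj_eq_self_iff.mp h)
    by_cases hV₁ : V ⊓ normalizer (L : Set G) = ⊥
    · -- M3: V ∩ N(L) = 1
      have hV₁' : ∀ u ∈ V, u ∈ normalizer (L : Set G) → u = 1 := by
        intro u hu hn
        have : u ∈ V ⊓ normalizer (L : Set G) := ⟨hu, hn⟩
        rwa [hV₁, Subgroup.mem_bot] at this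
      have hex : ∃ x ∈ L, x ≠ 1 ∧ Odd (orderOf x) := by
        by_contra hno
        push Not at hno
        apply hL1
        apply eq_bot_of_two_subgroup hO hLsub le_rfl le_normalizer
        rintro ⟨l, hl⟩
        have hn0 : orderOf l ≠ 0 := (orderOf_pos l).ne'
        obtain ⟨a, m, hm, hn⟩ := Nat.exists_eq_two_pow_mul_odd hn0
        refine ⟨a, ?_⟩
        apply Subtype.ext
        have hodd : Odd (orderOf (l ^ 2 ^ a)) := by
          apply Odd.of_dvd_nat hm
          apply orderOf_dvd_of_pow_eq_one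
          rw [← pow_mul, ← hn, pow_orderOf_eq_one]
        by_contra h1
        exact hno (l ^ 2 ^ a) (L.pow_mem hl _) (by simpa using h1) hodd
      obtain ⟨x, hxL, hx1, hxodd⟩ := hex
      obtain ⟨y, hy⟩ : ∃ y : G, y = t * x⁻¹ * t⁻¹ := ⟨_, rfl⟩
      have hycj : y ∈ cj t L := by rw [hy]; exact conj_mem_cj (L.inv_mem hxL)
      have hxy : Commute x y := hcomm t hcjt x hxL y hycj
      have hyodd : Odd (orderOf y) := by rw [hy, orderOf_conj50, orderOf_inv]; exact hxodd
      have hodd : Odd (orderOf (x * y)) := odd_orderOf_mul_of_commute hxy hxodd hyodd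
      have hinter0 : L ⊓ cj t L = ⊥ := by
        by_contra h
        exact hcjt (hinter t h)
      have hinv : t * (x * y) * t⁻¹ = (x * y)⁻¹ := by
        rw [hxy.eq, hy, hti]
        have e1 : t * (t * x⁻¹ * t * x) * t = (t * t) * x⁻¹ * t * x * t := by group
        have e2 : (t * x⁻¹ * t * x)⁻¹ = x⁻¹ * t⁻¹ * x * t⁻¹ := by group
        rw [e1, e2, htt, hti, one_mul]
      obtain ⟨w, hwV, hw1, hwh⟩ := hS (x * y) t htV hodd hinv
      have hwt : w ≠ t := by
        intro h
        rw [h] at hwh
        have h1 : t * (x * y) * t⁻¹ = x * y := by rw [hwh]; group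
        rw [hinv] at h1
        have h2 : (x * y) * (x * y) = 1 := by
          nth_rewrite 1 [← h1]; group
        have h3 : x * y = 1 := eq_one_of_sq_of_odd h2 hodd
        have h4 : x = y⁻¹ := eq_inv_of_mul_eq_one_left h3
        have h5 : x ∈ L ⊓ cj t L := ⟨hxL, by rw [h4]; exact (cj t L).inv_mem hycj⟩
        rw [hinter0, Subgroup.mem_bot] at h5
        exact hx1 h5
      have hLw : cj w L ≠ L := by
        intro h
        exact hw1 (hV₁' w hwV (cj_eq_self_iff.mp h))
      have hLwt : cj (w * t) L ≠ L := by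
        intro h
        have h1 := hV₁' (w * t) (V.mul_mem hwV htV) (cj_eq_self_iff.mp h)
        apply hwt
        have : w = t⁻¹ := eq_inv_of_mul_eq_one_left h1
        rw [this, hti]
      have hx'cj : w * x * w⁻¹ ∈ cj w L := conj_mem_cj hxL
      have hy'cj : w * y * w⁻¹ ∈ cj (w * t) L := by
        rw [mem_cj, hy]
        have e : (w * t)⁻¹ * (w * (t * x⁻¹ * t⁻¹) * w⁻¹) * (w * t) = x⁻¹ := by group
        rw [e]; exact L.inv_mem hxL
      have hx'y' : (w * x * w⁻¹) * (w * y * w⁻¹) = x * y := by
        have : w * (x * y) * w⁻¹ = x * y := by rw [hwh]; group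
        rw [← this]; group
      have hxZ : x ∈ L ⊓ centralizer (L : Set G) := by
        refine Subgroup.mem_inf.mpr ⟨hxL, ?_⟩
        rw [Subgroup.mem_centralizer_iff]
        intro z hz
        have hzy : Commute z y := hcomm t hcjt z hz y hycj
        have hzx' : Commute z (w * x * w⁻¹) := hcomm w hLw z hz _ hx'cj
        have hzy' : Commute z (w * y * w⁻¹) := hcomm (w * t) hLwt z hz _ hy'cj
        have hzxy : Commute z (x * y) := by
          rw [← hx'y']; exact hzx'.mul_right hzy'
        have := hzxy.mul_right hzy.inv_right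
        rw [mul_inv_cancel_right] at this
        exact this.eq
      have hZL : L ⊓ centralizer (L : Set G) = L := by
        apply hLmin _ inf_le_left _ (le_normalizer_inf_centralizer hNL)
        intro h
        rw [h, Subgroup.mem_bot] at hxZ
        exact hx1 hxZ
      have hLab : ∀ a ∈ L, ∀ b ∈ L, Commute a b := by
        intro a ha b hb
        have : a ∈ L ⊓ centralizer (L : Set G) := by rw [hZL]; exact ha
        exact ((Subgroup.mem_centralizer_iff.mp (Subgroup.mem_inf.mp this).2) b hb).symm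
      apply hL1
      rw [eq_bot_iff]
      intro l₀ hl₀
      rw [Subgroup.mem_bot]
      apply hcent
      intro u' hu' l hl
      by_cases hcu : cj u' L = L
      · apply hLab l₀ hl₀
        rw [← hcu]; exact conj_mem_cj hl
      · exact hcomm u' hcu l₀ hl₀ _ (conj_mem_cj hl)
    · -- M2: V ∩ N(L) ≠ 1
      have hV₁e : Cfsg.IsElementaryAbelian 2 (V ⊓ normalizer (L : Set G)) := elemAb_of_le hV inf_le_left
      have hHle : L ⊔ (V ⊓ normalizer (L : Set G)) ≤ normalizer (L : Set G) :=
        sup_le le_normalizer inf_le_right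
      have hH : L ⊔ (V ⊓ normalizer (L : Set G)) ≠ ⊤ := by
        intro h
        apply htL
        have : t ∈ L ⊔ (V ⊓ normalizer (L : Set G)) := by rw [h]; trivial
        exact hHle this
      rcases pcore_or_witness hmin hH (le_sup_right : V ⊓ normalizer (L : Set G) ≤ _) hV₁e hV₁ with h | h
      · obtain ⟨y, hyV₁, hy1, hyQ⟩ := h
        apply hy1
        apply hcent
        intro u' hu' l hl
        have hyl : Commute y l := commute_of_mem_pCore_map hO hLsub le_sup_left hHle hyQ hl
        have hyu : Commute y u' := elemAb_commute hV hyV₁.1 hu'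
        exact (hyu.mul_right hyl).mul_right hyu.inv_right
      · obtain ⟨w, hwV₁, a, haH, hodd, hinv, hall⟩ := h
        have haL : a ∈ L := mem_of_odd_of_mem_sup hV₁e inf_le_right haH hodd
        have ha1 : a ≠ 1 := by
          intro h
          obtain ⟨⟨y, hy⟩, hy1⟩ := Subgroup.ne_bot_iff_exists_ne_one.mp hV₁
          apply hall y hy (fun h' => hy1 (Subtype.ext h'))
          rw [h]; exact Commute.one_right y
        obtain ⟨y, hyV, hy1, hya⟩ := hS a w hwV₁.1 hodd hinv
        have hacj : a ∈ cj y L := by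
          rw [mem_cj]
          have : y⁻¹ * a * y = a := by
            calc y⁻¹ * a * y = y⁻¹ * (a * y) := by group
              _ = y⁻¹ * (y * a) := by rw [hya]
              _ = a := by group
          rw [this]; exact haL
        have hne : L ⊓ cj y L ≠ ⊥ := by
          intro h
          have : a ∈ L ⊓ cj y L := ⟨haL, hacj⟩
          rw [h, Subgroup.mem_bot] at this
          exact ha1 this
        have hyn : y ∈ normalizer (L : Set G) := cj_eq_self_iff.mp (hinter y hne)
        exact hall y ⟨hyV, hyn⟩ hy1 hya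

end Simple

end Cfsg.Agent.Helper50
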