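import Mathlib.GroupTheory.Sylow
import Mathlib.GroupTheory.Commutator.Basic
import Mathlib.GroupTheory.IsSubnormal

set_option autoImplicit false

namespace Cfsg.Agent.Helper50

universe u v

theorem map_conj_map {G : Type*} {Q : Type*} [Group G] [Group Q] (f : G →* Q) (g : G)
    (C : Subgroup G) :
    (C.map (MulAut.conj g).toMonoidHom).map f = (C.map f).map (MulAut.conj (f g)).toMonoidHom := by
  rw [Subgroup.map_map, Subgroup.map_map]
  congr 1
  ext x
  simp [MulAut.conj_apply]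

theorem least_subnormal_supplement_aux {Q : Type v} [Group Q]
    (hQ : ⁅(⊤ : Subgroup Q), (⊤ : Subgroup Q)⁆ = ⊤) :
    ∀ n : ℕ, ∀ (G : Type u) [Group G] [Finite G], Nat.card G = n → ∀ f : G →* Q,
      Function.Surjective f →
      ∃ B : Subgroup G, B.Normal ∧ B.map f = ⊤ ∧
        ∀ B' : Subgroup G, B'.IsSubnormal → B'.map f = ⊤ → B ≤ B' := by
  intro n
  induction n using Nat.strong_induction_on with
  | _ n ih =>
  intro G _ _ hcard f hf
  classical
  -- Step A
  have stepA : ∀ B₁ B₂ : Subgroup G, B₁.Normal → B₂.Normal → B₁.map f = ⊤ → B₂.map f = ⊤ →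
      (B₁ ⊓ B₂).map f = ⊤ := by
    intro B₁ B₂ h₁ h₂ e₁ e₂
    rw [eq_top_iff]
    calc (⊤ : Subgroup Q) = ⁅(⊤ : Subgroup Q), (⊤ : Subgroup Q)⁆ := hQ.symm
      _ = ⁅B₁.map f, B₂.map f⁆ := by rw [e₁, e₂]
      _ = (⁅B₁, B₂⁆).map f := (Subgroup.map_commutator B₁ B₂ f).symm
      _ ≤ (B₁ ⊓ B₂).map f := Subgroup.map_mono (Subgroup.commutator_le_inf B₁ B₂)
  -- Step B
  obtain ⟨B, hBmem, hBmin⟩ := Set.Finite.exists_minimalFor (fun L : Subgroup G => Nat.card L)
    {L : Subgroup G | L.Normal ∧ L.map f = ⊤} (Set.toFinite _)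
    ⟨⊤, inferInstance, Subgroup.map_top_of_surjective f hf⟩
  have hBleast : ∀ B₁ : Subgroup G, B₁.Normal → B₁.map f = ⊤ → B ≤ B₁ := by
    intro B₁ h₁ e₁
    have hmem : B ⊓ B₁ ∈ {L : Subgroup G | L.Normal ∧ L.map f = ⊤} :=
      ⟨@Subgroup.normal_inf_normal _ _ B B₁ hBmem.1 h₁, stepA B B₁ hBmem.1 h₁ hBmem.2 e₁⟩
    have h1 : Nat.card ↥(B ⊓ B₁) ≤ Nat.card B := Subgroup.card_le_of_le inf_le_left
    have h2 := hBmin hmem h1
    have h3 : B ⊓ B₁ = B := Subgroup.eq_of_le_of_card_ge inf_le_left h2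
    rw [← h3]; exact inf_le_right
  refine ⟨B, hBmem.1, hBmem.2, ?_⟩
  intro B' hB'sn hB'
  by_cases htop : B' = ⊤
  · rw [htop]; exact le_top
  obtain ⟨N, hNn, hB'N, hNlt⟩ := hB'sn.exists_normal_and_le_and_lt_top_of_ne htop
  have hNf : N.map f = ⊤ := by
    rw [eq_top_iff, ← hB']; exact Subgroup.map_mono hB'N
  have hNcard : Nat.card N < n := by
    rw [← hcard]
    have h1 : Nat.card N ≤ Nat.card G := Subgroup.card_le_card_group N
    rcases lt_or_eq_of_le h1 with h | h
    · exact h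
    · exfalso
      have := (Subgroup.card_eq_iff_eq_top N).mp h
      exact (ne_of_lt hNlt) this
  set fN : ↥N →* Q := f.comp N.subtype with hfN
  have hfNsurj : Function.Surjective fN := by
    rw [← MonoidHom.range_eq_top, hfN, MonoidHom.range_comp, Subgroup.range_subtype]
    exact hNf
  obtain ⟨BN, hBNn, hBNf, hBNleast⟩ := ih (Nat.card N) hNcard ↥N rfl fN hfNsurj
  have mapfN : ∀ X : Subgroup G, (X.subgroupOf N).map fN = (X ⊓ N).map f := by
    intro X
    rw [hfN, ← Subgroup.map_map, Subgroup.subgroupOf_map_subtype]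
  -- B_N ≤ B'.subgroupOf N
  have h1 : BN ≤ B'.subgroupOf N := by
    apply hBNleast _ hB'sn.subgroupOf
    rw [mapfN, inf_eq_left.mpr hB'N]; exact hB'
  set C := BN.map N.subtype with hC
  have hCB' : C ≤ B' := by
    have := Subgroup.map_mono (f := N.subtype) h1
    rw [Subgroup.subgroupOf_map_subtype] at this
    exact this.trans inf_le_left
  have hCN : C ≤ N := by
    rw [hC]; exact Subgroup.map_subtype_le BN
  have hCf : C.map f = ⊤ := by
    rw [hC, Subgroup.map_map]; exact hBNf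
  have hCsn : C.IsSubnormal := hBNn.isSubnormal.trans' hNn.isSubnormal
  have hCconj : ∀ g : G, C ≤ C.map (MulAut.conj g).toMonoidHom := by
    intro g
    set Cg := C.map (MulAut.conj g).toMonoidHom with hCg
    have hCgsn : Cg.IsSubnormal := hCsn.map (MulAut.conj g).surjective
    have hCgN : Cg ≤ N := by
      rintro _ ⟨c, hc, rfl⟩
      exact hNn.conj_mem c (hCN hc) g
    have hCgf : Cg.map f = ⊤ := by
      rw [hCg, map_conj_map, hCf]
      exact Subgroup.map_top_of_surjective _ (MulAut.conj (f g)).surjective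
    have h2 : BN ≤ Cg.subgroupOf N := by
      apply hBNleast _ hCgsn.subgroupOf
      rw [mapfN, inf_eq_left.mpr hCgN]; exact hCgf
    have := Subgroup.map_mono (f := N.subtype) h2
    rw [Subgroup.subgroupOf_map_subtype] at this
    exact this.trans inf_le_left
  have hCn : C.Normal := by
    constructor
    intro c hc g
    obtain ⟨c', hc', hcc'⟩ := hCconj g⁻¹ hc
    simp only [MulEquiv.coe_toMonoidHom, MulAut.conj_apply, inv_inv] at hcc'
    have : g * c * g⁻¹ = c' := by rw [← hcc']; group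
    rw [this]; exact hc'
  exact (hBleast C hCn hCf).trans hCB'

end Cfsg.Agent.Helper50
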