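import Mathlib

/-!
# Transfer into an abelian quotient when `M ∩ M^g ≤ H` (helper50)

Wielandt's generalization of Frobenius' theorem in the easy case of an abelian quotient: if
`ϕ : M →* A` is a homomorphism to a commutative group whose kernel contains every `z ∈ M` with
`r z r⁻¹ ∈ M` for some `r ∉ M`, then the transfer `G →* A` restricts to `ϕ` on `M`.
-/

set_option autoImplicit false

namespace Cfsg.Agent.Helper50

open Subgroup MulAction

variable {G : Type*} [Group G] [Finite G]

theorem transfer_restrict_eq {M : Subgroup G} {A : Type*} [CommGroup A] (ϕ : M →* A)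
    (hTI : ∀ r : G, r ∉ M → ∀ z : M, r * (z : G) * r⁻¹ ∈ M → ϕ z = 1) (y : M) :
    MonoidHom.transfer ϕ (y : G) = ϕ y := by
  classical
  let _ := Fintype.ofFinite (Quotient (orbitRel (zpowers (y : G)) (G ⧸ M)))
  rw [MonoidHom.transfer_eq_prod_quotient_orbitRel_zpowers_quot]
  let q₀ : Quotient (orbitRel (zpowers (y : G)) (G ⧸ M)) := Quotient.mk'' ((1 : G) : G ⧸ M)
  -- the factor for a class whose representative lies in `M`
  have hin : ∀ q : Quotient (orbitRel (zpowers (y : G)) (G ⧸ M)), q.out.out ∈ M →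
      ϕ ⟨q.out.out⁻¹ * (y : G) ^ Function.minimalPeriod ((y : G) • ·) q.out * q.out.out,
        QuotientGroup.out_conj_pow_minimalPeriod_mem M (y : G) q.out⟩ = ϕ y := by
    intro q hr
    have hfix : Function.IsFixedPt ((y : G) • ·) q.out := by
      show (y : G) • q.out = q.out
      conv_lhs => rw [← QuotientGroup.out_eq' q.out]
      conv_rhs => rw [← QuotientGroup.out_eq' q.out]
      rw [MulAction.Quotient.smul_mk, QuotientGroup.eq, smul_eq_mul]
      have : ((y : G) * q.out.out)⁻¹ * q.out.out = q.out.out⁻¹ * (y : G)⁻¹ * q.out.out := by group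
      rw [this]
      exact M.mul_mem (M.mul_mem (M.inv_mem hr) (M.inv_mem y.2)) hr
    have hper : Function.minimalPeriod ((y : G) • ·) q.out = 1 :=
      Function.minimalPeriod_eq_one_iff_isFixedPt.mpr hfix
    have heq : (⟨q.out.out⁻¹ * (y : G) ^ Function.minimalPeriod ((y : G) • ·) q.out * q.out.out,
        QuotientGroup.out_conj_pow_minimalPeriod_mem M (y : G) q.out⟩ : M) =
        (⟨q.out.out, hr⟩ : M)⁻¹ * y * ⟨q.out.out, hr⟩ := by
      apply Subtype.ext
      simp [hper]
    rw [heq, map_mul, map_mul, map_inv, mul_comm, mul_inv_cancel_left]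
  -- classes whose representative lies in `M` are the class of the trivial coset
  have hq₀ : ∀ q : Quotient (orbitRel (zpowers (y : G)) (G ⧸ M)), q.out.out ∈ M → q = q₀ := by
    intro q hr
    have h1 : q.out = ((1 : G) : G ⧸ M) := by
      rw [← QuotientGroup.out_eq' q.out, QuotientGroup.eq]
      simpa using M.inv_mem hr
    rw [← Quotient.out_eq q, h1]
  have hq₀mem : q₀.out.out ∈ M := by
    have h1 : (orbitRel (zpowers (y : G)) (G ⧸ M)).r q₀.out ((1 : G) : G ⧸ M) :=
      Quotient.mk_out (s := orbitRel (zpowers (y : G)) (G ⧸ M)) _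
    obtain ⟨k, hk⟩ := h1
    have hkM : (k : G) ∈ M := (zpowers_le.mpr y.2) k.2
    have h2 : q₀.out = ((1 : G) : G ⧸ M) := by
      rw [← hk]
      show (k : G) • ((1 : G) : G ⧸ M) = _
      rw [MulAction.Quotient.smul_mk, QuotientGroup.eq, smul_eq_mul]
      simpa using M.inv_mem hkM
    have h3 : ((q₀.out.out : G) : G ⧸ M) = ((1 : G) : G ⧸ M) := by
      rw [QuotientGroup.out_eq', h2]
    have := QuotientGroup.eq.mp h3
    simpa using M.inv_mem this
  rw [Finset.prod_eq_single q₀]
  · exact hin q₀ hq₀mem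
  · intro q _ hq
    have hr : q.out.out ∉ M := fun h => hq (hq₀ q h)
    apply hTI q.out.out hr
    show q.out.out * (q.out.out⁻¹ * (y : G) ^ Function.minimalPeriod ((y : G) • ·) q.out *
      q.out.out) * q.out.out⁻¹ ∈ M
    have : q.out.out * (q.out.out⁻¹ * (y : G) ^ Function.minimalPeriod ((y : G) • ·) q.out *
      q.out.out) * q.out.out⁻¹ = (y : G) ^ Function.minimalPeriod ((y : G) • ·) q.out := by group
    rw [this]
    exact M.pow_mem y.2 _
  · intro h
    exact absurd (Finset.mem_univ _) h

end Cfsg.Agent.Helper50
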